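import Mathlib
import Groth.Prelude.Def_W4c1hilbpnTgt

/-!
# Graded pieces of `T(I) = Hom(I, S/I)` for a monomial ideal and bounded components (helper92)

`finrank (tPiece I α) = nBddComp I α` for a monomial ideal of finite colength in `n ≥ 2` variables.
-/

namespace Groth.Agent.Lib.Helper92.HilbTgt
set_option linter.unusedSectionVars false
open MvPolynomial W4c1hilbpn

universe u
variable {k : Type u} [Field k] {n : ℕ}

/-- The integer vector `β + α`. -/
def toZ (β : Fin n →₀ ℕ) (α : Fin n → ℤ) : Fin n → ℤ := fun i => (β i : ℤ) + α i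

/-- Truncation of an integer vector to a natural exponent vector. -/
noncomputable def natPart (γ : Fin n → ℤ) : Fin n →₀ ℕ :=
  Finsupp.equivFunOnFinite.symm fun i => (γ i).toNat

lemma shift_eq (β : Fin n →₀ ℕ) (α : Fin n → ℤ) : shift β α = natPart (toZ β α) := rfl

@[simp] lemma natPart_apply (γ : Fin n → ℤ) (i : Fin n) : natPart γ i = (γ i).toNat := rfl

@[simp] lemma toZ_apply (β : Fin n →₀ ℕ) (α : Fin n → ℤ) (i : Fin n) :
    toZ β α i = (β i : ℤ) + α i := rfl

lemma toZ_inj {α : Fin n → ℤ} {β β' : Fin n →₀ ℕ} (h : toZ β α = toZ β' α) : β = β' := by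
  ext i
  have := congrFun h i
  simp only [toZ_apply] at this
  omega

lemma natPart_inj {γ γ' : Fin n → ℤ} (h : ∀ i, 0 ≤ γ i) (h' : ∀ i, 0 ≤ γ' i)
    (e : natPart γ = natPart γ') : γ = γ' := by
  funext i
  have := DFunLike.congr_fun e i
  simp only [natPart_apply] at this
  have h1 := h i
  have h2 := h' i
  omega

/-- unit vector in `ℤ^n` -/
def ez (i : Fin n) : Fin n → ℤ := Pi.single i 1

lemma toZ_add_single (β : Fin n →₀ ℕ) (α : Fin n → ℤ) (i : Fin n) :
    toZ (β + Finsupp.single i 1) α = toZ β α + ez i := by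
  funext j
  by_cases hj : j = i
  · subst hj; simp [toZ, ez]; ring
  · simp [toZ, ez, hj]

lemma natPart_add_ez {γ : Fin n → ℤ} (i : Fin n) (h : 0 ≤ γ i) :
    natPart (γ + ez i) = natPart γ + Finsupp.single i 1 := by
  ext j
  by_cases hj : j = i
  · subst hj
    simp only [natPart_apply, Pi.add_apply, ez, Pi.single_eq_same, Finsupp.add_apply,
      Finsupp.single_eq_same]
    omega
  · simp [ez, hj]

section exps
variable {I : Ideal (MvPolynomial (Fin n) k)}

lemma mem_region {α γ : Fin n → ℤ} :
    γ ∈ region I α ↔ (∃ β ∈ exps I, γ = toZ β α) ∧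
      ¬ ((∀ i, 0 ≤ γ i) ∧ natPart γ ∈ exps I) := Iff.rfl

lemma mem_exps {β : Fin n →₀ ℕ} : β ∈ exps I ↔ monomial β (1 : k) ∈ I := Iff.rfl

lemma exps_add {β : Fin n →₀ ℕ} (hβ : β ∈ exps I) (δ : Fin n →₀ ℕ) : β + δ ∈ exps I := by
  show monomial (β + δ) (1 : k) ∈ I
  have : monomial (β + δ) (1 : k) = monomial β 1 * monomial δ 1 := by
    rw [monomial_mul, one_mul]
  rw [this]
  exact I.mul_mem_right _ hβ

lemma X_mul_monomial_one (i : Fin n) (β : Fin n →₀ ℕ) :
    (X i : MvPolynomial (Fin n) k) * monomial β 1 = monomial (β + Finsupp.single i 1) 1 := by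
  rw [X, monomial_mul, one_mul, add_comm]

lemma mk_monomial_eq_zero {β : Fin n →₀ ℕ} (hβ : β ∈ exps I) :
    Ideal.Quotient.mk I (monomial β (1 : k)) = 0 :=
  Ideal.Quotient.eq_zero_iff_mem.mpr hβ

lemma smul_mk_eq_zero (hI : IsMonomial I) {γ : Fin n →₀ ℕ} (hγ : γ ∉ exps I) {c : k}
    (h : c • Ideal.Quotient.mk I (monomial γ (1 : k)) = 0) : c = 0 := by
  by_contra hc
  apply hγ
  have h1 : Ideal.Quotient.mk I (monomial γ c) = 0 := by
    rw [← h]
    show _ = Ideal.Quotient.mk I (c • monomial γ (1 : k))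
    rw [smul_monomial, smul_eq_mul, mul_one]
  rw [Ideal.Quotient.eq_zero_iff_mem] at h1
  exact hI _ h1 γ (by simp [hc])

/-- The complement of the exponent set is finite for an ideal of finite colength. -/
lemma finite_compl_exps (hI : IsMonomial I) [Module.Finite k (MvPolynomial (Fin n) k ⧸ I)] :
    {β : Fin n →₀ ℕ | β ∉ exps I}.Finite := by
  have hli : LinearIndependent k
      (fun β : {β : Fin n →₀ ℕ | β ∉ exps I} => Ideal.Quotient.mk I (monomial β.1 (1 : k))) := by
    rw [linearIndependent_iff']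
    intro s g hg β hβ
    set p : MvPolynomial (Fin n) k := ∑ b ∈ s, monomial b.1 (g b) with hp
    have hpI : p ∈ I := by
      rw [← Ideal.Quotient.eq_zero_iff_mem, hp, map_sum, ← hg]
      refine Finset.sum_congr rfl fun b _ => ?_
      show _ = Ideal.Quotient.mk I (g b • monomial b.1 (1 : k))
      rw [smul_monomial, smul_eq_mul, mul_one]
    have hcoeff : coeff β.1 p = g β := by
      rw [hp, coeff_sum]
      rw [Finset.sum_eq_single β]
      · simp
      · intro b _ hb
        rw [coeff_monomial, if_neg]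
        exact fun h => hb (Subtype.ext h)
      · intro h; exact absurd hβ h
    by_contra hne
    have : β.1 ∈ p.support := by
      rw [mem_support_iff, hcoeff]; exact hne
    exact β.2 (hI p hpI β.1 this)
  have := hli.finite
  exact Set.toFinite _

end exps

section graph
variable {I : Ideal (MvPolynomial (Fin n) k)} {α : Fin n → ℤ}

lemma step_adj_add_ez (a : Fin n → ℤ) (i : Fin n) : (stepGraph (Fin n)).Adj a (a + ez i) := by
  rw [stepGraph, SimpleGraph.fromRel_adj]
  refine ⟨?_, Or.inl ?_⟩
  · intro h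
    have := congrFun h i
    simp [ez] at this
  · rw [Finset.sum_eq_single i]
    · simp [ez]
    · intro j _ hj
      simp [ez, hj]
    · intro h; exact absurd (Finset.mem_univ i) h

lemma step_adj_cases {a b : Fin n → ℤ} (h : (stepGraph (Fin n)).Adj a b) :
    ∃ i, b = a + ez i ∨ a = b + ez i := by
  rw [stepGraph, SimpleGraph.fromRel_adj] at h
  obtain ⟨hne, hsum⟩ := h
  have hs : ∑ i, |a i - b i| = 1 := by
    rcases hsum with h | h
    · exact h
    · rw [← h]; exact Finset.sum_congr rfl fun i _ => abs_sub_comm _ _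
  obtain ⟨i, hi⟩ : ∃ i, a i ≠ b i := by
    by_contra hcon; push Not at hcon; exact hne (funext hcon)
  have hpos : 1 ≤ |a i - b i| := Int.one_le_abs (sub_ne_zero.mpr hi)
  have hrest : ∑ j ∈ Finset.univ.erase i, |a j - b j| = 1 - |a i - b i| := by
    rw [← hs, ← Finset.add_sum_erase _ _ (Finset.mem_univ i)]; ring
  have hnn : 0 ≤ ∑ j ∈ Finset.univ.erase i, |a j - b j| :=
    Finset.sum_nonneg fun j _ => abs_nonneg _
  have h1 : |a i - b i| = 1 := by omega
  have h0 : ∑ j ∈ Finset.univ.erase i, |a j - b j| = 0 := by omega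
  have hz : ∀ j, j ≠ i → a j = b j := by
    intro j hj
    have := (Finset.sum_eq_zero_iff_of_nonneg (fun j _ => abs_nonneg (a j - b j))).mp h0 j
      (Finset.mem_erase.mpr ⟨hj, Finset.mem_univ j⟩)
    exact sub_eq_zero.mp (abs_eq_zero.mp this)
  refine ⟨i, ?_⟩
  rcases (abs_eq (by norm_num : (0 : ℤ) ≤ 1)).mp h1 with h | h
  · right
    funext j
    by_cases hj : j = i
    · subst hj; simp [ez]; omega
    · simp [ez, hj, hz j hj]
  · left
    funext j
    by_cases hj : j = i
    · subst hj; simp [ez]; omega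
    · simp [ez, hj, hz j hj]

/-- The induced unit-step graph on the region. -/
abbrev RG (I : Ideal (MvPolynomial (Fin n) k)) (α : Fin n → ℤ) :
    SimpleGraph ↥(region I α) := (stepGraph (Fin n)).induce (region I α)

lemma region_add_of_neg {γ : Fin n → ℤ} (hγ : γ ∈ region I α) {i j : Fin n} (hij : j ≠ i)
    (hneg : γ i < 0) (m : ℕ) : γ + (m : ℤ) • ez j ∈ region I α := by
  obtain ⟨⟨β, hβ, rfl⟩, -⟩ := hγ
  refine ⟨⟨β + Finsupp.single j m, exps_add hβ _, ?_⟩, ?_⟩
  · funext l
    by_cases hl : l = j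
    · subst hl; simp [ez]; ring
    · simp [ez, hl]
  · rintro ⟨hnn, -⟩
    have := hnn i
    simp only [Pi.add_apply, Pi.smul_apply, ez, Pi.single_apply, if_neg hij.symm, smul_zero,
      add_zero] at this
    have h2 : (β i : ℤ) + α i < 0 := hneg
    have h3 : 0 ≤ (β i : ℤ) + α i := this
    omega

lemma infinite_supp_of_neg (hn : 2 ≤ n) (v : ↥(region I α)) {i : Fin n} (hneg : v.1 i < 0) :
    ((RG I α).connectedComponentMk v).supp.Infinite := by
  obtain ⟨j, hj⟩ : ∃ j : Fin n, j ≠ i := by
    by_cases h0 : i = ⟨0, by omega⟩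
    · exact ⟨⟨1, by omega⟩, by rw [h0]; simp [Fin.ext_iff]⟩
    · exact ⟨⟨0, by omega⟩, Ne.symm h0⟩
  have hmem : ∀ m : ℕ, v.1 + (m : ℤ) • ez j ∈ region I α :=
    fun m => region_add_of_neg v.2 hj hneg m
  let w : ℕ → ↥(region I α) := fun m => ⟨_, hmem m⟩
  have hreach : ∀ m, (RG I α).Reachable v (w m) := by
    intro m
    induction m with
    | zero =>
      have : w 0 = v := Subtype.ext (by simp [w])
      rw [this]
    | succ m ih =>
      refine ih.trans (SimpleGraph.Adj.reachable ?_)
      show (stepGraph (Fin n)).Adj (w m).1 (w (m + 1)).1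
      have : (w (m + 1)).1 = (w m).1 + ez j := by
        simp only [w]; push_cast; rw [add_smul, one_smul, add_assoc]
      rw [this]; exact step_adj_add_ez _ _
  refine Set.infinite_of_injective_forall_mem (f := w) ?_ ?_
  · intro m m' h
    have := congrFun (congrArg Subtype.val h) j
    simp [w, ez] at this
    exact this
  · intro m
    exact (SimpleGraph.ConnectedComponent.sound (hreach m)).symm

lemma finite_supp_of_nonneg (hI : IsMonomial I) [Module.Finite k (MvPolynomial (Fin n) k ⧸ I)]
    (c : (RG I α).ConnectedComponent) (h : ∀ v ∈ c.supp, ∀ i, 0 ≤ v.1 i) : c.supp.Finite := by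
  refine Set.Finite.of_injOn (f := fun v : ↥(region I α) => natPart v.1)
    (t := {β | β ∉ exps I}) ?_ ?_ (finite_compl_exps hI)
  · intro v hv
    show natPart v.1 ∉ exps I
    intro hmem
    exact v.2.2 ⟨h v hv, hmem⟩
  · intro v hv v' hv' e
    exact Subtype.ext (natPart_inj (h v hv) (h v' hv') e)

lemma supp_finite_iff (hn : 2 ≤ n) (hI : IsMonomial I)
    [Module.Finite k (MvPolynomial (Fin n) k ⧸ I)] (c : (RG I α).ConnectedComponent) :
    c.supp.Finite ↔ ∀ v ∈ c.supp, ∀ i, 0 ≤ v.1 i := by
  constructor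
  · intro hfin v hv i
    by_contra hneg
    push Not at hneg
    have := infinite_supp_of_neg hn v hneg
    rw [show (RG I α).connectedComponentMk v = c from hv] at this
    exact this hfin
  · exact finite_supp_of_nonneg hI c

/-- Bounded components. -/
abbrev BC (I : Ideal (MvPolynomial (Fin n) k)) (α : Fin n → ℤ) : Type :=
  {c : (RG I α).ConnectedComponent // c.supp.Finite}

lemma finite_BC (hn : 2 ≤ n) (hI : IsMonomial I)
    [Module.Finite k (MvPolynomial (Fin n) k ⧸ I)] : Finite (BC I α) := by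
  have hN := finite_compl_exps hI
  have : Finite ↥{β : Fin n →₀ ℕ | β ∉ exps I} := hN.to_subtype
  have hrep : ∀ c : BC I α, ∃ v : ↥(region I α), (RG I α).connectedComponentMk v = c.1 :=
    fun c => c.1.exists_rep
  choose rep hrep using hrep
  have hnn : ∀ c : BC I α, ∀ i, 0 ≤ (rep c).1 i := fun c =>
    (supp_finite_iff hn hI c.1).mp c.2 _ (hrep c)
  refine Finite.of_injective
    (fun c : BC I α => (⟨natPart (rep c).1, fun hmem => (rep c).2.2 ⟨hnn c, hmem⟩⟩ :
      ↥{β : Fin n →₀ ℕ | β ∉ exps I})) ?_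
  intro c c' e
  have e' : natPart (rep c).1 = natPart (rep c').1 := congrArg Subtype.val e
  have : rep c = rep c' := Subtype.ext (natPart_inj (hnn c) (hnn c') e')
  apply Subtype.ext
  rw [← hrep c, ← hrep c', this]

end graph

section construct
variable (I : Ideal (MvPolynomial (Fin n) k)) (α : Fin n → ℤ)

open Classical in
/-- Extension by zero of a function on bounded components. -/
noncomputable def cval (c : BC I α → k) (C : (RG I α).ConnectedComponent) : k :=
  if hf : C.supp.Finite then c ⟨C, hf⟩ else 0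

open Classical in
/-- The coefficient attached to the exponent `β`. -/
noncomputable def val (c : BC I α → k) (β : Fin n →₀ ℕ) : k :=
  if h : toZ β α ∈ region I α then cval I α c ((RG I α).connectedComponentMk ⟨_, h⟩) else 0

lemma cval_of_finite (c : BC I α → k) (C : BC I α) : cval I α c C.1 = c C := by
  unfold cval; rw [dif_pos C.2]

lemma cval_add (c c' : BC I α → k) (C : (RG I α).ConnectedComponent) :
    cval I α (c + c') C = cval I α c C + cval I α c' C := by
  unfold cval; split_ifs <;> simp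

lemma cval_smul (a : k) (c : BC I α → k) (C : (RG I α).ConnectedComponent) :
    cval I α (a • c) C = a * cval I α c C := by
  unfold cval; split_ifs <;> simp

lemma val_add (c c' : BC I α → k) (β : Fin n →₀ ℕ) :
    val I α (c + c') β = val I α c β + val I α c' β := by
  unfold val; split_ifs
  · exact cval_add I α c c' _
  · simp

lemma val_smul (a : k) (c : BC I α → k) (β : Fin n →₀ ℕ) :
    val I α (a • c) β = a * val I α c β := by
  unfold val; split_ifs
  · exact cval_smul I α a c _
  · simp

/-- The image of the monomial `x^β`. -/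
noncomputable def fam (c : BC I α → k) (β : Fin n →₀ ℕ) : MvPolynomial (Fin n) k ⧸ I :=
  val I α c β • Ideal.Quotient.mk I (monomial (shift β α) (1 : k))

/-- The `k`-linear map on the whole polynomial ring. -/
noncomputable def psi (c : BC I α → k) :
    MvPolynomial (Fin n) k →ₗ[k] (MvPolynomial (Fin n) k ⧸ I) :=
  (basisMonomials (Fin n) k).constr k (fam I α c)

lemma psi_monomial (c : BC I α → k) (β : Fin n →₀ ℕ) :
    psi I α c (monomial β 1) = fam I α c β := by
  have := (basisMonomials (Fin n) k).constr_basis k (fam I α c) β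
  unfold psi
  simpa [coe_basisMonomials] using this

lemma psi_add (c c' : BC I α → k) : psi I α (c + c') = psi I α c + psi I α c' := by
  unfold psi
  rw [← map_add]
  congr 1
  funext β
  simp [fam, val_add, add_smul]

lemma psi_smul (a : k) (c : BC I α → k) : psi I α (a • c) = a • psi I α c := by
  unfold psi
  rw [← map_smul]
  congr 1
  funext β
  simp [fam, val_smul, mul_smul]

variable {I α}

lemma val_eq_zero_of_neg (hn : 2 ≤ n) (c : BC I α → k) {β : Fin n →₀ ℕ} {i : Fin n}
    (hneg : toZ β α i < 0) : val I α c β = 0 := by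
  unfold val
  split_ifs with h
  · unfold cval
    rw [dif_neg]
    exact infinite_supp_of_neg hn ⟨_, h⟩ hneg
  · rfl

lemma val_eq_of_adj (c : BC I α → k) {β β' : Fin n →₀ ℕ} (h : toZ β α ∈ region I α)
    (h' : toZ β' α ∈ region I α) (hadj : (stepGraph (Fin n)).Adj (toZ β α) (toZ β' α)) :
    val I α c β = val I α c β' := by
  unfold val
  rw [dif_pos h, dif_pos h']
  congr 1
  exact SimpleGraph.ConnectedComponent.connectedComponentMk_eq_of_adj (show (RG I α).Adj ⟨_, h⟩ ⟨_, h'⟩ from hadj)

lemma fam_step (hn : 2 ≤ n) (c : BC I α → k) {β : Fin n →₀ ℕ} (hβ : β ∈ exps I) (i : Fin n) :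
    fam I α c (β + Finsupp.single i 1) = (X i : MvPolynomial (Fin n) k) • fam I α c β := by
  unfold fam
  by_cases hnn : ∀ j, 0 ≤ toZ β α j
  · have hshift : shift (β + Finsupp.single i 1) α = shift β α + Finsupp.single i 1 := by
      rw [shift_eq, shift_eq, toZ_add_single, natPart_add_ez i (hnn i)]
    have hmono : (X i : MvPolynomial (Fin n) k) •
        Ideal.Quotient.mk I (monomial (shift β α) (1 : k))
        = Ideal.Quotient.mk I (monomial (shift (β + Finsupp.single i 1) α) 1) := by
      show Ideal.Quotient.mk I (X i * monomial (shift β α) 1) = _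
      rw [X_mul_monomial_one, hshift]
    rw [smul_comm, hmono]
    by_cases hin : shift (β + Finsupp.single i 1) α ∈ exps I
    · rw [mk_monomial_eq_zero hin, smul_zero, smul_zero]
    · have h' : toZ (β + Finsupp.single i 1) α ∈ region I α :=
        ⟨⟨_, exps_add hβ _, rfl⟩, fun hh => hin hh.2⟩
      have hin0 : shift β α ∉ exps I := fun h0 => hin (by rw [hshift]; exact exps_add h0 _)
      have h : toZ β α ∈ region I α := ⟨⟨_, hβ, rfl⟩, fun hh => hin0 hh.2⟩
      rw [val_eq_of_adj c h h' (by rw [toZ_add_single]; exact step_adj_add_ez _ _)]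
  · push Not at hnn
    obtain ⟨j, hj⟩ := hnn
    rw [val_eq_zero_of_neg hn c hj, zero_smul, smul_zero]
    have : val I α c (β + Finsupp.single i 1) = 0 := by
      by_cases h' : toZ (β + Finsupp.single i 1) α ∈ region I α
      · have h : toZ β α ∈ region I α :=
          ⟨⟨_, hβ, rfl⟩, fun hh => absurd (hh.1 j) (not_le.mpr hj)⟩
        rw [← val_eq_of_adj c h h' (by rw [toZ_add_single]; exact step_adj_add_ez _ _)]
        exact val_eq_zero_of_neg hn c hj
      · unfold val; rw [dif_neg h']
    rw [this, zero_smul]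

lemma psi_X_mul_monomial (hn : 2 ≤ n) (c : BC I α → k) {β : Fin n →₀ ℕ} (hβ : β ∈ exps I)
    (i : Fin n) (a : k) :
    psi I α c (X i * monomial β a)
      = (X i : MvPolynomial (Fin n) k) • psi I α c (monomial β a) := by
  have e : monomial β a = a • monomial β (1 : k) := by rw [smul_monomial, smul_eq_mul, mul_one]
  rw [e, mul_smul_comm, map_smul, map_smul, X_mul_monomial_one, psi_monomial, psi_monomial,
    fam_step hn c hβ i, smul_comm]

lemma psi_X_mul (hn : 2 ≤ n) (hI : IsMonomial I) (c : BC I α → k)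
    {p : MvPolynomial (Fin n) k} (hp : p ∈ I) (i : Fin n) :
    psi I α c (X i * p) = (X i : MvPolynomial (Fin n) k) • psi I α c p := by
  have hs := support_sum_monomial_coeff p
  have hmem : ∀ v ∈ p.support, v ∈ exps I := fun v hv => hI p hp v hv
  rw [← hs, Finset.mul_sum, map_sum, map_sum, Finset.smul_sum]
  refine Finset.sum_congr rfl fun v hv => ?_
  exact psi_X_mul_monomial hn c (hmem v hv) i _

lemma psi_mul (hn : 2 ≤ n) (hI : IsMonomial I) (c : BC I α → k) (s : MvPolynomial (Fin n) k) :
    ∀ p ∈ I, psi I α c (s * p) = s • psi I α c p := by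
  induction s using MvPolynomial.induction_on with
  | C a =>
    intro p _
    rw [C_mul', map_smul, ← algebraMap_eq, algebraMap_smul]
  | add s t hs ht =>
    intro p hp
    rw [add_mul, map_add, hs p hp, ht p hp, add_smul]
  | mul_X s i hs =>
    intro p hp
    rw [mul_assoc, hs _ (I.mul_mem_left _ hp), psi_X_mul hn hI c hp, mul_smul]

/-- The `S`-linear map `I → S/I` attached to a function on bounded components. -/
noncomputable def Phi (hn : 2 ≤ n) (hI : IsMonomial I) (c : BC I α → k) : Tgt I where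
  toFun p := psi I α c p.1
  map_add' p q := by simp
  map_smul' s p := psi_mul hn hI c s p.1 p.2

lemma Phi_apply (hn : 2 ≤ n) (hI : IsMonomial I) (c : BC I α → k) (p : ↥I) :
    Phi hn hI c p = psi I α c p.1 := rfl

lemma Phi_mem (hn : 2 ≤ n) (hI : IsMonomial I) (c : BC I α → k) :
    Phi hn hI c ∈ tPiece I α := by
  intro β hβ
  have e : Phi hn hI c ⟨monomial β 1, hβ⟩ = fam I α c β := psi_monomial I α c β
  refine ⟨fun _ => ?_, fun ⟨i, hi⟩ => ?_⟩
  · rw [e]; exact Submodule.smul_mem _ _ (Submodule.subset_span rfl)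
  · rw [e]; unfold fam; rw [val_eq_zero_of_neg hn c hi, zero_smul]

/-- The linear map from functions on bounded components to the graded piece. -/
noncomputable def Psi (hn : 2 ≤ n) (hI : IsMonomial I) : (BC I α → k) →ₗ[k] ↥(tPiece I α) where
  toFun c := ⟨Phi hn hI c, Phi_mem hn hI c⟩
  map_add' c c' := by
    apply Subtype.ext; apply LinearMap.ext; intro p
    show psi I α (c + c') p.1 = psi I α c p.1 + psi I α c' p.1
    rw [psi_add]; rfl
  map_smul' a c := by
    apply Subtype.ext; apply LinearMap.ext; intro p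
    show psi I α (a • c) p.1 = a • psi I α c p.1
    rw [psi_smul]; rfl

lemma Psi_apply (hn : 2 ≤ n) (hI : IsMonomial I) (c : BC I α → k) (p : ↥I) :
    (Psi hn hI c).1 p = psi I α c p.1 := rfl

lemma Psi_injective (hn : 2 ≤ n) (hI : IsMonomial I)
    [Module.Finite k (MvPolynomial (Fin n) k ⧸ I)] :
    Function.Injective (Psi (α := α) hn hI) := by
  rw [injective_iff_map_eq_zero]
  intro c hc
  funext C
  obtain ⟨v, hv⟩ := C.1.exists_rep
  obtain ⟨⟨β, hβ, hvβ0⟩, hnot⟩ := v.2
  have hvβ : v.1 = toZ β α := hvβ0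
  have hnn : ∀ i, 0 ≤ v.1 i := (supp_finite_iff hn hI C.1).mp C.2 v hv
  have hout : natPart v.1 ∉ exps I := fun h => hnot ⟨hnn, h⟩
  have h1 : psi I α c (monomial β 1) = 0 := by
    have := congrArg (fun φ : ↥(tPiece I α) => φ.1 ⟨monomial β 1, hβ⟩) hc
    exact this
  rw [psi_monomial] at h1
  unfold fam at h1
  have hmem : toZ β α ∈ region I α := hvβ ▸ v.2
  have hcomp : (RG I α).connectedComponentMk ⟨toZ β α, hmem⟩ = C.1 := by
    rw [← hv]; congr 1; exact Subtype.ext hvβ.symm
  have hval : val I α c β = c C := by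
    unfold val
    rw [dif_pos hmem, hcomp, cval_of_finite]
  rw [hval, shift_eq, ← hvβ] at h1
  exact smul_mk_eq_zero hI hout h1

end construct

section surj
variable {I : Ideal (MvPolynomial (Fin n) k)} {α : Fin n → ℤ}

/-- The exponent `β` with `v = β + α` for a point of the region. -/
noncomputable def bv (v : ↥(region I α)) : Fin n →₀ ℕ := Classical.choose v.2.1

lemma bv_mem (v : ↥(region I α)) : bv v ∈ exps I := (Classical.choose_spec v.2.1).1

lemma bv_spec (v : ↥(region I α)) : v.1 = toZ (bv v) α := (Classical.choose_spec v.2.1).2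

lemma bv_toZ {β : Fin n →₀ ℕ} (h : toZ β α ∈ region I α) : bv ⟨toZ β α, h⟩ = β :=
  toZ_inj (bv_spec ⟨_, h⟩).symm

open Classical in
/-- The scalar by which `φ` acts at a point of the region. -/
noncomputable def fval (φ : Tgt I) (v : ↥(region I α)) : k :=
  if h : (∀ i, 0 ≤ v.1 i) ∧ ∃ a : k, φ ⟨monomial (bv v) 1, bv_mem v⟩
      = a • Ideal.Quotient.mk I (monomial (natPart v.1) (1 : k))
  then Classical.choose h.2 else 0

lemma fval_of_neg (φ : Tgt I) (v : ↥(region I α)) {i : Fin n} (hi : v.1 i < 0) :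
    fval φ v = 0 := by
  unfold fval; rw [dif_neg]; rintro ⟨h, -⟩; exact absurd (h i) (not_le.mpr hi)

lemma fval_spec {φ : Tgt I} (hφ : φ ∈ tPiece I α) (v : ↥(region I α)) :
    φ ⟨monomial (bv v) 1, bv_mem v⟩
      = fval φ v • Ideal.Quotient.mk I (monomial (natPart v.1) (1 : k)) := by
  by_cases hnn : ∀ i, 0 ≤ v.1 i
  · have hnn' : ∀ i, 0 ≤ ((bv v) i : ℤ) + α i := by
      intro i; have := hnn i; rw [bv_spec v] at this; exact this
    have hspan := (hφ (bv v) (bv_mem v)).1 hnn'
    rw [Submodule.mem_span_singleton] at hspan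
    obtain ⟨a, ha⟩ := hspan
    have hex : ∃ a : k, φ ⟨monomial (bv v) 1, bv_mem v⟩
        = a • Ideal.Quotient.mk I (monomial (natPart v.1) (1 : k)) :=
      ⟨a, by rw [← ha, shift_eq, ← bv_spec v]⟩
    unfold fval
    rw [dif_pos ⟨hnn, hex⟩]
    exact Classical.choose_spec hex
  · push Not at hnn
    obtain ⟨i, hi⟩ := hnn
    rw [fval_of_neg φ v hi, zero_smul]
    exact (hφ (bv v) (bv_mem v)).2 ⟨i, by rw [bv_spec v] at hi; exact hi⟩

lemma fval_step (hI : IsMonomial I) {φ : Tgt I} (hφ : φ ∈ tPiece I α) (v w : ↥(region I α))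
    (i : Fin n) (hw : w.1 = v.1 + ez i) : fval φ v = fval φ w := by
  have hb : bv w = bv v + Finsupp.single i 1 := by
    apply toZ_inj (α := α)
    rw [← bv_spec w, toZ_add_single, ← bv_spec v, hw]
  have hlin : φ ⟨monomial (bv w) 1, bv_mem w⟩
      = (X i : MvPolynomial (Fin n) k) • φ ⟨monomial (bv v) 1, bv_mem v⟩ := by
    rw [← map_smul]
    congr 1
    apply Subtype.ext
    show monomial (bv w) (1 : k) = X i * monomial (bv v) (1 : k)
    rw [X_mul_monomial_one, hb]
  rw [fval_spec hφ w, fval_spec hφ v] at hlin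
  by_cases hnn : ∀ j, 0 ≤ v.1 j
  · have hnp : natPart w.1 = natPart v.1 + Finsupp.single i 1 := by
      rw [hw, natPart_add_ez i (hnn i)]
    have hwnn : ∀ j, 0 ≤ w.1 j := by
      intro j
      rw [hw]
      have := hnn j
      by_cases hj : j = i
      · subst hj; simp [ez]; omega
      · simpa [ez, hj] using this
    have hwout : natPart w.1 ∉ exps I := fun h => w.2.2 ⟨hwnn, h⟩
    have hX : (X i : MvPolynomial (Fin n) k) •
        Ideal.Quotient.mk I (monomial (natPart v.1) (1 : k))
        = Ideal.Quotient.mk I (monomial (natPart w.1) 1) := by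
      show Ideal.Quotient.mk I (X i * monomial (natPart v.1) 1) = _
      rw [X_mul_monomial_one, hnp]
    have h0 : (fval φ w - fval φ v) • Ideal.Quotient.mk I (monomial (natPart w.1) (1 : k)) = 0 := by
      rw [sub_smul, hlin, smul_comm, hX, sub_self]
    have := smul_mk_eq_zero hI hwout h0
    exact (sub_eq_zero.mp this).symm
  · push Not at hnn
    obtain ⟨j, hj⟩ := hnn
    rw [fval_of_neg φ v hj] at hlin ⊢
    rw [zero_smul, smul_zero] at hlin
    by_cases hwnn : ∀ j, 0 ≤ w.1 j
    · have hwout : natPart w.1 ∉ exps I := fun h => w.2.2 ⟨hwnn, h⟩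
      exact (smul_mk_eq_zero hI hwout hlin).symm
    · push Not at hwnn
      obtain ⟨j', hj'⟩ := hwnn
      exact (fval_of_neg φ w hj').symm

lemma fval_adj (hI : IsMonomial I) {φ : Tgt I} (hφ : φ ∈ tPiece I α) {v w : ↥(region I α)}
    (h : (RG I α).Adj v w) : fval φ v = fval φ w := by
  obtain ⟨i, hi | hi⟩ := step_adj_cases (show (stepGraph (Fin n)).Adj v.1 w.1 from h)
  · exact fval_step hI hφ v w i hi
  · exact (fval_step hI hφ w v i hi).symm

lemma fval_reachable (hI : IsMonomial I) {φ : Tgt I} (hφ : φ ∈ tPiece I α)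
    {v w : ↥(region I α)} (h : (RG I α).Reachable v w) : fval φ v = fval φ w := by
  rw [SimpleGraph.reachable_iff_reflTransGen] at h
  induction h with
  | refl => rfl
  | tail _ hadj ih => exact ih.trans (fval_adj hI hφ hadj)

lemma Psi_surjective (hn : 2 ≤ n) (hI : IsMonomial I)
    [Module.Finite k (MvPolynomial (Fin n) k ⧸ I)] :
    Function.Surjective (Psi (α := α) hn hI) := by
  rintro ⟨φ, hφ⟩
  let c : BC I α → k := fun C => SimpleGraph.ConnectedComponent.lift (fval φ)
    (fun v w p _ => fval_reachable hI hφ ⟨p⟩) C.1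
  refine ⟨c, ?_⟩
  apply Subtype.ext
  apply LinearMap.ext
  intro p
  show psi I α c p.1 = φ p
  have hmono : ∀ β (hβ : β ∈ exps I), psi I α c (monomial β 1) = φ ⟨monomial β 1, hβ⟩ := by
    intro β hβ
    rw [psi_monomial]
    unfold fam
    by_cases hmem : toZ β α ∈ region I α
    · have h1 := fval_spec hφ ⟨toZ β α, hmem⟩
      have hb := bv_toZ hmem
      have h2 : φ ⟨monomial β 1, hβ⟩ = fval φ ⟨toZ β α, hmem⟩ •
          Ideal.Quotient.mk I (monomial (shift β α) (1 : k)) := by
        rw [shift_eq, ← h1]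
        congr 1
        apply Subtype.ext
        show monomial β (1 : k) = monomial (bv ⟨toZ β α, hmem⟩) (1 : k)
        rw [hb]
      rw [h2]
      congr 1
      unfold val
      rw [dif_pos hmem]
      unfold cval
      split_ifs with hfin
      · rfl
      · have := (supp_finite_iff hn hI _).not.mp hfin
        push Not at this
        obtain ⟨w, hw, i, hi⟩ := this
        have hr : (RG I α).Reachable w ⟨toZ β α, hmem⟩ :=
          SimpleGraph.ConnectedComponent.exact hw
        rw [← fval_reachable hI hφ hr, fval_of_neg φ w hi]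
    · have hh : (∀ i, 0 ≤ toZ β α i) ∧ natPart (toZ β α) ∈ exps I := by
        by_contra hcon
        exact hmem ⟨⟨β, hβ, rfl⟩, hcon⟩
      have hz : Ideal.Quotient.mk I (monomial (shift β α) (1 : k)) = 0 :=
        mk_monomial_eq_zero hh.2
      rw [hz, smul_zero]
      have := (hφ β hβ).1 hh.1
      rw [hz, Submodule.mem_span_singleton] at this
      obtain ⟨a, ha⟩ := this
      rw [← ha, smul_zero]
  obtain ⟨p, hp⟩ := p
  show psi I α c p = φ ⟨p, hp⟩
  have hs := support_sum_monomial_coeff p
  have hmem : ∀ v ∈ p.support, v ∈ exps I := fun v hv => hI p hp v hv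
  classical
  let g : (Fin n →₀ ℕ) → ↥I := fun v => if h : v ∈ exps I then ⟨monomial v 1, h⟩ else 0
  have hg : ∀ v (h : v ∈ exps I), g v = ⟨monomial v 1, h⟩ := fun v h => dif_pos h
  have e1 : psi I α c p = ∑ v ∈ p.support, coeff v p • psi I α c (monomial v 1) := by
    conv_lhs => rw [← hs]
    rw [map_sum]
    refine Finset.sum_congr rfl fun v _ => ?_
    rw [← map_smul, smul_monomial, smul_eq_mul, mul_one]
  have e2 : (⟨p, hp⟩ : ↥I) = ∑ v ∈ p.support, coeff v p • g v := by
    apply Subtype.ext
    rw [Submodule.coe_sum]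
    show p = _
    conv_lhs => rw [← hs]
    refine Finset.sum_congr rfl fun v hv => ?_
    rw [Submodule.coe_smul_of_tower, hg v (hmem v hv), smul_monomial, smul_eq_mul, mul_one]
  rw [e1, e2, map_sum]
  refine Finset.sum_congr rfl fun v hv => ?_
  rw [LinearMap.map_smul_of_tower, hmono v (hmem v hv), hg v (hmem v hv)]

end surj

/-- The dimension of the graded piece of `T(I)` is the number of bounded components. -/
theorem finrank_tPiece (hn : 2 ≤ n) {I : Ideal (MvPolynomial (Fin n) k)} (hI : IsMonomial I)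
    [Module.Finite k (MvPolynomial (Fin n) k ⧸ I)] (α : Fin n → ℤ) :
    Module.finrank k ↥(tPiece I α) = nBddComp I α := by
  have e : (BC I α → k) ≃ₗ[k] ↥(tPiece I α) :=
    LinearEquiv.ofBijective (Psi hn hI) ⟨Psi_injective hn hI, Psi_surjective hn hI⟩
  have : Finite (BC I α) := finite_BC hn hI
  have : Fintype (BC I α) := Fintype.ofFinite _
  rw [← e.finrank_eq, Module.finrank_fintype_fun_eq_card, ← Nat.card_eq_fintype_card]
  rfl

end Groth.Agent.Lib.Helper92.HilbTgt
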