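import Mathlib
import Groth.Prelude.Def_W4c1hilbpnTgt
import Groth.Agent.Lib.Helper92.HilbTgt

/-!
# Graded decomposition of `T(I) = Hom(I, S/I)` for a monomial ideal of finite colength (helper92)

`⨆ α, tPiece I α = ⊤` and `iSupIndep (tPiece I)`.
-/

namespace Groth.Agent.Lib.Helper92.HilbTgtDecomp
set_option linter.unusedSectionVars false
open MvPolynomial W4c1hilbpn Groth.Agent.Lib.Helper92.HilbTgt

universe u
variable {k : Type u} [Field k] {n : ℕ} {I : Ideal (MvPolynomial (Fin n) k)}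

section cf

/-- coefficient of `x^γ` in a representative of `q`. -/
noncomputable def cf (I : Ideal (MvPolynomial (Fin n) k)) (γ : Fin n →₀ ℕ)
    (q : MvPolynomial (Fin n) k ⧸ I) : k :=
  coeff γ (Function.surjInv Ideal.Quotient.mk_surjective q)

lemma cf_mk (hI : IsMonomial I) {γ : Fin n →₀ ℕ} (hγ : γ ∉ exps I)
    (p : MvPolynomial (Fin n) k) : cf I γ (Ideal.Quotient.mk I p) = coeff γ p := by
  unfold cf
  set p' := Function.surjInv Ideal.Quotient.mk_surjective (Ideal.Quotient.mk I p) with hp'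
  have h1 : Ideal.Quotient.mk I p' = Ideal.Quotient.mk I p :=
    Function.surjInv_eq Ideal.Quotient.mk_surjective _
  have h2 : p' - p ∈ I := Ideal.Quotient.eq.mp h1
  by_contra hne
  apply hγ
  refine hI _ h2 γ ?_
  rw [mem_support_iff, coeff_sub]
  exact sub_ne_zero.mpr hne

lemma cf_add (hI : IsMonomial I) {γ : Fin n →₀ ℕ} (hγ : γ ∉ exps I)
    (q q' : MvPolynomial (Fin n) k ⧸ I) : cf I γ (q + q') = cf I γ q + cf I γ q' := by
  obtain ⟨p, rfl⟩ := Ideal.Quotient.mk_surjective q
  obtain ⟨p', rfl⟩ := Ideal.Quotient.mk_surjective q'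
  rw [← map_add, cf_mk hI hγ, cf_mk hI hγ, cf_mk hI hγ, coeff_add]

lemma smul_mk (c : k) (p : MvPolynomial (Fin n) k) :
    c • Ideal.Quotient.mk I p = Ideal.Quotient.mk I (c • p) := rfl

lemma cf_smul (hI : IsMonomial I) {γ : Fin n →₀ ℕ} (hγ : γ ∉ exps I) (c : k)
    (q : MvPolynomial (Fin n) k ⧸ I) : cf I γ (c • q) = c * cf I γ q := by
  obtain ⟨p, rfl⟩ := Ideal.Quotient.mk_surjective q
  rw [smul_mk, cf_mk hI hγ, cf_mk hI hγ, coeff_smul, smul_eq_mul]

/-- `cf` as a linear functional. -/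
noncomputable def cfL (hI : IsMonomial I) {γ : Fin n →₀ ℕ} (hγ : γ ∉ exps I) :
    (MvPolynomial (Fin n) k ⧸ I) →ₗ[k] k where
  toFun := cf I γ
  map_add' := cf_add hI hγ
  map_smul' c q := by rw [cf_smul hI hγ, RingHom.id_apply, smul_eq_mul]

lemma cfL_apply (hI : IsMonomial I) {γ : Fin n →₀ ℕ} (hγ : γ ∉ exps I)
    (q : MvPolynomial (Fin n) k ⧸ I) : cfL hI hγ q = cf I γ q := rfl

lemma cf_mk_monomial (hI : IsMonomial I) {γ γ' : Fin n →₀ ℕ} (hγ : γ ∉ exps I) :
    cf I γ (Ideal.Quotient.mk I (monomial γ' (1 : k))) = if γ' = γ then 1 else 0 := by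
  classical
  rw [cf_mk hI hγ, coeff_monomial]

lemma Xsmul_mk (i : Fin n) (p : MvPolynomial (Fin n) k) :
    (X i : MvPolynomial (Fin n) k) • Ideal.Quotient.mk I p = Ideal.Quotient.mk I (X i * p) := rfl

lemma cf_X_smul (hI : IsMonomial I) {γ : Fin n →₀ ℕ} (i : Fin n)
    (hγ : γ + Finsupp.single i 1 ∉ exps I) (q : MvPolynomial (Fin n) k ⧸ I) :
    cf I (γ + Finsupp.single i 1) ((X i : MvPolynomial (Fin n) k) • q) = cf I γ q := by
  obtain ⟨p, rfl⟩ := Ideal.Quotient.mk_surjective q
  have hγ0 : γ ∉ exps I := fun h => hγ (exps_add h _)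
  rw [Xsmul_mk, cf_mk hI hγ, cf_mk hI hγ0, mul_comm, coeff_mul_X]

lemma cf_X_smul_of_zero (hI : IsMonomial I) {γ : Fin n →₀ ℕ} (i : Fin n)
    (hγ : γ ∉ exps I) (h0 : γ i = 0) (q : MvPolynomial (Fin n) k ⧸ I) :
    cf I γ ((X i : MvPolynomial (Fin n) k) • q) = 0 := by
  classical
  obtain ⟨p, rfl⟩ := Ideal.Quotient.mk_surjective q
  rw [Xsmul_mk, cf_mk hI hγ, coeff_X_mul', if_neg]
  rw [Finsupp.mem_support_iff, h0]; simp

/-- The finite set of exponents outside `I`. -/
noncomputable def Nfin (hI : IsMonomial I) [Module.Finite k (MvPolynomial (Fin n) k ⧸ I)] :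
    Finset (Fin n →₀ ℕ) := (finite_compl_exps hI).toFinset

lemma mem_Nfin (hI : IsMonomial I) [Module.Finite k (MvPolynomial (Fin n) k ⧸ I)]
    {γ : Fin n →₀ ℕ} : γ ∈ Nfin hI ↔ γ ∉ exps I := by
  simp [Nfin]

lemma mk_monomial_smul (c : k) (β : Fin n →₀ ℕ) :
    Ideal.Quotient.mk I (monomial β c) = c • Ideal.Quotient.mk I (monomial β (1 : k)) := by
  rw [smul_mk, smul_monomial, smul_eq_mul, mul_one]

/-- Expansion of an element of `S/I` in the monomial basis. -/
lemma expand (hI : IsMonomial I) [Module.Finite k (MvPolynomial (Fin n) k ⧸ I)]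
    (q : MvPolynomial (Fin n) k ⧸ I) :
    q = ∑ γ ∈ Nfin hI, cf I γ q • Ideal.Quotient.mk I (monomial γ (1 : k)) := by
  classical
  obtain ⟨p, rfl⟩ := Ideal.Quotient.mk_surjective q
  have h1 : Ideal.Quotient.mk I p =
      ∑ β ∈ p.support, coeff β p • Ideal.Quotient.mk I (monomial β (1 : k)) := by
    conv_lhs => rw [← support_sum_monomial_coeff p]
    rw [map_sum]
    exact Finset.sum_congr rfl fun β _ => mk_monomial_smul _ _
  have h2 : ∑ β ∈ p.support, coeff β p • Ideal.Quotient.mk I (monomial β (1 : k)) =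
      ∑ β ∈ Nfin hI ∪ p.support, coeff β p • Ideal.Quotient.mk I (monomial β (1 : k)) := by
    refine Finset.sum_subset Finset.subset_union_right fun β _ hβ => ?_
    rw [notMem_support_iff.mp hβ, zero_smul]
  have h3 : ∑ γ ∈ Nfin hI, cf I γ (Ideal.Quotient.mk I p) •
        Ideal.Quotient.mk I (monomial γ (1 : k)) =
      ∑ β ∈ Nfin hI ∪ p.support, coeff β p • Ideal.Quotient.mk I (monomial β (1 : k)) := by
    rw [Finset.sum_congr rfl fun γ hγ => by rw [cf_mk hI ((mem_Nfin hI).mp hγ)]]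
    refine Finset.sum_subset Finset.subset_union_left fun β _ hβ => ?_
    have : β ∈ exps I := by
      by_contra h; exact hβ ((mem_Nfin hI).mpr h)
    rw [mk_monomial_eq_zero this, smul_zero]
  rw [h3, ← h2, ← h1]

end cf

section ext

/-- Two elements of `T(I)` agreeing on a generating set are equal. -/
lemma tgt_ext_of_le (φ ψ : Tgt I) (T : Set (MvPolynomial (Fin n) k)) (hT : ∀ t ∈ T, t ∈ I)
    (hspan : I ≤ Ideal.span T) (h : ∀ t (ht : t ∈ T), φ ⟨t, hT t ht⟩ = ψ ⟨t, hT t ht⟩) :
    φ = ψ := by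
  have hle : Ideal.span T ≤ Submodule.map (Submodule.subtype I) (LinearMap.eqLocus φ ψ) := by
    refine Ideal.span_le.mpr ?_
    intro t ht
    exact ⟨⟨t, hT t ht⟩, h t ht, rfl⟩
  apply LinearMap.ext
  rintro ⟨p, hp⟩
  obtain ⟨x, hx, hxp⟩ := hle (hspan hp)
  have : x = ⟨p, hp⟩ := Subtype.ext hxp
  rw [← this]
  exact hx

lemma le_span_monomials (G : Set (Fin n →₀ ℕ))
    (hG : ∀ p ∈ I, ∀ β ∈ p.support, β ∈ G) :
    I ≤ Ideal.span ((fun β => monomial β (1 : k)) '' G) := by
  intro p hp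
  rw [← support_sum_monomial_coeff p]
  refine Ideal.sum_mem _ fun β hβ => ?_
  have : monomial β (coeff β p) = C (coeff β p) * monomial β (1 : k) := by
    rw [C_mul_monomial, mul_one]
  rw [this]
  exact Ideal.mul_mem_left _ _ (Ideal.subset_span ⟨β, hG p hp β hβ, rfl⟩)

/-- Two elements of `T(I)` agreeing on all monomials of `I` are equal. -/
lemma tgt_ext_monomials (hI : IsMonomial I) (φ ψ : Tgt I)
    (h : ∀ β (hβ : β ∈ exps I), φ ⟨monomial β 1, hβ⟩ = ψ ⟨monomial β 1, hβ⟩) : φ = ψ := by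
  refine tgt_ext_of_le φ ψ ((fun β => monomial β (1 : k)) '' exps I) ?_
    (le_span_monomials _ fun p hp β hβ => hI p hp β hβ) ?_
  · rintro _ ⟨β, hβ, rfl⟩; exact hβ
  · rintro _ ⟨β, hβ, rfl⟩; exact h β hβ

end ext

section construct

/-- evaluation of `φ` on a monomial (zero if the monomial is not in `I`). -/
noncomputable def ev (φ : Tgt I) (β : Fin n →₀ ℕ) : MvPolynomial (Fin n) k ⧸ I := by
  classical
  exact if h : monomial β (1 : k) ∈ I then φ ⟨monomial β 1, h⟩ else 0

lemma ev_of_mem (φ : Tgt I) {β : Fin n →₀ ℕ} (hβ : β ∈ exps I) :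
    ev φ β = φ ⟨monomial β 1, hβ⟩ := by
  unfold ev; rw [dif_pos (show monomial β (1 : k) ∈ I from hβ)]

lemma ev_step (φ : Tgt I) {β : Fin n →₀ ℕ} (hβ : β ∈ exps I) (i : Fin n) :
    ev φ (β + Finsupp.single i 1) = (X i : MvPolynomial (Fin n) k) • ev φ β := by
  rw [ev_of_mem φ hβ, ev_of_mem φ (exps_add hβ _), ← map_smul]
  congr 1
  apply Subtype.ext
  show monomial (β + Finsupp.single i 1) (1 : k) = X i * monomial β 1
  rw [X_mul_monomial_one]

open Classical in
/-- The coefficient of `x^(β+α)` in `φ(x^β)`. -/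
noncomputable def aval (φ : Tgt I) (α : Fin n → ℤ) (β : Fin n →₀ ℕ) : k :=
  if (∀ i, 0 ≤ toZ β α i) ∧ natPart (toZ β α) ∉ exps I then
    cf I (natPart (toZ β α)) (ev φ β) else 0

/-- The image of the monomial `x^β` under the degree-`α` part of `φ`. -/
noncomputable def famD (φ : Tgt I) (α : Fin n → ℤ) (β : Fin n →₀ ℕ) :
    MvPolynomial (Fin n) k ⧸ I :=
  aval φ α β • Ideal.Quotient.mk I (monomial (shift β α) (1 : k))

/-- The `k`-linear map on the whole polynomial ring. -/
noncomputable def psiD (φ : Tgt I) (α : Fin n → ℤ) :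
    MvPolynomial (Fin n) k →ₗ[k] (MvPolynomial (Fin n) k ⧸ I) :=
  (basisMonomials (Fin n) k).constr k (famD φ α)

lemma psiD_monomial (φ : Tgt I) (α : Fin n → ℤ) (β : Fin n →₀ ℕ) :
    psiD φ α (monomial β 1) = famD φ α β := by
  have := (basisMonomials (Fin n) k).constr_basis k (famD φ α) β
  unfold psiD
  simpa [coe_basisMonomials] using this

lemma famD_step (hI : IsMonomial I) (φ : Tgt I) (α : Fin n → ℤ) {β : Fin n →₀ ℕ}
    (hβ : β ∈ exps I) (i : Fin n) :
    famD φ α (β + Finsupp.single i 1) = (X i : MvPolynomial (Fin n) k) • famD φ α β := by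
  unfold famD
  by_cases hnn : ∀ j, 0 ≤ toZ β α j
  · have hshift : shift (β + Finsupp.single i 1) α = shift β α + Finsupp.single i 1 := by
      rw [shift_eq, shift_eq, toZ_add_single, natPart_add_ez i (hnn i)]
    have hmono : (X i : MvPolynomial (Fin n) k) •
        Ideal.Quotient.mk I (monomial (shift β α) (1 : k))
        = Ideal.Quotient.mk I (monomial (shift (β + Finsupp.single i 1) α) 1) := by
      show Ideal.Quotient.mk I (X i * monomial (shift β α) 1) = _
      rw [X_mul_monomial_one, hshift]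
    rw [smul_comm, hmono]
    by_cases hin : shift (β + Finsupp.single i 1) α ∈ exps I
    · rw [mk_monomial_eq_zero hin, smul_zero, smul_zero]
    · have hin0 : shift β α ∉ exps I := fun h0 => hin (by rw [hshift]; exact exps_add h0 _)
      have hnn' : ∀ j, 0 ≤ toZ (β + Finsupp.single i 1) α j := by
        intro j
        have := hnn j
        rw [toZ_add_single]
        simp only [Pi.add_apply, ez, Pi.single_apply]
        split_ifs <;> omega
      have e1 : aval φ α (β + Finsupp.single i 1) = aval φ α β := by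
        unfold aval
        rw [if_pos ⟨hnn', by rw [← shift_eq]; exact hin⟩, if_pos ⟨hnn, by rw [← shift_eq]; exact hin0⟩,
          ev_step φ hβ i, ← shift_eq, ← shift_eq, hshift]
        exact cf_X_smul hI i (by rw [← hshift]; exact hin) _
      rw [e1]
  · push Not at hnn
    obtain ⟨j, hj⟩ := hnn
    have e0 : aval φ α β = 0 := by
      unfold aval
      rw [if_neg]
      rintro ⟨h, -⟩
      exact absurd (h j) (not_le.mpr hj)
    rw [e0, zero_smul, smul_zero]
    by_cases hnn' : ∀ l, 0 ≤ toZ (β + Finsupp.single i 1) α l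
    · by_cases hin : natPart (toZ (β + Finsupp.single i 1) α) ∈ exps I
      · rw [shift_eq, mk_monomial_eq_zero hin, smul_zero]
      · have hji : j = i := by
          by_contra hne
          have := hnn' j
          rw [toZ_add_single] at this
          simp only [Pi.add_apply, ez, Pi.single_apply, if_neg hne, add_zero] at this
          omega
        subst hji
        have h0 : natPart (toZ (β + Finsupp.single j 1) α) j = 0 := by
          have := hnn' j
          rw [toZ_add_single] at this ⊢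
          simp only [natPart_apply, Pi.add_apply, ez, Pi.single_eq_same] at this ⊢
          omega
        have e1 : aval φ α (β + Finsupp.single j 1) = 0 := by
          unfold aval
          rw [if_pos ⟨hnn', hin⟩, ev_step φ hβ j]
          exact cf_X_smul_of_zero hI j hin h0 _
        rw [e1, zero_smul]
    · have e1 : aval φ α (β + Finsupp.single i 1) = 0 := by
        unfold aval
        rw [if_neg]
        rintro ⟨h, -⟩
        exact hnn' h
      rw [e1, zero_smul]

lemma psiD_X_mul_monomial (hI : IsMonomial I) (φ : Tgt I) (α : Fin n → ℤ) {β : Fin n →₀ ℕ}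
    (hβ : β ∈ exps I) (i : Fin n) (a : k) :
    psiD φ α (X i * monomial β a)
      = (X i : MvPolynomial (Fin n) k) • psiD φ α (monomial β a) := by
  have e : monomial β a = a • monomial β (1 : k) := by rw [smul_monomial, smul_eq_mul, mul_one]
  rw [e, mul_smul_comm, map_smul, map_smul, X_mul_monomial_one, psiD_monomial, psiD_monomial,
    famD_step hI φ α hβ i, smul_comm]

lemma psiD_X_mul (hI : IsMonomial I) (φ : Tgt I) (α : Fin n → ℤ)
    {p : MvPolynomial (Fin n) k} (hp : p ∈ I) (i : Fin n) :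
    psiD φ α (X i * p) = (X i : MvPolynomial (Fin n) k) • psiD φ α p := by
  have hs := support_sum_monomial_coeff p
  have hmem : ∀ v ∈ p.support, v ∈ exps I := fun v hv => hI p hp v hv
  rw [← hs, Finset.mul_sum, map_sum, map_sum, Finset.smul_sum]
  refine Finset.sum_congr rfl fun v hv => ?_
  exact psiD_X_mul_monomial hI φ α (hmem v hv) i _

lemma psiD_mul (hI : IsMonomial I) (φ : Tgt I) (α : Fin n → ℤ) (s : MvPolynomial (Fin n) k) :
    ∀ p ∈ I, psiD φ α (s * p) = s • psiD φ α p := by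
  induction s using MvPolynomial.induction_on with
  | C a =>
    intro p _
    rw [C_mul', map_smul, ← algebraMap_eq, algebraMap_smul]
  | add s t hs ht =>
    intro p hp
    rw [add_mul, map_add, hs p hp, ht p hp, add_smul]
  | mul_X s i hs =>
    intro p hp
    rw [mul_assoc, hs _ (I.mul_mem_left _ hp), psiD_X_mul hI φ α hp, mul_smul]

/-- The degree-`α` part of `φ`. -/
noncomputable def PhiD (hI : IsMonomial I) (φ : Tgt I) (α : Fin n → ℤ) : Tgt I where
  toFun p := psiD φ α p.1
  map_add' p q := by simp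
  map_smul' s p := psiD_mul hI φ α s p.1 p.2

lemma PhiD_monomial (hI : IsMonomial I) (φ : Tgt I) (α : Fin n → ℤ) {β : Fin n →₀ ℕ}
    (hβ : β ∈ exps I) : PhiD hI φ α ⟨monomial β 1, hβ⟩ = famD φ α β :=
  psiD_monomial φ α β

lemma PhiD_mem (hI : IsMonomial I) (φ : Tgt I) (α : Fin n → ℤ) :
    PhiD hI φ α ∈ tPiece I α := by
  intro β hβ
  rw [PhiD_monomial hI φ α hβ]
  refine ⟨fun _ => ?_, fun ⟨i, hi⟩ => ?_⟩
  · exact Submodule.smul_mem _ _ (Submodule.subset_span rfl)
  · unfold famD aval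
    rw [if_neg, zero_smul]
    rintro ⟨h, -⟩
    exact absurd (h i) (not_le.mpr hi)

end construct

section decomp
variable [Module.Finite k (MvPolynomial (Fin n) k ⧸ I)]

/-- The integer vector `γ - β`. -/
def dif (β γ : Fin n →₀ ℕ) : Fin n → ℤ := fun i => (γ i : ℤ) - (β i : ℤ)

lemma toZ_dif (β γ : Fin n →₀ ℕ) : toZ β (dif β γ) = fun i => (γ i : ℤ) := by
  funext i; simp only [toZ_apply, dif]; ring

lemma natPart_natCast (γ : Fin n →₀ ℕ) : natPart (fun i => (γ i : ℤ)) = γ := by
  ext i; simp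

lemma dif_injective (β : Fin n →₀ ℕ) : Function.Injective (dif β) := by
  intro γ γ' h
  ext i
  have := congrFun h i
  simp only [dif] at this
  omega

lemma sum_famD (hI : IsMonomial I) (φ : Tgt I) {β : Fin n →₀ ℕ} (hβ : β ∈ exps I)
    (A : Finset (Fin n → ℤ)) (hA : ∀ γ ∈ Nfin hI, dif β γ ∈ A) :
    ∑ α ∈ A, famD φ α β = ev φ β := by
  classical
  have hsub : (Nfin hI).image (dif β) ⊆ A := by
    intro α hα
    obtain ⟨γ, hγ, rfl⟩ := Finset.mem_image.mp hα
    exact hA γ hγ
  rw [← Finset.sum_subset hsub]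
  · rw [Finset.sum_image (fun γ _ γ' _ h => dif_injective β h)]
    conv_rhs => rw [expand hI (ev φ β)]
    refine Finset.sum_congr rfl fun γ hγ => ?_
    have hγ' := (mem_Nfin hI).mp hγ
    unfold famD aval
    rw [shift_eq, toZ_dif, natPart_natCast, if_pos ⟨fun i => by positivity, hγ'⟩]
  · intro α _ hα
    unfold famD aval
    split_ifs with h
    · exfalso
      apply hα
      refine Finset.mem_image.mpr ⟨natPart (toZ β α), (mem_Nfin hI).mpr h.2, ?_⟩
      funext i
      have := h.1 i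
      simp only [dif, natPart_apply, toZ_apply] at this ⊢
      omega
    · rw [zero_smul]

lemma exists_gens (hI : IsMonomial I) :
    ∃ G : Finset (Fin n →₀ ℕ), (∀ β ∈ G, β ∈ exps I) ∧
      I ≤ Ideal.span ((fun β => monomial β (1 : k)) '' (G : Set (Fin n →₀ ℕ))) := by
  classical
  obtain ⟨s, hs⟩ := (isNoetherianRing_iff_ideal_fg (MvPolynomial (Fin n) k)).mp inferInstance I
  refine ⟨s.biUnion fun p => p.support, ?_, ?_⟩
  · intro β hβ
    obtain ⟨p, hp, hβp⟩ := Finset.mem_biUnion.mp hβ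
    have hpI : p ∈ I := by rw [← hs]; exact Ideal.subset_span hp
    exact hI p hpI β hβp
  · rw [← hs]
    refine Ideal.span_le.mpr ?_
    intro p hp
    show p ∈ Ideal.span _
    rw [← support_sum_monomial_coeff p]
    refine Ideal.sum_mem _ fun β hβ => ?_
    have : monomial β (coeff β p) = C (coeff β p) * monomial β (1 : k) := by
      rw [C_mul_monomial, mul_one]
    rw [this]
    exact Ideal.mul_mem_left _ _ (Ideal.subset_span
      ⟨β, Finset.mem_coe.mpr (Finset.mem_biUnion.mpr ⟨p, hp, hβ⟩), rfl⟩)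

/-- Every element of `T(I)` is a finite sum of its graded parts. -/
lemma exists_decomp (hI : IsMonomial I) (φ : Tgt I) :
    ∃ A : Finset (Fin n → ℤ), φ = ∑ α ∈ A, PhiD hI φ α := by
  classical
  obtain ⟨G, hG1, hG2⟩ := exists_gens hI
  refine ⟨Finset.image₂ dif G (Nfin hI), ?_⟩
  refine tgt_ext_of_le _ _ ((fun β => monomial β (1 : k)) '' (G : Set (Fin n →₀ ℕ))) ?_ hG2 ?_
  · rintro _ ⟨β, hβ, rfl⟩; exact hG1 β hβ
  · rintro _ ⟨β, hβ, rfl⟩
    have hβI : β ∈ exps I := hG1 β hβ
    rw [LinearMap.sum_apply]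
    rw [Finset.sum_congr rfl fun α _ => PhiD_monomial hI φ α hβI]
    rw [sum_famD hI φ hβI _ fun γ hγ => Finset.mem_image₂_of_mem hβ hγ]
    exact (ev_of_mem φ hβI).symm

theorem iSup_tPiece_eq_top (hI : IsMonomial I) : ⨆ α, tPiece I α = ⊤ := by
  rw [eq_top_iff]
  intro φ _
  obtain ⟨A, hA⟩ := exists_decomp hI φ
  rw [hA]
  exact Submodule.sum_mem _ fun α _ =>
    Submodule.mem_iSup_of_mem α (PhiD_mem hI φ α)

end decomp

section indep

lemma apply_eq_smul_of_mem {α : Fin n → ℤ} {φ : Tgt I} (hφ : φ ∈ tPiece I α)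
    {β : Fin n →₀ ℕ} (hβ : β ∈ exps I) (hnn : ∀ i, 0 ≤ toZ β α i) :
    ∃ c : k, φ ⟨monomial β 1, hβ⟩ = c • Ideal.Quotient.mk I (monomial (shift β α) (1 : k)) := by
  have := (hφ β hβ).1 hnn
  obtain ⟨c, hc⟩ := Submodule.mem_span_singleton.mp this
  exact ⟨c, hc.symm⟩

theorem iSupIndep_tPiece (hI : IsMonomial I) : iSupIndep (fun α => tPiece I α) := by
  classical
  rw [iSupIndep_iff_finsetSum_eq_zero_imp_eq_zero]
  intro s v hv hsum α₀ hα₀
  refine tgt_ext_monomials hI _ _ fun β hβ => ?_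
  rw [LinearMap.zero_apply]
  by_cases hnn : ∀ i, 0 ≤ toZ β α₀ i
  · obtain ⟨c₀, hc₀⟩ := apply_eq_smul_of_mem (hv α₀ hα₀) hβ hnn
    rw [hc₀]
    by_cases hin : shift β α₀ ∈ exps I
    · rw [mk_monomial_eq_zero hin, smul_zero]
    · have hev := congrArg (fun φ : Tgt I => cfL hI hin (φ ⟨monomial β 1, hβ⟩)) hsum
      simp only [LinearMap.sum_apply, map_sum, LinearMap.zero_apply, map_zero] at hev
      rw [Finset.sum_eq_single α₀] at hev
      · rw [hc₀, cfL_apply, cf_smul hI hin, cf_mk_monomial hI hin, if_pos rfl, mul_one] at hev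
        rw [hev, zero_smul]
      · intro α hα hne
        rw [cfL_apply]
        by_cases hnnα : ∀ i, 0 ≤ toZ β α i
        · obtain ⟨c, hc⟩ := apply_eq_smul_of_mem (hv α hα) hβ hnnα
          rw [hc, cf_smul hI hin, cf_mk_monomial hI hin, if_neg, mul_zero]
          intro heq
          apply hne
          rw [shift_eq, shift_eq] at heq
          have h1 := natPart_inj hnnα hnn heq
          funext i
          have := congrFun h1 i
          simp only [toZ_apply] at this
          omega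
        · push Not at hnnα
          rw [((hv α hα) β hβ).2 hnnα]
          exact (cf_mk hI hin 0).trans (coeff_zero _)
      · intro h; exact absurd hα₀ h
  · push Not at hnn
    exact ((hv α₀ hα₀) β hβ).2 hnn

end indep

section vanish
variable [Module.Finite k (MvPolynomial (Fin n) k ⧸ I)] {α : Fin n → ℤ}

lemma tPiece_eq_bot_of_isEmpty (hn : 2 ≤ n) (hI : IsMonomial I) (h : IsEmpty (BC I α)) :
    tPiece I α = ⊥ := by
  rw [eq_bot_iff]
  intro φ hφ
  obtain ⟨c, hc⟩ := Psi_surjective hn hI ⟨φ, hφ⟩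
  have : c = 0 := Subsingleton.elim _ _
  rw [this, map_zero] at hc
  have h2 := congrArg Subtype.val hc
  rw [Submodule.mem_bot]
  exact h2.symm

lemma tPiece_eq_bot_of_nonneg (hn : 2 ≤ n) (hI : IsMonomial I) (hα : ∀ i, 0 ≤ α i) :
    tPiece I α = ⊥ := by
  apply tPiece_eq_bot_of_isEmpty hn hI
  constructor
  intro c
  obtain ⟨v, -⟩ := c.1.exists_rep
  obtain ⟨⟨β, hβ, hv⟩, hnot⟩ := v.2
  apply hnot
  have hv' : v.1 = toZ β α := hv
  refine ⟨fun i => ?_, ?_⟩
  · rw [hv']; have := hα i; simp only [toZ_apply]; omega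
  · have : natPart v.1 = β + natPart α := by
      ext i
      have := hα i
      rw [hv']
      simp only [natPart_apply, toZ_apply, Finsupp.add_apply]
      omega
    show natPart v.1 ∈ exps I
    rw [this]
    exact exps_add hβ _

lemma tPiece_eq_bot_of_neg (hn : 2 ≤ n) (hI : IsMonomial I) (hα : ∀ i, α i < 0) :
    tPiece I α = ⊥ := by
  apply tPiece_eq_bot_of_isEmpty hn hI
  constructor
  intro c
  have hnnall := (supp_finite_iff hn hI c.1).mp c.2
  obtain ⟨v0, hv0⟩ := c.1.exists_rep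
  let i0 : Fin n := ⟨0, by omega⟩
  let i1 : Fin n := ⟨1, by omega⟩
  have h01 : i0 ≠ i1 := by simp [i0, i1, Fin.ext_iff]
  obtain ⟨v, hvB, hmax⟩ := Set.exists_max_image c.1.supp
    (fun v : ↥(region I α) => v.1 i1 - v.1 i0) c.2 ⟨v0, hv0⟩
  have hnn := hnnall v hvB
  have hvβ := bv_spec v
  have hβ := bv_mem v
  set β := bv v with hβdef
  have hout : natPart v.1 ∉ exps I := fun h => v.2.2 ⟨hnn, h⟩
  -- membership of neighbours in the component
  have hadjB : ∀ w : ↥(region I α), (stepGraph (Fin n)).Adj v.1 w.1 → w ∈ c.1.supp := by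
    intro w hadj
    show (RG I α).connectedComponentMk w = c.1
    rw [← (show (RG I α).connectedComponentMk v = c.1 from hvB)]
    exact (SimpleGraph.ConnectedComponent.connectedComponentMk_eq_of_adj
      (show (RG I α).Adj v w from hadj)).symm
  have hβ0 : 1 ≤ β i0 := by
    have h1 := congrFun hvβ i0
    have h2 := hnn i0
    have h3 := hα i0
    simp only [toZ_apply] at h1
    omega
  -- Step A
  have hA : β - Finsupp.single i0 1 ∉ exps I := by
    intro hmem
    have hβ' : β = (β - Finsupp.single i0 1) + Finsupp.single i0 1 := by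
      ext j
      by_cases hj : j = i0
      · subst hj; simp; omega
      · simp [hj]
    have hv' : v.1 = toZ (β - Finsupp.single i0 1) α + ez i0 := by
      rw [← toZ_add_single, ← hβ']; exact hvβ
    have hreg : toZ (β - Finsupp.single i0 1) α ∈ region I α := by
      refine ⟨⟨_, hmem, rfl⟩, ?_⟩
      rintro ⟨hnn', hin⟩
      apply hout
      have : natPart v.1 = natPart (toZ (β - Finsupp.single i0 1) α) + Finsupp.single i0 1 := by
        rw [hv']; exact natPart_add_ez i0 (hnn' i0)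
      rw [this]; exact exps_add hin _
    have hadj : (stepGraph (Fin n)).Adj v.1 (toZ (β - Finsupp.single i0 1) α) := by
      rw [hv']; exact (step_adj_add_ez _ _).symm
    have hB := hadjB ⟨_, hreg⟩ hadj
    have := hmax ⟨_, hreg⟩ hB
    simp only at this
    have e1 := congrFun hv' i0
    have e2 := congrFun hv' i1
    simp only [Pi.add_apply, ez, Pi.single_eq_same] at e1
    simp only [Pi.add_apply, ez, Pi.single_apply, if_neg h01.symm, add_zero] at e2
    omega
  -- Step B
  have hB : natPart (v.1 + ez i1) ∈ exps I := by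
    by_contra hnot
    have hreg : v.1 + ez i1 ∈ region I α := by
      refine ⟨⟨β + Finsupp.single i1 1, exps_add hβ _, ?_⟩, fun h => hnot h.2⟩
      rw [hvβ]; exact (toZ_add_single β α i1).symm
    have hB := hadjB ⟨_, hreg⟩ (step_adj_add_ez _ _)
    have := hmax ⟨_, hreg⟩ hB
    simp only [Pi.add_apply, ez, Pi.single_eq_same, Pi.single_apply, if_neg h01, add_zero] at this
    omega
  -- Step C
  apply hA
  have : β - Finsupp.single i0 1 = natPart (v.1 + ez i1) +
      natPart (fun j => -α j - (if j = i0 then 1 else 0) - (if j = i1 then 1 else 0)) := by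
    ext j
    have h1 := congrFun hvβ j
    have h2 := hnn j
    have h3 := hα j
    simp only [toZ_apply] at h1
    simp only [Finsupp.coe_tsub, Pi.sub_apply, Finsupp.add_apply, natPart_apply, Pi.add_apply, ez,
      Pi.single_apply, Finsupp.single_apply]
    by_cases hj0 : j = i0
    · have hj1 : j ≠ i1 := fun h => h01 (hj0.symm.trans h)
      have hj0' : i0 = j := hj0.symm
      rw [if_pos hj0, if_neg hj1, if_pos hj0']
      omega
    · have hj0' : ¬ i0 = j := fun h => hj0 h.symm
      rw [if_neg hj0, if_neg hj0']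
      by_cases hj1 : j = i1
      · rw [if_pos hj1]; omega
      · rw [if_neg hj1]; omega
  rw [this]
  exact exps_add hB _

theorem iSup_sigPiece_eq_top (hn : 2 ≤ n) (hI : IsMonomial I) :
    (⨆ N : {N : Set (Fin n) // N.Nonempty ∧ N ≠ Set.univ}, sigPiece I N.1) = ⊤ := by
  rw [eq_top_iff, ← iSup_tPiece_eq_top hI]
  refine iSup_le fun α => ?_
  by_cases h1 : ∀ i, 0 ≤ α i
  · rw [tPiece_eq_bot_of_nonneg hn hI h1]; exact bot_le
  by_cases h2 : ∀ i, α i < 0
  · rw [tPiece_eq_bot_of_neg hn hI h2]; exact bot_le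
  push Not at h1 h2
  obtain ⟨i, hi⟩ := h1
  obtain ⟨j, hj⟩ := h2
  have hN : ({l | α l < 0} : Set (Fin n)).Nonempty ∧ ({l | α l < 0} : Set (Fin n)) ≠ Set.univ := by
    refine ⟨⟨i, hi⟩, fun h => ?_⟩
    have : j ∈ ({l | α l < 0} : Set (Fin n)) := by rw [h]; exact Set.mem_univ j
    exact absurd this (not_lt.mpr hj)
  refine le_trans ?_ (le_iSup (fun N : {N : Set (Fin n) // N.Nonempty ∧ N ≠ Set.univ} =>
    sigPiece I N.1) ⟨_, hN⟩)
  exact le_iSup (fun α' : {α' : Fin n → ℤ // ∀ l, α' l < 0 ↔ l ∈ ({l | α l < 0} : Set (Fin n))} =>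
    tPiece I α'.1) ⟨α, fun l => Iff.rfl⟩

end vanish

end Groth.Agent.Lib.Helper92.HilbTgtDecomp
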