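import Mathlib
import Groth.Prelude.Def_W4c1hilbpnTgt
import Groth.Agent.Lib.Helper92.HilbTgt

/-!
# Graded pieces of `T(m^r)` for the irrelevant ideal `m` (helper92)
-/

namespace Groth.Agent.Lib.Helper92.HilbTgtPow
set_option linter.unusedSectionVars false
open MvPolynomial W4c1hilbpn Groth.Agent.Lib.Helper92.HilbTgt

universe u
variable {k : Type u} [Field k] {n : ℕ}

/-- The irrelevant ideal. -/
noncomputable abbrev mI (k : Type u) [Field k] (n : ℕ) : Ideal (MvPolynomial (Fin n) k) :=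
  Ideal.span (Set.range (X : Fin n → MvPolynomial (Fin n) k))

lemma mem_exps_pow {r : ℕ} {β : Fin n →₀ ℕ} : β ∈ exps ((mI k n) ^ r) ↔ r ≤ β.degree :=
  monomial_mem_pow_idealOfVars_iff r β one_ne_zero

lemma isMonomial_pow (r : ℕ) : IsMonomial ((mI k n) ^ r) := by
  intro p hp β hβ
  have hp' := (mem_pow_idealOfVars_iff r p).mp hp
  exact (monomial_mem_pow_idealOfVars_iff r β one_ne_zero).mpr (hp' β hβ)

instance finite_quot_pow (r : ℕ) : Module.Finite k (MvPolynomial (Fin n) k ⧸ (mI k n) ^ r) := by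
  let f : ↥(restrictTotalDegree (Fin n) k r) →ₗ[k] (MvPolynomial (Fin n) k ⧸ (mI k n) ^ r) :=
    (Ideal.Quotient.mkₐ k ((mI k n) ^ r)).toLinearMap.comp
      (restrictTotalDegree (Fin n) k r).subtype
  refine Module.Finite.of_surjective f ?_
  intro x
  obtain ⟨p, rfl⟩ := Ideal.Quotient.mk_surjective x
  suffices h : Ideal.Quotient.mk ((mI k n) ^ r) p ∈ LinearMap.range f from h
  rw [← support_sum_monomial_coeff p, map_sum]
  refine Submodule.sum_mem _ fun β _ => ?_
  by_cases hβ : r ≤ β.degree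
  · have : monomial β (coeff β p) ∈ (mI k n) ^ r := by
      rw [mem_pow_idealOfVars_iff]
      intro x hx
      have := support_monomial_subset hx
      rw [Finset.mem_singleton] at this
      rw [this]; exact hβ
    rw [Ideal.Quotient.eq_zero_iff_mem.mpr this]; exact zero_mem _
  · refine ⟨⟨monomial β (coeff β p), ?_⟩, rfl⟩
    rw [mem_restrictTotalDegree]
    refine (totalDegree_monomial_le β _).trans ?_
    have : (β.sum fun _ => id) = β.degree := rfl
    rw [this]; omega

section region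
variable {r : ℕ} {α : Fin n → ℤ}

lemma sum_ez (j : Fin n) : ∑ l, ez j l = 1 := by simp [ez]

lemma sum_add_ez (γ : Fin n → ℤ) (j : Fin n) : ∑ l, (γ + ez j) l = ∑ l, γ l + 1 := by
  simp only [Pi.add_apply, Finset.sum_add_distrib, sum_ez]

lemma sum_sub_ez (γ : Fin n → ℤ) (j : Fin n) : ∑ l, (γ - ez j) l = ∑ l, γ l - 1 := by
  simp only [Pi.sub_apply, Finset.sum_sub_distrib, sum_ez]

lemma mem_region_pow {γ : Fin n → ℤ} :
    γ ∈ region ((mI k n) ^ r) α ↔
      (∀ i, α i ≤ γ i) ∧ (r : ℤ) + ∑ i, α i ≤ ∑ i, γ i ∧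
        ((∃ i, γ i < 0) ∨ ∑ i, γ i < r) := by
  rw [mem_region]
  constructor
  · rintro ⟨⟨β, hβ, rfl⟩, hnot⟩
    rw [mem_exps_pow, Finsupp.degree_eq_sum] at hβ
    refine ⟨fun i => by simp only [toZ_apply]; omega, ?_, ?_⟩
    · simp only [toZ_apply, Finset.sum_add_distrib]
      have : ((r : ℕ) : ℤ) ≤ ∑ i, (β i : ℤ) := by exact_mod_cast hβ
      linarith
    · by_contra hcon
      push Not at hcon
      apply hnot
      refine ⟨hcon.1, ?_⟩
      rw [mem_exps_pow, Finsupp.degree_eq_sum]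
      have h2 : ∑ i, ((natPart (toZ β α) i : ℕ) : ℤ) = ∑ i, toZ β α i :=
        Finset.sum_congr rfl fun i _ => by
          rw [natPart_apply, Int.toNat_of_nonneg (hcon.1 i)]
      have h3 := hcon.2
      rw [← h2] at h3
      exact_mod_cast h3
  · rintro ⟨h1, h2, h3⟩
    have hβγ : toZ (natPart (γ - α)) α = γ := by
      funext i
      simp only [toZ_apply, natPart_apply, Pi.sub_apply]
      have := h1 i
      omega
    refine ⟨⟨natPart (γ - α), ?_, hβγ.symm⟩, ?_⟩
    · rw [mem_exps_pow, Finsupp.degree_eq_sum]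
      have h4 : ∑ i, ((natPart (γ - α) i : ℕ) : ℤ) = ∑ i, γ i - ∑ i, α i := by
        rw [← Finset.sum_sub_distrib]
        refine Finset.sum_congr rfl fun i _ => ?_
        simp only [natPart_apply, Pi.sub_apply]
        have := h1 i
        omega
      have h5 : (r : ℤ) ≤ ∑ i, ((natPart (γ - α) i : ℕ) : ℤ) := by rw [h4]; linarith
      exact_mod_cast h5
    · rintro ⟨hnn, hmem⟩
      rw [mem_exps_pow, Finsupp.degree_eq_sum] at hmem
      rcases h3 with ⟨i, hi⟩ | hlt
      · exact absurd (hnn i) (not_le.mpr hi)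
      · have h2 : ∑ i, ((natPart γ i : ℕ) : ℤ) = ∑ i, γ i :=
          Finset.sum_congr rfl fun i _ => by
            rw [natPart_apply, Int.toNat_of_nonneg (hnn i)]
        have h6 : (r : ℤ) ≤ ∑ i, ((natPart γ i : ℕ) : ℤ) := by exact_mod_cast hmem
        rw [h2] at h6
        omega

noncomputable abbrev Ir (k : Type u) [Field k] (n r : ℕ) : Ideal (MvPolynomial (Fin n) k) := (mI k n) ^ r

lemma nonneg_sum_lt {v : ↥(region (Ir k n r) α)} (hv : ∀ i, 0 ≤ v.1 i) :
    ∑ i, v.1 i < r := by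
  rcases (mem_region_pow.mp v.2).2.2 with ⟨i, hi⟩ | h
  · exact absurd (hv i) (not_le.mpr hi)
  · exact h

lemma isEmpty_BC_of_nonneg (hn : 2 ≤ n) (hs : 0 ≤ ∑ i, α i) : IsEmpty (BC (Ir k n r) α) := by
  constructor
  intro c
  obtain ⟨v, hv⟩ := c.1.exists_rep
  have hnn := (supp_finite_iff hn (isMonomial_pow r) c.1).mp c.2 v hv
  have h1 := nonneg_sum_lt hnn
  have h2 := (mem_region_pow.mp v.2).2.1
  omega

lemma exists_ne (hn : 2 ≤ n) (i : Fin n) : ∃ j : Fin n, j ≠ i := by
  by_cases h0 : i = ⟨0, by omega⟩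
  · exact ⟨⟨1, by omega⟩, by rw [h0]; simp [Fin.ext_iff]⟩
  · exact ⟨⟨0, by omega⟩, Ne.symm h0⟩

lemma mem_region_sub_ez {γ : Fin n → ℤ} (hγ : γ ∈ region (Ir k n r) α) {i : Fin n}
    (hi : α i < 0) (h0 : 0 ≤ γ i) (hsum : (r : ℤ) + ∑ l, α l + 1 ≤ ∑ l, γ l)
    (hle : ∑ l, γ l ≤ r) : γ - ez i ∈ region (Ir k n r) α := by
  rw [mem_region_pow] at hγ ⊢
  refine ⟨fun l => ?_, ?_, Or.inr ?_⟩
  · by_cases hl : l = i
    · subst hl; simp [ez]; omega
    · have := hγ.1 l; simp [ez, hl]; omega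
  · rw [sum_sub_ez]; omega
  · rw [sum_sub_ez]; omega

lemma mem_region_add_ez {γ : Fin n → ℤ} (hγ : γ ∈ region (Ir k n r) α) (j : Fin n)
    (hlt : ∑ l, γ l + 1 < r) : γ + ez j ∈ region (Ir k n r) α := by
  rw [mem_region_pow] at hγ ⊢
  refine ⟨fun l => ?_, ?_, Or.inr ?_⟩
  · by_cases hl : l = j
    · subst hl; have := hγ.1 l; simp [ez]; omega
    · have := hγ.1 l; simp [ez, hl]; omega
  · rw [sum_add_ez]; omega
  · rw [sum_add_ez]; omega

lemma exists_reachable_neg (hn : 2 ≤ n) (hs : ∑ i, α i ≤ -2) {i : Fin n} (hi : α i < 0) :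
    ∀ t : ℕ, ∀ v : ↥(region (Ir k n r) α), (∀ l, 0 ≤ v.1 l) → v.1 i = t →
      ∃ v' : ↥(region (Ir k n r) α), (RG (Ir k n r) α).Reachable v v' ∧ v'.1 i < 0 := by
  obtain ⟨j, hj⟩ := exists_ne hn i
  -- one step lemma
  have step : ∀ v : ↥(region (Ir k n r) α), (∀ l, 0 ≤ v.1 l) →
      ∃ v'' : ↥(region (Ir k n r) α), (RG (Ir k n r) α).Reachable v v'' ∧
        v''.1 i = v.1 i - 1 ∧ ∀ l, l ≠ i → 0 ≤ v''.1 l := by
    intro v hv
    have hlt := nonneg_sum_lt hv
    have hge := (mem_region_pow.mp v.2).2.1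
    by_cases hA : (r : ℤ) + ∑ l, α l + 1 ≤ ∑ l, v.1 l
    · have hmem := mem_region_sub_ez v.2 hi (hv i) hA (by omega)
      refine ⟨⟨_, hmem⟩, SimpleGraph.Adj.reachable ?_, ?_, ?_⟩
      · show (stepGraph (Fin n)).Adj v.1 (v.1 - ez i)
        have := (step_adj_add_ez (v.1 - ez i) i).symm
        rwa [sub_add_cancel] at this
      · simp [ez]
      · intro l hl; have := hv l; simp [ez, hl]; omega
    · push Not at hA
      have hu : v.1 + ez j ∈ region (Ir k n r) α := mem_region_add_ez v.2 j (by omega)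
      have hsu : ∑ l, (v.1 + ez j) l = ∑ l, v.1 l + 1 := sum_add_ez _ _
      have hmem : v.1 + ez j - ez i ∈ region (Ir k n r) α := by
        refine mem_region_sub_ez hu hi ?_ (by rw [hsu]; omega) (by rw [hsu]; omega)
        have := hv i; simp [ez, hj.symm]; omega
      refine ⟨⟨_, hmem⟩, ?_, ?_, ?_⟩
      · refine (SimpleGraph.Adj.reachable (v := (⟨_, hu⟩ : ↥(region (Ir k n r) α))) ?_).trans
          (SimpleGraph.Adj.reachable ?_)
        · show (stepGraph (Fin n)).Adj v.1 (v.1 + ez j)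
          exact step_adj_add_ez _ _
        · show (stepGraph (Fin n)).Adj (v.1 + ez j) (v.1 + ez j - ez i)
          have := (step_adj_add_ez (v.1 + ez j - ez i) i).symm
          rwa [sub_add_cancel] at this
      · simp [ez, hj.symm]
      · intro l hl
        have := hv l
        by_cases hlj : l = j
        · subst hlj; simp [ez, hl]; omega
        · simp [ez, hl, hlj]; omega
  intro t
  induction t with
  | zero =>
    intro v hv hvi
    obtain ⟨v'', hr, h1, -⟩ := step v hv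
    exact ⟨v'', hr, by rw [h1, hvi]; simp⟩
  | succ t ih =>
    intro v hv hvi
    obtain ⟨v'', hr, h1, h2⟩ := step v hv
    have h3 : v''.1 i = t := by rw [h1, hvi]; push_cast; ring
    have hv'' : ∀ l, 0 ≤ v''.1 l := by
      intro l
      by_cases hl : l = i
      · subst hl; rw [h3]; positivity
      · exact h2 l hl
    obtain ⟨v', hr', hneg⟩ := ih v'' hv'' h3
    exact ⟨v', hr.trans hr', hneg⟩

lemma isEmpty_BC_of_le (hn : 2 ≤ n) (hs : ∑ i, α i ≤ -2) : IsEmpty (BC (Ir k n r) α) := by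
  constructor
  intro c
  obtain ⟨v, hv⟩ := c.1.exists_rep
  have hnnall := (supp_finite_iff hn (isMonomial_pow r) c.1).mp c.2
  have hnn := hnnall v hv
  obtain ⟨i, hi⟩ : ∃ i, α i < 0 := by
    by_contra hcon
    push Not at hcon
    have : 0 ≤ ∑ i, α i := Finset.sum_nonneg fun i _ => hcon i
    omega
  obtain ⟨v', hr, hneg⟩ := exists_reachable_neg hn hs hi (v.1 i).toNat v hnn
    (Int.toNat_of_nonneg (hnn i)).symm
  have hv' : v' ∈ c.1.supp := by
    show (RG (Ir k n r) α).connectedComponentMk v' = c.1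
    rw [← hv]
    exact (SimpleGraph.ConnectedComponent.sound hr).symm
  exact absurd (hnnall v' hv' i) (not_le.mpr hneg)

lemma no_adj_of_nonneg (hs : ∑ i, α i = -1) (v c : ↥(region (Ir k n r) α))
    (hv : ∀ i, 0 ≤ v.1 i) : ¬ (RG (Ir k n r) α).Adj v c := by
  intro hadj
  have hadj' : (stepGraph (Fin n)).Adj v.1 c.1 := hadj
  have hvlt := nonneg_sum_lt hv
  have hvge := (mem_region_pow.mp v.2).2.1
  obtain ⟨i, hi | hi⟩ := step_adj_cases hadj'
  · have hc := (mem_region_pow.mp c.2).2.2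
    have hsum : ∑ l, c.1 l = ∑ l, v.1 l + 1 := by rw [hi, sum_add_ez]
    rcases hc with ⟨l, hl⟩ | hlt
    · have h1 := hv l
      rw [hi] at hl
      by_cases hli : l = i
      · subst hli; simp [ez] at hl; omega
      · simp [ez, hli] at hl; omega
    · omega
  · have hc := (mem_region_pow.mp c.2).2.1
    have hsum : ∑ l, v.1 l = ∑ l, c.1 l + 1 := by rw [hi, sum_add_ez]
    omega

lemma eq_of_reachable (hs : ∑ i, α i = -1) (v v' : ↥(region (Ir k n r) α))
    (hv : ∀ i, 0 ≤ v.1 i) (h : (RG (Ir k n r) α).Reachable v v') : v' = v := by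
  rw [SimpleGraph.reachable_iff_reflTransGen] at h
  rcases Relation.ReflTransGen.cases_head h with h | ⟨c, hc, -⟩
  · exact h.symm
  · exact absurd hc (no_adj_of_nonneg hs v c hv)

end region

section count
variable {r : ℕ} {α : Fin n → ℤ}

lemma sum_pos_part (α : Fin n → ℤ) :
    ∑ i, max (α i) 0 = ∑ i, α i + ∑ i, ((-α i).toNat : ℤ) := by
  rw [← Finset.sum_add_distrib]
  refine Finset.sum_congr rfl fun i _ => ?_
  omega

/-- The vertex attached to a composition. -/
def gam (α : Fin n → ℤ) (f : Fin n →₀ ℕ) : Fin n → ℤ := fun i => (f i : ℤ) + max (α i) 0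

lemma sum_gam (α : Fin n → ℤ) (f : Fin n →₀ ℕ) :
    ∑ i, gam α f i = ((∑ i, f i : ℕ) : ℤ) + ∑ i, α i + ∑ i, ((-α i).toNat : ℤ) := by
  simp only [gam, Finset.sum_add_distrib, sum_pos_part]
  push_cast
  ring

lemma gam_nonneg (α : Fin n → ℤ) (f : Fin n →₀ ℕ) (i : Fin n) : 0 ≤ gam α f i := by
  simp only [gam]; omega

lemma gam_mem (hs : ∑ i, α i = -1) (hw : ∑ i, (-α i).toNat ≤ r) {f : Fin n →₀ ℕ}
    (hf : f ∈ (Finset.univ : Finset (Fin n)).finsuppAntidiag (r - ∑ i, (-α i).toNat)) :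
    gam α f ∈ region (Ir k n r) α := by
  rw [Finset.mem_finsuppAntidiag] at hf
  have hsum := sum_gam α f
  rw [hf.1, hs] at hsum
  have hw' : ((∑ i, (-α i).toNat : ℕ) : ℤ) ≤ r := by exact_mod_cast hw
  push_cast at hsum hw'
  rw [Nat.cast_sub hw] at hsum
  push_cast at hsum
  rw [mem_region_pow]
  refine ⟨fun i => ?_, ?_, Or.inr ?_⟩
  · simp only [gam]; omega
  · rw [hs, hsum]; omega
  · rw [hsum]; omega

lemma finite_comp_of_nonneg (hn : 2 ≤ n) (hs : ∑ i, α i = -1) (v : ↥(region (Ir k n r) α))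
    (hv : ∀ i, 0 ≤ v.1 i) : ((RG (Ir k n r) α).connectedComponentMk v).supp.Finite := by
  rw [supp_finite_iff hn (isMonomial_pow r)]
  intro v' hv' i
  have hreach : (RG (Ir k n r) α).Reachable v v' :=
    (SimpleGraph.ConnectedComponent.exact hv').symm
  rw [eq_of_reachable hs v v' hv hreach]
  exact hv i

/-- The bijection between compositions and bounded components. -/
noncomputable def G (hn : 2 ≤ n) (hs : ∑ i, α i = -1) (hw : ∑ i, (-α i).toNat ≤ r)
    (f : ↥((Finset.univ : Finset (Fin n)).finsuppAntidiag (r - ∑ i, (-α i).toNat))) :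
    BC (Ir k n r) α :=
  ⟨(RG (Ir k n r) α).connectedComponentMk ⟨gam α f.1, gam_mem hs hw f.2⟩,
    finite_comp_of_nonneg hn hs _ (gam_nonneg α f.1)⟩

lemma G_bijective (hn : 2 ≤ n) (hs : ∑ i, α i = -1) (hw : ∑ i, (-α i).toNat ≤ r) :
    Function.Bijective (G (k := k) hn hs hw) := by
  constructor
  · intro f f' h
    have h1 : (RG (Ir k n r) α).connectedComponentMk ⟨gam α f.1, gam_mem hs hw f.2⟩ =
        (RG (Ir k n r) α).connectedComponentMk ⟨gam α f'.1, gam_mem hs hw f'.2⟩ :=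
      congrArg Subtype.val h
    have h2 := eq_of_reachable hs _ _ (gam_nonneg α f.1) (SimpleGraph.ConnectedComponent.exact h1)
    have h3 : gam α f'.1 = gam α f.1 := congrArg Subtype.val h2
    apply Subtype.ext
    ext i
    have := congrFun h3 i
    simp only [gam] at this
    omega
  · intro c
    obtain ⟨v, hv⟩ := c.1.exists_rep
    have hnn := (supp_finite_iff hn (isMonomial_pow r) c.1).mp c.2 v hv
    have hlt := nonneg_sum_lt hnn
    have hreg := mem_region_pow.mp v.2
    have hge := hreg.2.1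
    rw [hs] at hge
    have hsumv : ∑ i, v.1 i = (r : ℤ) - 1 := by omega
    have hfi : ∀ i, ((natPart (v.1 - fun i => max (α i) 0) i : ℕ) : ℤ) = v.1 i - max (α i) 0 := by
      intro i
      simp only [natPart_apply, Pi.sub_apply]
      have h1 := hnn i
      have h2 := hreg.1 i
      omega
    have hgam : gam α (natPart (v.1 - fun i => max (α i) 0)) = v.1 := by
      funext i
      simp only [gam]
      rw [hfi i]; ring
    have hmem : natPart (v.1 - fun i => max (α i) 0) ∈
        (Finset.univ : Finset (Fin n)).finsuppAntidiag (r - ∑ i, (-α i).toNat) := by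
      rw [Finset.mem_finsuppAntidiag]
      refine ⟨?_, Finset.subset_univ _⟩
      have h1 : ((∑ i, natPart (v.1 - fun i => max (α i) 0) i : ℕ) : ℤ) =
          ((r - ∑ i, (-α i).toNat : ℕ) : ℤ) := by
        rw [Nat.cast_sub hw]
        push_cast
        rw [Finset.sum_congr rfl fun i _ => hfi i, Finset.sum_sub_distrib, sum_pos_part, hs, hsumv]
        ring
      exact_mod_cast h1
    refine ⟨⟨_, hmem⟩, ?_⟩
    apply Subtype.ext
    show (RG (Ir k n r) α).connectedComponentMk _ = c.1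
    rw [← hv]
    congr 1
    exact Subtype.ext hgam

theorem nBddComp_pow (hn : 2 ≤ n) (r : ℕ) (α : Fin n → ℤ) :
    nBddComp (Ir k n r) α = if (∑ i, α i = -1 ∧ ∑ i, (-α i).toNat ≤ r)
        then Nat.choose (n + r - (∑ i, (-α i).toNat) - 1) (n - 1) else 0 := by
  show Nat.card (BC (Ir k n r) α) = _
  split_ifs with h
  · obtain ⟨hs, hw⟩ := h
    rw [← Nat.card_eq_of_bijective _ (G_bijective (k := k) hn hs hw)]
    rw [Nat.card_eq_fintype_card, Fintype.card_coe, Finset.card_finsuppAntidiag_nat_eq_choose,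
      Finset.card_univ, Fintype.card_fin]
    have e : n + r - (∑ i, (-α i).toNat) - 1 = n + (r - ∑ i, (-α i).toNat) - 1 := by omega
    rw [e]
    apply Nat.choose_symm_of_eq_add
    omega
  · rcases lt_trichotomy (∑ i, α i) (-1) with hlt | heq | hgt
    · have := isEmpty_BC_of_le (k := k) (r := r) hn (show ∑ i, α i ≤ -2 by omega)
      exact Nat.card_of_isEmpty
    · have : IsEmpty (BC (Ir k n r) α) := by
        constructor
        intro c
        apply h
        refine ⟨heq, ?_⟩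
        obtain ⟨v, hv⟩ := c.1.exists_rep
        have hnn := (supp_finite_iff hn (isMonomial_pow r) c.1).mp c.2 v hv
        have hlt := nonneg_sum_lt hnn
        have hreg := mem_region_pow.mp v.2
        have h1 : ∑ i, max (α i) 0 ≤ ∑ i, v.1 i :=
          Finset.sum_le_sum fun i _ => max_le (hreg.1 i) (hnn i)
        rw [sum_pos_part, heq] at h1
        have h2 : ((∑ i, (-α i).toNat : ℕ) : ℤ) ≤ r := by push_cast; omega
        exact_mod_cast h2
      exact Nat.card_of_isEmpty
    · have := isEmpty_BC_of_nonneg (k := k) (r := r) hn (show 0 ≤ ∑ i, α i by omega)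
      exact Nat.card_of_isEmpty

theorem finrank_tPiece_pow (hn : 2 ≤ n) (r : ℕ) (α : Fin n → ℤ) :
    Module.finrank k ↥(tPiece (Ir k n r) α) = if (∑ i, α i = -1 ∧ ∑ i, (-α i).toNat ≤ r)
        then Nat.choose (n + r - (∑ i, (-α i).toNat) - 1) (n - 1) else 0 := by
  rw [finrank_tPiece hn (isMonomial_pow r), nBddComp_pow hn]

end count

end Groth.Agent.Lib.Helper92.HilbTgtPow
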