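import Mathlib
import Groth.Prelude.Def_W4c1hilbpnTgt
import Groth.Agent.Lib.Helper92.HilbTgt
import Groth.Agent.Lib.Helper92.HilbTgtPow
import Groth.Agent.Lib.Helper92.HilbTgtDecomp

/-!
# Dimension of the sign-pattern pieces of `T(m^r)` in three variables (helper92)
-/

namespace Groth.Agent.Lib.Helper92.HilbTgtPow3
set_option linter.unusedSectionVars false
open MvPolynomial W4c1hilbpn Groth.Agent.Lib.Helper92.HilbTgt Groth.Agent.Lib.Helper92.HilbTgtPow
  Groth.Agent.Lib.Helper92.HilbTgtDecomp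

universe u

section linalg
variable {k : Type*} [Field k] {V : Type*} [AddCommGroup V] [Module k V] {ι : Type*}

lemma finrank_biSup_of_indep (M : ι → Submodule k V) (hM : iSupIndep M)
    (hfin : ∀ i, Module.Finite k (M i)) (B : Finset ι) :
    Module.Finite k ↥(⨆ i ∈ B, M i) ∧
      Module.finrank k ↥(⨆ i ∈ B, M i) = ∑ i ∈ B, Module.finrank k (M i) := by
  classical
  induction B using Finset.induction_on with
  | empty =>
    rw [show (⨆ i ∈ (∅ : Finset ι), M i) = ⊥ by simp, Finset.sum_empty]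
    exact ⟨inferInstance, finrank_bot k V⟩
  | insert a B ha ih =>
    obtain ⟨h1, h2⟩ := ih
    have := hfin a
    rw [Finset.iSup_insert]
    have hdisj : Disjoint (M a) (⨆ i ∈ B, M i) :=
      hM.disjoint_biSup (y := (B : Set ι)) (by simpa using ha)
    refine ⟨inferInstance, ?_⟩
    have h3 := Submodule.finrank_sup_add_finrank_inf_eq (M a) (⨆ i ∈ B, M i)
    rw [hdisj.eq_bot, finrank_bot, add_zero] at h3
    rw [h3, h2, Finset.sum_insert ha]

lemma finrank_biSup_comp (M : ι → Submodule k V) (hM : iSupIndep M)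
    (hfin : ∀ i, Module.Finite k (M i)) {Y : Type*} (f : Y → ι) (Q : Finset Y)
    (hf : Set.InjOn f (Q : Set Y)) :
    Module.finrank k ↥(⨆ y ∈ Q, M (f y)) = ∑ y ∈ Q, Module.finrank k (M (f y)) := by
  classical
  have h := (finrank_biSup_of_indep M hM hfin (Q.image f)).2
  rw [Finset.iSup_finset_image, Finset.sum_image hf] at h
  exact h

end linalg

section general
variable {k : Type u} [Field k] {n : ℕ} {I : Ideal (MvPolynomial (Fin n) k)}

lemma finite_tPiece (hn : 2 ≤ n) (hI : IsMonomial I)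
    [Module.Finite k (MvPolynomial (Fin n) k ⧸ I)] (α : Fin n → ℤ) :
    Module.Finite k ↥(tPiece I α) := by
  have e : (BC I α → k) ≃ₗ[k] ↥(tPiece I α) :=
    LinearEquiv.ofBijective (Psi hn hI) ⟨Psi_injective hn hI, Psi_surjective hn hI⟩
  have : Finite (BC I α) := finite_BC hn hI
  exact Module.Finite.equiv e

end general

section sums

/-- hockey stick -/
lemma sumG (r : ℕ) : ∑ t ∈ Finset.range r, (t + 2).choose 2 = (r + 2).choose 3 := by
  cases r with
  | zero => simp
  | succ r => exact Nat.sum_range_add_choose r 2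

lemma sumF (r : ℕ) : ∑ t ∈ Finset.range r, (r - t) * (t + 2).choose 2 = (r + 3).choose 4 := by
  induction r with
  | zero => simp
  | succ r ih =>
    rw [Finset.sum_range_succ]
    have h1 : ∑ t ∈ Finset.range r, (r + 1 - t) * (t + 2).choose 2 =
        ∑ t ∈ Finset.range r, (r - t) * (t + 2).choose 2 +
          ∑ t ∈ Finset.range r, (t + 2).choose 2 := by
      rw [← Finset.sum_add_distrib]
      refine Finset.sum_congr rfl fun t ht => ?_
      have : t < r := Finset.mem_range.mp ht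
      have e : r + 1 - t = (r - t) + 1 := by omega
      rw [e]; ring
    rw [h1, ih, sumG]
    have e2 : r + 1 - r = 1 := by omega
    rw [e2, one_mul]
    have p1 : (r + 1 + 3).choose 4 = (r + 3).choose 3 + (r + 3).choose 4 := by
      rw [show r + 1 + 3 = (r + 3) + 1 by ring, Nat.choose_succ_succ' (r + 3) 3]
    have p2 : (r + 3).choose 3 = (r + 2).choose 2 + (r + 2).choose 3 := by
      rw [show r + 3 = (r + 2) + 1 by ring, Nat.choose_succ_succ' (r + 2) 2]
    omega

lemma sumF_sigma (R : ℕ) :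
    ∑ y ∈ (Finset.range R).sigma (fun t => Finset.range (R - t)), (y.1 + 2).choose 2 =
      (R + 3).choose 4 := by
  rw [Finset.sum_sigma, ← sumF R]
  refine Finset.sum_congr rfl fun t _ => ?_
  show ∑ _s ∈ Finset.range (R - t), (t + 2).choose 2 = _
  rw [Finset.sum_const, Finset.card_range, smul_eq_mul]

lemma key4 (n : ℕ) : 24 * n.choose 4 = n * (n-1) * (n-2) * (n-3) := by
  have h := Nat.descFactorial_eq_factorial_mul_choose n 4
  simp [Nat.descFactorial, Nat.factorial] at h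
  rw [← h]; ring

lemma key2 (n : ℕ) : 2 * n.choose 2 = n * (n-1) := by
  have h := Nat.descFactorial_eq_factorial_mul_choose n 2
  simp [Nat.descFactorial, Nat.factorial] at h
  rw [← h]; ring

lemma total_identity (r : ℕ) :
    3 * (r + 3).choose 4 + 3 * (r - 1 + 3).choose 4 = (r + 2).choose 2 * (r + 1).choose 2 := by
  cases r with
  | zero => decide
  | succ s =>
    have a1 : 24 * (s + 1 + 3).choose 4 = (s + 1 + 3) * (s + 3) * (s + 2) * (s + 1) := by
      have h := key4 (s + 1 + 3)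
      rw [show s + 1 + 3 - 1 = s + 3 by omega, show s + 1 + 3 - 2 = s + 2 by omega,
        show s + 1 + 3 - 3 = s + 1 by omega] at h
      exact h
    have a2 : 24 * (s + 1 - 1 + 3).choose 4 = (s + 3) * (s + 2) * (s + 1) * s := by
      have h := key4 (s + 1 - 1 + 3)
      rw [show s + 1 - 1 + 3 - 1 = s + 2 by omega, show s + 1 - 1 + 3 - 2 = s + 1 by omega,
        show s + 1 - 1 + 3 - 3 = s by omega, show s + 1 - 1 + 3 = s + 3 by omega] at h
      rw [show s + 1 - 1 + 3 = s + 3 by omega]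
      exact h
    have a3 : 2 * (s + 1 + 2).choose 2 = (s + 1 + 2) * (s + 2) := by
      have h := key2 (s + 1 + 2)
      rw [show s + 1 + 2 - 1 = s + 2 by omega] at h
      exact h
    have a4 : 2 * (s + 1 + 1).choose 2 = (s + 1 + 1) * (s + 1) := by
      have h := key2 (s + 1 + 1)
      rw [show s + 1 + 1 - 1 = s + 1 by omega] at h
      exact h
    have : 24 * (3 * (s + 1 + 3).choose 4 + 3 * (s + 1 - 1 + 3).choose 4) =
        24 * ((s + 1 + 2).choose 2 * (s + 1 + 1).choose 2) := by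
      have l : 24 * (3 * (s + 1 + 3).choose 4 + 3 * (s + 1 - 1 + 3).choose 4) =
          3 * (24 * (s + 1 + 3).choose 4) + 3 * (24 * (s + 1 - 1 + 3).choose 4) := by ring
      have rr : 24 * ((s + 1 + 2).choose 2 * (s + 1 + 1).choose 2) =
          6 * ((2 * (s + 1 + 2).choose 2) * (2 * (s + 1 + 1).choose 2)) := by ring
      rw [l, rr, a1, a2, a3, a4]; ring
    exact Nat.eq_of_mul_eq_mul_left (by norm_num) this

end sums

section three

/-- The vector with entries `x, y, z` at positions `i, i+1, i+2`. -/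
def vec (i : Fin 3) (x y z : ℤ) : Fin 3 → ℤ :=
  fun m => if m = i then x else if m = i + 1 then y else z

lemma succ_ne (i : Fin 3) : i + 1 ≠ i := by fin_cases i <;> decide
lemma succ2_ne (i : Fin 3) : i + 2 ≠ i := by fin_cases i <;> decide
lemma succ2_ne_succ (i : Fin 3) : i + 2 ≠ i + 1 := by fin_cases i <;> decide
lemma cases3 (i m : Fin 3) : m = i ∨ m = i + 1 ∨ m = i + 2 := by
  fin_cases i <;> fin_cases m <;> decide

lemma vec_self (i : Fin 3) (x y z : ℤ) : vec i x y z i = x := by simp [vec]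
lemma vec_succ (i : Fin 3) (x y z : ℤ) : vec i x y z (i + 1) = y := by
  simp [vec, succ_ne i]
lemma vec_succ2 (i : Fin 3) (x y z : ℤ) : vec i x y z (i + 2) = z := by
  simp [vec, succ2_ne i, succ2_ne_succ i]

lemma eq_vec (i : Fin 3) (α : Fin 3 → ℤ) : α = vec i (α i) (α (i + 1)) (α (i + 2)) := by
  funext m
  rcases cases3 i m with rfl | rfl | rfl
  · rw [vec_self]
  · rw [vec_succ]
  · rw [vec_succ2]

lemma sum_comp_vec {A : Type*} [AddCommMonoid A] (f : ℤ → A) (i : Fin 3) (x y z : ℤ) :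
    ∑ m, f (vec i x y z m) = f x + f y + f z := by
  fin_cases i <;> simp [vec, Fin.sum_univ_three] <;> abel

lemma sum_of_eq_vec (i : Fin 3) (α : Fin 3 → ℤ) :
    ∑ m, α m = α i + α (i + 1) + α (i + 2) := by
  conv_lhs => rw [eq_vec i α]
  exact sum_comp_vec (fun x => x) i _ _ _

lemma wsum_of_eq_vec (i : Fin 3) (α : Fin 3 → ℤ) :
    ∑ m, (-α m).toNat = (-α i).toNat + (-α (i + 1)).toNat + (-α (i + 2)).toNat := by
  conv_lhs => rw [eq_vec i α]
  exact sum_comp_vec (fun x => (-x).toNat) i _ _ _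

/-- The multidegrees: `b = false`: negative exactly at `i`; `b = true`: negative exactly off `i`. -/
def bet (r : ℕ) (i : Fin 3) (b : Bool) (y : Σ _ : ℕ, ℕ) : Fin 3 → ℤ :=
  if b = true then
    vec i (((r - y.1 - 1 : ℕ) : ℤ)) (-((y.2 + 1 : ℕ) : ℤ)) (-((r - y.1 - (y.2 + 1) : ℕ) : ℤ))
  else vec i (-((r - y.1 : ℕ) : ℤ)) (y.2 : ℤ) ((r - y.1 - 1 - y.2 : ℕ) : ℤ)

/-- The index sets. -/
def Pset (r : ℕ) (b : Bool) : Finset (Σ _ : ℕ, ℕ) :=
  (Finset.range (r - (if b = true then 1 else 0))).sigma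
    (fun t => Finset.range (r - (if b = true then 1 else 0) - t))

lemma mem_Pset_false {r : ℕ} {y : Σ _ : ℕ, ℕ} : y ∈ Pset r false ↔ y.1 < r ∧ y.2 < r - y.1 := by
  simp [Pset]

lemma mem_Pset_true {r : ℕ} {y : Σ _ : ℕ, ℕ} :
    y ∈ Pset r true ↔ y.1 < r - 1 ∧ y.2 < r - 1 - y.1 := by
  simp [Pset]

lemma bet_i_false (r : ℕ) (i : Fin 3) (y : Σ _ : ℕ, ℕ) :
    bet r i false y i = -((r - y.1 : ℕ) : ℤ) := by simp [bet, vec_self]
lemma bet_j_false (r : ℕ) (i : Fin 3) (y : Σ _ : ℕ, ℕ) :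
    bet r i false y (i + 1) = (y.2 : ℤ) := by simp [bet, vec_succ]
lemma bet_l_false (r : ℕ) (i : Fin 3) (y : Σ _ : ℕ, ℕ) :
    bet r i false y (i + 2) = ((r - y.1 - 1 - y.2 : ℕ) : ℤ) := by simp [bet, vec_succ2]
lemma bet_i_true (r : ℕ) (i : Fin 3) (y : Σ _ : ℕ, ℕ) :
    bet r i true y i = ((r - y.1 - 1 : ℕ) : ℤ) := by simp [bet, vec_self]
lemma bet_j_true (r : ℕ) (i : Fin 3) (y : Σ _ : ℕ, ℕ) :
    bet r i true y (i + 1) = -((y.2 + 1 : ℕ) : ℤ) := by simp [bet, vec_succ]
lemma bet_l_true (r : ℕ) (i : Fin 3) (y : Σ _ : ℕ, ℕ) :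
    bet r i true y (i + 2) = -((r - y.1 - (y.2 + 1) : ℕ) : ℤ) := by simp [bet, vec_succ2]

lemma bet_props {r : ℕ} (i : Fin 3) {b : Bool} {y : Σ _ : ℕ, ℕ} (hy : y ∈ Pset r b) :
    ∑ m, bet r i b y m = -1 ∧ ∑ m, (-bet r i b y m).toNat = r - y.1 := by
  rw [sum_of_eq_vec i, wsum_of_eq_vec i]
  cases b with
  | false =>
    rw [mem_Pset_false] at hy
    rw [bet_i_false, bet_j_false, bet_l_false]
    constructor <;> omega
  | true =>
    rw [mem_Pset_true] at hy
    rw [bet_i_true, bet_j_true, bet_l_true]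
    constructor <;> omega

lemma bet_sign {r : ℕ} (i : Fin 3) {b : Bool} {y : Σ _ : ℕ, ℕ} (hy : y ∈ Pset r b) (m : Fin 3) :
    bet r i b y m < 0 ↔ (if b = true then m ≠ i else m = i) := by
  cases b with
  | false =>
    rw [mem_Pset_false] at hy
    rcases cases3 i m with rfl | rfl | rfl
    · rw [bet_i_false]; simp; omega
    · rw [bet_j_false]; simp [succ_ne]
    · rw [bet_l_false]; simp [succ2_ne]
  | true =>
    rw [mem_Pset_true] at hy
    rcases cases3 i m with rfl | rfl | rfl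
    · rw [bet_i_true]; simp
    · rw [bet_j_true]; simp [succ_ne]; omega
    · rw [bet_l_true]; simp [succ2_ne]; omega

lemma sign_inj : ∀ i i' : Fin 3, ∀ b b' : Bool,
    (∀ m : Fin 3, (if b = true then m ≠ i else m = i) ↔ (if b' = true then m ≠ i' else m = i')) →
      i = i' ∧ b = b' := by decide

lemma bet_inj {r : ℕ} {i i' : Fin 3} {b b' : Bool} {y y' : Σ _ : ℕ, ℕ} (hy : y ∈ Pset r b)
    (hy' : y' ∈ Pset r b') (h : bet r i b y = bet r i' b' y') : i = i' ∧ b = b' ∧ y = y' := by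
  obtain ⟨rfl, rfl⟩ := sign_inj i i' b b' fun m => by
    rw [← bet_sign i hy m, ← bet_sign i' hy' m, h]
  refine ⟨rfl, rfl, ?_⟩
  have h1 := congrFun h i
  have h2 := congrFun h (i + 1)
  cases b with
  | false =>
    rw [mem_Pset_false] at hy hy'
    rw [bet_i_false, bet_i_false] at h1
    rw [bet_j_false, bet_j_false] at h2
    exact Sigma.ext (by omega) (heq_of_eq (by omega))
  | true =>
    rw [mem_Pset_true] at hy hy'
    rw [bet_i_true, bet_i_true] at h1
    rw [bet_j_true, bet_j_true] at h2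
    exact Sigma.ext (by omega) (heq_of_eq (by omega))

lemma exists_bet {r : ℕ} (i : Fin 3) (b : Bool) (α : Fin 3 → ℤ)
    (hsign : ∀ m, α m < 0 ↔ (if b = true then m ≠ i else m = i))
    (hs : ∑ m, α m = -1) (hw : ∑ m, (-α m).toNat ≤ r) :
    ∃ y ∈ Pset r b, α = bet r i b y := by
  rw [sum_of_eq_vec i] at hs
  rw [wsum_of_eq_vec i] at hw
  have s0 := hsign i
  have s1 := hsign (i + 1)
  have s2 := hsign (i + 2)
  have hα := eq_vec i α
  generalize α i = x at hα hs hw s0
  generalize α (i + 1) = Y at hα hs hw s1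
  generalize α (i + 2) = Z at hα hs hw s2
  rw [hα]
  cases b with
  | false =>
    simp only [Bool.false_eq_true, if_false, succ_ne, succ2_ne, iff_false, iff_true,
      not_lt] at s0 s1 s2
    refine ⟨⟨r - (-x).toNat, Y.toNat⟩, mem_Pset_false.mpr ⟨?_, ?_⟩, ?_⟩
    · show r - (-x).toNat < r
      omega
    · show Y.toNat < r - (r - (-x).toNat)
      omega
    · unfold bet
      rw [if_neg (by simp)]
      congr 1
      · show x = -((r - (r - (-x).toNat) : ℕ) : ℤ)
        omega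
      · show Y = ((Y.toNat : ℕ) : ℤ)
        omega
      · show Z = ((r - (r - (-x).toNat) - 1 - Y.toNat : ℕ) : ℤ)
        omega
  | true =>
    simp only [if_true, ne_eq, not_true_eq_false, succ_ne, succ2_ne, not_false_eq_true,
      iff_false, iff_true, not_lt] at s0 s1 s2
    refine ⟨⟨r - ((-Y).toNat + (-Z).toNat), (-Y).toNat - 1⟩,
      mem_Pset_true.mpr ⟨?_, ?_⟩, ?_⟩
    · show r - ((-Y).toNat + (-Z).toNat) < r - 1
      omega
    · show (-Y).toNat - 1 < r - 1 - (r - ((-Y).toNat + (-Z).toNat))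
      omega
    · unfold bet
      rw [if_pos rfl]
      congr 1
      · show x = ((r - (r - ((-Y).toNat + (-Z).toNat)) - 1 : ℕ) : ℤ)
        omega
      · show Y = -(((-Y).toNat - 1 + 1 : ℕ) : ℤ)
        omega
      · show Z = -((r - (r - ((-Y).toNat + (-Z).toNat)) - ((-Y).toNat - 1 + 1) : ℕ) : ℤ)
        omega

lemma sign_class (p : Fin 3 → Prop) (h1 : ∃ m, p m) (h2 : ∃ m, ¬ p m) :
    ∃ (i : Fin 3) (b : Bool), ∀ m, p m ↔ (if b = true then m ≠ i else m = i) := by
  by_cases c0 : p 0 <;> by_cases c1 : p 1 <;> by_cases c2 : p 2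
  · exfalso; obtain ⟨m, hm⟩ := h2; fin_cases m <;> simp_all
  · exact ⟨2, true, fun m => by fin_cases m <;> simp_all⟩
  · exact ⟨1, true, fun m => by fin_cases m <;> simp_all⟩
  · exact ⟨0, false, fun m => by fin_cases m <;> simp_all⟩
  · exact ⟨0, true, fun m => by fin_cases m <;> simp_all⟩
  · exact ⟨1, false, fun m => by fin_cases m <;> simp_all⟩
  · exact ⟨2, false, fun m => by fin_cases m <;> simp_all⟩
  · exfalso; obtain ⟨m, hm⟩ := h1; fin_cases m <;> simp_all

end three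

section assemble
variable {k : Type u} [Field k] (r : ℕ)

lemma tPiece_eq_bot_of_not (α : Fin 3 → ℤ)
    (h : ¬ (∑ m, α m = -1 ∧ ∑ m, (-α m).toNat ≤ r)) : tPiece (Ir k 3 r) α = ⊥ := by
  have := finite_tPiece (k := k) (by norm_num : 2 ≤ 3) (isMonomial_pow r) α
  rw [← Submodule.finrank_eq_zero, finrank_tPiece_pow (by norm_num) r α, if_neg h]

lemma fst_lt_of_mem {b : Bool} {y : Σ _ : ℕ, ℕ} (hy : y ∈ Pset r b) : y.1 < r := by
  cases b with
  | false => rw [mem_Pset_false] at hy; exact hy.1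
  | true => rw [mem_Pset_true] at hy; omega

lemma finrank_bet (i : Fin 3) {b : Bool} {y : Σ _ : ℕ, ℕ} (hy : y ∈ Pset r b) :
    Module.finrank k ↥(tPiece (Ir k 3 r) (bet r i b y)) = (y.1 + 2).choose 2 := by
  obtain ⟨hs, hw⟩ := bet_props i hy
  have ht := fst_lt_of_mem r hy
  rw [finrank_tPiece_pow (by norm_num) r, hs, hw, if_pos ⟨rfl, Nat.sub_le _ _⟩]
  have e : 3 + r - (r - y.1) - 1 = y.1 + 2 := by omega
  rw [e]

theorem sigPiece_eq (i : Fin 3) (b : Bool) :
    sigPiece (Ir k 3 r) {m | if b = true then m ≠ i else m = i} =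
      ⨆ y ∈ Pset r b, tPiece (Ir k 3 r) (bet r i b y) := by
  apply le_antisymm
  · refine iSup_le fun ⟨α, hα⟩ => ?_
    by_cases hc : (∑ m, α m = -1 ∧ ∑ m, (-α m).toNat ≤ r)
    · obtain ⟨y, hy, rfl⟩ := exists_bet i b α hα hc.1 hc.2
      exact le_biSup (fun y => tPiece (Ir k 3 r) (bet r i b y)) hy
    · show tPiece (Ir k 3 r) α ≤ _
      rw [tPiece_eq_bot_of_not r α hc]; exact bot_le
  · refine iSup₂_le fun y hy => ?_
    exact le_iSup (fun α' : {α' : Fin 3 → ℤ // ∀ m, α' m < 0 ↔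
        m ∈ ({m | if b = true then m ≠ i else m = i} : Set (Fin 3))} =>
      tPiece (Ir k 3 r) α'.1) ⟨bet r i b y, fun m => bet_sign i hy m⟩

theorem finrank_sigPiece (i : Fin 3) (b : Bool) :
    Module.finrank k ↥(sigPiece (Ir k 3 r) {m | if b = true then m ≠ i else m = i}) =
      (r - (if b = true then 1 else 0) + 3).choose 4 := by
  rw [sigPiece_eq]
  rw [finrank_biSup_comp (fun α => tPiece (Ir k 3 r) α) (iSupIndep_tPiece (isMonomial_pow r))
    (fun α => finite_tPiece (by norm_num) (isMonomial_pow r) α) (bet r i b) (Pset r b)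
    (fun y hy y' hy' h => (bet_inj hy hy' h).2.2)]
  rw [Finset.sum_congr rfl fun y hy => finrank_bet r i hy]
  exact sumF_sigma _

/-- All indices. -/
def Qtot (r : ℕ) : Finset (Σ _ : Fin 3, Σ _ : Bool, Σ _ : ℕ, ℕ) :=
  (Finset.univ : Finset (Fin 3)).sigma fun _ =>
    (Finset.univ : Finset Bool).sigma fun b => Pset r b

/-- The multidegree attached to an index. -/
def betq (r : ℕ) (q : Σ _ : Fin 3, Σ _ : Bool, Σ _ : ℕ, ℕ) : Fin 3 → ℤ :=
  bet r q.1 q.2.1 q.2.2

lemma mem_Qtot {r : ℕ} {q : Σ _ : Fin 3, Σ _ : Bool, Σ _ : ℕ, ℕ} :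
    q ∈ Qtot r ↔ q.2.2 ∈ Pset r q.2.1 := by
  simp [Qtot]

theorem top_eq : (⊤ : Submodule k (Tgt (Ir k 3 r))) =
    ⨆ q ∈ Qtot r, tPiece (Ir k 3 r) (betq r q) := by
  rw [← iSup_tPiece_eq_top (isMonomial_pow r)]
  apply le_antisymm
  · refine iSup_le fun α => ?_
    by_cases hc : (∑ m, α m = -1 ∧ ∑ m, (-α m).toNat ≤ r)
    · have h1 : ∃ m, α m < 0 := by
        by_contra hcon
        push Not at hcon
        have : 0 ≤ ∑ m, α m := Finset.sum_nonneg fun m _ => hcon m
        omega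
      have h2 : ∃ m, ¬ α m < 0 := by
        by_contra hcon
        push Not at hcon
        have h3 := hc.1
        rw [Fin.sum_univ_three] at h3
        have a0 := hcon 0
        have a1 := hcon 1
        have a2 := hcon 2
        omega
      obtain ⟨i, b, hsign⟩ := sign_class (fun m => α m < 0) h1 h2
      obtain ⟨y, hy, rfl⟩ := exists_bet i b α hsign hc.1 hc.2
      exact le_biSup (fun q => tPiece (Ir k 3 r) (betq r q))
        (show (⟨i, b, y⟩ : Σ _ : Fin 3, Σ _ : Bool, Σ _ : ℕ, ℕ) ∈ Qtot r from mem_Qtot.mpr hy)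
    · rw [tPiece_eq_bot_of_not r α hc]; exact bot_le
  · exact iSup₂_le fun q _ => le_iSup (fun α => tPiece (Ir k 3 r) α) (betq r q)

theorem finrank_tgt :
    Module.finrank k (Tgt (Ir k 3 r)) = (r + 2).choose 2 * (r + 1).choose 2 := by
  rw [← finrank_top k (Tgt (Ir k 3 r)), top_eq r]
  rw [finrank_biSup_comp (fun α => tPiece (Ir k 3 r) α) (iSupIndep_tPiece (isMonomial_pow r))
    (fun α => finite_tPiece (by norm_num) (isMonomial_pow r) α) (betq r) (Qtot r) ?_]
  · have hq : ∀ q ∈ Qtot r, Module.finrank k ↥(tPiece (Ir k 3 r) (betq r q)) =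
        (q.2.2.1 + 2).choose 2 := fun q hq => finrank_bet (k := k) r q.1 (mem_Qtot.mp hq)
    rw [Finset.sum_congr rfl hq]
    unfold Qtot
    rw [Finset.sum_sigma]
    simp only [Finset.sum_sigma]
    have hb : ∀ b : Bool, ∑ y ∈ Pset r b, (y.1 + 2).choose 2 =
        (r - (if b = true then 1 else 0) + 3).choose 4 := fun b => sumF_sigma _
    simp only [hb, Fintype.sum_bool, Finset.sum_const, Finset.card_univ, Fintype.card_fin,
      smul_eq_mul, if_true, Bool.false_eq_true, if_false, Nat.sub_zero]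
    have := total_identity r
    omega
  · intro q hq q' hq' h
    obtain ⟨h1, h2, h3⟩ := bet_inj (mem_Qtot.mp hq) (mem_Qtot.mp hq') h
    obtain ⟨i, b, y⟩ := q
    obtain ⟨i', b', y'⟩ := q'
    simp only at h1 h2 h3
    subst h1 h2 h3
    rfl

end assemble

end Groth.Agent.Lib.Helper92.HilbTgtPow3
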