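import Mathlib
import Groth.Agent.S18467
import Groth.Prelude.Def_W4c5ffgsreadingcourseOT

/-!
# Oort–Tate eigenspace decomposition (helper92)

Power maps `[n] = SGA3b.powConv R A n` on a commutative Hopf algebra: `powConv_comp` (`[m] ∘ [n] = [mn]`),
`counit_comp_powConv`, `powConv_mod` (when `[p] = 1`), the monoid hom `rho : (ZMod p)ˣ →* End_R A`,
the complete orthogonal idempotents `OortTate.proj … i` (`coi`), `rho_mul_proj`, and `main`
(= statement S18468).
-/

set_option autoImplicit false
universe u

namespace Groth.Agent.Lib.Helper92.OT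

open WithConv

variable (R : Type u) [CommRing R] (A : Type u) [CommRing A] [HopfAlgebra R A]

/-- the identity as an element of the convolution monoid -/
noncomputable abbrev T : WithConv (A →ₐ[R] A) := WithConv.toConv (AlgHom.id R A)

theorem comp_pow {B : Type u} [CommRing B] [Algebra R B] (h : A →ₐ[R] B) (n : ℕ) :
    h.comp ((T R A) ^ n).ofConv = WithConv.ofConv ((WithConv.toConv h) ^ n) := by
  induction n with
  | zero =>
    rw [pow_zero, pow_zero]
    ext a
    simp [AlgHom.convOne_def]
  | succ n ih =>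
    rw [pow_succ, pow_succ, AlgHom.comp_convMul_distrib, ih]
    rfl

theorem powConv_comp (m n : ℕ) :
    (SGA3b.powConv R A m).comp (SGA3b.powConv R A n) = SGA3b.powConv R A (m * n) := by
  unfold SGA3b.powConv
  rw [comp_pow, WithConv.toConv_ofConv, ← pow_mul]

theorem toConv_counit : WithConv.toConv (Bialgebra.counitAlgHom R A) = (1 : WithConv (A →ₐ[R] R)) := by
  rw [AlgHom.convOne_def]
  congr 1

theorem counit_comp_powConv (n : ℕ) :
    (Bialgebra.counitAlgHom R A).comp (SGA3b.powConv R A n) = Bialgebra.counitAlgHom R A := by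
  unfold SGA3b.powConv
  rw [comp_pow, toConv_counit, one_pow, ← toConv_counit, WithConv.ofConv_toConv]


section main

variable (p : ℕ) [Fact p.Prime] (hp : (WithConv.toConv (AlgHom.id R A)) ^ p = 1)

include hp in
theorem powConv_mod (n : ℕ) : SGA3b.powConv R A (n % p) = SGA3b.powConv R A n := by
  unfold SGA3b.powConv
  rw [← pow_eq_pow_mod n hp]

theorem powConv_one : SGA3b.powConv R A 1 = AlgHom.id R A := by
  unfold SGA3b.powConv
  rw [pow_one, WithConv.ofConv_toConv]

/-- the action of `(ℤ/p)ˣ` on `A` through the power maps -/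
noncomputable def rho : (ZMod p)ˣ →* Module.End R A where
  toFun m := (SGA3b.powConv R A (m : ZMod p).val).toLinearMap
  map_one' := by
    have : ((1 : (ZMod p)ˣ) : ZMod p).val = 1 := by
      rw [Units.val_one]
      have : Fact (1 < p) := ⟨(Fact.out : p.Prime).one_lt⟩
      exact ZMod.val_one p
    rw [this, powConv_one]
    rfl
  map_mul' m n := by
    rw [Units.val_mul, ZMod.val_mul, powConv_mod R A p hp, ← powConv_comp]
    rfl

theorem rho_apply (m : (ZMod p)ˣ) (a : A) :
    rho R A p hp m a = SGA3b.powConv R A (m : ZMod p).val a := rfl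


variable (u : R) (hu : u * ((p - 1 : ℕ) : R) = 1) (χ : (ZMod p)ˣ →* Rˣ)
  (hχ : ∀ m : (ZMod p)ˣ, m ≠ 1 → IsUnit ((χ m : R) - 1))

theorem proj_eq (i : ℕ) : OortTate.proj R A p u χ i =
    u • ∑ m : (ZMod p)ˣ, (((χ m⁻¹ : Rˣ) : R) ^ i) • rho R A p hp m := rfl

include hu hχ hp in
theorem coi : CompleteOrthogonalIdempotents
    (fun i : Fin (p - 1) => OortTate.proj R A p u χ (i : ℕ)) := by
  have h := Groth.Agent.S18467.result p R u hu χ hχ
  have h2 := h.map (MonoidAlgebra.lift R (Module.End R A) (ZMod p)ˣ (rho R A p hp)).toRingHom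
  convert h2 using 1
  funext i
  simp only [Function.comp_apply, AlgHom.toRingHom_eq_coe, RingHom.coe_coe, map_smul, map_sum,
    MonoidAlgebra.lift_of, proj_eq R A p hp]

/-- `[g] ∘ E_i = χ(g)^i E_i` -/
theorem rho_mul_proj (g : (ZMod p)ˣ) (i : ℕ) :
    rho R A p hp g * OortTate.proj R A p u χ i = ((χ g : R) ^ i) • OortTate.proj R A p u χ i := by
  rw [proj_eq R A p hp, mul_smul_comm, smul_comm ((χ g : R) ^ i) u]
  congr 1
  rw [Finset.mul_sum, Finset.smul_sum]
  apply Fintype.sum_equiv (Equiv.mulLeft g)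
  intro m
  simp only [Equiv.coe_mulLeft]
  rw [mul_smul_comm, ← map_mul, smul_smul]
  congr 1
  rw [mul_inv, map_mul, Units.val_mul, mul_pow, ← mul_assoc, ← mul_pow, ← Units.val_mul,
    ← map_mul, mul_inv_cancel, map_one, Units.val_one, one_pow, one_mul]


include hu hχ hp in
theorem main :
    iSupIndep (fun i : Fin (p - 1) => OortTate.eigenAug R A p χ (i : ℕ)) ∧
      (⨆ i : Fin (p - 1), OortTate.eigenAug R A p χ (i : ℕ)) =
        LinearMap.ker (Bialgebra.counitAlgHom R A).toLinearMap ∧
      ∀ i : Fin (p - 1), OortTate.eigenAug R A p χ (i : ℕ) =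
        Submodule.map (OortTate.proj R A p u χ (i : ℕ))
          (LinearMap.ker (Bialgebra.counitAlgHom R A).toLinearMap) := by
  classical
  set K := LinearMap.ker (Bialgebra.counitAlgHom R A).toLinearMap with hK
  have hcoi := coi R A p hp u hu χ hχ
  have hmem : ∀ (i : ℕ) (f : A), f ∈ OortTate.eigenAug R A p χ i ↔
      f ∈ K ∧ ∀ m : (ZMod p)ˣ, rho R A p hp m f = ((χ m : R) ^ i) • f := by
    intro i f
    unfold OortTate.eigenAug
    rw [Submodule.mem_inf, Submodule.mem_iInf]
    simp only [Module.End.mem_eigenspace_iff]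
    rfl
  have hKrho : ∀ (m : (ZMod p)ˣ) (f : A), f ∈ K → rho R A p hp m f ∈ K := by
    intro m f hf
    rw [hK, LinearMap.mem_ker] at hf ⊢
    have := DFunLike.congr_fun (counit_comp_powConv R A (m : ZMod p).val) f
    exact this.trans hf
  have hKproj : ∀ (i : ℕ) (f : A), f ∈ K → OortTate.proj R A p u χ i f ∈ K := by
    intro i f hf
    rw [proj_eq R A p hp]
    simp only [LinearMap.smul_apply, LinearMap.sum_apply]
    exact K.smul_mem _ (K.sum_mem fun m _ => K.smul_mem _ (hKrho m f hf))
  have hprojmem : ∀ (i : ℕ) (f : A), f ∈ K →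
      OortTate.proj R A p u χ i f ∈ OortTate.eigenAug R A p χ i := by
    intro i f hf
    rw [hmem]
    refine ⟨hKproj i f hf, fun m => ?_⟩
    exact LinearMap.congr_fun (rho_mul_proj R A p hp u χ m i) f
  have hfix : ∀ (i : ℕ) (f : A), f ∈ OortTate.eigenAug R A p χ i →
      OortTate.proj R A p u χ i f = f := by
    intro i f hf
    rw [hmem] at hf
    rw [proj_eq R A p hp]
    simp only [LinearMap.smul_apply, LinearMap.sum_apply, hf.2]
    have : ∀ m : (ZMod p)ˣ, ((χ m⁻¹ : Rˣ) : R) ^ i • ((χ m : Rˣ) : R) ^ i • f = f := by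
      intro m
      rw [smul_smul, ← mul_pow, ← Units.val_mul, ← map_mul, inv_mul_cancel, map_one,
        Units.val_one, one_pow, one_smul]
    simp only [this, Finset.sum_const, Finset.card_univ, ZMod.card_units,
      ← Nat.cast_smul_eq_nsmul R]
    rw [smul_smul, hu, one_smul]
  refine ⟨?_, ?_, ?_⟩
  · intro i
    rw [Submodule.disjoint_def]
    intro f hf1 hf2
    have hker : (⨆ (j : Fin (p - 1)) (_ : j ≠ i), OortTate.eigenAug R A p χ (j : ℕ)) ≤
        LinearMap.ker (OortTate.proj R A p u χ (i : ℕ)) := by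
      refine iSup_le fun j => iSup_le fun hj => fun g hg => ?_
      rw [LinearMap.mem_ker, ← hfix j g hg, ← Module.End.mul_apply]
      have := hcoi.ortho (Ne.symm hj)
      simp only at this
      rw [this, LinearMap.zero_apply]
    have h0 := hker hf2
    rw [LinearMap.mem_ker, hfix i f hf1] at h0
    exact h0
  · apply le_antisymm
    · exact iSup_le fun i f hf => ((hmem _ _).mp hf).1
    · intro f hf
      have hsum := hcoi.complete
      have : f = ∑ i : Fin (p - 1), OortTate.proj R A p u χ (i : ℕ) f := by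
        have := LinearMap.congr_fun hsum f
        simp only [LinearMap.sum_apply, Module.End.one_apply] at this
        exact this.symm
      rw [this]
      exact Submodule.sum_mem _ fun i _ =>
        Submodule.mem_iSup_of_mem i (hprojmem i f hf)
  · intro i
    ext f
    constructor
    · intro hf
      exact ⟨f, ((hmem _ _).mp hf).1, hfix i f hf⟩
    · rintro ⟨g, hg, rfl⟩
      exact hprojmem i g hg

end main

end Groth.Agent.Lib.Helper92.OT
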