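import Mathlib
import Groth.Agent.Lib.Helper92.OortTateEigen
import Groth.Prelude.Def_CartDual

/-!
# Power maps on the dual Hopf algebra are transposes (helper92)

* `tr φ` : transpose of a linear endomorphism of `A` on `CartDual.D R A`; `tr` is multiplicative for convolution.
* `powConv_dual` : `[n]` on `D R A` is the transpose of `[n]` on `A`.
* `mem_eigenAug`, `mem_eigenAug_dual`: membership in the Oort–Tate eigenspaces.
* `restrict_bijective` = statement S18471.
-/

set_option autoImplicit false
set_option linter.unusedSectionVars false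
universe u

namespace Groth.Agent.Lib.Helper92.OT

open WithConv TensorProduct

section tr

variable (R : Type u) [CommRing R] (A : Type u) [CommRing A] [HopfAlgebra R A]

/-- transpose of a linear endomorphism -/
noncomputable def tr (φ : A →ₗ[R] A) : CartDual.D R A →ₗ[R] CartDual.D R A :=
  (CartDual.toDual R A).symm.toLinearMap ∘ₗ φ.dualMap ∘ₗ (CartDual.toDual R A).toLinearMap

@[simp] theorem tr_apply (φ : A →ₗ[R] A) (x : CartDual.D R A) (a : A) : tr R A φ x a = x (φ a) := rfl

theorem ofConv_tr (φ : A →ₗ[R] A) (x : CartDual.D R A) : (tr R A φ x).ofConv = x.ofConv ∘ₗ φ := rfl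

variable [Module.Finite R A] [Module.Projective R A]

theorem ofConv_mul'_map_tr (φ ψ : A →ₗ[R] A) (y : CartDual.D R A ⊗[R] CartDual.D R A) :
    (LinearMap.mul' R (CartDual.D R A) (TensorProduct.map (tr R A φ) (tr R A ψ) y)).ofConv =
      CartDual.ev₂ R A y ∘ₗ TensorProduct.map φ ψ ∘ₗ Coalgebra.comul := by
  induction y using TensorProduct.induction_on with
  | zero => simp
  | add y₁ y₂ h₁ h₂ => simp only [map_add, WithConv.ofConv_add, h₁, h₂, LinearMap.add_comp]
  | tmul x z =>
    rw [TensorProduct.map_tmul, LinearMap.mul'_apply, LinearMap.convMul_def, WithConv.ofConv_toConv,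
      ofConv_tr, ofConv_tr, CartDual.ev₂_tmul_eq', LinearMap.comp_assoc]
    congr 1
    apply LinearMap.ext; intro a
    simp only [LinearMap.coe_comp, Function.comp_apply]
    generalize Coalgebra.comul (R := R) a = t
    induction t using TensorProduct.induction_on with
    | zero => simp only [map_zero]
    | tmul b c => rfl
    | add t t' ht ht' => simp only [map_add, ht, ht']

theorem tr_convMul (φ ψ : WithConv (A →ₗ[R] A)) :
    toConv (tr R A (φ * ψ).ofConv) = toConv (tr R A φ.ofConv) * toConv (tr R A ψ.ofConv) := by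
  apply WithConv.ofConv_injective
  apply LinearMap.ext; intro x
  apply WithConv.ext
  rw [LinearMap.convMul_def (toConv (tr R A φ.ofConv))]
  simp only [LinearMap.comp_apply]
  rw [CartDual.comul_def, ofConv_mul'_map_tr, CartDual.ev₂_comul, ofConv_tr, LinearMap.convMul_def]
  rfl

theorem tr_convOne :
    toConv (tr R A (1 : WithConv (A →ₗ[R] A)).ofConv) = 1 := by
  apply WithConv.ofConv_injective
  apply LinearMap.ext; intro x
  apply WithConv.ext
  apply LinearMap.ext; intro a
  simp [LinearMap.convOne_def, CartDual.coe_apply, Algebra.algebraMap_eq_smul_one, mul_comm]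

theorem tr_convPow (φ : WithConv (A →ₗ[R] A)) (n : ℕ) :
    toConv (tr R A (φ ^ n).ofConv) = (toConv (tr R A φ.ofConv)) ^ n := by
  induction n with
  | zero => rw [pow_zero, pow_zero, tr_convOne]
  | succ n ih => rw [pow_succ, pow_succ, tr_convMul, ih]

omit [Module.Finite R A] [Module.Projective R A] in
theorem tr_id : tr R A LinearMap.id = LinearMap.id := rfl

variable [Coalgebra.IsCocomm R A]

theorem powConv_dual_toLinearMap (n : ℕ) :
    (SGA3b.powConv R (CartDual.D R A) n).toLinearMap = tr R A (SGA3b.powConv R A n).toLinearMap := by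
  unfold SGA3b.powConv
  have h1 : ((toConv (AlgHom.id R A)) ^ n).ofConv.toLinearMap =
      ((toConv (AlgHom.id R A).toLinearMap) ^ n).ofConv := by
    apply WithConv.toConv_injective
    rw [AlgHom.toLinearMap_convPow]
  apply WithConv.toConv_injective
  rw [AlgHom.toLinearMap_convPow, h1, tr_convPow R A (toConv (AlgHom.id R A).toLinearMap) n]
  rfl

theorem powConv_dual (n : ℕ) (x : CartDual.D R A) (a : A) :
    (SGA3b.powConv R (CartDual.D R A) n x) a = x (SGA3b.powConv R A n a) := by
  have := LinearMap.congr_fun (powConv_dual_toLinearMap R A n) x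
  exact congrArg (fun y : CartDual.D R A => y a) this

end tr

section eigen

variable (R : Type u) [CommRing R] (A : Type u) [CommRing A] [HopfAlgebra R A]
variable (p : ℕ) [Fact p.Prime] (χ : (ZMod p)ˣ →* Rˣ)

theorem mem_eigenAug (i : ℕ) (f : A) : f ∈ OortTate.eigenAug R A p χ i ↔
    Coalgebra.counit (R := R) f = 0 ∧
      ∀ m : (ZMod p)ˣ, SGA3b.powConv R A (m : ZMod p).val f = ((χ m : R) ^ i) • f := by
  unfold OortTate.eigenAug
  rw [Submodule.mem_inf, Submodule.mem_iInf]
  simp only [Module.End.mem_eigenspace_iff]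
  rfl

variable (hp : (WithConv.toConv (AlgHom.id R A)) ^ p = 1)
variable (u : R) (hu : u * ((p - 1 : ℕ) : R) = 1)

theorem counit_powConv (n : ℕ) (a : A) :
    Coalgebra.counit (R := R) (SGA3b.powConv R A n a) = Coalgebra.counit (R := R) a :=
  DFunLike.congr_fun (counit_comp_powConv R A n) a

theorem powConv_one' (n : ℕ) : SGA3b.powConv R A n 1 = 1 := map_one _

include hp in
/-- `E_i` maps the augmentation ideal into `I_i`. -/
theorem proj_mem (i : ℕ) (f : A) (hf : Coalgebra.counit (R := R) f = 0) :
    OortTate.proj R A p u χ i f ∈ OortTate.eigenAug R A p χ i := by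
  rw [mem_eigenAug]
  constructor
  · rw [proj_eq R A p hp]
    simp only [LinearMap.smul_apply, LinearMap.sum_apply, map_smul, map_sum, rho_apply,
      counit_powConv, hf, smul_zero, Finset.sum_const_zero]
  · intro m
    exact LinearMap.congr_fun (rho_mul_proj R A p hp u χ m i) f

include hu hp in
/-- `E_i` fixes `I_i`. -/
theorem proj_fix (i : ℕ) (f : A)
    (hf : ∀ m : (ZMod p)ˣ, SGA3b.powConv R A (m : ZMod p).val f = ((χ m : R) ^ i) • f) :
    OortTate.proj R A p u χ i f = f := by
  rw [proj_eq R A p hp]
  simp only [LinearMap.smul_apply, LinearMap.sum_apply, rho_apply, hf]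
  have : ∀ m : (ZMod p)ˣ, ((χ m⁻¹ : Rˣ) : R) ^ i • ((χ m : Rˣ) : R) ^ i • f = f := by
    intro m
    rw [smul_smul, ← mul_pow, ← Units.val_mul, ← map_mul, inv_mul_cancel, map_one,
      Units.val_one, one_pow, one_smul]
  simp only [this, Finset.sum_const, Finset.card_univ, ZMod.card_units,
    ← Nat.cast_smul_eq_nsmul R]
  rw [smul_smul, hu, one_smul]

include hp in
/-- `E_i ∘ [g] = χ(g)^i E_i` -/
theorem proj_mul_rho (g : (ZMod p)ˣ) (i : ℕ) :
    OortTate.proj R A p u χ i * rho R A p hp g = ((χ g : R) ^ i) • OortTate.proj R A p u χ i := by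
  rw [← rho_mul_proj R A p hp u χ g i, proj_eq R A p hp, mul_smul_comm, smul_mul_assoc,
    Finset.mul_sum, Finset.sum_mul]
  congr 1
  refine Finset.sum_congr rfl fun m _ => ?_
  rw [mul_smul_comm, smul_mul_assoc, ← map_mul, ← map_mul, mul_comm]

end eigen

section main71

variable (R : Type u) [CommRing R] (A : Type u) [CommRing A] [HopfAlgebra R A]
  [Coalgebra.IsCocomm R A] [Module.Finite R A] [Module.Projective R A]
variable (p : ℕ) [Fact p.Prime] (χ : (ZMod p)ˣ →* Rˣ)

theorem mem_eigenAug_dual (i : ℕ) (x : CartDual.D R A) :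
    x ∈ OortTate.eigenAug R (CartDual.D R A) p χ i ↔
      x 1 = 0 ∧ ∀ (m : (ZMod p)ˣ) (a : A),
        x (SGA3b.powConv R A (m : ZMod p).val a) = ((χ m : R) ^ i) * x a := by
  rw [mem_eigenAug]
  refine and_congr Iff.rfl (forall_congr' fun m => ?_)
  constructor
  · intro h a
    rw [← powConv_dual, h]
    rfl
  · intro h
    apply WithConv.ext
    apply LinearMap.ext
    intro a
    exact (powConv_dual R A _ x a).trans (h a)

variable (hp : (WithConv.toConv (AlgHom.id R A)) ^ p = 1)
variable (u : R) (hu : u * ((p - 1 : ℕ) : R) = 1)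

/-- the projection `A → I_i`, `a ↦ E_i (a - ε(a))` -/
noncomputable def piAug (i : ℕ) : A →ₗ[R] A :=
  OortTate.proj R A p u χ i ∘ₗ
    (LinearMap.id - (Algebra.linearMap R A) ∘ₗ (Coalgebra.counit : A →ₗ[R] R))

omit [Coalgebra.IsCocomm R A] [Module.Finite R A] [Module.Projective R A] in
theorem piAug_apply (i : ℕ) (a : A) :
    piAug R A p χ u i a =
      OortTate.proj R A p u χ i (a - algebraMap R A (Coalgebra.counit (R := R) a)) := rfl

include hp in
theorem piAug_mem (i : ℕ) (a : A) : piAug R A p χ u i a ∈ OortTate.eigenAug R A p χ i := by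
  rw [piAug_apply]
  apply proj_mem R A p χ hp u
  rw [map_sub, Bialgebra.counit_algebraMap, sub_self]

include hu hp in
theorem piAug_fix (i : ℕ) (a : A) (ha : a ∈ OortTate.eigenAug R A p χ i) :
    piAug R A p χ u i a = a := by
  rw [mem_eigenAug] at ha
  rw [piAug_apply, ha.1, map_zero, sub_zero]
  exact proj_fix R A p χ hp u hu i a ha.2

theorem piAug_one (i : ℕ) : piAug R A p χ u i 1 = 0 := by
  rw [piAug_apply, Bialgebra.counit_one, map_one, sub_self, map_zero]

include hp in
theorem piAug_powConv (i : ℕ) (m : (ZMod p)ˣ) (a : A) :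
    piAug R A p χ u i (SGA3b.powConv R A (m : ZMod p).val a) =
      ((χ m : R) ^ i) • piAug R A p χ u i a := by
  rw [piAug_apply, piAug_apply, counit_powConv]
  have h1 : SGA3b.powConv R A (m : ZMod p).val a - algebraMap R A (Coalgebra.counit (R := R) a) =
      rho R A p hp m (a - algebraMap R A (Coalgebra.counit (R := R) a)) := by
    rw [rho_apply, map_sub, AlgHom.commutes]
  rw [h1, ← Module.End.mul_apply, proj_mul_rho R A p χ hp u m i]
  rfl

include hp hu in
theorem dual_proj (i : ℕ) (x : CartDual.D R A)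
    (hx : x ∈ OortTate.eigenAug R (CartDual.D R A) p χ i) (b : A) :
    x (OortTate.proj R A p u χ i b) = x b := by
  have hx' := (mem_eigenAug_dual R A p χ i _).1 hx
  rw [proj_eq R A p hp]
  simp only [LinearMap.smul_apply, LinearMap.sum_apply, rho_apply, map_smul, map_sum, hx'.2]
  have : ∀ m : (ZMod p)ˣ, ((χ m⁻¹ : Rˣ) : R) ^ i • (((χ m : Rˣ) : R) ^ i * x b) = x b := by
    intro m
    rw [smul_eq_mul, ← mul_assoc, ← mul_pow, ← Units.val_mul, ← map_mul, inv_mul_cancel, map_one,
      Units.val_one, one_pow, one_mul]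
  simp only [this, Finset.sum_const, Finset.card_univ, ZMod.card_units,
    ← Nat.cast_smul_eq_nsmul R]
  rw [smul_smul, hu, one_smul]

include hp hu in
theorem dual_piAug (i : ℕ) (x : CartDual.D R A)
    (hx : x ∈ OortTate.eigenAug R (CartDual.D R A) p χ i) (a : A) :
    x (piAug R A p χ u i a) = x a := by
  have hx' := (mem_eigenAug_dual R A p χ i _).1 hx
  rw [piAug_apply, dual_proj R A p χ hp u hu i x hx, map_sub, Algebra.algebraMap_eq_smul_one,
    map_smul, hx'.1, smul_zero, sub_zero]

include hp hu in
theorem restrict_bijective (i : ℕ) :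
    Function.Bijective (fun f : OortTate.eigenAug R (CartDual.D R A) p χ i =>
      ((CartDual.toDual R A) (f : CartDual.D R A)).comp (OortTate.eigenAug R A p χ i).subtype) := by
  constructor
  · intro f g hfg
    apply Subtype.ext
    apply WithConv.ext
    apply LinearMap.ext
    intro a
    have h2 := LinearMap.congr_fun hfg ⟨piAug R A p χ u i a, piAug_mem R A p χ hp u i a⟩
    exact (dual_piAug R A p χ hp u hu i _ f.2 a).symm.trans
      (h2.trans (dual_piAug R A p χ hp u hu i _ g.2 a))
  · intro g
    let π : A →ₗ[R] OortTate.eigenAug R A p χ i :=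
      LinearMap.codRestrict _ (piAug R A p χ u i) (piAug_mem R A p χ hp u i)
    let x : CartDual.D R A := WithConv.toConv (g ∘ₗ π)
    have hxa : ∀ a : A, x a = g (π a) := fun a => rfl
    have hx : x ∈ OortTate.eigenAug R (CartDual.D R A) p χ i := by
      rw [mem_eigenAug_dual]
      constructor
      · rw [hxa]
        have : π 1 = 0 := Subtype.ext (piAug_one R A p χ u i)
        rw [this, map_zero]
      · intro m a
        rw [hxa, hxa]
        have : π (SGA3b.powConv R A (m : ZMod p).val a) = ((χ m : R) ^ i) • π a :=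
          Subtype.ext (piAug_powConv R A p χ hp u i m a)
        rw [this, map_smul, smul_eq_mul]
    refine ⟨⟨x, hx⟩, ?_⟩
    apply LinearMap.ext
    intro a
    show x (a : A) = g a
    rw [hxa]
    congr 1
    exact Subtype.ext (piAug_fix R A p χ hp u hu i a a.2)

end main71

end Groth.Agent.Lib.Helper92.OT
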