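import Mathlib
import Groth.Agent.Lib.Helper92.OortTateDual

/-!
# The Oort–Tate elements `y_i` in the group algebra of `ℤ/p` (helper92)
-/

set_option autoImplicit false
set_option linter.unusedSectionVars false
universe u

namespace Groth.Agent.Lib.Helper92.OTMu

open WithConv Groth.Agent.Lib.Helper92.OT

variable (R : Type u) [CommRing R] (p : ℕ) [Fact p.Prime]

/-- the group algebra of `ℤ/p` -/
abbrev B : Type u := MonoidAlgebra R (Multiplicative (ZMod p))

/-- `T^a` -/
noncomputable abbrev Tm (a : ZMod p) : B R p :=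
  MonoidAlgebra.of R (Multiplicative (ZMod p)) (Multiplicative.ofAdd a)

theorem powConv_of (n : ℕ) (g : Multiplicative (ZMod p)) :
    SGA3b.powConv R (B R p) n (MonoidAlgebra.of R _ g) = MonoidAlgebra.of R _ (g ^ n) := by
  unfold SGA3b.powConv
  induction n with
  | zero =>
    rw [pow_zero, pow_zero]
    show (1 : WithConv (B R p →ₐ[R] B R p)) (MonoidAlgebra.of R _ g) = _
    rw [AlgHom.convOne_apply, (MonoidAlgebra.isGroupLikeElem_of (R := R) (A := R) g).counit_eq_one,
      map_one, map_one]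
  | succ n ih =>
    rw [pow_succ]
    show ((toConv (AlgHom.id R (B R p)) ^ n) * toConv (AlgHom.id R (B R p)))
      (MonoidAlgebra.of R _ g) = _
    rw [AlgHom.convMul_apply,
      (MonoidAlgebra.isGroupLikeElem_of (R := R) (A := R) g).comul_eq_tmul_self,
      Algebra.TensorProduct.lift_tmul, ih, pow_succ, map_mul]
    rfl

theorem hp : (WithConv.toConv (AlgHom.id R (B R p))) ^ p = 1 := by
  apply WithConv.ofConv_injective
  refine MonoidAlgebra.algHom_ext ?_ (Subsingleton.elim _ _)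
  intro g
  have h1 := powConv_of R p p g
  unfold SGA3b.powConv at h1
  have hg : g ^ p = 1 := by
    apply Multiplicative.toAdd.injective
    rw [toAdd_pow]
    simp
  rw [hg] at h1
  show ((toConv (AlgHom.id R (B R p)) ^ p).ofConv) (MonoidAlgebra.of R _ g) = _
  rw [h1]
  show _ = (1 : WithConv (B R p →ₐ[R] B R p)) (MonoidAlgebra.of R _ g)
  rw [AlgHom.convOne_apply, (MonoidAlgebra.isGroupLikeElem_of (R := R) (A := R) g).counit_eq_one,
    map_one, map_one]

theorem powConv_Tm (n : ℕ) (a : ZMod p) :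
    SGA3b.powConv R (B R p) n (Tm R p a) = Tm R p (n * a) := by
  unfold Tm
  rw [powConv_of]
  congr 1
  apply Multiplicative.toAdd.injective
  rw [toAdd_pow, toAdd_ofAdd, toAdd_ofAdd]
  exact nsmul_eq_mul n a

variable (u : R) (χ : (ZMod p)ˣ →* Rˣ)

theorem ygen_eq (i : ℕ) : OortTate.ygen R p u χ i =
    u • ∑ m : (ZMod p)ˣ, (((χ m⁻¹ : Rˣ) : R) ^ i) • (Tm R p (m : ZMod p) - 1) := by
  show OortTate.proj R (B R p) p u χ i (Tm R p 1 - 1) = _
  rw [proj_eq R (B R p) p (hp R p)]
  simp only [LinearMap.smul_apply, LinearMap.sum_apply, rho_apply]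
  congr 1
  refine Finset.sum_congr rfl fun m _ => ?_
  congr 1
  rw [map_sub, map_one, powConv_Tm, mul_one, ZMod.natCast_zmod_val]


theorem counit_Tm (a : ZMod p) : Coalgebra.counit (R := R) (Tm R p a) = 1 :=
  (MonoidAlgebra.isGroupLikeElem_of (R := R) (A := R) _).counit_eq_one

theorem counit_b (a : ZMod p) : Coalgebra.counit (R := R) (Tm R p a - 1) = 0 := by
  rw [map_sub, counit_Tm, Bialgebra.counit_one, sub_self]

theorem ygen_def (i : ℕ) : OortTate.ygen R p u χ i = OortTate.proj R (B R p) p u χ i (Tm R p 1 - 1) :=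
  rfl

theorem ygen_mem (i : ℕ) : OortTate.ygen R p u χ i ∈ OortTate.eigenAug R (B R p) p χ i := by
  rw [ygen_def]
  exact proj_mem R (B R p) p χ (hp R p) u i _ (counit_b R p 1)

theorem b_eq_rho (m : (ZMod p)ˣ) :
    Tm R p (m : ZMod p) - 1 = rho R (B R p) p (hp R p) m (Tm R p 1 - 1) := by
  rw [rho_apply, map_sub, map_one, powConv_Tm, mul_one, ZMod.natCast_zmod_val]

/-- `E_i (T^m - 1) = χ(m)^i y_i` -/
theorem proj_b (i : ℕ) (m : (ZMod p)ˣ) :
    OortTate.proj R (B R p) p u χ i (Tm R p (m : ZMod p) - 1) =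
      ((χ m : R) ^ i) • OortTate.ygen R p u χ i := by
  rw [b_eq_rho, ← Module.End.mul_apply, proj_mul_rho R (B R p) p χ (hp R p) u m i]
  rfl

variable (hu : u * ((p - 1 : ℕ) : R) = 1)
  (hχ : ∀ m : (ZMod p)ˣ, m ≠ 1 → IsUnit ((χ m : R) - 1))

include hu hχ in
/-- `T^m - 1 = Σ_i χ(m)^i y_i` -/
theorem b_eq_sum (m : (ZMod p)ˣ) :
    Tm R p (m : ZMod p) - 1 =
      ∑ i : Fin (p - 1), ((χ m : R) ^ (i : ℕ)) • OortTate.ygen R p u χ (i : ℕ) := by
  have hcoi := coi R (B R p) p (hp R p) u hu χ hχ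
  have h1 := LinearMap.congr_fun hcoi.complete (Tm R p (m : ZMod p) - 1)
  simp only [LinearMap.sum_apply, Module.End.one_apply] at h1
  rw [← h1]
  exact Finset.sum_congr rfl fun i _ => proj_b R p u χ (i : ℕ) m

/-- the augmentation ideal is spanned by the `T^a - 1` -/
theorem sub_counit_mem (x : B R p) :
    x - algebraMap R (B R p) (Coalgebra.counit (R := R) x) ∈
      Submodule.span R (Set.range fun a : ZMod p => Tm R p a - 1) := by
  induction x using MonoidAlgebra.induction_linear with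
  | zero => simp
  | add x y hx hy =>
    rw [map_add, map_add]
    have := Submodule.add_mem _ hx hy
    convert this using 1
    abel
  | single g r =>
    have h1 : MonoidAlgebra.single g r = r • Tm R p (Multiplicative.toAdd g) := by
      unfold Tm
      rw [MonoidAlgebra.of_apply, MonoidAlgebra.smul_single, smul_eq_mul, mul_one]
      rfl
    rw [h1, map_smul, counit_Tm, smul_eq_mul, mul_one, Algebra.algebraMap_eq_smul_one, ← smul_sub]
    exact Submodule.smul_mem _ _ (Submodule.subset_span ⟨_, rfl⟩)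

include hu hχ in
theorem b_mem_span (a : ZMod p) : Tm R p a - 1 ∈
    Submodule.span R (Set.range fun i : Fin (p - 1) => OortTate.ygen R p u χ (i : ℕ)) := by
  by_cases ha : a = 0
  · subst ha
    have : Tm R p 0 - 1 = 0 := by
      unfold Tm
      rw [ofAdd_zero, map_one, sub_self]
    rw [this]
    exact Submodule.zero_mem _
  · have : a = ((Units.mk0 a ha : (ZMod p)ˣ) : ZMod p) := rfl
    rw [this, b_eq_sum R p u χ hu hχ]
    exact Submodule.sum_mem _ fun i _ => Submodule.smul_mem _ _ (Submodule.subset_span ⟨i, rfl⟩)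

include hu hχ in
theorem span_ygen :
    Submodule.span R (Set.range (fun i : Fin (p - 1) => OortTate.ygen R p u χ (i : ℕ))) =
      LinearMap.ker (Bialgebra.counitAlgHom R (B R p)).toLinearMap := by
  apply le_antisymm
  · rw [Submodule.span_le]
    rintro _ ⟨i, rfl⟩
    have := (mem_eigenAug R (B R p) p χ _ _).1 (ygen_mem R p u χ (i : ℕ))
    exact this.1
  · intro x hx
    have hx' : Coalgebra.counit (R := R) x = 0 := hx
    have h1 := sub_counit_mem R p x
    rw [hx', map_zero, sub_zero] at h1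
    refine (Submodule.span_le.2 ?_) h1
    rintro _ ⟨a, rfl⟩
    exact b_mem_span R p u χ hu hχ a


/-- the coefficient of `T^1` -/
noncomputable def c1 : B R p →ₗ[R] R :=
  (Finsupp.lapply (Multiplicative.ofAdd (1 : ZMod p))) ∘ₗ
    (MonoidAlgebra.coeffLinearEquiv R).toLinearMap

theorem c1_Tm (a : ZMod p) : c1 R p (Tm R p a) = if a = 1 then 1 else 0 := by
  unfold c1 Tm
  simp only [LinearMap.comp_apply, LinearEquiv.coe_coe, Finsupp.lapply_apply]
  rw [MonoidAlgebra.of_apply]
  show (MonoidAlgebra.single (Multiplicative.ofAdd a) (1 : R)).coeff (Multiplicative.ofAdd 1) = _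
  rw [MonoidAlgebra.coeff_single, Finsupp.single_apply]
  simp only [EmbeddingLike.apply_eq_iff_eq]

theorem c1_one : c1 R p (1 : B R p) = 0 := by
  have h : (1 : B R p) = Tm R p 0 := by
    unfold Tm
    rw [ofAdd_zero, map_one]
  rw [h, c1_Tm, if_neg]
  exact zero_ne_one

theorem c1_ygen (i : ℕ) : c1 R p (OortTate.ygen R p u χ i) = u := by
  rw [ygen_eq]
  simp only [map_smul, map_sum, map_sub, c1_Tm, c1_one, sub_zero, smul_eq_mul]
  rw [Finset.sum_eq_single (1 : (ZMod p)ˣ)]
  · simp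
  · intro m _ hm
    rw [if_neg, mul_zero]
    intro h
    exact hm (Units.ext h)
  · intro h
    exact absurd (Finset.mem_univ _) h

include hu in
theorem smul_ygen_eq_zero (i : ℕ) (r : R) (h : r • OortTate.ygen R p u χ i = 0) : r = 0 := by
  have := congrArg (c1 R p) h
  rw [map_smul, c1_ygen, map_zero, smul_eq_mul] at this
  calc r = r * (u * ((p - 1 : ℕ) : R)) := by rw [hu, mul_one]
    _ = (r * u) * ((p - 1 : ℕ) : R) := by ring
    _ = 0 := by rw [this, zero_mul]

include hu hχ in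
theorem proj_ygen (i j : Fin (p - 1)) :
    OortTate.proj R (B R p) p u χ (j : ℕ) (OortTate.ygen R p u χ (i : ℕ)) =
      if i = j then OortTate.ygen R p u χ (j : ℕ) else 0 := by
  have hcoi := coi R (B R p) p (hp R p) u hu χ hχ
  rw [ygen_def, ← Module.End.mul_apply]
  split_ifs with h
  · subst h
    have := hcoi.idem i
    rw [this.eq]
  · have := hcoi.ortho (Ne.symm h)
    rw [this, LinearMap.zero_apply]

include hu hχ in
theorem linearIndependent_ygen :
    LinearIndependent R (fun i : Fin (p - 1) => OortTate.ygen R p u χ (i : ℕ)) := by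
  rw [Fintype.linearIndependent_iff]
  intro c hc j
  have h1 := congrArg (OortTate.proj R (B R p) p u χ (j : ℕ)) hc
  rw [map_sum, map_zero] at h1
  simp only [map_smul, proj_ygen R p u χ hu hχ] at h1
  rw [Finset.sum_eq_single j] at h1
  · rw [if_pos rfl] at h1
    exact smul_ygen_eq_zero R p u χ hu _ _ h1
  · intro i _ hij
    rw [if_neg hij, smul_zero]
  · intro h
    exact absurd (Finset.mem_univ _) h


theorem proj_mem_span (j : ℕ) (x : B R p) (hx : Coalgebra.counit (R := R) x = 0) :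
    OortTate.proj R (B R p) p u χ j x ∈ Submodule.span R {OortTate.ygen R p u χ j} := by
  have h1 := sub_counit_mem R p x
  rw [hx, map_zero, sub_zero] at h1
  have hle : Submodule.span R (Set.range fun a : ZMod p => Tm R p a - 1) ≤
      (Submodule.span R {OortTate.ygen R p u χ j}).comap (OortTate.proj R (B R p) p u χ j) := by
    rw [Submodule.span_le]
    rintro _ ⟨a, rfl⟩
    rw [SetLike.mem_coe, Submodule.mem_comap]
    show (OortTate.proj R (B R p) p u χ j) (Tm R p a - 1) ∈ _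
    by_cases ha : a = 0
    · subst ha
      have : Tm R p 0 - 1 = 0 := by
        unfold Tm
        rw [ofAdd_zero, map_one, sub_self]
      rw [this, map_zero]
      exact Submodule.zero_mem _
    · have : a = ((Units.mk0 a ha : (ZMod p)ˣ) : ZMod p) := rfl
      rw [this, proj_b]
      exact Submodule.smul_mem _ _ (Submodule.mem_span_singleton_self _)
  exact hle h1

theorem powConv_ygen (i : ℕ) (m : (ZMod p)ˣ) :
    SGA3b.powConv R (B R p) (m : ZMod p).val (OortTate.ygen R p u χ i) =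
      ((χ m : R) ^ i) • OortTate.ygen R p u χ i :=
  ((mem_eigenAug R (B R p) p χ _ _).1 (ygen_mem R p u χ i)).2 m

theorem counit_ygen (i : ℕ) : Coalgebra.counit (R := R) (OortTate.ygen R p u χ i) = 0 :=
  ((mem_eigenAug R (B R p) p χ _ _).1 (ygen_mem R p u χ i)).1

include hu in
/-- `y_1^j ∈ R y_j` for `j ≥ 1` -/
theorem pow_mem_span (j : ℕ) (hj : 1 ≤ j) :
    OortTate.ygen R p u χ 1 ^ j ∈ Submodule.span R {OortTate.ygen R p u χ j} := by
  have hc : Coalgebra.counit (R := R) (OortTate.ygen R p u χ 1 ^ j) = 0 := by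
    have := map_pow (Bialgebra.counitAlgHom R (B R p)) (OortTate.ygen R p u χ 1) j
    have h2 : Bialgebra.counitAlgHom R (B R p) (OortTate.ygen R p u χ 1) = 0 := counit_ygen R p u χ 1
    rw [h2, zero_pow (by omega)] at this
    exact this
  have hm : ∀ m : (ZMod p)ˣ, SGA3b.powConv R (B R p) (m : ZMod p).val (OortTate.ygen R p u χ 1 ^ j) =
      ((χ m : R) ^ j) • OortTate.ygen R p u χ 1 ^ j := by
    intro m
    rw [map_pow, powConv_ygen, pow_one, smul_pow]
  have hfix := proj_fix R (B R p) p χ (hp R p) u hu j _ hm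
  rw [← hfix]
  exact proj_mem_span R p u χ j _ hc

theorem ygen_add_period (j : ℕ) :
    OortTate.ygen R p u χ (j + (p - 1)) = OortTate.ygen R p u χ j := by
  rw [ygen_eq, ygen_eq]
  congr 1
  refine Finset.sum_congr rfl fun m _ => ?_
  congr 1
  rw [pow_add, ← Units.val_pow_eq_pow_val (χ m⁻¹) (p - 1), ← map_pow,
    ZMod.units_pow_card_sub_one_eq_one, map_one, Units.val_one, mul_one]

include hu in
theorem existsUnique_w :
    ∃! w : R, OortTate.ygen R p u χ 1 ^ p = w • OortTate.ygen R p u χ 1 := by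
  have hp1 : 1 ≤ p := (Fact.out : p.Prime).one_lt.le
  have h1 := pow_mem_span R p u χ hu p hp1
  have hper : OortTate.ygen R p u χ p = OortTate.ygen R p u χ 1 := by
    have := ygen_add_period R p u χ 1
    rwa [show 1 + (p - 1) = p by omega] at this
  rw [hper, Submodule.mem_span_singleton] at h1
  obtain ⟨w, hw⟩ := h1
  refine ⟨w, hw.symm, fun w' hw' => ?_⟩
  have : (w' - w) • OortTate.ygen R p u χ 1 = 0 := by
    rw [sub_smul, ← hw', hw, sub_self]
  have := smul_ygen_eq_zero R p u χ hu 1 _ this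
  exact sub_eq_zero.mp this


section basechange

variable {R} {S : Type u} [CommRing S] (φ : R →+* S)

theorem map_smul' (r : R) (b : B R p) :
    MonoidAlgebra.mapRingHom (Multiplicative (ZMod p)) φ (r • b) =
      φ r • MonoidAlgebra.mapRingHom (Multiplicative (ZMod p)) φ b := by
  ext m
  simp

theorem map_Tm (a : ZMod p) :
    MonoidAlgebra.mapRingHom (Multiplicative (ZMod p)) φ (Tm R p a) = Tm S p a := by
  simp [Tm, MonoidAlgebra.of_apply]

theorem ygen_map (i : ℕ) :
    MonoidAlgebra.mapRingHom (Multiplicative (ZMod p)) φ (OortTate.ygen R p u χ i) =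
      OortTate.ygen S p (φ u) ((Units.map (φ : R →* S)).comp χ) i := by
  rw [ygen_eq, ygen_eq, map_smul', map_sum]
  congr 1
  refine Finset.sum_congr rfl fun m _ => ?_
  rw [map_smul', map_sub, map_one, map_Tm, map_pow]
  rfl

end basechange

end Groth.Agent.Lib.Helper92.OTMu

namespace Groth.Agent.Lib.Helper92.OTMu

open WithConv Groth.Agent.Lib.Helper92.OT

theorem lemmaA {S : Type*} [CommRing S] (s : S) (n : ℕ) :
    ∃ c : S, (1 + s) ^ n - 1 = s * ((n : S) + s * c) := by
  induction n with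
  | zero => exact ⟨0, by simp⟩
  | succ n ih =>
    obtain ⟨c, hc⟩ := ih
    refine ⟨c + n + s * c, ?_⟩
    have : (1 + s) ^ (n + 1) - 1 = ((1 + s) ^ n - 1) * (1 + s) + s := by ring
    rw [this, hc]
    push_cast
    ring

section
variable (k : Type u) [Field k] (p : ℕ) [Fact p.Prime]

theorem Tm_eq_pow (a : ZMod p) : Tm k p a = (Tm k p 1) ^ a.val := by
  unfold Tm
  rw [← map_pow]
  congr 1
  apply Multiplicative.toAdd.injective
  rw [toAdd_pow, toAdd_ofAdd, toAdd_ofAdd, nsmul_eq_mul, mul_one, ZMod.natCast_zmod_val]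

theorem Tm_add (a b : ZMod p) : Tm k p (a + b) = Tm k p a * Tm k p b := by
  unfold Tm
  rw [ofAdd_add, map_mul]

/-- coefficient at `T^a` -/
noncomputable def cf (a : ZMod p) : B k p →ₗ[k] k :=
  (Finsupp.lapply (Multiplicative.ofAdd a)) ∘ₗ
    (MonoidAlgebra.coeffLinearEquiv k).toLinearMap

theorem cf_Tm (a b : ZMod p) : cf k p a (Tm k p b) = if b = a then 1 else 0 := by
  unfold cf Tm
  simp only [LinearMap.comp_apply, LinearEquiv.coe_coe, Finsupp.lapply_apply]
  rw [MonoidAlgebra.of_apply]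
  show (MonoidAlgebra.single (Multiplicative.ofAdd b) (1 : k)).coeff (Multiplicative.ofAdd a) = _
  rw [MonoidAlgebra.coeff_single, Finsupp.single_apply]
  simp only [EmbeddingLike.apply_eq_iff_eq]

variable (hk : (p : k) = 0)

include hk in
theorem charP_B : CharP (B k p) p := by
  haveI : CharP k p := (CharP.charP_iff_prime_eq_zero (Fact.out : p.Prime)).2 hk
  apply charP_of_injective_algebraMap (R := k) (A := B k p) _ p
  exact (algebraMap k (B k p)).injective

include hk in
theorem s_pow_p : (Tm k p 1 - 1) ^ p = 0 := by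
  haveI := charP_B k p hk
  rw [sub_pow_char, one_pow]
  have : (Tm k p 1) ^ p = 1 := by
    unfold Tm
    rw [← map_pow]
    have : (Multiplicative.ofAdd (1 : ZMod p)) ^ p = 1 := by
      apply Multiplicative.toAdd.injective
      rw [toAdd_pow]
      simp
    rw [this, map_one]
  rw [this, sub_self]

theorem Tm_nat (m : ℕ) : (Tm k p 1) ^ m = Tm k p (m : ZMod p) := by
  unfold Tm
  rw [← map_pow]
  congr 1
  apply Multiplicative.toAdd.injective
  rw [toAdd_pow, toAdd_ofAdd, toAdd_ofAdd, nsmul_eq_mul, mul_one]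

theorem s_pow_ne : (Tm k p 1 - 1) ^ (p - 1) ≠ 0 := by
  intro h
  have hp1 : 1 < p := (Fact.out : p.Prime).one_lt
  have h1 := congrArg (cf k p ((p - 1 : ℕ) : ZMod p)) h
  rw [map_zero, sub_eq_add_neg, add_pow, map_sum] at h1
  have hterm : ∀ m ∈ Finset.range (p - 1 + 1),
      cf k p ((p - 1 : ℕ) : ZMod p) ((Tm k p 1) ^ m * (-1) ^ (p - 1 - m) * ((p - 1).choose m : B k p)) =
        if m = p - 1 then 1 else 0 := by
    intro m hm
    rw [Finset.mem_range] at hm
    have e : (Tm k p 1) ^ m * (-1) ^ (p - 1 - m) * ((p - 1).choose m : B k p) =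
        (((-1) ^ (p - 1 - m) * ((p - 1).choose m : k)) : k) • Tm k p (m : ZMod p) := by
      rw [Tm_nat, Algebra.smul_def, map_mul, map_pow, map_neg, map_one, map_natCast]
      ring
    rw [e, map_smul, cf_Tm]
    have hiff : ((m : ZMod p) = ((p - 1 : ℕ) : ZMod p)) ↔ m = p - 1 := by
      rw [ZMod.natCast_eq_natCast_iff', Nat.mod_eq_of_lt (by omega), Nat.mod_eq_of_lt (by omega)]
    by_cases hm1 : m = p - 1
    · subst hm1
      simp
    · rw [if_neg (fun hh => hm1 (hiff.1 hh)), if_neg hm1, smul_zero]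
  rw [Finset.sum_congr rfl hterm, Finset.sum_ite_eq' (Finset.range (p - 1 + 1)) (p - 1)] at h1
  rw [if_pos (Finset.mem_range.2 (by omega))] at h1
  exact one_ne_zero h1


variable (u : k) (χ : (ZMod p)ˣ →* kˣ) (hu : u * ((p - 1 : ℕ) : k) = 1)
  (hχval : ∀ m : (ZMod p)ˣ, ((χ m : kˣ) : k) = (((m : ZMod p).val : ℕ) : k))

include hu hχval in
theorem y1_eq : ∃ d : B k p, OortTate.ygen k p u χ 1 =
    (Tm k p 1 - 1) * (1 + (Tm k p 1 - 1) * d) := by
  set s := Tm k p 1 - 1 with hs
  have hT : Tm k p 1 = 1 + s := by rw [hs]; ring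
  have hc : ∀ m : (ZMod p)ˣ, ∃ c : B k p,
      Tm k p (m : ZMod p) - 1 = s * ((((m : ZMod p).val : ℕ) : B k p) + s * c) := by
    intro m
    rw [Tm_eq_pow, hT]
    exact lemmaA s _
  choose c hc using hc
  refine ⟨u • ∑ m : (ZMod p)ˣ, ((χ m⁻¹ : kˣ) : k) • c m, ?_⟩
  rw [ygen_eq]
  simp only [pow_one, hc]
  have h1 : u • ∑ m : (ZMod p)ˣ, ((χ m⁻¹ : kˣ) : k) • (((m : ZMod p).val : ℕ) : B k p) = 1 := by
    have : ∀ m : (ZMod p)ˣ, ((χ m⁻¹ : kˣ) : k) • (((m : ZMod p).val : ℕ) : B k p) = 1 := by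
      intro m
      rw [Algebra.smul_def, ← map_natCast (algebraMap k (B k p)), ← map_mul, ← hχval m,
        ← Units.val_mul, ← map_mul, inv_mul_cancel, map_one, Units.val_one, map_one]
    simp only [this, Finset.sum_const, Finset.card_univ, ZMod.card_units]
    rw [← Nat.cast_smul_eq_nsmul k, smul_smul, hu, one_smul]
  calc u • ∑ m : (ZMod p)ˣ, ((χ m⁻¹ : kˣ) : k) • (s * ((((m : ZMod p).val : ℕ) : B k p) + s * c m))
      = s * (u • ∑ m : (ZMod p)ˣ, ((χ m⁻¹ : kˣ) : k) • (((m : ZMod p).val : ℕ) : B k p)) +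
        s * (s * (u • ∑ m : (ZMod p)ˣ, ((χ m⁻¹ : kˣ) : k) • c m)) := by
        simp only [mul_add, smul_add, Finset.sum_add_distrib, mul_smul_comm, Finset.mul_sum]
    _ = s * (1 + s * (u • ∑ m : (ZMod p)ˣ, ((χ m⁻¹ : kˣ) : k) • c m)) := by
        rw [h1]; ring

include hk hu hχval in
theorem y1_pow_ne_charp : OortTate.ygen k p u χ 1 ^ (p - 1) ≠ 0 := by
  obtain ⟨d, hd⟩ := y1_eq k p u χ hu hχval
  set s := Tm k p 1 - 1 with hs
  obtain ⟨e, he⟩ := lemmaA (s * d) (p - 1)
  have hp1 : 1 < p := (Fact.out : p.Prime).one_lt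
  have h2 : OortTate.ygen k p u χ 1 ^ (p - 1) = s ^ (p - 1) := by
    rw [hd, mul_pow]
    have : (1 + s * d) ^ (p - 1) = 1 + s * d * (((p - 1 : ℕ) : B k p) + s * d * e) := by
      rw [← he]; ring
    rw [this]
    have hsp : s ^ (p - 1) * s = 0 := by
      rw [← pow_succ, show p - 1 + 1 = p by omega]
      exact s_pow_p k p hk
    calc s ^ (p - 1) * (1 + s * d * (((p - 1 : ℕ) : B k p) + s * d * e))
        = s ^ (p - 1) + (s ^ (p - 1) * s) * (d * (((p - 1 : ℕ) : B k p) + s * d * e)) := by ring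
      _ = s ^ (p - 1) := by rw [hsp, zero_mul, add_zero]
  rw [h2]
  exact s_pow_ne k p

end

section
variable (k : Type u) [Field k] (p : ℕ) [Fact p.Prime]
variable (u : k) (χ : (ZMod p)ˣ →* kˣ) (hu : u * ((p - 1 : ℕ) : k) = 1)

include hu in
theorem y1_ne_zero : OortTate.ygen k p u χ 1 ≠ 0 := by
  intro h
  have := smul_ygen_eq_zero k p u χ hu 1 1 (by rw [h, smul_zero])
  exact one_ne_zero this

include hu in
theorem y1_pow_ne_charne (hk : (p : k) ≠ 0) : OortTate.ygen k p u χ 1 ^ (p - 1) ≠ 0 := by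
  haveI : NeZero (Nat.card (Multiplicative (ZMod p)) : k) := by
    constructor
    rw [Nat.card_eq_fintype_card, Fintype.card_multiplicative, ZMod.card]
    exact hk
  haveI : IsSemisimpleRing (MonoidAlgebra k (Multiplicative (ZMod p))) := inferInstance
  haveI : IsReduced (B k p) := inferInstance
  intro h
  exact y1_ne_zero k p u χ hu (IsNilpotent.eq_zero ⟨p - 1, h⟩)
end


section field

variable (k : Type u) [Field k] (p : ℕ) [Fact p.Prime]
variable (u : k) (χ : (ZMod p)ˣ →* kˣ) (hu : u * ((p - 1 : ℕ) : k) = 1)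
  (hχp : ∀ m : (ZMod p)ˣ, ((χ m : kˣ) : k) - (((m : ZMod p).val : ℕ) : k) ∈
    Ideal.span ({(p : k)} : Set k))

include hu hχp in
theorem y1_pow_ne_field : OortTate.ygen k p u χ 1 ^ (p - 1) ≠ 0 := by
  by_cases hk : (p : k) = 0
  · apply y1_pow_ne_charp k p hk u χ hu
    intro m
    have := hχp m
    rw [hk, Ideal.span_singleton_eq_bot.mpr rfl, Ideal.mem_bot, sub_eq_zero] at this
    exact this
  · exact y1_pow_ne_charne k p u χ hu hk

end field

section final

variable (R : Type u) [CommRing R] (p : ℕ) [Fact p.Prime]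
variable (u : R) (χ : (ZMod p)ˣ →* Rˣ) (hu : u * ((p - 1 : ℕ) : R) = 1)
  (hχ : ∀ m : (ZMod p)ˣ, m ≠ 1 → IsUnit ((χ m : R) - 1))
  (hχp : ∀ m : (ZMod p)ˣ, ((χ m : Rˣ) : R) - (((m : ZMod p).val : ℕ) : R) ∈
    Ideal.span ({(p : R)} : Set R))

include hu hχp in
theorem isUnit_w (j : ℕ) (hj1 : 1 ≤ j) (hj2 : j ≤ p - 1) (w : R)
    (hw : OortTate.ygen R p u χ 1 ^ j = w • OortTate.ygen R p u χ j) : IsUnit w := by
  by_contra hnu
  obtain ⟨𝔪, hmax, hmem⟩ := exists_max_ideal_of_mem_nonunits (mem_nonunits_iff.mpr hnu)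
  letI := Ideal.Quotient.field 𝔪
  let φ : R →+* R ⧸ 𝔪 := Ideal.Quotient.mk 𝔪
  have hφw : φ w = 0 := Ideal.Quotient.eq_zero_iff_mem.mpr hmem
  have h1 := congrArg (MonoidAlgebra.mapRingHom (Multiplicative (ZMod p)) φ) hw
  rw [map_pow, map_smul', hφw, zero_smul, ygen_map] at h1
  have hu' : φ u * ((p - 1 : ℕ) : R ⧸ 𝔪) = 1 := by
    rw [← map_natCast φ, ← map_mul, hu, map_one]
  have hχp' : ∀ m : (ZMod p)ˣ,
      ((((Units.map (φ : R →* R ⧸ 𝔪)).comp χ) m : (R ⧸ 𝔪)ˣ) : R ⧸ 𝔪) -
        (((m : ZMod p).val : ℕ) : R ⧸ 𝔪) ∈ Ideal.span ({(p : R ⧸ 𝔪)} : Set (R ⧸ 𝔪)) := by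
    intro m
    have h2 := Ideal.mem_map_of_mem φ (hχp m)
    rw [Ideal.map_span, Set.image_singleton, map_natCast, map_sub, map_natCast] at h2
    exact h2
  have h3 := y1_pow_ne_field (R ⧸ 𝔪) p (φ u) ((Units.map (φ : R →* R ⧸ 𝔪)).comp χ) hu' hχp'
  apply h3
  have : p - 1 = j + (p - 1 - j) := by omega
  rw [this, pow_add, h1, zero_mul]

include hu hχ hχp in
theorem adjoin_eq_top :
    Algebra.adjoin R ({OortTate.ygen R p u χ 1} : Set (B R p)) = ⊤ := by
  have hp1 : 1 < p := (Fact.out : p.Prime).one_lt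
  set S := Algebra.adjoin R ({OortTate.ygen R p u χ 1} : Set (B R p)) with hS
  have hy1 : OortTate.ygen R p u χ 1 ∈ S := Algebra.subset_adjoin (Set.mem_singleton _)
  have hyj : ∀ j : ℕ, 1 ≤ j → j ≤ p - 1 → OortTate.ygen R p u χ j ∈ S := by
    intro j hj1 hj2
    have h1 := pow_mem_span R p u χ hu j hj1
    rw [Submodule.mem_span_singleton] at h1
    obtain ⟨w, hw⟩ := h1
    have hwu := isUnit_w R p u χ hu hχp j hj1 hj2 w hw.symm
    obtain ⟨w', rfl⟩ := hwu
    have : OortTate.ygen R p u χ j = ((w'⁻¹ : Rˣ) : R) • OortTate.ygen R p u χ 1 ^ j := by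
      rw [← hw, smul_smul, Units.inv_mul, one_smul]
    rw [this]
    exact S.smul_mem (S.pow_mem hy1 j) _
  have hyi : ∀ i : Fin (p - 1), OortTate.ygen R p u χ (i : ℕ) ∈ S := by
    intro i
    by_cases hi : (i : ℕ) = 0
    · rw [hi, ← ygen_add_period R p u χ 0, zero_add]
      exact hyj (p - 1) (by omega) le_rfl
    · exact hyj i (by omega) (by have := i.2; omega)
  have hker : LinearMap.ker (Bialgebra.counitAlgHom R (B R p)).toLinearMap ≤
      Subalgebra.toSubmodule S := by
    rw [← span_ygen R p u χ hu hχ, Submodule.span_le]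
    rintro _ ⟨i, rfl⟩
    exact hyi i
  rw [eq_top_iff]
  intro x _
  have hx : x - algebraMap R (B R p) (Coalgebra.counit (R := R) x) ∈
      LinearMap.ker (Bialgebra.counitAlgHom R (B R p)).toLinearMap := by
    rw [LinearMap.mem_ker]
    show Coalgebra.counit (R := R) (x - _) = 0
    rw [map_sub, Bialgebra.counit_algebraMap, sub_self]
  have h2 := hker hx
  have h3 : algebraMap R (B R p) (Coalgebra.counit (R := R) x) ∈ S := S.algebraMap_mem _
  have := S.add_mem h2 h3
  rwa [sub_add_cancel] at this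

end final

end Groth.Agent.Lib.Helper92.OTMu
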