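import Mathlib

/-!
# Finite projective modules of rank one at every prime (helper92)

For `M` finite projective over `R` with `Module.rankAtStalk M q = 1` for all primes `q`:
* `exists_local_gen` : local generators up to denominators;
* `eq_zero_of_forall_prime` : local vanishing criterion;
* `smul_comm_of_rank_one` : `ξ a • x = ξ x • a` for `ξ : M →ₗ[R] R`;
* `eq_zero_of_smul_eq_zero` : `M` is faithful.
-/

set_option autoImplicit false

namespace Groth.Agent.Lib.Helper92.RankOne

variable {R : Type*} [CommRing R] {M : Type*} [AddCommGroup M] [Module R M]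

theorem eq_zero_of_forall_prime (z : M)
    (h : ∀ q : PrimeSpectrum R, ∃ c : R, c ∉ q.asIdeal ∧ c • z = 0) : z = 0 := by
  let I : Ideal R := LinearMap.ker (LinearMap.toSpanSingleton R M z)
  by_cases hI : I = ⊤
  · have h1 : (1 : R) ∈ I := hI ▸ Submodule.mem_top
    have : (1 : R) • z = 0 := by simpa [I] using h1
    rwa [one_smul] at this
  · obtain ⟨m, hm, hIm⟩ := Ideal.exists_le_maximal I hI
    obtain ⟨c, hc, hcz⟩ := h ⟨m, hm.isPrime⟩
    exact absurd (hIm (show c ∈ I by simpa [I] using hcz)) hc

variable [Module.Finite R M] [Module.Projective R M]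

attribute [local instance] Module.free_of_flat_of_isLocalRing

theorem exists_local_gen (q : PrimeSpectrum R) (h : Module.rankAtStalk M q = 1) :
    ∃ e : M, (∀ y : M, ∃ c : R, c ∉ q.asIdeal ∧ ∃ γ : R, c • y = γ • e) ∧
      (∀ r : R, r • e = 0 → ∃ c : R, c ∉ q.asIdeal ∧ c * r = 0) := by
  have hfin : Module.finrank (Localization.AtPrime q.asIdeal)
      (LocalizedModule q.asIdeal.primeCompl M) = 1 := h
  let b : Module.Basis Unit (Localization.AtPrime q.asIdeal)
      (LocalizedModule q.asIdeal.primeCompl M) := Module.basisUnique Unit hfin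
  obtain ⟨⟨e', w⟩, he⟩ : ∃ ew : M × q.asIdeal.primeCompl, LocalizedModule.mk ew.1 ew.2 = b () := by
    induction' b () using LocalizedModule.induction_on with m s
    exact ⟨⟨m, s⟩, rfl⟩
  refine ⟨e', fun y => ?_, fun r hr => ?_⟩
  · have h1 : LocalizedModule.mk y (1 : q.asIdeal.primeCompl) =
        (b.repr (LocalizedModule.mk y 1) ()) • b () := by
      conv_lhs => rw [← b.sum_repr (LocalizedModule.mk y (1 : q.asIdeal.primeCompl))]
      simp
    obtain ⟨⟨γ', s⟩, hγ⟩ : ∃ gs : R × q.asIdeal.primeCompl,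
        Localization.mk gs.1 gs.2 = b.repr (LocalizedModule.mk y 1) () := by
      induction' b.repr (LocalizedModule.mk y (1 : q.asIdeal.primeCompl)) () using
        Localization.induction_on with x
      exact ⟨x, rfl⟩
    rw [← hγ, ← he, LocalizedModule.mk_smul_mk, LocalizedModule.mk_eq] at h1
    obtain ⟨v, hv⟩ := h1
    refine ⟨(v : R) * ((s : R) * (w : R)), ?_, (v : R) * γ', ?_⟩
    · intro hmem
      have := (v * (s * w)).2
      exact this hmem
    · simp only [Submonoid.smul_def, one_smul, Submonoid.coe_mul] at hv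
      rw [mul_smul, mul_smul, mul_smul]
      rw [mul_smul] at hv
      exact hv
  · have h1 : (algebraMap R (Localization.AtPrime q.asIdeal) r) • b () = 0 := by
      rw [← he, ← Localization.mk_one_eq_algebraMap, LocalizedModule.mk_smul_mk, hr,
        LocalizedModule.zero_mk]
    have h2 : algebraMap R (Localization.AtPrime q.asIdeal) r = 0 := by
      have := congrArg (fun z => b.repr z ()) h1
      simp only [map_smul, Module.Basis.repr_self, map_zero, Finsupp.smul_apply,
        Finsupp.single_eq_same, Finsupp.zero_apply, smul_eq_mul, mul_one] at this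
      exact this
    rw [IsLocalization.map_eq_zero_iff q.asIdeal.primeCompl] at h2
    obtain ⟨c, hc⟩ := h2
    exact ⟨c, c.2, hc⟩

theorem smul_comm_of_rank_one (h : ∀ q : PrimeSpectrum R, Module.rankAtStalk M q = 1)
    (ξ : M →ₗ[R] R) (a x : M) : ξ a • x = ξ x • a := by
  rw [← sub_eq_zero]
  apply eq_zero_of_forall_prime (R := R)
  intro q
  obtain ⟨e, he, -⟩ := exists_local_gen q (h q)
  obtain ⟨c₁, hc₁, γ₁, h₁⟩ := he a
  obtain ⟨c₂, hc₂, γ₂, h₂⟩ := he x
  refine ⟨c₁ * c₂, fun hmem => ?_, ?_⟩
  · rcases q.2.mem_or_mem hmem with h' | h'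
    · exact hc₁ h'
    · exact hc₂ h'
  · have e1 : (c₁ * c₂) • (ξ a • x - ξ x • a) = ξ (c₁ • a) • (c₂ • x) - ξ (c₂ • x) • (c₁ • a) := by
      simp only [map_smul, smul_eq_mul, smul_sub, smul_smul]
      congr 1
      · congr 1; ring
      · congr 1; ring
    rw [e1, h₁, h₂]
    simp only [map_smul, smul_eq_mul, smul_smul]
    rw [sub_eq_zero]
    congr 1
    ring

theorem eq_zero_of_smul_eq_zero (h : ∀ q : PrimeSpectrum R, Module.rankAtStalk M q = 1)
    (r : R) (hr : ∀ x : M, r • x = 0) : r = 0 := by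
  apply eq_zero_of_forall_prime (R := R) (M := R)
  intro q
  obtain ⟨e, -, he⟩ := exists_local_gen q (h q)
  obtain ⟨c, hc, hcr⟩ := he r (hr e)
  exact ⟨c, hc, hcr⟩

end Groth.Agent.Lib.Helper92.RankOne
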