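import Mathlib
import Groth.Agent.Lib.Helper92.OortTateMu
import Groth.Agent.Lib.Helper92.RankOne

/-!
# The Cartier pairing `ϕ : R[ℤ/p] → A ⊗ A^D` and the eigenspaces (helper92)

* `PhiL`, `Phi` : the ring homomorphism `A ⊗ A^D → WithConv (End_R A)`, `a ⊗ ξ ↦ (b ↦ ξ b • a)`; injective
  for `A` finite projective.
* `Phi_phi_ygen` : `Φ (ϕ y_i) = π_i` (the projector `piAug` onto `I_i`).
* `tmul_eq`, `main` : for `I_1` of rank one, `x ⊗ ξ = ξ(x) • ϕ(y_1)`, and statement S18477.
-/

set_option autoImplicit false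
set_option linter.unusedSectionVars false
universe u

namespace Groth.Agent.Lib.Helper92.OTPair

open WithConv TensorProduct Groth.Agent.Lib.Helper92.OT Groth.Agent.Lib.Helper92.OTMu

section Phi

variable (R : Type u) [CommRing R] (A : Type u) [CommRing A] [HopfAlgebra R A]

instance instRightDistribClassTensor : RightDistribClass (A ⊗[R] CartDual.D R A) := by
  let _ : Semiring (A ⊗[R] CartDual.D R A) := inferInstance
  infer_instance

instance instLeftDistribClassTensor : LeftDistribClass (A ⊗[R] CartDual.D R A) := by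
  let _ : Semiring (A ⊗[R] CartDual.D R A) := inferInstance
  infer_instance

noncomputable instance instMulZeroClassTensor : MulZeroClass (A ⊗[R] CartDual.D R A) := by
  let _ : Semiring (A ⊗[R] CartDual.D R A) := inferInstance
  infer_instance

instance instMonoidHomClassTensor {X : Type*} [Semiring X] [Algebra R X] :
    MonoidHomClass (X →ₐ[R] A ⊗[R] CartDual.D R A) X (A ⊗[R] CartDual.D R A) :=
  RingHomClass.toMonoidHomClass

/-- `a ⊗ ξ ↦ (b ↦ ξ b • a)` -/
noncomputable def PhiL : A ⊗[R] CartDual.D R A →ₗ[R] (A →ₗ[R] A) :=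
  dualTensorHom R A A ∘ₗ (TensorProduct.comm R A (Module.Dual R A)).toLinearMap ∘ₗ
    (LinearMap.lTensor A (CartDual.toDual R A).toLinearMap)

theorem PhiL_tmul (a : A) (ξ : CartDual.D R A) (b : A) : PhiL R A (a ⊗ₜ ξ) b = ξ b • a := by
  simp [PhiL, CartDual.coe_apply]

theorem PhiL_injective [Module.Finite R A] [Module.Projective R A] :
    Function.Injective (PhiL R A) := by
  unfold PhiL
  rw [LinearMap.coe_comp, LinearMap.coe_comp]
  refine (dualTensorHom_bijective (R := R) (M := A) (N := A)).1.comp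
    ((TensorProduct.comm R A (Module.Dual R A)).injective.comp ?_)
  have : (LinearMap.lTensor A (CartDual.toDual R A).toLinearMap) =
      ((CartDual.toDual R A).lTensor A).toLinearMap := rfl
  rw [this]
  exact ((CartDual.toDual R A).lTensor A).injective

theorem PhiL_one : PhiL R A 1 = (1 : WithConv (A →ₗ[R] A)).ofConv := by
  rw [Algebra.TensorProduct.one_def]
  apply LinearMap.ext
  intro b
  rw [PhiL_tmul]
  simp [LinearMap.convOne_def, Algebra.algebraMap_eq_smul_one, CartDual.coe_apply]

theorem PhiL_mul (x y : A ⊗[R] CartDual.D R A) :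
    toConv (PhiL R A (x * y)) = toConv (PhiL R A x) * toConv (PhiL R A y) := by
  induction x using TensorProduct.induction_on with
  | zero => simp
  | add x₁ x₂ h₁ h₂ => rw [add_mul, map_add, toConv_add, h₁, h₂, map_add, toConv_add, add_mul]
  | tmul a ξ =>
    induction y using TensorProduct.induction_on with
    | zero => simp
    | add y₁ y₂ h₁ h₂ => rw [mul_add, map_add, toConv_add, h₁, h₂, map_add, toConv_add, mul_add]
    | tmul b η =>
      rw [Algebra.TensorProduct.tmul_mul_tmul]
      apply WithConv.ofConv_injective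
      apply LinearMap.ext
      intro c
      rw [ofConv_toConv, PhiL_tmul, LinearMap.convMul_def ξ η,
        LinearMap.convMul_def (toConv (PhiL R A (a ⊗ₜ ξ)))]
      simp only [ofConv_toConv, LinearMap.comp_apply, CartDual.coe_apply]
      generalize Coalgebra.comul (R := R) c = t
      induction t using TensorProduct.induction_on with
      | zero => simp
      | tmul c₁ c₂ =>
        simp only [TensorProduct.map_tmul, LinearMap.mul'_apply, PhiL_tmul, CartDual.coe_apply]
        rw [smul_mul_smul_comm]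
      | add t t' ht ht' => simp only [map_add, add_smul, ht, ht']

/-- `Φ` as a ring homomorphism into the convolution ring -/
noncomputable def Phi : A ⊗[R] CartDual.D R A →+* WithConv (A →ₗ[R] A) where
  toFun x := toConv (PhiL R A x)
  map_one' := by rw [PhiL_one]
  map_mul' := PhiL_mul R A
  map_zero' := by simp
  map_add' := by intro x y; rw [map_add]; rfl
set_option linter.unusedVariables false

theorem Phi_apply (x : A ⊗[R] CartDual.D R A) : Phi R A x = toConv (PhiL R A x) := rfl

theorem Phi_smul (r : R) (x : A ⊗[R] CartDual.D R A) : Phi R A (r • x) = r • Phi R A x := by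
  rw [Phi_apply, Phi_apply, map_smul]; rfl

theorem Phi_injective [Module.Finite R A] [Module.Projective R A] :
    Function.Injective (Phi R A) := fun x y h =>
  PhiL_injective R A (WithConv.toConv_injective h)

theorem rid_lTensor_eval (t : A ⊗[R] CartDual.D R A) (a : A) :
    TensorProduct.rid R A (LinearMap.lTensor A
      ((Module.Dual.eval R A a) ∘ₗ (CartDual.toDual R A).toLinearMap) t) = PhiL R A t a := by
  induction t using TensorProduct.induction_on with
  | zero => simp
  | tmul b ξ => simp [PhiL_tmul, CartDual.coe_apply]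
  | add t t' ht ht' => simp only [map_add, LinearMap.add_apply, ht, ht']

theorem PhiL_map (f g : A →ₗ[R] A) (t : A ⊗[R] CartDual.D R A) :
    PhiL R A (TensorProduct.map f (tr R A g) t) = f ∘ₗ PhiL R A t ∘ₗ g := by
  induction t using TensorProduct.induction_on with
  | zero => simp
  | tmul b ξ =>
    apply LinearMap.ext
    intro c
    rw [TensorProduct.map_tmul, PhiL_tmul, tr_apply, LinearMap.comp_apply, LinearMap.comp_apply,
      PhiL_tmul, map_smul]
  | add t t' ht ht' => simp only [map_add, ht, ht', LinearMap.add_comp, LinearMap.comp_add]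

end Phi

section main

variable (p : ℕ) [Fact p.Prime] (R : Type u) [CommRing R] (u : R) (hu : u * ((p - 1 : ℕ) : R) = 1)
  (χ : (ZMod p)ˣ →* Rˣ)
  (A : Type u) [CommRing A] [HopfAlgebra R A] [Coalgebra.IsCocomm R A] [Module.Finite R A]
  [Module.Projective R A]
  (δ : A ⊗[R] CartDual.D R A)
  (hδ : ∀ a : A, TensorProduct.rid R A
    (LinearMap.lTensor A ((Module.Dual.eval R A a) ∘ₗ (CartDual.toDual R A).toLinearMap) δ) = a)
  (ϕ : MonoidAlgebra R (Multiplicative (ZMod p)) →ₐ[R] A ⊗[R] CartDual.D R A)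
  (hϕ : ϕ (OortTate.muT R p) = δ)

include hδ in
theorem Phi_delta : Phi R A δ = toConv (LinearMap.id : A →ₗ[R] A) := by
  rw [Phi_apply]
  congr 1
  apply LinearMap.ext
  intro a
  rw [← rid_lTensor_eval, hδ]
  rfl

theorem Tm_eq_pow' (a : ZMod p) : Tm R p a = (OortTate.muT R p) ^ a.val := by
  unfold Tm OortTate.muT
  rw [← map_pow]
  congr 1
  apply Multiplicative.toAdd.injective
  rw [toAdd_pow, toAdd_ofAdd, toAdd_ofAdd, nsmul_eq_mul, mul_one, ZMod.natCast_zmod_val]

theorem muT_pow_p : (OortTate.muT R p) ^ p = 1 := by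
  unfold OortTate.muT
  rw [← map_pow]
  have : (Multiplicative.ofAdd (1 : ZMod p)) ^ p = 1 := by
    apply Multiplicative.toAdd.injective
    rw [toAdd_pow]
    simp
  rw [this, map_one]

include hδ hϕ in
theorem Phi_phi_Tm (a : ZMod p) :
    Phi R A (ϕ (Tm R p a)) = (toConv (LinearMap.id : A →ₗ[R] A)) ^ a.val := by
  rw [Tm_eq_pow', map_pow, map_pow, hϕ, Phi_delta R A δ hδ]

include hδ hϕ in
theorem hp_of_phi : (toConv (AlgHom.id R A)) ^ p = 1 := by
  have h1 : (toConv (LinearMap.id : A →ₗ[R] A)) ^ p = 1 := by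
    rw [← Phi_delta R A δ hδ, ← hϕ, ← map_pow, ← map_pow, muT_pow_p, map_one, map_one]
  apply (WithConv.toConv_injective.comp <|
    AlgHom.toLinearMap_injective.comp WithConv.ofConv_injective)
  simp only [Function.comp_apply]
  rw [AlgHom.toLinearMap_convPow, AlgHom.toLinearMap_convOne]
  exact h1

include hδ hϕ in
theorem Phi_phi_Tm' (m : (ZMod p)ˣ) :
    Phi R A (ϕ (Tm R p (m : ZMod p))) =
      toConv (SGA3b.powConv R A (m : ZMod p).val).toLinearMap := by
  rw [Phi_phi_Tm p R A δ hδ ϕ hϕ]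
  unfold SGA3b.powConv
  rw [AlgHom.toLinearMap_convPow]
  rfl

include hδ hϕ in
theorem Phi_phi_ygen (i : ℕ) :
    Phi R A (ϕ (OortTate.ygen R p u χ i)) = toConv (piAug R A p χ u i) := by
  rw [ygen_eq, map_smul, Phi_smul, map_sum, map_sum]
  simp only [map_smul, Phi_smul, map_sub, map_one, Phi_phi_Tm' p R A δ hδ ϕ hϕ]
  apply WithConv.ofConv_injective
  apply LinearMap.ext
  intro a
  rw [ofConv_toConv, piAug_apply]
  unfold OortTate.proj
  simp only [WithConv.ofConv_smul, WithConv.ofConv_sum, WithConv.ofConv_sub, ofConv_toConv,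
    LinearMap.smul_apply, LinearMap.sum_apply, LinearMap.sub_apply, AlgHom.toLinearMap_apply,
    map_sub, AlgHom.commutes]
  rw [← smul_sub, ← Finset.sum_sub_distrib]
  congr 1
  refine Finset.sum_congr rfl fun m _ => ?_
  rw [smul_sub]
  rfl

variable (hfin : Module.Finite R (OortTate.eigenAug R A p χ 1))
  (hproj : Module.Projective R (OortTate.eigenAug R A p χ 1))
  (hrk1 : ∀ q : PrimeSpectrum R, Module.rankAtStalk (OortTate.eigenAug R A p χ 1) q = 1)

include hu hδ hϕ in
theorem tmul_eq' (hcomm : ∀ (ζ : OortTate.eigenAug R A p χ 1 →ₗ[R] R)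
      (a b : OortTate.eigenAug R A p χ 1), ζ a • b = ζ b • a)
    (x : A) (hx : x ∈ OortTate.eigenAug R A p χ 1) (ξ : CartDual.D R A)
    (hξ : ξ ∈ OortTate.eigenAug R (CartDual.D R A) p χ 1) :
    x ⊗ₜ[R] ξ = (ξ x) • ϕ (OortTate.ygen R p u χ 1) := by
  have hp := hp_of_phi p R A δ hδ ϕ hϕ
  apply Phi_injective R A
  rw [Phi_smul, Phi_phi_ygen p R u χ A δ hδ ϕ hϕ 1]
  apply WithConv.ofConv_injective
  apply LinearMap.ext
  intro a
  show PhiL R A (x ⊗ₜ ξ) a = (ξ x) • piAug R A p χ u 1 a
  rw [PhiL_tmul, ← dual_piAug R A p χ hp u hu 1 ξ hξ a]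
  have := hcomm (ξ.ofConv ∘ₗ (OortTate.eigenAug R A p χ 1).subtype)
    ⟨piAug R A p χ u 1 a, piAug_mem R A p χ hp u 1 a⟩ ⟨x, hx⟩
  exact congrArg Subtype.val this

include hu hδ hϕ hfin hproj hrk1 in
theorem tmul_eq (x : A) (hx : x ∈ OortTate.eigenAug R A p χ 1) (ξ : CartDual.D R A)
    (hξ : ξ ∈ OortTate.eigenAug R (CartDual.D R A) p χ 1) :
    x ⊗ₜ[R] ξ = (ξ x) • ϕ (OortTate.ygen R p u χ 1) :=
  tmul_eq' p R u hu χ A δ hδ ϕ hϕ (RankOne.smul_comm_of_rank_one hrk1) x hx ξ hξ

theorem tr_piAug_mem (hp : (toConv (AlgHom.id R A)) ^ p = 1) (i : ℕ) (ξ : CartDual.D R A) :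
    tr R A (piAug R A p χ u i) ξ ∈ OortTate.eigenAug R (CartDual.D R A) p χ i := by
  rw [mem_eigenAug_dual]
  refine ⟨?_, fun m a => ?_⟩
  · rw [tr_apply, piAug_one, map_zero]
  · rw [tr_apply, tr_apply, piAug_powConv R A p χ hp u i m a, map_smul, smul_eq_mul]

include hu hδ hϕ hfin hproj hrk1 in
theorem main :
    Submodule.span R {ϕ (OortTate.ygen R p u χ 1)} =
        LinearMap.range (TensorProduct.map (OortTate.eigenAug R A p χ 1).subtype
          (OortTate.eigenAug R (CartDual.D R A) p χ 1).subtype) ∧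
      ∀ r : R, r • ϕ (OortTate.ygen R p u χ 1) = 0 → r = 0 := by
  have hp := hp_of_phi p R A δ hδ ϕ hϕ
  have hΦy : Phi R A (ϕ (OortTate.ygen R p u χ 1)) = toConv (piAug R A p χ u 1) :=
    Phi_phi_ygen p R u χ A δ hδ ϕ hϕ 1
  refine ⟨le_antisymm ?_ ?_, ?_⟩
  · rw [Submodule.span_le, Set.singleton_subset_iff]
    have hfix : TensorProduct.map (piAug R A p χ u 1) (tr R A (piAug R A p χ u 1))
        (ϕ (OortTate.ygen R p u χ 1)) = ϕ (OortTate.ygen R p u χ 1) := by
      apply PhiL_injective R A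
      rw [PhiL_map]
      have h1 : PhiL R A (ϕ (OortTate.ygen R p u χ 1)) = piAug R A p χ u 1 :=
        congrArg WithConv.ofConv hΦy
      rw [h1]
      apply LinearMap.ext
      intro a
      simp only [LinearMap.comp_apply]
      rw [piAug_fix R A p χ hp u hu 1 _ (piAug_mem R A p χ hp u 1 a),
        piAug_fix R A p χ hp u hu 1 _ (piAug_mem R A p χ hp u 1 a)]
    rw [← hfix]
    generalize ϕ (OortTate.ygen R p u χ 1) = t
    induction t using TensorProduct.induction_on with
    | zero => simp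
    | tmul a ξ =>
      rw [TensorProduct.map_tmul]
      exact ⟨(⟨piAug R A p χ u 1 a, piAug_mem R A p χ hp u 1 a⟩ :
          OortTate.eigenAug R A p χ 1) ⊗ₜ
        (⟨tr R A (piAug R A p χ u 1) ξ, tr_piAug_mem p R u χ A hp 1 ξ⟩ :
          OortTate.eigenAug R (CartDual.D R A) p χ 1), by rw [TensorProduct.map_tmul]; rfl⟩
    | add t t' ht ht' =>
      rw [map_add]
      exact Submodule.add_mem _ ht ht'
  · rintro _ ⟨t, rfl⟩
    induction t using TensorProduct.induction_on with
    | zero => simp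
    | tmul x ξ =>
      rw [TensorProduct.map_tmul]
      simp only [Submodule.subtype_apply]
      rw [tmul_eq p R u hu χ A δ hδ ϕ hϕ hfin hproj hrk1 x.1 x.2 ξ.1 ξ.2]
      exact Submodule.smul_mem _ _ (Submodule.mem_span_singleton_self _)
    | add t t' ht ht' =>
      rw [map_add]
      exact Submodule.add_mem _ ht ht'
  · intro r hr
    apply RankOne.eq_zero_of_smul_eq_zero hrk1
    intro x
    have h1 : r • Phi R A (ϕ (OortTate.ygen R p u χ 1)) = 0 := by
      rw [← Phi_smul, hr, map_zero]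
    rw [hΦy] at h1
    have h2 := congrArg (fun f : WithConv (A →ₗ[R] A) => f.ofConv (x : A)) h1
    simp only [WithConv.ofConv_smul, ofConv_toConv, LinearMap.smul_apply, WithConv.ofConv_zero,
      LinearMap.zero_apply] at h2
    rw [piAug_fix R A p χ hp u hu 1 _ x.2] at h2
    exact Subtype.ext h2

end main

end Groth.Agent.Lib.Helper92.OTPair
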