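import Mathlib
import Groth.Agent.Lib.Helper92.OortTatePair

/-!
# Oort–Tate frames: group schemes of order `p` with free `I_1` (helper92)

For `A` commutative cocommutative Hopf, finite projective of rank `p`, killed by `p`, with
`I_1(A) = R x`, `ξ ∈ I_1(A^D)`, `ξ(x) = 1`:
* `exists_phi` : the Cartier pairing map `ϕ : R[ℤ/p] → A ⊗ A^D` exists;
* `expansion` : `a = Σ_{k<p} (wi k * ξ^k(a)) • x^k`;
-/

set_option autoImplicit false
set_option linter.unusedSectionVars false
set_option linter.unusedVariables false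
universe u

namespace Groth.Agent.Lib.Helper92.OTFrame

open WithConv TensorProduct Groth.Agent.Lib.Helper92.OT Groth.Agent.Lib.Helper92.OTMu
  Groth.Agent.Lib.Helper92.OTPair

section construct

variable (p : ℕ) [Fact p.Prime] (R : Type u) [CommRing R]
  (A : Type u) [CommRing A] [HopfAlgebra R A] [Coalgebra.IsCocomm R A] [Module.Finite R A]
  [Module.Projective R A]

theorem PhiL_surjective : Function.Surjective (PhiL R A) := by
  unfold PhiL
  rw [LinearMap.coe_comp, LinearMap.coe_comp]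
  refine (dualTensorHom_bijective (R := R) (M := A) (N := A)).2.comp
    ((TensorProduct.comm R A (Module.Dual R A)).surjective.comp ?_)
  have : (LinearMap.lTensor A (CartDual.toDual R A).toLinearMap) =
      ((CartDual.toDual R A).lTensor A).toLinearMap := rfl
  rw [this]
  exact ((CartDual.toDual R A).lTensor A).surjective

theorem exists_phi (hp : (toConv (AlgHom.id R A)) ^ p = 1) :
    ∃ (δ : A ⊗[R] CartDual.D R A)
      (ϕ : MonoidAlgebra R (Multiplicative (ZMod p)) →ₐ[R] A ⊗[R] CartDual.D R A),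
      (∀ a : A, TensorProduct.rid R A (LinearMap.lTensor A
        ((Module.Dual.eval R A a) ∘ₗ (CartDual.toDual R A).toLinearMap) δ) = a) ∧
      ϕ (OortTate.muT R p) = δ := by
  obtain ⟨δ, hδ⟩ := PhiL_surjective R A (LinearMap.id)
  have hδ' : ∀ a : A, TensorProduct.rid R A (LinearMap.lTensor A
      ((Module.Dual.eval R A a) ∘ₗ (CartDual.toDual R A).toLinearMap) δ) = a := by
    intro a
    rw [rid_lTensor_eval, hδ]
    rfl
  have hδp : δ ^ p = 1 := by
    apply Phi_injective R A
    rw [map_pow, map_one, Phi_delta R A δ hδ']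
    have h1 := congrArg (fun f : WithConv (A →ₐ[R] A) => toConv f.ofConv.toLinearMap) hp
    simp only [AlgHom.toLinearMap_convPow, AlgHom.toLinearMap_convOne] at h1
    exact h1
  have hp1 : Fact (1 < p) := ⟨(Fact.out : p.Prime).one_lt⟩
  let F : Multiplicative (ZMod p) →* A ⊗[R] CartDual.D R A :=
    { toFun := fun a => δ ^ (Multiplicative.toAdd a).val
      map_one' := by simp
      map_mul' := fun a b => by
        rw [toAdd_mul, ZMod.val_add, ← pow_add, ← pow_eq_pow_mod _ hδp] }
  refine ⟨δ, MonoidAlgebra.lift R (A ⊗[R] CartDual.D R A) (Multiplicative (ZMod p)) F, hδ', ?_⟩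
  unfold OortTate.muT
  rw [MonoidAlgebra.lift_of]
  show δ ^ (1 : ZMod p).val = δ
  rw [ZMod.val_one, pow_one]

end construct

section expansion

variable (p : ℕ) [Fact p.Prime] (R : Type u) [CommRing R] (u : R) (hu : u * ((p - 1 : ℕ) : R) = 1)
  (χ : (ZMod p)ˣ →* Rˣ) (hχ : ∀ m : (ZMod p)ˣ, m ≠ 1 → IsUnit ((χ m : R) - 1))
  (w wi : ℕ → R) (hwi0 : wi 0 = 1)
  (hw : ∀ j, 1 ≤ j → j ≤ p - 1 → wi j * w j = 1 ∧
    OortTate.ygen R p u χ 1 ^ j = w j • OortTate.ygen R p u χ j)
  (A : Type u) [CommRing A] [HopfAlgebra R A] [Coalgebra.IsCocomm R A] [Module.Finite R A]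
  [Module.Projective R A]
  (hp : (toConv (AlgHom.id R A)) ^ p = 1)
  (x : A) (hx : Submodule.span R {x} = OortTate.eigenAug R A p χ 1)
  (ξ : CartDual.D R A) (hξ : ξ ∈ OortTate.eigenAug R (CartDual.D R A) p χ 1)
  (hxξ : ξ x = 1)

include hx in
theorem hcomm (ζ : OortTate.eigenAug R A p χ 1 →ₗ[R] R)
    (a b : OortTate.eigenAug R A p χ 1) : ζ a • b = ζ b • a := by
  have hx0 : x ∈ OortTate.eigenAug R A p χ 1 := hx ▸ Submodule.mem_span_singleton_self x
  have ha' : (a : A) ∈ Submodule.span R {x} := by rw [hx]; exact a.2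
  have hb' : (b : A) ∈ Submodule.span R {x} := by rw [hx]; exact b.2
  obtain ⟨c, hc⟩ := Submodule.mem_span_singleton.mp ha'
  obtain ⟨d, hd⟩ := Submodule.mem_span_singleton.mp hb'
  have ha : a = c • (⟨x, hx0⟩ : OortTate.eigenAug R A p χ 1) := Subtype.ext hc.symm
  have hb : b = d • (⟨x, hx0⟩ : OortTate.eigenAug R A p χ 1) := Subtype.ext hd.symm
  rw [ha, hb]
  simp only [map_smul, smul_eq_mul, smul_smul]
  congr 1
  ring

include hu hw hp hx hξ hxξ in
/-- `π_i(a) = wi_i ξ^i(a) x^i` for `1 ≤ i ≤ p - 1` -/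
theorem piAug_eq (i : ℕ) (hi1 : 1 ≤ i) (hi2 : i ≤ p - 1) (a : A) :
    piAug R A p χ u i a = (wi i * (ξ ^ i) a) • x ^ i := by
  obtain ⟨δ, ϕ, hδ, hϕ⟩ := exists_phi p R A hp
  have hx0 : x ∈ OortTate.eigenAug R A p χ 1 := hx ▸ Submodule.mem_span_singleton_self x
  have h1 : x ⊗ₜ[R] ξ = ϕ (OortTate.ygen R p u χ 1) := by
    rw [tmul_eq' p R u hu χ A δ hδ ϕ hϕ (hcomm p R χ A x hx) x hx0 ξ hξ, hxξ, one_smul]
  obtain ⟨hwi, hwj⟩ := hw i hi1 hi2
  have h2 : ϕ (OortTate.ygen R p u χ i) = wi i • ((x ^ i) ⊗ₜ[R] (ξ ^ i)) := by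
    rw [← Algebra.TensorProduct.tmul_pow, h1, ← map_pow, hwj, map_smul, smul_smul, hwi, one_smul]
  have h3 := Phi_phi_ygen p R u χ A δ hδ ϕ hϕ i
  rw [h2, Phi_smul] at h3
  have h4 := congrArg (fun f : WithConv (A →ₗ[R] A) => f.ofConv a) h3
  simp only [WithConv.ofConv_smul, ofConv_toConv, LinearMap.smul_apply, Phi_apply, PhiL_tmul] at h4
  rw [← h4, smul_smul]

theorem proj_add_period (j : ℕ) :
    OortTate.proj R A p u χ (j + (p - 1)) = OortTate.proj R A p u χ j := by
  unfold OortTate.proj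
  congr 1
  refine Finset.sum_congr rfl fun m _ => ?_
  congr 1
  rw [pow_add, ← Units.val_pow_eq_pow_val (χ m⁻¹) (p - 1), ← map_pow,
    ZMod.units_pow_card_sub_one_eq_one, map_one, Units.val_one, mul_one]

theorem piAug_add_period (j : ℕ) (a : A) :
    piAug R A p χ u (j + (p - 1)) a = piAug R A p χ u j a := by
  rw [piAug_apply, piAug_apply, proj_add_period]

include hu hχ hp in
theorem sum_piAug (a : A) :
    ∑ i ∈ Finset.range (p - 1), piAug R A p χ u i a =
      a - algebraMap R A (Coalgebra.counit (R := R) a) := by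
  have hcoi := coi R A p hp u hu χ hχ
  have h1 := LinearMap.congr_fun hcoi.complete (a - algebraMap R A (Coalgebra.counit (R := R) a))
  rw [LinearMap.sum_apply, Module.End.one_apply] at h1
  rw [← Fin.sum_univ_eq_sum_range (fun i => piAug R A p χ u i a) (p - 1)]
  exact h1

include hu hχ hp in
theorem sum_piAug_succ (a : A) :
    ∑ i ∈ Finset.range (p - 1), piAug R A p χ u (i + 1) a =
      a - algebraMap R A (Coalgebra.counit (R := R) a) := by
  rw [← sum_piAug p R u hu χ hχ A hp a]
  have hp2 : 2 ≤ p := (Fact.out : p.Prime).two_le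
  obtain ⟨m, hm⟩ : ∃ m, p - 1 = m + 1 := ⟨p - 2, by omega⟩
  rw [hm, Finset.sum_range_succ, Finset.sum_range_succ' (fun i => piAug R A p χ u i a)]
  congr 1
  have := piAug_add_period p R u χ A 0 a
  rw [zero_add, hm] at this
  exact this

include hu hχ hw hwi0 hp hx hξ hxξ in
/-- `a = Σ_{k<p} (wi_k ξ^k(a)) x^k` -/
theorem expansion (a : A) :
    a = ∑ k ∈ Finset.range p, (wi k * (ξ ^ k) a) • x ^ k := by
  have hp2 : 2 ≤ p := (Fact.out : p.Prime).two_le
  obtain ⟨m, hm⟩ : ∃ m, p = m + 1 := ⟨p - 1, by omega⟩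
  have hm' : m = p - 1 := by omega
  rw [hm, Finset.sum_range_succ', hm']
  have h0 : (wi 0 * (ξ ^ 0) a) • x ^ 0 = algebraMap R A (Coalgebra.counit (R := R) a) := by
    rw [hwi0, one_mul, pow_zero, pow_zero, Algebra.algebraMap_eq_smul_one]
    rfl
  rw [h0]
  have h1 : ∑ k ∈ Finset.range (p - 1), (wi (k + 1) * (ξ ^ (k + 1)) a) • x ^ (k + 1) =
      ∑ k ∈ Finset.range (p - 1), piAug R A p χ u (k + 1) a := by
    refine Finset.sum_congr rfl fun k hk => ?_
    rw [Finset.mem_range] at hk
    rw [piAug_eq p R u hu χ w wi hw A hp x hx ξ hξ hxξ (k + 1) (by omega) (by omega) a]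
  rw [h1, sum_piAug_succ p R u hu χ hχ A hp a, sub_add_cancel]

/-- the linear combination map of the powers of `x` -/
noncomputable def Lx : (Fin p → R) →ₗ[R] A :=
  Fintype.linearCombination R (fun k : Fin p => x ^ (k : ℕ))

theorem Lx_apply (c : Fin p → R) : Lx p R A x c = ∑ k : Fin p, c k • x ^ (k : ℕ) :=
  Fintype.linearCombination_apply R _ c

variable (hrk : ∀ q : PrimeSpectrum R, Module.rankAtStalk A q = p)

include hu hχ hw hwi0 hp hx hξ hxξ in
theorem Lx_coeff (a : A) : Lx p R A x (fun k : Fin p => wi k * (ξ ^ (k : ℕ)) a) = a := by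
  rw [Lx_apply, Fin.sum_univ_eq_sum_range (fun k => (wi k * (ξ ^ k) a) • x ^ k) p]
  exact (expansion p R u hu χ hχ w wi hwi0 hw A hp x hx ξ hξ hxξ a).symm

include hu hχ hw hwi0 hp hx hξ hxξ hrk in
theorem Lx_bijective : Function.Bijective (Lx p R A x) := by
  have hsurj : Function.Surjective (Lx p R A x) := fun a =>
    ⟨_, Lx_coeff p R u hu χ hχ w wi hwi0 hw A hp x hx ξ hξ hxξ a⟩
  rcases subsingleton_or_nontrivial R with hR | hR
  · haveI : Subsingleton A := Module.subsingleton R A
    exact ⟨fun a b _ => Subsingleton.elim _ _, hsurj⟩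
  · apply Module.bijective_of_surjective_of_rankAtStalk_eq hsurj
    intro m hm
    rw [hrk, Module.rankAtStalk_eq_finrank_of_free]
    simp

/-- the basis `1, x, …, x^(p-1)` -/
noncomputable def basisX (hbij : Function.Bijective (Lx p R A x)) : Module.Basis (Fin p) R A :=
  Module.Basis.ofEquivFun (LinearEquiv.ofBijective (Lx p R A x) hbij).symm

theorem basisX_apply (hbij : Function.Bijective (Lx p R A x)) (k : Fin p) :
    basisX p R A x hbij k = x ^ (k : ℕ) := by
  classical
  unfold basisX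
  rw [Module.Basis.coe_ofEquivFun]
  simp only [LinearEquiv.symm_symm, LinearEquiv.ofBijective_apply]
  rw [Lx_apply, Finset.sum_eq_single k]
  · rw [Pi.single_eq_same, one_smul]
  · intro j _ hj
    rw [Pi.single_eq_of_ne hj, zero_smul]
  · intro h
    exact absurd (Finset.mem_univ _) h

variable (hw0 : w 0 = 1)

include hu hχ hw hwi0 hw0 hp hx hξ hxξ hrk in
/-- the pairing table `ξ^k (x^j) = w_k δ_{kj}` -/
theorem table (k j : ℕ) (hk : k < p) (hj : j < p) :
    (ξ ^ k) (x ^ j) = if k = j then w k else 0 := by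
  classical
  have hbij := Lx_bijective p R u hu χ hχ w wi hwi0 hw A hp x hx ξ hξ hxξ hrk
  have h1 := Lx_coeff p R u hu χ hχ w wi hwi0 hw A hp x hx ξ hξ hxξ (x ^ j)
  have h2 : Lx p R A x (Pi.single (⟨j, hj⟩ : Fin p) (1 : R)) = x ^ j := by
    rw [Lx_apply, Finset.sum_eq_single (⟨j, hj⟩ : Fin p)]
    · rw [Pi.single_eq_same, one_smul]
    · intro i _ hi
      rw [Pi.single_eq_of_ne hi, zero_smul]
    · intro h
      exact absurd (Finset.mem_univ _) h
  have h3 := hbij.1 (h1.trans h2.symm)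
  have h4 := congrFun h3 ⟨k, hk⟩
  simp only at h4
  have h5 : wi k * (ξ ^ k) (x ^ j) = if k = j then 1 else 0 := by
    rw [h4, Pi.single_apply]
    simp only [Fin.mk.injEq]
  have hwk : w k * wi k = 1 := by
    rcases Nat.eq_zero_or_pos k with h0 | hpos
    · rw [h0, hw0, hwi0, one_mul]
    · rw [mul_comm]; exact (hw k hpos (by omega)).1
  calc (ξ ^ k) (x ^ j) = (w k * wi k) * (ξ ^ k) (x ^ j) := by rw [hwk, one_mul]
    _ = w k * (wi k * (ξ ^ k) (x ^ j)) := by ring
    _ = if k = j then w k else 0 := by rw [h5]; split_ifs <;> simp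

end expansion

section lemmaX

variable {R : Type u} [CommRing R] {S S' : Type u} [CommRing S] [Algebra R S] [CommRing S']
  [Algebra R S']
  (p : ℕ) (hp2 : 2 ≤ p) (b : Module.Basis (Fin p) R S) (x : S) (hb : ∀ k : Fin p, b k = x ^ (k : ℕ))
  (α : R) (hα : x ^ p = α • x) (y : S') (hy : y ^ p = α • y)

/-- the linear map `x^k ↦ y^k` -/
noncomputable def powLin : S →ₗ[R] S' := b.constr R (fun k : Fin p => y ^ (k : ℕ))

theorem pow_reduce {T : Type u} [CommRing T] [Algebra R T] (z : T) (hz : z ^ p = α • z) (n : ℕ)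
    (hn : p ≤ n) : z ^ n = α • z ^ (n - p + 1) := by
  calc z ^ n = z ^ ((n - p) + p) := by congr 1; omega
    _ = z ^ (n - p) * z ^ p := pow_add _ _ _
    _ = α • z ^ (n - p + 1) := by rw [hz, mul_smul_comm, pow_succ]

include hp2 hb hα hy in
theorem powLin_pow (n : ℕ) : powLin p b y (x ^ n) = y ^ n := by
  induction n using Nat.strong_induction_on with
  | _ n ih =>
    by_cases hn : n < p
    · rw [← hb ⟨n, hn⟩]
      unfold powLin
      rw [Module.Basis.constr_basis]
    · push Not at hn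
      rw [pow_reduce p α x hα n hn, map_smul, ih (n - p + 1) (by omega),
        pow_reduce p α y hy n hn]

include hp2 hb hα hy in
theorem powLin_mul (a c : S) : powLin p b y (a * c) = powLin p b y a * powLin p b y c := by
  have key : ∀ i j : Fin p, powLin p b y (b i * b j) = powLin p b y (b i) * powLin p b y (b j) := by
    intro i j
    rw [hb, hb, ← pow_add, powLin_pow p hp2 b x hb α hα y hy, powLin_pow p hp2 b x hb α hα y hy,
      powLin_pow p hp2 b x hb α hα y hy, pow_add]
  have h1 : ∀ i : Fin p, powLin p b y ∘ₗ LinearMap.mulLeft R (b i) =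
      LinearMap.mulLeft R (powLin p b y (b i)) ∘ₗ powLin p b y := fun i =>
    b.ext fun j => by simpa using key i j
  have h2 : ∀ c : S, powLin p b y ∘ₗ LinearMap.mulRight R c =
      LinearMap.mulRight R (powLin p b y c) ∘ₗ powLin p b y := fun c =>
    b.ext fun i => by simpa using LinearMap.congr_fun (h1 i) c
  simpa using LinearMap.congr_fun (h2 c) a

/-- the algebra map with `x ↦ y` -/
noncomputable def powHom : S →ₐ[R] S' :=
  AlgHom.ofLinearMap (powLin p b y)
    (by
      have := powLin_pow p hp2 b x hb α hα y hy 0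
      rwa [pow_zero, pow_zero] at this)
    (powLin_mul p hp2 b x hb α hα y hy)

theorem powHom_x : powHom p hp2 b x hb α hα y hy x = y := by
  have := powLin_pow p hp2 b x hb α hα y hy 1
  rwa [pow_one, pow_one] at this

include hb in
theorem algHom_ext_of_basis {T : Type u} [Semiring T] [Algebra R T] (f g : S →ₐ[R] T)
    (h : f x = g x) : f = g := by
  apply AlgHom.toLinearMap_injective
  apply b.ext
  intro k
  rw [hb]
  simp only [AlgHom.toLinearMap_apply, map_pow, h]

end lemmaX

end Groth.Agent.Lib.Helper92.OTFrame
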