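import Mathlib
import Groth.Agent.Lib.Helper92.OortTateFrame
import Groth.Agent.S15048

/-!
# Oort–Tate: two frames with the same `(α, β)` are isomorphic (helper92)
-/

set_option autoImplicit false
set_option linter.unusedSectionVars false
set_option linter.unusedVariables false
universe u

namespace Groth.Agent.Lib.Helper92.OTFrame

open WithConv TensorProduct Groth.Agent.Lib.Helper92.OT Groth.Agent.Lib.Helper92.OTMu
  Groth.Agent.Lib.Helper92.OTPair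

section trHom

variable (R : Type u) [CommRing R] (A A' : Type u) [CommRing A] [HopfAlgebra R A]
  [CommRing A'] [HopfAlgebra R A']

/-- transpose `A'^D → A^D` of a linear map `A → A'` -/
noncomputable def trHom (ψ : A →ₗ[R] A') : CartDual.D R A' →ₗ[R] CartDual.D R A :=
  (CartDual.toDual R A).symm.toLinearMap ∘ₗ ψ.dualMap ∘ₗ (CartDual.toDual R A').toLinearMap

@[simp] theorem trHom_apply (ψ : A →ₗ[R] A') (η : CartDual.D R A') (a : A) :
    trHom R A A' ψ η a = η (ψ a) := rfl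

variable [Module.Finite R A] [Module.Projective R A] [Module.Finite R A'] [Module.Projective R A']

theorem ev₂_map (ψ : A →ₗ[R] A') (η₁ η₂ : CartDual.D R A') (t : A ⊗[R] A) :
    CartDual.ev₂ R A' (η₁ ⊗ₜ η₂) (TensorProduct.map ψ ψ t) =
      CartDual.ev₂ R A (trHom R A A' ψ η₁ ⊗ₜ trHom R A A' ψ η₂) t := by
  induction t using TensorProduct.induction_on with
  | zero => simp
  | tmul a c => simp
  | add t t' ht ht' => simp only [map_add, ht, ht']

theorem convMul_eq_ev₂ (η₁ η₂ : CartDual.D R A) (a : A) :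
    (η₁ * η₂) a = CartDual.ev₂ R A (η₁ ⊗ₜ η₂) (Coalgebra.comul (R := R) a) := by
  rw [CartDual.ev₂_tmul_eq']
  rfl

/-- separation of points of `A ⊗ A` by `D ⊗ D` -/
theorem eq_of_ev₂ (t₁ t₂ : A ⊗[R] A)
    (h : ∀ η₁ η₂ : CartDual.D R A, CartDual.ev₂ R A (η₁ ⊗ₜ η₂) t₁ = CartDual.ev₂ R A (η₁ ⊗ₜ η₂) t₂) :
    t₁ = t₂ := by
  rw [← sub_eq_zero, ← Module.forall_dual_apply_eq_zero_iff R]
  intro φ
  obtain ⟨y, rfl⟩ := (CartDual.ev₂ R A).surjective φ
  rw [map_sub, sub_eq_zero]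
  induction y using TensorProduct.induction_on with
  | zero => simp
  | tmul η₁ η₂ => exact h η₁ η₂
  | add y y' hy hy' => simp only [map_add, LinearMap.add_apply, hy, hy']

end trHom

section iso

variable (p : ℕ) [Fact p.Prime] (R : Type u) [CommRing R] (u : R) (hu : u * ((p - 1 : ℕ) : R) = 1)
  (χ : (ZMod p)ˣ →* Rˣ) (hχ : ∀ m : (ZMod p)ˣ, m ≠ 1 → IsUnit ((χ m : R) - 1))
  (w wi : ℕ → R) (hwi0 : wi 0 = 1) (hw0 : w 0 = 1)
  (hw : ∀ j, 1 ≤ j → j ≤ p - 1 → wi j * w j = 1 ∧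
    OortTate.ygen R p u χ 1 ^ j = w j • OortTate.ygen R p u χ j)
  (A : Type u) [CommRing A] [HopfAlgebra R A] [Coalgebra.IsCocomm R A] [Module.Finite R A]
  [Module.Projective R A]
  (hp : (toConv (AlgHom.id R A)) ^ p = 1)
  (hrk : ∀ q : PrimeSpectrum R, Module.rankAtStalk A q = p)
  (x : A) (hx : Submodule.span R {x} = OortTate.eigenAug R A p χ 1)
  (ξ : CartDual.D R A) (hξ : ξ ∈ OortTate.eigenAug R (CartDual.D R A) p χ 1)
  (hxξ : ξ x = 1)
  (A' : Type u) [CommRing A'] [HopfAlgebra R A'] [Coalgebra.IsCocomm R A'] [Module.Finite R A']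
  [Module.Projective R A']
  (hp' : (toConv (AlgHom.id R A')) ^ p = 1)
  (hrk' : ∀ q : PrimeSpectrum R, Module.rankAtStalk A' q = p)
  (x' : A') (hx' : Submodule.span R {x'} = OortTate.eigenAug R A' p χ 1)
  (ξ' : CartDual.D R A') (hξ' : ξ' ∈ OortTate.eigenAug R (CartDual.D R A') p χ 1)
  (hxξ' : ξ' x' = 1)
  (α β : R) (hα : x ^ p = α • x) (hβ : ξ ^ p = β • ξ) (hα' : x' ^ p = α • x')
  (hβ' : ξ' ^ p = β • ξ')

include hu hχ hwi0 hw0 hw hp hrk hx hξ hxξ hp' hrk' hx' hξ' hxξ' hα hβ hα' hβ' in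
theorem iso_of_same : Nonempty (A ≃ₐc[R] A') := by
  classical
  have hp2 : 2 ≤ p := (Fact.out : p.Prime).two_le
  have hbij := Lx_bijective p R u hu χ hχ w wi hwi0 hw A hp x hx ξ hξ hxξ hrk
  have hbij' := Lx_bijective p R u hu χ hχ w wi hwi0 hw A' hp' x' hx' ξ' hξ' hxξ' hrk'
  obtain ⟨b, hb⟩ : ∃ b : Module.Basis (Fin p) R A, ∀ k : Fin p, b k = x ^ (k : ℕ) :=
    ⟨basisX p R A x hbij, basisX_apply p R A x hbij⟩
  obtain ⟨b', hb'⟩ : ∃ b' : Module.Basis (Fin p) R A', ∀ k : Fin p, b' k = x' ^ (k : ℕ) :=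
    ⟨basisX p R A' x' hbij', basisX_apply p R A' x' hbij'⟩
  obtain ⟨ψ, hψx⟩ : ∃ ψ : A →ₐ[R] A', ψ x = x' :=
    ⟨powHom p hp2 b x hb α hα x' hα', powHom_x p hp2 b x hb α hα x' hα'⟩
  obtain ⟨ψ', hψ'x⟩ : ∃ ψ' : A' →ₐ[R] A, ψ' x' = x :=
    ⟨powHom p hp2 b' x' hb' α hα' x hα, powHom_x p hp2 b' x' hb' α hα' x hα⟩
  have h1 : ψ'.comp ψ = AlgHom.id R A :=
    algHom_ext_of_basis p b x hb _ _ (by simp [hψx, hψ'x])
  have h2 : ψ.comp ψ' = AlgHom.id R A' :=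
    algHom_ext_of_basis p b' x' hb' _ _ (by simp [hψx, hψ'x])
  have hx0 : x ∈ OortTate.eigenAug R A p χ 1 := by
    rw [← hx]; exact Submodule.mem_span_singleton_self x
  have hx0' : x' ∈ OortTate.eigenAug R A' p χ 1 := by
    rw [← hx']; exact Submodule.mem_span_singleton_self x'
  have hcx : Coalgebra.counit (R := R) x = 0 := ((mem_eigenAug R A p χ 1 x).1 hx0).1
  have hcx' : Coalgebra.counit (R := R) x' = 0 := ((mem_eigenAug R A' p χ 1 x').1 hx0').1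
  -- the transpose is multiplicative
  have hT : ∀ n : ℕ, trHom R A A' ψ.toLinearMap (ξ' ^ n) = ξ ^ n := by
    intro n
    induction n using Nat.strong_induction_on with
    | _ n ih =>
      by_cases hn : n < p
      · apply WithConv.ext
        apply b.ext
        intro j
        rw [hb]
        show (ξ' ^ n) (ψ (x ^ (j : ℕ))) = (ξ ^ n) (x ^ (j : ℕ))
        rw [map_pow, hψx,
          table p R u hu χ hχ w wi hwi0 hw A hp x hx ξ hξ hxξ hrk hw0 n j hn j.2,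
          table p R u hu χ hχ w wi hwi0 hw A' hp' x' hx' ξ' hξ' hxξ' hrk' hw0 n j hn j.2]
      · push Not at hn
        rw [pow_reduce p β ξ' hβ' n hn, map_smul, ih (n - p + 1) (by omega),
          ← pow_reduce p β ξ hβ n hn]
  have hspan : ∀ η : CartDual.D R A',
      η = ∑ k ∈ Finset.range p, (wi k * η (x' ^ k)) • ξ' ^ k := by
    intro η
    apply WithConv.ext
    apply LinearMap.ext
    intro a
    conv_lhs => rw [expansion p R u hu χ hχ w wi hwi0 hw A' hp' x' hx' ξ' hξ' hxξ' a]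
    simp only [map_sum, map_smul, WithConv.ofConv_sum, WithConv.ofConv_smul, LinearMap.sum_apply,
      LinearMap.smul_apply, smul_eq_mul]
    refine Finset.sum_congr rfl fun k _ => ?_
    ring
  have hmul : ∀ η₁ η₂ : CartDual.D R A', trHom R A A' ψ.toLinearMap (η₁ * η₂) =
      trHom R A A' ψ.toLinearMap η₁ * trHom R A A' ψ.toLinearMap η₂ := by
    intro η₁ η₂
    obtain ⟨c, hc⟩ : ∃ c : ℕ → R, η₁ = ∑ k ∈ Finset.range p, c k • ξ' ^ k := ⟨_, hspan η₁⟩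
    obtain ⟨d, hd⟩ : ∃ d : ℕ → R, η₂ = ∑ k ∈ Finset.range p, d k • ξ' ^ k := ⟨_, hspan η₂⟩
    rw [hc, hd]
    simp only [Finset.sum_mul, Finset.mul_sum, map_sum, smul_mul_smul_comm, map_smul, ← pow_add, hT]
  refine ⟨BialgEquiv.ofAlgEquiv (AlgEquiv.ofAlgHom ψ ψ' h2 h1) ?_ ?_⟩
  · apply algHom_ext_of_basis p b x hb
    show Coalgebra.counit (R := R) (ψ x) = Coalgebra.counit (R := R) x
    rw [hψx, hcx, hcx']
  · apply algHom_ext_of_basis p b x hb
    show TensorProduct.map ψ.toLinearMap ψ.toLinearMap (Coalgebra.comul (R := R) x) =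
      Coalgebra.comul (R := R) (ψ x)
    apply eq_of_ev₂
    intro η₁ η₂
    rw [ev₂_map, ← convMul_eq_ev₂, ← convMul_eq_ev₂, ← hmul, trHom_apply]
    rfl

end iso

section final

theorem exists_consts (p : ℕ) [Fact p.Prime] (R : Type u) [CommRing R] (u : R)
    (hu : u * ((p - 1 : ℕ) : R) = 1) (χ : (ZMod p)ˣ →* Rˣ)
    (hχp : ∀ m : (ZMod p)ˣ, ((χ m : Rˣ) : R) - (((m : ZMod p).val : ℕ) : R) ∈
      Ideal.span ({(p : R)} : Set R)) :
    ∃ w wi : ℕ → R, wi 0 = 1 ∧ w 0 = 1 ∧ ∀ j, 1 ≤ j → j ≤ p - 1 → wi j * w j = 1 ∧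
      OortTate.ygen R p u χ 1 ^ j = w j • OortTate.ygen R p u χ j := by
  have hex : ∀ j : ℕ, ∃ wj wij : R, (1 ≤ j → j ≤ p - 1 → wij * wj = 1 ∧
      OortTate.ygen R p u χ 1 ^ j = wj • OortTate.ygen R p u χ j) ∧ (j = 0 → wj = 1 ∧ wij = 1) := by
    intro j
    by_cases hj : 1 ≤ j ∧ j ≤ p - 1
    · have h1 := pow_mem_span R p u χ hu j hj.1
      rw [Submodule.mem_span_singleton] at h1
      obtain ⟨wj, hwj⟩ := h1
      have hunit := isUnit_w R p u χ hu hχp j hj.1 hj.2 wj hwj.symm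
      obtain ⟨wu, rfl⟩ := hunit
      exact ⟨wu, ((wu⁻¹ : Rˣ) : R), fun _ _ => ⟨Units.inv_mul wu, hwj.symm⟩, fun h0 => by omega⟩
    · exact ⟨1, 1, fun h1 h2 => absurd ⟨h1, h2⟩ hj, fun _ => ⟨rfl, rfl⟩⟩
  choose w wi hwwi using hex
  exact ⟨w, wi, ((hwwi 0).2 rfl).2, ((hwwi 0).2 rfl).1, fun j h1 h2 => (hwwi j).1 h1 h2⟩

theorem iso_main
    (p : ℕ) [Fact p.Prime] (R : Type u) [CommRing R] (u : R) (hu : u * ((p - 1 : ℕ) : R) = 1)
    (χ : (ZMod p)ˣ →* Rˣ) (hχ : ∀ m : (ZMod p)ˣ, m ≠ 1 → IsUnit ((χ m : R) - 1))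
    (hχp : ∀ m : (ZMod p)ˣ, ((χ m : Rˣ) : R) - (((m : ZMod p).val : ℕ) : R) ∈
      Ideal.span ({(p : R)} : Set R))
    (A : Type u) [CommRing A] [HopfAlgebra R A] [Coalgebra.IsCocomm R A] [Module.Finite R A]
    [Module.Projective R A] (hrk : ∀ q : PrimeSpectrum R, Module.rankAtStalk A q = p)
    (A' : Type u) [CommRing A'] [HopfAlgebra R A'] [Coalgebra.IsCocomm R A'] [Module.Finite R A']
    [Module.Projective R A'] (hrk' : ∀ q : PrimeSpectrum R, Module.rankAtStalk A' q = p)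
    (x : A) (hx : Submodule.span R {x} = OortTate.eigenAug R A p χ 1)
    (ξ : CartDual.D R A) (hξ : Submodule.span R {ξ} = OortTate.eigenAug R (CartDual.D R A) p χ 1)
    (hxξ : CartDual.toDual R A ξ x = 1)
    (x' : A') (hx' : Submodule.span R {x'} = OortTate.eigenAug R A' p χ 1)
    (ξ' : CartDual.D R A') (hξ' : Submodule.span R {ξ'} = OortTate.eigenAug R (CartDual.D R A') p χ 1)
    (hxξ' : CartDual.toDual R A' ξ' x' = 1)
    (α β α' β' : R) (hα : x ^ p = α • x) (hβ : ξ ^ p = β • ξ) (hα' : x' ^ p = α' • x')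
    (hβ' : ξ' ^ p = β' • ξ')
    (v : Rˣ) (hαv : α' = ((v ^ (p - 1) : Rˣ) : R) * α) (hβv : β' = ((v⁻¹ ^ (p - 1) : Rˣ) : R) * β) :
    Nonempty (A ≃ₐc[R] A') := by
  have hp := Groth.Agent.S15048.result R A p hrk
  have hp' := Groth.Agent.S15048.result R A' p hrk'
  obtain ⟨w, wi, hwi0, hw0, hw⟩ := exists_consts p R u hu χ hχp
  have hp2 : 2 ≤ p := (Fact.out : p.Prime).two_le
  obtain ⟨m, hm⟩ : ∃ m, p = m + 1 := ⟨p - 1, by omega⟩
  have hm' : p - 1 = m := by omega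
  have hξ0 : ξ ∈ OortTate.eigenAug R (CartDual.D R A) p χ 1 := by
    rw [← hξ]; exact Submodule.mem_span_singleton_self ξ
  have hξ0' : ξ' ∈ OortTate.eigenAug R (CartDual.D R A') p χ 1 := by
    rw [← hξ']; exact Submodule.mem_span_singleton_self ξ'
  have hv1 : ((v⁻¹ : Rˣ) : R) ^ p * ((v ^ (p - 1) : Rˣ) : R) = ((v⁻¹ : Rˣ) : R) := by
    rw [hm', hm, Units.val_pow_eq_pow_val, pow_succ, mul_assoc, mul_comm ((v⁻¹ : Rˣ) : R),
      ← mul_assoc, ← mul_pow, Units.inv_mul, one_pow, one_mul]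
  have hv2 : (v : R) ^ p * ((v⁻¹ ^ (p - 1) : Rˣ) : R) = (v : R) := by
    rw [hm', hm, Units.val_pow_eq_pow_val, pow_succ, mul_assoc, mul_comm (v : R),
      ← mul_assoc, ← mul_pow, Units.mul_inv, one_pow, one_mul]
  refine iso_of_same p R u hu χ hχ w wi hwi0 hw0 hw A hp hrk x hx ξ hξ0 hxξ A' hp' hrk'
    (((v⁻¹ : Rˣ) : R) • x') ?_ ((v : R) • ξ') ?_ ?_ α β hα hβ ?_ ?_
  · rw [Submodule.span_singleton_smul_eq (v⁻¹).isUnit x', hx']
  · exact Submodule.smul_mem _ _ hξ0'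
  · have h1 : ξ' x' = 1 := hxξ'
    show ((v : R) • ξ').ofConv (((v⁻¹ : Rˣ) : R) • x') = 1
    rw [WithConv.ofConv_smul, LinearMap.smul_apply, map_smul]
    show (v : R) • (((v⁻¹ : Rˣ) : R) • ξ' x') = 1
    rw [h1, smul_eq_mul, smul_eq_mul, mul_one, Units.mul_inv]
  · rw [smul_pow, hα', hαv, smul_smul, smul_smul, ← mul_assoc, hv1, mul_comm]
  · rw [smul_pow, hβ', hβv, smul_smul, smul_smul, ← mul_assoc, hv2, mul_comm]

end final

end Groth.Agent.Lib.Helper92.OTFrame
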