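import Mathlib.Algebra.Lie.Basis.Base
import Mathlib.Algebra.Lie.Semisimple.Defs
import Mathlib.FieldTheory.IsAlgClosed.Basic
import Mathlib.LinearAlgebra.Basis.VectorSpace
import Mathlib.Algebra.Lie.CartanCriterion

/-!
# Adjoint varieties: Lie-theoretic preliminaries (helper92)

Setup: `L` simple f.d. Lie algebra over alg. closed char 0 field, `H` Cartan, `b` a `LieAlgebra.Basis`.
We develop: root spaces indexed by `Module.Dual K H`, a height functional, the normaliser trick,
and the highest-weight-vector theorem (a weight vector killed by all `e i` generates `L` under the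
`f i`, so every weight lies below its weight).
-/

set_option autoImplicit false
set_option linter.unusedSectionVars false

namespace Groth.Agent.Lib.Helper92.AdjVar

open LieAlgebra LieModule Module

variable {ι : Type*} {K : Type*} {L : Type*} [Fintype ι] [Field K] [CharZero K]
    [IsAlgClosed K] [LieRing L] [LieAlgebra K L] [FiniteDimensional K L] [LieAlgebra.IsSimple K L]
    {H : LieSubalgebra K L} [H.IsCartanSubalgebra] (b : LieAlgebra.Basis ι H)

/-- Root space attached to an element of the dual of `H`. -/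
abbrev RS (H : LieSubalgebra K L) [H.IsCartanSubalgebra] (χ : Module.Dual K H) :
    LieSubmodule K H L := rootSpace H (⇑χ)

lemma coe_add' (f g : Module.Dual K H) : (⇑f + ⇑g : H → K) = ⇑(f + g) := rfl
lemma coe_sub' (f g : Module.Dual K H) : (⇑f - ⇑g : H → K) = ⇑(f - g) := rfl
lemma coe_neg' (f : Module.Dual K H) : (-⇑f : H → K) = ⇑(-f) := rfl

lemma e_mem (i : ι) : b.e i ∈ RS H (b.baseSupp i) :=
  (mem_genWeightSpace _ _ _).mpr fun ⟨z, hz⟩ ↦ ⟨1, by simp⟩

lemma f_mem (i : ι) : b.f i ∈ RS H (-b.baseSupp i) :=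
  (mem_genWeightSpace _ _ _).mpr fun ⟨z, hz⟩ ↦ ⟨1, by simp [← eq_neg_iff_add_eq_zero]⟩

lemma lie_mem_RS {χ₁ χ₂ : Module.Dual K H} {x y : L} (hx : x ∈ RS H χ₁) (hy : y ∈ RS H χ₂) :
    ⁅x, y⁆ ∈ RS H (χ₁ + χ₂) :=
  LieAlgebra.lie_mem_genWeightSpace_of_mem_genWeightSpace hx hy

lemma lie_h_eq {χ : Module.Dual K H} {x : L} (hx : x ∈ RS H χ) (h : H) :
    ⁅(h : L), x⁆ = χ h • x :=
  LieAlgebra.IsKilling.lie_eq_smul_of_mem_rootSpace hx h

lemma RS_disjoint {χ₁ χ₂ : Module.Dual K H} (h : χ₁ ≠ χ₂) : Disjoint (RS H χ₁) (RS (L := L) H χ₂) :=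
  disjoint_genWeightSpace K H L (fun h' => h (DFunLike.coe_injective h'))

lemma eq_of_mem_RS {χ₁ χ₂ : Module.Dual K H} {x : L} (h1 : x ∈ RS H χ₁) (h2 : x ∈ RS H χ₂)
    (hx : x ≠ 0) : χ₁ = χ₂ := by
  by_contra hne
  have := RS_disjoint (L := L) hne
  rw [← LieSubmodule.disjoint_toSubmodule, Submodule.disjoint_def] at this
  exact hx (this x h1 h2)

lemma iSupIndep_RS : iSupIndep (fun χ : Module.Dual K H => RS (L := L) H χ) :=
  (iSupIndep_genWeightSpace K H L).comp DFunLike.coe_injective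

lemma RS_ne_bot_of_mem {χ : Module.Dual K H} {x : L} (hx : x ∈ RS H χ) (h0 : x ≠ 0) :
    RS (L := L) H χ ≠ ⊥ := by
  intro h
  rw [h] at hx
  exact h0 (by simpa using hx)

lemma finrank_RS {χ : Module.Dual K H} (hχ : RS (L := L) H χ ≠ ⊥) (h0 : χ ≠ 0) :
    Module.finrank K (RS (L := L) H χ) = 1 := by
  have := LieAlgebra.IsKilling.finrank_rootSpace_eq_one (K := K) (L := L) (H := H)
    (⟨⇑χ, hχ⟩ : Weight K H L) (by
      intro hz
      apply h0
      ext x
      have := congrFun hz x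
      simpa using this)
  exact this

lemma exists_smul_of_mem_RS {χ : Module.Dual K H} (h0 : χ ≠ 0) {x y : L} (hx : x ∈ RS H χ)
    (hx0 : x ≠ 0) (hy : y ∈ RS H χ) : ∃ c : K, y = c • x := by
  have h1 := finrank_RS (RS_ne_bot_of_mem hx hx0) h0
  have := (finrank_eq_one_iff_of_nonzero' (⟨x, hx⟩ : RS (L := L) H χ)
    (by simpa using hx0)).mp h1 ⟨y, hy⟩
  obtain ⟨c, hc⟩ := this
  exact ⟨c, by simpa using (congrArg Subtype.val hc).symm⟩

lemma RS_le_of_mem {χ : Module.Dual K H} (h0 : χ ≠ 0) {x : L} (hx : x ∈ RS H χ)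
    (hx0 : x ≠ 0) (W : Submodule K L) (hxW : x ∈ W) : (RS (L := L) H χ : Submodule K L) ≤ W := by
  intro y hy
  obtain ⟨c, rfl⟩ := exists_smul_of_mem_RS h0 hx hx0 hy
  exact W.smul_mem c hxW

/-- A height functional: takes the value `1` on each simple root. -/
lemma exists_ht : ∃ φ : Module.Dual K H →ₗ[K] K, ∀ i, φ (b.baseSupp i) = 1 := by
  have hli := b.linearIndependent_baseSupp
  let B := Module.Basis.extend hli.linearIndepOn_id
  refine ⟨B.constr K (fun _ => (1 : K)), fun i => ?_⟩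
  have hmem : b.baseSupp i ∈ hli.linearIndepOn_id.extend (Set.subset_univ _) :=
    hli.linearIndepOn_id.subset_extend _ ⟨i, rfl⟩
  have : B ⟨b.baseSupp i, hmem⟩ = b.baseSupp i := Module.Basis.extend_apply_self _ _
  rw [← this, Module.Basis.constr_basis]

/-- The normaliser trick: stability under generators implies stability under the Lie span. -/
lemma stable_lieSpan (W : Submodule K L) (S : Set L) (hS : ∀ x ∈ S, ∀ w ∈ W, ⁅x, w⁆ ∈ W) :
    ∀ x ∈ LieSubalgebra.lieSpan K L S, ∀ w ∈ W, ⁅x, w⁆ ∈ W := by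
  intro x hx
  induction hx using LieSubalgebra.lieSpan_induction with
  | mem u hu => exact hS u hu
  | zero => intro w _; simp
  | add u v _ _ hu hv => intro w hw; rw [add_lie]; exact W.add_mem (hu w hw) (hv w hw)
  | smul t u _ hu => intro w hw; rw [smul_lie]; exact W.smul_mem t (hu w hw)
  | lie u v _ _ hu hv =>
    intro w hw
    rw [lie_lie]
    exact W.sub_mem (hu _ (hv w hw)) (hv _ (hu w hw))

end Groth.Agent.Lib.Helper92.AdjVar
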