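import Groth.Agent.Lib.Helper92.AdjVar9

/-!
# Adjoint varieties: dimension and radical of the Lie algebra generated by the conic and the line
(helper92)
-/

set_option autoImplicit false
set_option linter.unusedSectionVars false
set_option linter.unusedSimpArgs false

namespace Groth.Agent.Lib.Helper92.AdjVar

open LieAlgebra LieModule Module

variable {ι : Type*} {K : Type*} {L : Type*} [Fintype ι] [Field K] [CharZero K]
    [IsAlgClosed K] [LieRing L] [LieAlgebra K L] [FiniteDimensional K L] [LieAlgebra.IsSimple K L]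
    {H : LieSubalgebra K L} [H.IsCartanSubalgebra] (b : LieAlgebra.Basis ι H)

lemma RS_eq_span {χ : Module.Dual K H} (h0 : χ ≠ 0) {x : L} (hx : x ∈ RS H χ) (hx0 : x ≠ 0) :
    (RS (L := L) H χ : Submodule K L) = Submodule.span K {x} := by
  apply le_antisymm
  · intro y hy
    obtain ⟨c, rfl⟩ := exists_smul_of_mem_RS h0 hx hx0 hy
    exact Submodule.smul_mem _ _ (Submodule.subset_span rfl)
  · rw [Submodule.span_le]
    rintro _ rfl
    exact hx

lemma mem_span_five {V : Type*} [AddCommGroup V] [Module K V] {e f h y y' u : V}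
    (hu : u ∈ Submodule.span K ({e, f, h, y, y'} : Set V)) :
    ∃ c₁ c₂ c₃ c₄ c₅ : K, u = c₁ • e + c₂ • f + c₃ • h + c₄ • y + c₅ • y' := by
  obtain ⟨c₁, u₁, hu₁, rfl⟩ := Submodule.mem_span_insert.mp hu
  obtain ⟨c₂, u₂, hu₂, rfl⟩ := Submodule.mem_span_insert.mp hu₁
  obtain ⟨c₃, u₃, hu₃, rfl⟩ := Submodule.mem_span_insert.mp hu₂
  obtain ⟨c₄, u₄, hu₄, rfl⟩ := Submodule.mem_span_insert.mp hu₃
  obtain ⟨c₅, rfl⟩ := Submodule.mem_span_singleton.mp hu₄
  exact ⟨c₁, c₂, c₃, c₄, c₅, by abel⟩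

namespace Hyp

variable {b} {ρ : Module.Dual K H} {j : ι} (hyp : Hyp (L := L) b ρ j)
include hyp

theorem main_five (A : LieSubalgebra K L)
    (hA : A = LieSubalgebra.lieSpan K L
      ((RS (L := L) H ρ : Set L) ∪ (RS (L := L) H (-ρ) : Set L) ∪
        (RS (L := L) H (ρ - b.baseSupp j) : Set L))) :
    Module.finrank K A = 5 ∧ Module.finrank K (LieAlgebra.radical K A) = 2 ∧
      (LieAlgebra.radical K A).toSubmodule.map (A.incl : A →ₗ⁅K⁆ L).toLinearMap =
        (RS (L := L) H (ρ - b.baseSupp j) : Submodule K L) ⊔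
          (RS (L := L) H (-b.baseSupp j) : Submodule K L) := by
  obtain ⟨e, f, h, y, y', he, hf, hy, hy', he0, hf0, hh0, hy0, hy'0, T⟩ := hyp.exists_five
  have hnegρ : -ρ ≠ 0 := neg_ne_zero.mpr hyp.rho_ne_zero
  have hnegα : -b.baseSupp j ≠ 0 := neg_ne_zero.mpr (baseSupp_ne_zero b j)
  -- memberships in `A`
  have heA : e ∈ A := by
    rw [hA]; exact LieSubalgebra.subset_lieSpan (Or.inl (Or.inl he))
  have hfA : f ∈ A := by
    rw [hA]; exact LieSubalgebra.subset_lieSpan (Or.inl (Or.inr hf))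
  have hyA : y ∈ A := by
    rw [hA]; exact LieSubalgebra.subset_lieSpan (Or.inr hy)
  have hhA : h ∈ A := by
    rw [← T.ef]; exact A.lie_mem heA hfA
  have hy'A : y' ∈ A := by
    rw [← T.fy]; exact A.lie_mem hfA hyA
  -- `A` is contained in the span of the five vectors
  have hAS : ∀ a ∈ A, a ∈ Submodule.span K ({e, f, h, y, y'} : Set L) := by
    intro a ha
    rw [hA] at ha
    induction ha using LieSubalgebra.lieSpan_induction with
    | mem u hu =>
      rcases hu with (hu | hu) | hu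
      · obtain ⟨c, rfl⟩ := exists_smul_of_mem_RS hyp.rho_ne_zero he he0 hu
        exact Submodule.smul_mem _ _ (Submodule.subset_span (by simp))
      · obtain ⟨c, rfl⟩ := exists_smul_of_mem_RS hnegρ hf hf0 hu
        exact Submodule.smul_mem _ _ (Submodule.subset_span (by simp))
      · obtain ⟨c, rfl⟩ := exists_smul_of_mem_RS hyp.sub_ne_zero' hy hy0 hu
        exact Submodule.smul_mem _ _ (Submodule.subset_span (by simp))
    | zero => exact Submodule.zero_mem _
    | add u v _ _ hu hv => exact Submodule.add_mem _ hu hv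
    | smul t u _ hu => exact Submodule.smul_mem _ t hu
    | lie u v _ _ hu hv => exact T.lie_mem_span hu hv
  -- transfer to the Lie algebra `A`
  have TA : Table K (⟨e, heA⟩ : A) ⟨f, hfA⟩ ⟨h, hhA⟩ ⟨y, hyA⟩ ⟨y', hy'A⟩ :=
    { ef := Subtype.ext T.ef
      he := Subtype.ext T.he
      hf := Subtype.ext T.hf
      hy := Subtype.ext T.hy
      hy' := Subtype.ext T.hy'
      ey := Subtype.ext T.ey
      ey' := Subtype.ext T.ey'
      fy := Subtype.ext T.fy
      fy' := Subtype.ext T.fy'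
      yy' := Subtype.ext T.yy' }
  have hspanA : ∀ a : A, ∃ c₁ c₂ c₃ c₄ c₅ : K,
      a = c₁ • (⟨e, heA⟩ : A) + c₂ • (⟨f, hfA⟩ : A) + c₃ • (⟨h, hhA⟩ : A) + c₄ • (⟨y, hyA⟩ : A) +
        c₅ • (⟨y', hy'A⟩ : A) := by
    rintro ⟨a, ha⟩
    obtain ⟨c₁, c₂, c₃, c₄, c₅, hrep⟩ := mem_span_five (hAS a ha)
    exact ⟨c₁, c₂, c₃, c₄, c₅, Subtype.ext (by simpa using hrep)⟩
  have ne : ∀ {u : L} (hu : u ∈ A), u ≠ 0 → (⟨u, hu⟩ : A) ≠ 0 := by
    intro u hu h0 h1
    exact h0 (congrArg Subtype.val h1)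
  have hrad : (LieAlgebra.radical K A).toSubmodule =
      Submodule.span K ({⟨y, hyA⟩, ⟨y', hy'A⟩} : Set A) := TA.radical_eq (ne hhA hh0) hspanA
  refine ⟨TA.finrank_eq (ne heA he0) (ne hfA hf0) (ne hhA hh0) (ne hyA hy0) (ne hy'A hy'0) hspanA,
    ?_, ?_⟩
  · have h1 : Module.finrank K (LieAlgebra.radical K A) =
        Module.finrank K (Submodule.span K ({⟨y, hyA⟩, ⟨y', hy'A⟩} : Set A)) := by
      rw [← hrad]; rfl
    rw [h1]
    exact TA.finrank_span_pair (ne heA he0) (ne hfA hf0) (ne hhA hh0) (ne hyA hy0) (ne hy'A hy'0)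
  · rw [hrad, Submodule.map_span, Set.image_pair]
    change Submodule.span K ({y, y'} : Set L) = _
    rw [RS_eq_span hyp.sub_ne_zero' hy hy0, RS_eq_span hnegα hy' hy'0, ← Submodule.span_union]
    rfl

end Hyp

end Groth.Agent.Lib.Helper92.AdjVar
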