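import Groth.Agent.Lib.Helper92.AdjVar1

/-!
# Highest weight vectors in a simple Lie algebra (helper92)

If `v ≠ 0` is a weight vector of weight `α` killed by all `e i`, then the iterated brackets
`⁅f i₁, ⁅f i₂, … v⁆⁆` span an ideal, hence all of `L`; consequently every weight of `L` is of the
form `α - (sum of simple roots)`.
-/

set_option autoImplicit false
set_option linter.unusedSectionVars false

namespace Groth.Agent.Lib.Helper92.AdjVar

open LieAlgebra LieModule Module

variable {ι : Type*} {K : Type*} {L : Type*} [Fintype ι] [Field K] [CharZero K]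
    [IsAlgClosed K] [LieRing L] [LieAlgebra K L] [FiniteDimensional K L] [LieAlgebra.IsSimple K L]
    {H : LieSubalgebra K L} [H.IsCartanSubalgebra] (b : LieAlgebra.Basis ι H)

/-- Iterated lowering of `v` along a list of indices. -/
def lower (v : L) : List ι → L
  | [] => v
  | i :: l => ⁅b.f i, lower v l⁆

/-- Sum of simple roots along a list. -/
noncomputable def lsum (l : List ι) : Module.Dual K H := (l.map b.baseSupp).sum

@[simp] lemma lsum_nil : lsum b [] = 0 := by simp [lsum]
@[simp] lemma lsum_cons (i : ι) (l : List ι) : lsum b (i :: l) = b.baseSupp i + lsum b l := by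
  simp [lsum]

lemma ht_lsum (φ : Module.Dual K H →ₗ[K] K) (hφ : ∀ i, φ (b.baseSupp i) = 1) (l : List ι) :
    φ (lsum b l) = (l.length : K) := by
  induction l with
  | nil => simp
  | cons i l ih => simp [ih, hφ, add_comm]

lemma lower_mem {α : Module.Dual K H} {v : L} (hv : v ∈ RS H α) :
    ∀ l : List ι, lower b v l ∈ RS H (α - lsum b l)
  | [] => by simpa [lower] using hv
  | i :: l => by
    have h := lie_mem_RS (f_mem b i) (lower_mem hv l)
    have e : -b.baseSupp i + (α - lsum b l) = α - lsum b (i :: l) := by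
      rw [lsum_cons]; abel
    rw [e] at h
    exact h

/-- Span of all iterated lowerings. -/
def lowSpan (v : L) : Submodule K L := Submodule.span K (Set.range (lower b v))

lemma lower_mem_lowSpan (v : L) (l : List ι) : lower b v l ∈ lowSpan b v :=
  Submodule.subset_span ⟨l, rfl⟩

lemma f_lowSpan (v : L) (i : ι) {u : L} (hu : u ∈ lowSpan b v) : ⁅b.f i, u⁆ ∈ lowSpan b v := by
  unfold lowSpan at hu
  induction hu using Submodule.span_induction with
  | mem u hu =>
    obtain ⟨l, rfl⟩ := hu
    exact lower_mem_lowSpan b v (i :: l)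
  | zero => simp
  | add u w _ _ hu hw => rw [lie_add]; exact Submodule.add_mem _ hu hw
  | smul t u _ hu => rw [lie_smul]; exact Submodule.smul_mem _ t hu

lemma e_lower {α : Module.Dual K H} {v : L} (hv : v ∈ RS H α) (he : ∀ i, ⁅b.e i, v⁆ = 0) (i : ι) :
    ∀ l : List ι, ⁅b.e i, lower b v l⁆ ∈ lowSpan b v
  | [] => by simp [lower, he]
  | k :: l => by
    have ih := e_lower hv he i l
    change ⁅b.e i, ⁅b.f k, lower b v l⁆⁆ ∈ _
    rw [leibniz_lie]
    refine Submodule.add_mem _ ?_ (f_lowSpan b v k ih)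
    by_cases hik : i = k
    · subst hik
      rw [(b.sl2 i).lie_e_f]
      have := lie_h_eq (lower_mem b hv l) (b.h' i)
      change ⁅b.h i, lower b v l⁆ = _ at this
      rw [this]
      exact Submodule.smul_mem _ _ (lower_mem_lowSpan b v l)
    · rw [b.lie_e_f_ne i k hik]; simp

lemma e_lowSpan {α : Module.Dual K H} {v : L} (hv : v ∈ RS H α) (he : ∀ i, ⁅b.e i, v⁆ = 0) (i : ι)
    {u : L} (hu : u ∈ lowSpan b v) : ⁅b.e i, u⁆ ∈ lowSpan b v := by
  unfold lowSpan at hu
  induction hu using Submodule.span_induction with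
  | mem u hu =>
    obtain ⟨l, rfl⟩ := hu
    exact e_lower b hv he i l
  | zero => simp
  | add u w _ _ hu hw => rw [lie_add]; exact Submodule.add_mem _ hu hw
  | smul t u _ hu => rw [lie_smul]; exact Submodule.smul_mem _ t hu

theorem lowSpan_eq_top {α : Module.Dual K H} {v : L} (hv : v ∈ RS H α) (hv0 : v ≠ 0)
    (he : ∀ i, ⁅b.e i, v⁆ = 0) : lowSpan b v = ⊤ := by
  have hst : ∀ x ∈ LieSubalgebra.lieSpan K L (Set.range b.e ∪ Set.range b.f),
      ∀ w ∈ lowSpan b v, ⁅x, w⁆ ∈ lowSpan b v := by
    apply stable_lieSpan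
    rintro x (⟨i, rfl⟩ | ⟨i, rfl⟩) w hw
    · exact e_lowSpan b hv he i hw
    · exact f_lowSpan b v i hw
  rw [b.span_ef] at hst
  let I : LieIdeal K L := { lowSpan b v with lie_mem := fun {x m} hm => hst x (by simp) m hm }
  have hI : (I : Submodule K L) = lowSpan b v := rfl
  rcases LieAlgebra.IsSimple.eq_bot_or_eq_top I with h | h
  · exfalso
    have hvI : v ∈ I := lower_mem_lowSpan b v []
    rw [h] at hvI
    exact hv0 (by simpa using hvI)
  · rw [← hI, h]; rfl

/-- Every weight of `L` lies below the weight of a highest weight vector. -/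
theorem wt_of_highest {α : Module.Dual K H} {v : L} (hv : v ∈ RS H α) (hv0 : v ≠ 0)
    (he : ∀ i, ⁅b.e i, v⁆ = 0) (β : Module.Dual K H) (hβ : RS (L := L) H β ≠ ⊥) :
    ∃ l : List ι, β = α - lsum b l := by
  let s : Set (Module.Dual K H) := Set.range (fun l : List ι => α - lsum b l)
  have hs : ⨆ χ ∈ s, RS (L := L) H χ = ⊤ := by
    rw [← LieSubmodule.toSubmodule_eq_top, eq_top_iff, ← lowSpan_eq_top b hv hv0 he]
    unfold lowSpan
    rw [Submodule.span_le]
    rintro _ ⟨l, rfl⟩
    have h1 : RS (L := L) H (α - lsum b l) ≤ ⨆ χ ∈ s, RS (L := L) H χ :=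
      le_biSup (fun χ => RS (L := L) H χ) (show α - lsum b l ∈ s from ⟨l, rfl⟩)
    exact h1 (lower_mem b hv l)
  obtain ⟨l, hl⟩ := iSupIndep_RS.mem_of_biSup_eq_top hs hβ
  exact ⟨l, hl.symm⟩

end Groth.Agent.Lib.Helper92.AdjVar
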