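import Groth.Agent.Lib.Helper92.AdjVar2

/-!
# Adjoint varieties: the highest root hypotheses and first consequences (helper92)
-/

set_option autoImplicit false
set_option linter.unusedSectionVars false

namespace Groth.Agent.Lib.Helper92.AdjVar

open LieAlgebra LieModule Module

variable {ι : Type*} {K : Type*} {L : Type*} [Fintype ι] [Field K] [CharZero K]
    [IsAlgClosed K] [LieRing L] [LieAlgebra K L] [FiniteDimensional K L] [LieAlgebra.IsSimple K L]
    {H : LieSubalgebra K L} [H.IsCartanSubalgebra] (b : LieAlgebra.Basis ι H)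

/-- The standing hypotheses on the highest root `ρ` and the distinguished index `j`. -/
structure Hyp (b : LieAlgebra.Basis ι H) (ρ : Module.Dual K H) (j : ι) : Prop where
  hρ : RS (L := L) H ρ ≠ ⊥
  htop : ∀ i, RS (L := L) H (ρ + b.baseSupp i) = ⊥
  hN : ∀ i, ρ (b.h' i) ≠ 0 ↔ i = j
  hj : ρ (b.h' j) = 1

lemma exists_mem_ne_zero {χ : Module.Dual K H} (h : RS (L := L) H χ ≠ ⊥) :
    ∃ x, x ∈ RS (L := L) H χ ∧ x ≠ 0 := by
  rw [Ne, LieSubmodule.eq_bot_iff] at h
  push Not at h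
  exact h

lemma eq_zero_of_RS_eq_bot {χ : Module.Dual K H} (h : RS (L := L) H χ = ⊥) {x : L}
    (hx : x ∈ RS H χ) : x = 0 := by
  rw [h] at hx
  simpa using hx

lemma baseSupp_injective : Function.Injective b.baseSupp :=
  b.linearIndependent_baseSupp.injective

lemma baseSupp_ne_zero (i : ι) : b.baseSupp i ≠ 0 :=
  b.linearIndependent_baseSupp.ne_zero i

/-- The simple roots as weights. -/
noncomputable def wα (i : ι) : Weight K H L :=
  ⟨⇑(b.baseSupp i), RS_ne_bot_of_mem (e_mem b i) (b.sl2 i).e_ne_zero⟩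

lemma wα_nonzero (i : ι) : (wα b i).IsNonZero := by
  intro hz
  apply baseSupp_ne_zero b i
  ext x
  have := congrFun hz x
  simpa [wα] using this

lemma coroot_wα (i : ι) : LieAlgebra.IsKilling.coroot (wα b i) = b.h' i := by
  rw [← b.coroot_eq_h' i]
  congr 1

/-- Root string lemma: if `β` is a weight and `β + α_i` is not, then `β(h_i)` is a natural number
`n` and `β - k α_i` can be a weight only for `k ≤ n`. -/
lemma string (β : Module.Dual K H) (hβ : RS (L := L) H β ≠ ⊥) (i : ι)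
    (hnot : RS (L := L) H (β + b.baseSupp i) = ⊥) :
    ∃ n : ℕ, β (b.h' i) = (n : K) ∧
      ∀ k : ℕ, RS (L := L) H (β - k • b.baseSupp i) ≠ ⊥ → k ≤ n := by
  let wβ : Weight K H L := ⟨⇑β, hβ⟩
  have key := LieAlgebra.IsKilling.rootSpace_zsmul_add_ne_bot_iff (wα b i) wβ (wα_nonzero b i)
  have htop0 : chainTopCoeff (⇑(wα b i)) wβ = 0 := by
    by_contra hne
    have h1 : (1 : ℤ) ≤ chainTopCoeff (⇑(wα b i)) wβ := by
      have : 0 < chainTopCoeff (⇑(wα b i)) wβ := Nat.pos_of_ne_zero hne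
      exact_mod_cast this
    have h2 : -(1 : ℤ) ≤ chainBotCoeff (⇑(wα b i)) wβ := by
      have : (0 : ℤ) ≤ chainBotCoeff (⇑(wα b i)) wβ := by positivity
      linarith
    have := (key 1).mpr ⟨h1, h2⟩
    apply this
    have e : ((1 : ℤ) • ⇑(wα b i) + ⇑wβ : H → K) = ⇑(β + b.baseSupp i) := by
      ext x; simp [wα, wβ, add_comm]
    rw [e]
    exact hnot
  refine ⟨chainBotCoeff (⇑(wα b i)) wβ, ?_, ?_⟩
  · have := LieAlgebra.IsKilling.apply_coroot_eq_cast (wα b i) wβ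
    rw [coroot_wα, htop0] at this
    simpa [wβ] using this
  · intro k hk
    have e : ((-(k : ℤ)) • ⇑(wα b i) + ⇑wβ : H → K) = ⇑(β - k • b.baseSupp i) := by
      ext x; simp [wα, wβ]; ring
    have := (key (-(k : ℤ))).mp (by rw [e]; exact hk)
    have h2 := this.2
    simp only [neg_neg] at h2
    exact_mod_cast h2

namespace Hyp

variable {b} {ρ : Module.Dual K H} {j : ι} (hyp : Hyp (L := L) b ρ j)
include hyp

lemma exists_top : ∃ x, x ∈ RS (L := L) H ρ ∧ x ≠ 0 ∧ ∀ i, ⁅b.e i, x⁆ = 0 := by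
  obtain ⟨x, hx, hx0⟩ := exists_mem_ne_zero hyp.hρ
  refine ⟨x, hx, hx0, fun i => ?_⟩
  have h := lie_mem_RS (e_mem b i) hx
  rw [add_comm] at h
  exact eq_zero_of_RS_eq_bot (hyp.htop i) h

/-- Every weight lies below `ρ`. -/
lemma below (β : Module.Dual K H) (hβ : RS (L := L) H β ≠ ⊥) : ∃ l : List ι, β = ρ - lsum b l := by
  obtain ⟨x, hx, hx0, he⟩ := hyp.exists_top
  exact wt_of_highest b hx hx0 he β hβ

/-- A nonzero weight vector killed by all `e i` has weight `ρ`. -/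
lemma unique_top {β : Module.Dual K H} {v : L} (hv : v ∈ RS H β) (hv0 : v ≠ 0)
    (he : ∀ i, ⁅b.e i, v⁆ = 0) : β = ρ := by
  obtain ⟨φ, hφ⟩ := exists_ht b
  obtain ⟨l₁, h1⟩ := wt_of_highest b hv hv0 he ρ hyp.hρ
  obtain ⟨l₂, h2⟩ := hyp.below β (RS_ne_bot_of_mem hv hv0)
  have h3 : φ (lsum b l₁) + φ (lsum b l₂) = 0 := by
    have : lsum b l₁ + lsum b l₂ = 0 := by
      have e1 : lsum b l₁ = β - ρ := by rw [h1]; abel
      have e2 : lsum b l₂ = ρ - β := by rw [h2]; abel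
      rw [e1, e2]; abel
    rw [← map_add, this, map_zero]
  rw [ht_lsum b φ hφ, ht_lsum b φ hφ] at h3
  have h4 : l₂.length = 0 := by
    have : ((l₁.length + l₂.length : ℕ) : K) = 0 := by push_cast; exact h3
    have := Nat.cast_eq_zero.mp this
    omega
  have : l₂ = [] := List.length_eq_zero_iff.mp h4
  rw [h2, this]; simp

lemma rho_ne_zero : ρ ≠ 0 := by
  intro h
  have := hyp.hj
  rw [h] at this
  simp at this

lemma rho_ne_alpha : ρ ≠ b.baseSupp j := by
  intro h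
  have h1 := hyp.hj
  rw [h, b.baseSupp_apply_h'] at h1
  have : IsAddTorsionFree L := .of_isTorsionFree K L
  rw [b.A_diag_eq_two] at h1
  norm_num at h1

lemma rho_apply_of_ne {i : ι} (h : i ≠ j) : ρ (b.h' i) = 0 := by
  by_contra hne
  exact h ((hyp.hN i).mp hne)

/-- `ρ - α_i` is a weight only for `i = j`. -/
lemma eq_j_of_sub {i : ι} (h : RS (L := L) H (ρ - b.baseSupp i) ≠ ⊥) : i = j := by
  obtain ⟨n, hn, hk⟩ := string b ρ hyp.hρ i (hyp.htop i)
  have h1 := hk 1 (by simpa using h)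
  apply (hyp.hN i).mp
  rw [hn]
  have : (n : K) ≠ 0 := by
    have : n ≠ 0 := by omega
    exact_mod_cast this
  exact this

/-- `ρ - 2 α_j` is not a weight. -/
lemma sub_two : RS (L := L) H (ρ - b.baseSupp j - b.baseSupp j) = ⊥ := by
  by_contra h
  obtain ⟨n, hn, hk⟩ := string b ρ hyp.hρ j (hyp.htop j)
  have h2 : RS (L := L) H (ρ - 2 • b.baseSupp j) ≠ ⊥ := by
    have e : ρ - 2 • b.baseSupp j = ρ - b.baseSupp j - b.baseSupp j := by
      rw [two_smul]; abel
    rw [e]; exact h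
  have h1 := hk 2 (by simpa using h2)
  rw [hyp.hj] at hn
  have : n = 1 := by exact_mod_cast hn.symm
  omega

/-- The lowering of the top vector along `f j`. -/
lemma exists_low : ∃ x y : L, x ∈ RS H ρ ∧ x ≠ 0 ∧ (∀ i, ⁅b.e i, x⁆ = 0) ∧
    y ∈ RS H (ρ - b.baseSupp j) ∧ y ≠ 0 ∧ ⁅b.e j, y⁆ = x ∧ ∀ i, i ≠ j → ⁅b.e i, y⁆ = 0 := by
  obtain ⟨x, hx, hx0, he⟩ := hyp.exists_top
  have hy : ⁅b.f j, x⁆ ∈ RS H (ρ - b.baseSupp j) := by
    have := lie_mem_RS (f_mem b j) hx
    have e : -b.baseSupp j + ρ = ρ - b.baseSupp j := by abel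
    rwa [e] at this
  have hey : ⁅b.e j, ⁅b.f j, x⁆⁆ = x := by
    rw [leibniz_lie, he j, lie_zero, add_zero, (b.sl2 j).lie_e_f]
    have := lie_h_eq hx (b.h' j)
    change ⁅b.h j, x⁆ = _ at this
    rw [this, hyp.hj, one_smul]
  refine ⟨x, ⁅b.f j, x⁆, hx, hx0, he, hy, ?_, hey, ?_⟩
  · intro h0
    rw [h0, lie_zero] at hey
    exact hx0 hey.symm
  · intro i hij
    rw [leibniz_lie, he i, lie_zero, add_zero, b.lie_e_f_ne i j hij, zero_lie]

lemma sub_ne_zero' : ρ - b.baseSupp j ≠ 0 := fun h => hyp.rho_ne_alpha (sub_eq_zero.mp h)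

lemma sub_ne_bot : RS (L := L) H (ρ - b.baseSupp j) ≠ ⊥ := by
  obtain ⟨x, y, _, _, _, hy, hy0, _, _⟩ := hyp.exists_low
  exact RS_ne_bot_of_mem hy hy0

end Hyp

end Groth.Agent.Lib.Helper92.AdjVar
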