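import Groth.Agent.Lib.Helper92.AdjVar3

/-!
# Adjoint varieties: Borel-stable subspaces of small dimension (helper92)
-/

set_option autoImplicit false
set_option linter.unusedSectionVars false

namespace Groth.Agent.Lib.Helper92.AdjVar

open LieAlgebra LieModule Module

variable {ι : Type*} {K : Type*} {L : Type*} [Fintype ι] [Field K] [CharZero K]
    [IsAlgClosed K] [LieRing L] [LieAlgebra K L] [FiniteDimensional K L] [LieAlgebra.IsSimple K L]
    {H : LieSubalgebra K L} [H.IsCartanSubalgebra] (b : LieAlgebra.Basis ι H)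

/-- An `H`-stable subspace as a Lie submodule. -/
def toLieSub (W : Submodule K L) (hW : ∀ h : H, ∀ w ∈ W, ⁅(h : L), w⁆ ∈ W) : LieSubmodule K H L :=
  { W with lie_mem := fun {x m} hm => hW x m hm }

@[simp] lemma toLieSub_toSubmodule (W : Submodule K L) (hW : ∀ h : H, ∀ w ∈ W, ⁅(h : L), w⁆ ∈ W) :
    (toLieSub W hW : Submodule K L) = W := rfl

@[simp] lemma mem_toLieSub (W : Submodule K L) (hW : ∀ h : H, ∀ w ∈ W, ⁅(h : L), w⁆ ∈ W) (x : L) :
    x ∈ toLieSub W hW ↔ x ∈ W := Iff.rfl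

lemma exists_wt_not_mem (N N' : LieSubmodule K H L) (h : ¬ N ≤ N') :
    ∃ β : Module.Dual K H, ∃ u, u ∈ N ∧ u ∈ RS H β ∧ u ∉ N' := by
  by_contra hcon
  push Not at hcon
  apply h
  have hN := LieModule.eq_iSup_inf_genWeightSpace K H L N
  rw [hN]
  refine iSup_le fun χ => ?_
  intro u hu
  rw [LieSubmodule.mem_inf] at hu
  exact hcon (Weight.toLinear K H L χ) u hu.1 hu.2

lemma disjoint_RS_sup {γ χ₁ χ₂ : Module.Dual K H} (h1 : γ ≠ χ₁) (h2 : γ ≠ χ₂) :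
    Disjoint (RS (L := L) H γ) (RS H χ₁ ⊔ RS H χ₂) := by
  have := iSupIndep_RS (K := K) (L := L) (H := H).disjoint_biSup (x := γ) (y := {χ₁, χ₂})
    (by simp [h1, h2])
  rwa [iSup_pair] at this

lemma disjoint_RS_sup₃ {γ χ₁ χ₂ χ₃ : Module.Dual K H} (h1 : γ ≠ χ₁) (h2 : γ ≠ χ₂) (h3 : γ ≠ χ₃) :
    Disjoint (RS (L := L) H γ) (RS H χ₁ ⊔ RS H χ₂ ⊔ RS H χ₃) := by
  have := iSupIndep_RS (K := K) (L := L) (H := H).disjoint_biSup (x := γ) (y := {χ₁, χ₂, χ₃})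
    (by simp [h1, h2, h3])
  rw [iSup_insert, iSup_pair, ← sup_assoc] at this
  exact this

lemma mem_sup_RS {γ χ₁ χ₂ : Module.Dual K H} {u : L} (hu : u ∈ RS H γ)
    (hu' : u ∈ RS (L := L) H χ₁ ⊔ RS H χ₂) (hu0 : u ≠ 0) : γ = χ₁ ∨ γ = χ₂ := by
  by_contra hcon
  push Not at hcon
  have := disjoint_RS_sup (L := L) hcon.1 hcon.2
  rw [← LieSubmodule.disjoint_toSubmodule, Submodule.disjoint_def] at this
  exact hu0 (this u hu hu')

lemma mem_sup_RS₃ {γ χ₁ χ₂ χ₃ : Module.Dual K H} {u : L} (hu : u ∈ RS H γ)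
    (hu' : u ∈ RS (L := L) H χ₁ ⊔ RS H χ₂ ⊔ RS H χ₃) (hu0 : u ≠ 0) :
    γ = χ₁ ∨ γ = χ₂ ∨ γ = χ₃ := by
  by_contra hcon
  push Not at hcon
  have := disjoint_RS_sup₃ (L := L) hcon.1 hcon.2.1 hcon.2.2
  rw [← LieSubmodule.disjoint_toSubmodule, Submodule.disjoint_def] at this
  exact hu0 (this u hu hu')

namespace Hyp

variable {b} {ρ : Module.Dual K H} {j : ι} (hyp : Hyp (L := L) b ρ j)
include hyp

/-- The basic descent step. -/
theorem step (N N' : LieSubmodule K H L) (hNe : ∀ i, ∀ w ∈ N, ⁅b.e i, w⁆ ∈ N) (h : ¬ N ≤ N') :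
    ∃ β : Module.Dual K H, ∃ u, u ∈ N ∧ u ∈ RS H β ∧ u ∉ N' ∧ ∀ i, ⁅b.e i, u⁆ ∈ N' := by
  obtain ⟨φ, hφ⟩ := exists_ht b
  obtain ⟨β₀, u₀, hu₀N, hu₀β, hu₀N'⟩ := exists_wt_not_mem N N' h
  have main : ∀ n : ℕ, ∀ β : Module.Dual K H, ∀ u : L, φ ρ - φ β = (n : K) → u ∈ N → u ∈ RS H β →
      u ∉ N' → ∃ β : Module.Dual K H, ∃ u, u ∈ N ∧ u ∈ RS H β ∧ u ∉ N' ∧ ∀ i, ⁅b.e i, u⁆ ∈ N' := by
    intro n
    induction n using Nat.strong_induction_on with
    | _ n ih =>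
      intro β u hn huN huβ huN'
      by_cases hall : ∀ i, ⁅b.e i, u⁆ ∈ N'
      · exact ⟨β, u, huN, huβ, huN', hall⟩
      · push Not at hall
        obtain ⟨i, hi⟩ := hall
        have hu'β := lie_mem_RS (e_mem b i) huβ
        have hu'0 : ⁅b.e i, u⁆ ≠ 0 := fun h0 => hi (by rw [h0]; exact N'.zero_mem)
        obtain ⟨l, hl⟩ := hyp.below _ (RS_ne_bot_of_mem hu'β hu'0)
        have hm : φ ρ - φ (b.baseSupp i + β) = (l.length : K) := by
          rw [hl, map_sub, ht_lsum b φ hφ]; ring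
        have hlt : l.length < n := by
          have : (n : K) = ((l.length + 1 : ℕ) : K) := by
            push_cast
            rw [← hn, ← hm, map_add, hφ]; ring
          have := Nat.cast_injective this
          omega
        exact ih l.length hlt _ _ hm (hNe i u huN) hu'β hi
  obtain ⟨l, hl⟩ := hyp.below β₀ (by
    apply RS_ne_bot_of_mem hu₀β
    intro h0
    exact hu₀N' (by rw [h0]; exact N'.zero_mem))
  refine main l.length β₀ u₀ ?_ hu₀N hu₀β hu₀N'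
  rw [hl, map_sub, ht_lsum b φ hφ]; ring

/-- Any nonzero `𝔟`-stable subspace contains the highest root space. -/
theorem top_le (N : LieSubmodule K H L) (hNe : ∀ i, ∀ w ∈ N, ⁅b.e i, w⁆ ∈ N) (hN0 : N ≠ ⊥) :
    RS H ρ ≤ N := by
  have h : ¬ N ≤ ⊥ := fun h => hN0 (le_bot_iff.mp h)
  obtain ⟨β, u, huN, huβ, hu0, he⟩ := hyp.step N ⊥ hNe h
  have hu0' : u ≠ 0 := fun h0 => hu0 (by rw [h0]; exact (⊥ : LieSubmodule K H L).zero_mem)
  have hβ : β = ρ := hyp.unique_top huβ hu0' (fun i => by simpa using he i)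
  subst hβ
  rw [← LieSubmodule.toSubmodule_le_toSubmodule]
  exact RS_le_of_mem hyp.rho_ne_zero huβ hu0' N huN

/-- Refined descent step above a subspace containing the top root space. -/
theorem step' (N N' : LieSubmodule K H L) (hNe : ∀ i, ∀ w ∈ N, ⁅b.e i, w⁆ ∈ N) (h : ¬ N ≤ N')
    (htop : RS H ρ ≤ N') :
    ∃ β : Module.Dual K H, ∃ u, ∃ i, u ∈ N ∧ u ∈ RS H β ∧ u ∉ N' ∧ (∀ k, ⁅b.e k, u⁆ ∈ N') ∧
      ⁅b.e i, u⁆ ≠ 0 := by
  obtain ⟨β, u, huN, huβ, huN', he⟩ := hyp.step N N' hNe h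
  have hu0 : u ≠ 0 := fun h0 => huN' (by rw [h0]; exact N'.zero_mem)
  by_cases hall : ∀ i, ⁅b.e i, u⁆ = 0
  · exfalso
    have hβ : β = ρ := hyp.unique_top huβ hu0 hall
    subst hβ
    exact huN' (htop huβ)
  · push Not at hall
    obtain ⟨i, hi⟩ := hall
    exact ⟨β, u, i, huN, huβ, huN', he, hi⟩

/-- A `𝔟`-stable subspace not inside the top root space contains `L_{ρ - α_j}`. -/
theorem low_le (N : LieSubmodule K H L) (hNe : ∀ i, ∀ w ∈ N, ⁅b.e i, w⁆ ∈ N)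
    (h : ¬ N ≤ RS H ρ) : RS H (ρ - b.baseSupp j) ≤ N := by
  obtain ⟨β, u, i, huN, huβ, huN', he, hi⟩ := hyp.step' N (RS H ρ) hNe h le_rfl
  have hu0 : u ≠ 0 := fun h0 => huN' (by rw [h0]; exact (RS H ρ).zero_mem)
  have h1 := lie_mem_RS (e_mem b i) huβ
  have h2 : b.baseSupp i + β = ρ := eq_of_mem_RS h1 (he i) hi
  have hβ : β = ρ - b.baseSupp i := by rw [← h2]; abel
  subst hβ
  have hij : i = j := hyp.eq_j_of_sub (RS_ne_bot_of_mem huβ hu0)
  subst hij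
  rw [← LieSubmodule.toSubmodule_le_toSubmodule]
  exact RS_le_of_mem hyp.sub_ne_zero' huβ hu0 N huN

/-- If `i ≠ j` then `ρ - α_i` is not a weight. -/
lemma sub_eq_bot {i : ι} (hij : i ≠ j) : RS (L := L) H (ρ - b.baseSupp i) = ⊥ := by
  by_contra h
  exact hij (hyp.eq_j_of_sub h)

/-- Properties of a second-level weight `ρ - α_j - α_i`. -/
lemma third_props {i : ι} (hβ : RS (L := L) H (ρ - b.baseSupp j - b.baseSupp i) ≠ ⊥) :
    i ≠ j ∧ b.A i j ≠ 0 ∧ ρ - b.baseSupp j - b.baseSupp i ≠ 0 := by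
  have hij : i ≠ j := by
    rintro rfl
    exact hβ hyp.sub_two
  refine ⟨hij, ?_, ?_⟩
  · obtain ⟨n, hn, -⟩ := string b (ρ - b.baseSupp j - b.baseSupp i) hβ j (by
      have e : ρ - b.baseSupp j - b.baseSupp i + b.baseSupp j = ρ - b.baseSupp i := by abel
      rw [e]
      exact hyp.sub_eq_bot hij)
    intro hA
    have : IsAddTorsionFree L := .of_isTorsionFree K L
    simp only [LinearMap.sub_apply, b.baseSupp_apply_h', hyp.hj, b.A_diag_eq_two, hA] at hn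
    have h2 : ((n + 1 : ℕ) : K) = 0 := by push_cast; rw [← hn]; norm_num
    exact (Nat.cast_ne_zero.mpr (Nat.succ_ne_zero n)) h2
  · intro h0
    have e : ρ - b.baseSupp i = b.baseSupp j := by
      have : ρ - b.baseSupp i = (ρ - b.baseSupp j - b.baseSupp i) + b.baseSupp j := by abel
      rw [this, h0, zero_add]
    have := hyp.sub_eq_bot hij
    rw [e] at this
    exact RS_ne_bot_of_mem (e_mem b j) (b.sl2 j).e_ne_zero this

/-- A `𝔟`-stable subspace not inside `L_ρ ⊕ L_{ρ-α_j}` contains some `L_{ρ-α_j-α_i}`. -/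
theorem third_le (N : LieSubmodule K H L) (hNe : ∀ i, ∀ w ∈ N, ⁅b.e i, w⁆ ∈ N)
    (h : ¬ N ≤ RS H ρ ⊔ RS H (ρ - b.baseSupp j)) :
    ∃ i, RS (L := L) H (ρ - b.baseSupp j - b.baseSupp i) ≠ ⊥ ∧
      RS H (ρ - b.baseSupp j - b.baseSupp i) ≤ N := by
  obtain ⟨β, u, i, huN, huβ, huN', he, hi⟩ :=
    hyp.step' N (RS H ρ ⊔ RS H (ρ - b.baseSupp j)) hNe h le_sup_left
  have hu0 : u ≠ 0 := fun h0 => huN' (by rw [h0]; exact LieSubmodule.zero_mem _)
  have h1 := lie_mem_RS (e_mem b i) huβ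
  rcases mem_sup_RS h1 (he i) hi with h2 | h2
  · exfalso
    have hβ : β = ρ - b.baseSupp i := by rw [← h2]; abel
    subst hβ
    have hij : i = j := hyp.eq_j_of_sub (RS_ne_bot_of_mem huβ hu0)
    subst hij
    exact huN' (LieSubmodule.mem_sup_right huβ)
  · have hβ : β = ρ - b.baseSupp j - b.baseSupp i := by rw [← h2]; abel
    subst hβ
    have hne := RS_ne_bot_of_mem huβ hu0
    refine ⟨i, hne, ?_⟩
    rw [← LieSubmodule.toSubmodule_le_toSubmodule]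
    exact RS_le_of_mem (hyp.third_props hne).2.2 huβ hu0 N huN

end Hyp

end Groth.Agent.Lib.Helper92.AdjVar
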