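import Groth.Agent.Lib.Helper92.AdjVar4

/-!
# Adjoint varieties: Borel-stable lines and planes (helper92)
-/

set_option autoImplicit false
set_option linter.unusedSectionVars false

namespace Groth.Agent.Lib.Helper92.AdjVar

open LieAlgebra LieModule Module

variable {ι : Type*} {K : Type*} {L : Type*} [Fintype ι] [Field K] [CharZero K]
    [IsAlgClosed K] [LieRing L] [LieAlgebra K L] [FiniteDimensional K L] [LieAlgebra.IsSimple K L]
    {H : LieSubalgebra K L} [H.IsCartanSubalgebra] (b : LieAlgebra.Basis ι H)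

lemma e_mem_borel (i : ι) :
    b.e i ∈ H.toSubmodule ⊔ (b.borelUpper : Submodule K L) := by
  apply Submodule.mem_sup_right
  change b.e i ∈ LieSubalgebra.lieSpan K L (Set.range b.e)
  exact LieSubalgebra.subset_lieSpan ⟨i, rfl⟩

lemma h_mem_borel (h : H) :
    (h : L) ∈ H.toSubmodule ⊔ (b.borelUpper : Submodule K L) :=
  Submodule.mem_sup_left h.2

/-- Stability under `H` and the `e i` gives stability under the Borel subalgebra. -/
lemma stable_of (W : Submodule K L) (hH : ∀ h : H, ∀ w ∈ W, ⁅(h : L), w⁆ ∈ W)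
    (he : ∀ i, ∀ w ∈ W, ⁅b.e i, w⁆ ∈ W) :
    ∀ x ∈ H.toSubmodule ⊔ (b.borelUpper : Submodule K L), ∀ w ∈ W, ⁅x, w⁆ ∈ W := by
  intro x hx w hw
  obtain ⟨h, hh, n, hn, rfl⟩ := Submodule.mem_sup.mp hx
  rw [add_lie]
  refine W.add_mem (hH ⟨h, hh⟩ w hw) ?_
  have hn' : n ∈ LieSubalgebra.lieSpan K L (Set.range b.e) := hn
  refine stable_lieSpan W (Set.range b.e) ?_ n hn' w hw
  rintro _ ⟨i, rfl⟩ w hw
  exact he i w hw

lemma finrank_sup_RS {χ₁ χ₂ : Module.Dual K H} (h1 : RS (L := L) H χ₁ ≠ ⊥) (h1' : χ₁ ≠ 0)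
    (h2 : RS (L := L) H χ₂ ≠ ⊥) (h2' : χ₂ ≠ 0) (hne : χ₁ ≠ χ₂) :
    Module.finrank K ((RS (L := L) H χ₁ : Submodule K L) ⊔ (RS (L := L) H χ₂ : Submodule K L) :
      Submodule K L) = 2 := by
  have hd : Disjoint (RS (L := L) H χ₁ : Submodule K L) (RS (L := L) H χ₂ : Submodule K L) := by
    rw [LieSubmodule.disjoint_toSubmodule]
    exact RS_disjoint hne
  have := Submodule.finrank_sup_add_finrank_inf_eq (RS (L := L) H χ₁ : Submodule K L)
    (RS (L := L) H χ₂ : Submodule K L)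
  rw [hd.eq_bot, finrank_bot] at this
  have e1 : Module.finrank K (RS (L := L) H χ₁ : Submodule K L) = 1 := finrank_RS h1 h1'
  have e2 : Module.finrank K (RS (L := L) H χ₂ : Submodule K L) = 1 := finrank_RS h2 h2'
  omega

lemma finrank_sup_RS₃ {χ₁ χ₂ χ₃ : Module.Dual K H} (h1 : RS (L := L) H χ₁ ≠ ⊥) (h1' : χ₁ ≠ 0)
    (h2 : RS (L := L) H χ₂ ≠ ⊥) (h2' : χ₂ ≠ 0) (h3 : RS (L := L) H χ₃ ≠ ⊥) (h3' : χ₃ ≠ 0)
    (h12 : χ₁ ≠ χ₂) (h31 : χ₃ ≠ χ₁) (h32 : χ₃ ≠ χ₂) :
    Module.finrank K ((RS (L := L) H χ₁ : Submodule K L) ⊔ (RS (L := L) H χ₂ : Submodule K L) ⊔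
      (RS (L := L) H χ₃ : Submodule K L) : Submodule K L) = 3 := by
  have hd : Disjoint ((RS (L := L) H χ₁ : Submodule K L) ⊔ (RS (L := L) H χ₂ : Submodule K L))
      (RS (L := L) H χ₃ : Submodule K L) := by
    have := (disjoint_RS_sup (L := L) h31 h32).symm
    rw [← LieSubmodule.disjoint_toSubmodule, LieSubmodule.sup_toSubmodule] at this
    exact this
  have := Submodule.finrank_sup_add_finrank_inf_eq
    ((RS (L := L) H χ₁ : Submodule K L) ⊔ (RS (L := L) H χ₂ : Submodule K L))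
    (RS (L := L) H χ₃ : Submodule K L)
  rw [hd.eq_bot, finrank_bot, finrank_sup_RS h1 h1' h2 h2' h12] at this
  have e3 : Module.finrank K (RS (L := L) H χ₃ : Submodule K L) = 1 := finrank_RS h3 h3'
  omega

namespace Hyp

variable {b} {ρ : Module.Dual K H} {j : ι} (hyp : Hyp (L := L) b ρ j)
include hyp

lemma rho_ne_sub : ρ ≠ ρ - b.baseSupp j := by
  intro h
  apply baseSupp_ne_zero b j
  have : b.baseSupp j = ρ - (ρ - b.baseSupp j) := by abel
  rw [this, ← h, sub_self]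

lemma third_ne {i : ι} : ρ - b.baseSupp j - b.baseSupp i ≠ ρ ∧
    ρ - b.baseSupp j - b.baseSupp i ≠ ρ - b.baseSupp j := by
  obtain ⟨φ, hφ⟩ := exists_ht b
  constructor
  · intro h
    have := congrArg φ h
    simp only [map_sub, hφ] at this
    have h2 : (2 : K) = 0 := by linear_combination -this
    norm_num at h2
  · intro h
    apply baseSupp_ne_zero b i
    have : b.baseSupp i = (ρ - b.baseSupp j) - (ρ - b.baseSupp j - b.baseSupp i) := by abel
    rw [this, h, sub_self]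

lemma finrank_two : Module.finrank K ((RS (L := L) H ρ : Submodule K L) ⊔
    (RS (L := L) H (ρ - b.baseSupp j) : Submodule K L) : Submodule K L) = 2 :=
  finrank_sup_RS hyp.hρ hyp.rho_ne_zero hyp.sub_ne_bot hyp.sub_ne_zero' hyp.rho_ne_sub

lemma finrank_three {i : ι} (hβ : RS (L := L) H (ρ - b.baseSupp j - b.baseSupp i) ≠ ⊥) :
    Module.finrank K ((RS (L := L) H ρ : Submodule K L) ⊔
      (RS (L := L) H (ρ - b.baseSupp j) : Submodule K L) ⊔
      (RS (L := L) H (ρ - b.baseSupp j - b.baseSupp i) : Submodule K L) : Submodule K L) = 3 :=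
  finrank_sup_RS₃ hyp.hρ hyp.rho_ne_zero hyp.sub_ne_bot hyp.sub_ne_zero' hβ
    (hyp.third_props hβ).2.2 hyp.rho_ne_sub hyp.third_ne.1 hyp.third_ne.2

/-- `L_ρ ⊕ L_{ρ-α_j}` is stable under the `e i`. -/
lemma e_stable_two (i : ι) : ∀ w ∈ (RS (L := L) H ρ : Submodule K L) ⊔
    (RS (L := L) H (ρ - b.baseSupp j) : Submodule K L),
    ⁅b.e i, w⁆ ∈ (RS (L := L) H ρ : Submodule K L) ⊔
      (RS (L := L) H (ρ - b.baseSupp j) : Submodule K L) := by
  intro w hw
  obtain ⟨x, y, hx, hx0, hex, hy, hy0, hey, hey'⟩ := hyp.exists_low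
  obtain ⟨w₁, hw₁, w₂, hw₂, rfl⟩ := Submodule.mem_sup.mp hw
  obtain ⟨c₁, rfl⟩ := exists_smul_of_mem_RS hyp.rho_ne_zero hx hx0 hw₁
  obtain ⟨c₂, rfl⟩ := exists_smul_of_mem_RS hyp.sub_ne_zero' hy hy0 hw₂
  rw [lie_add, lie_smul, lie_smul, hex i, smul_zero, zero_add]
  by_cases hij : i = j
  · subst hij
    rw [hey]
    exact Submodule.mem_sup_left (Submodule.smul_mem _ _ hx)
  · rw [hey' i hij, smul_zero]
    exact Submodule.zero_mem _

lemma stable_two : ∀ x ∈ H.toSubmodule ⊔ (b.borelUpper : Submodule K L),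
    ∀ w ∈ (RS (L := L) H ρ : Submodule K L) ⊔ (RS (L := L) H (ρ - b.baseSupp j) : Submodule K L),
    ⁅x, w⁆ ∈ (RS (L := L) H ρ : Submodule K L) ⊔
      (RS (L := L) H (ρ - b.baseSupp j) : Submodule K L) := by
  apply stable_of b
  · intro h w hw
    rw [← LieSubmodule.sup_toSubmodule] at hw ⊢
    exact LieSubmodule.lie_mem _ hw
  · exact fun i => hyp.e_stable_two i

/-- Main theorem for two-dimensional Borel-stable subspaces. -/
theorem main_two (W : Submodule K L) :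
    (Module.finrank K W = 2 ∧
        ∀ x ∈ H.toSubmodule ⊔ (b.borelUpper : Submodule K L), ∀ w ∈ W, ⁅x, w⁆ ∈ W) ↔
      W = (RS (L := L) H ρ : Submodule K L) ⊔ (RS (L := L) H (ρ - b.baseSupp j) : Submodule K L) := by
  constructor
  · rintro ⟨hW, hst⟩
    let N : LieSubmodule K H L := toLieSub W (fun h w hw => hst _ (h_mem_borel b h) w hw)
    have hNe : ∀ i, ∀ w ∈ N, ⁅b.e i, w⁆ ∈ N := fun i w hw => hst _ (e_mem_borel b i) w hw
    have hnot : ¬ N ≤ RS H ρ := by
      intro hle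
      have h1 : W ≤ (RS (L := L) H ρ : Submodule K L) := hle
      have := Submodule.finrank_mono h1
      have e1 : Module.finrank K (RS (L := L) H ρ : Submodule K L) = 1 :=
        finrank_RS hyp.hρ hyp.rho_ne_zero
      omega
    have hN0 : N ≠ ⊥ := by
      rintro h0
      apply hnot
      rw [h0]
      exact bot_le
    have h1 : (RS (L := L) H ρ : Submodule K L) ≤ W := hyp.top_le N hNe hN0
    have h2 : (RS (L := L) H (ρ - b.baseSupp j) : Submodule K L) ≤ W := hyp.low_le N hNe hnot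
    symm
    apply Submodule.eq_of_le_of_finrank_eq (sup_le h1 h2)
    rw [hyp.finrank_two, hW]
  · rintro rfl
    exact ⟨hyp.finrank_two, hyp.stable_two⟩

/-- Main theorem for three-dimensional Borel-stable subspaces. -/
theorem main_three (W : Submodule K L) (hW : Module.finrank K W = 3)
    (hst : ∀ x ∈ H.toSubmodule ⊔ (b.borelUpper : Submodule K L), ∀ w ∈ W, ⁅x, w⁆ ∈ W) :
    (RS (L := L) H ρ : Submodule K L) ⊔ (RS (L := L) H (ρ - b.baseSupp j) : Submodule K L) ≤ W ∧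
      ∃ i : ι, i ≠ j ∧ b.A i j ≠ 0 ∧ RS (L := L) H (ρ - b.baseSupp j - b.baseSupp i) ≠ ⊥ ∧
        W = (RS (L := L) H ρ : Submodule K L) ⊔ (RS (L := L) H (ρ - b.baseSupp j) : Submodule K L) ⊔
          (RS (L := L) H (ρ - b.baseSupp j - b.baseSupp i) : Submodule K L) := by
  let N : LieSubmodule K H L := toLieSub W (fun h w hw => hst _ (h_mem_borel b h) w hw)
  have hNe : ∀ i, ∀ w ∈ N, ⁅b.e i, w⁆ ∈ N := fun i w hw => hst _ (e_mem_borel b i) w hw
  have hnot2 : ¬ N ≤ RS H ρ ⊔ RS H (ρ - b.baseSupp j) := by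
    intro hle
    have h1 : W ≤ (RS (L := L) H ρ : Submodule K L) ⊔
        (RS (L := L) H (ρ - b.baseSupp j) : Submodule K L) := by
      rw [← LieSubmodule.sup_toSubmodule]
      exact hle
    have := Submodule.finrank_mono h1
    rw [hyp.finrank_two] at this
    omega
  have hnot : ¬ N ≤ RS H ρ := fun hle => hnot2 (hle.trans le_sup_left)
  have hN0 : N ≠ ⊥ := by
    rintro h0
    apply hnot
    rw [h0]
    exact bot_le
  have h1 : (RS (L := L) H ρ : Submodule K L) ≤ W := hyp.top_le N hNe hN0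
  have h2 : (RS (L := L) H (ρ - b.baseSupp j) : Submodule K L) ≤ W := hyp.low_le N hNe hnot
  obtain ⟨i, hβ, hle⟩ := hyp.third_le N hNe hnot2
  have h3 : (RS (L := L) H (ρ - b.baseSupp j - b.baseSupp i) : Submodule K L) ≤ W := hle
  obtain ⟨hij, hA, -⟩ := hyp.third_props hβ
  refine ⟨sup_le h1 h2, i, hij, hA, hβ, ?_⟩
  symm
  apply Submodule.eq_of_le_of_finrank_eq (sup_le (sup_le h1 h2) h3)
  rw [hyp.finrank_three hβ, hW]

end Hyp

end Groth.Agent.Lib.Helper92.AdjVar
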