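import Groth.Agent.Lib.Helper92.AdjVar5
import Mathlib.LinearAlgebra.QuadraticForm.Basic
import Mathlib.LinearAlgebra.Dual.Lemmas

/-!
# Adjoint varieties: Borel semi-invariant conics in a Borel-stable plane (helper92)
-/

set_option autoImplicit false
set_option linter.unusedSectionVars false

namespace Groth.Agent.Lib.Helper92.AdjVar

open LieAlgebra LieModule Module

section Quad

variable {K V : Type*} [Field K] [CharZero K] [AddCommGroup V] [Module K V]

open QuadraticMap in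
/-- Pure quadratic form algebra: semi-invariance under two nilpotent "raising" maps kills all
coefficients except that of `Z²`. -/
theorem quad_core (q : QuadraticForm K V) (X Y Z : V) (a : K) (ha : a ≠ 0)
    (E₁ E₂ : V → V) (hE₁ : ∀ u v, E₁ (u + v) = E₁ u + E₁ v) (hE₂ : ∀ u v, E₂ (u + v) = E₂ u + E₂ v)
    (h1X : E₁ X = 0) (h1Y : E₁ Y = X) (h1Z : E₁ Z = 0)
    (h2X : E₂ X = 0) (h2Y : E₂ Y = 0) (h2Z : E₂ Z = a • Y)
    (c₁ c₂ : K) (hq₁ : ∀ w, polar q (E₁ w) w = c₁ * q w)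
    (hq₂ : ∀ w, polar q (E₂ w) w = c₂ * q w) :
    q X = 0 ∧ q Y = 0 ∧ polar q X Y = 0 ∧ polar q X Z = 0 ∧ polar q Y Z = 0 := by
  have e1 := hq₁ X
  have e2 := hq₁ Y
  have e3 := hq₁ Z
  have e4 := hq₁ (X + Y)
  have e5 := hq₁ (X + Z)
  have e6 := hq₁ (Y + Z)
  have f1 := hq₂ X
  have f2 := hq₂ Y
  have f3 := hq₂ Z
  have f4 := hq₂ (X + Y)
  have f5 := hq₂ (X + Z)
  have f6 := hq₂ (Y + Z)
  simp only [hE₁, hE₂, h1X, h1Y, h1Z, h2X, h2Y, h2Z, polar_zero_left, add_zero, zero_add,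
    polar_add_right, polar_smul_left, polar_self, QuadraticMap.map_add (⇑q), smul_eq_mul,
    nsmul_eq_mul, Nat.cast_ofNat] at e1 e2 e3 e4 e5 e6 f1 f2 f3 f4 f5 f6
  have hyx : polar (⇑q) Y X = polar (⇑q) X Y := polar_comm _ _ _
  rw [hyx] at f5
  set qx := q X
  set qy := q Y
  set qz := q Z
  set pxy := polar (⇑q) X Y
  set pxz := polar (⇑q) X Z
  set pyz := polar (⇑q) Y Z
  have h2 : (2 : K) ≠ 0 := two_ne_zero
  rcases eq_or_ne c₁ 0 with hc | hc
  · subst hc
    have hpxy : pxy = 0 := by linear_combination e2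
    have hqx : qx = 0 := by
      have : 2 * qx = 0 := by linear_combination e4 - hpxy
      exact (mul_eq_zero.mp this).resolve_left h2
    have hpxz : pxz = 0 := by linear_combination e6 - hpxy
    rcases eq_or_ne c₂ 0 with hc' | hc'
    · subst hc'
      have hpyz : pyz = 0 := by
        have : a * pyz = 0 := by linear_combination f3
        exact (mul_eq_zero.mp this).resolve_left ha
      have hqy : qy = 0 := by
        have : a * (2 * qy) = 0 := by linear_combination f6 - a * hpyz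
        rcases mul_eq_zero.mp this with h | h
        · exact absurd h ha
        · exact (mul_eq_zero.mp h).resolve_left h2
      exact ⟨hqx, hqy, hpxy, hpxz, hpyz⟩
    · have hqy : qy = 0 := (mul_eq_zero.mp f2.symm).resolve_left hc'
      have hpyz : pyz = 0 := by
        have : c₂ * pyz = 0 := by linear_combination f3 - f6 + (2 * a - c₂) * hqy
        exact (mul_eq_zero.mp this).resolve_left hc'
      exact ⟨hqx, hqy, hpxy, hpxz, hpyz⟩
  · have hqx : qx = 0 := (mul_eq_zero.mp e1.symm).resolve_left hc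
    have hqz : qz = 0 := (mul_eq_zero.mp e3.symm).resolve_left hc
    have hpxz : pxz = 0 := by
      have : c₁ * pxz = 0 := by linear_combination -e5 - c₁ * hqx - c₁ * hqz
      exact (mul_eq_zero.mp this).resolve_left hc
    have hpxy : pxy = 0 := by
      have : c₁ * pxy = 0 := by linear_combination e2 - e4 + (2 - c₁) * hqx
      exact (mul_eq_zero.mp this).resolve_left hc
    have hqy : qy = 0 := by
      have : c₁ * qy = 0 := by linear_combination -e2 + hpxy
      exact (mul_eq_zero.mp this).resolve_left hc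
    have hpyz : pyz = 0 := by
      have : c₁ * pyz = 0 := by linear_combination -e6 + hpxy + hpxz - c₁ * hqy - c₁ * hqz
      exact (mul_eq_zero.mp this).resolve_left hc
    exact ⟨hqx, hqy, hpxy, hpxz, hpyz⟩

open QuadraticMap in
theorem quad_final (q : QuadraticForm K V) (X Y Z : V)
    (hspan : ∀ w : V, ∃ r s t : K, w = r • X + s • Y + t • Z)
    (ℓ : Module.Dual K V) (hℓX : ℓ X = 0) (hℓY : ℓ Y = 0) (hℓZ : ℓ Z = 1)
    (hqx : q X = 0) (hqy : q Y = 0) (hpxy : polar q X Y = 0) (hpxz : polar q X Z = 0)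
    (hpyz : polar q Y Z = 0) : ∀ w : V, q w = q Z * ℓ w ^ 2 := by
  intro w
  obtain ⟨r, s, t, rfl⟩ := hspan w
  simp only [QuadraticMap.map_add (⇑q), QuadraticMap.map_smul, polar_add_left, polar_smul_left,
    polar_smul_right, smul_eq_mul, hqx, hqy, hpxy, hpxz, hpyz, map_add, map_smul, hℓX, hℓY, hℓZ]
  ring

end Quad

variable {ι : Type*} {K : Type*} {L : Type*} [Fintype ι] [Field K] [CharZero K]
    [IsAlgClosed K] [LieRing L] [LieAlgebra K L] [FiniteDimensional K L] [LieAlgebra.IsSimple K L]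
    {H : LieSubalgebra K L} [H.IsCartanSubalgebra] (b : LieAlgebra.Basis ι H)

namespace Hyp

variable {b} {ρ : Module.Dual K H} {j : ι} (hyp : Hyp (L := L) b ρ j)
include hyp

/-- Root vectors and bracket relations in a Borel-stable three-dimensional subspace. -/
theorem three_vectors {i : ι} (hβ : RS (L := L) H (ρ - b.baseSupp j - b.baseSupp i) ≠ ⊥)
    (hWe : ∀ k, ∀ w ∈ (RS (L := L) H ρ : Submodule K L) ⊔
        (RS (L := L) H (ρ - b.baseSupp j) : Submodule K L) ⊔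
        (RS (L := L) H (ρ - b.baseSupp j - b.baseSupp i) : Submodule K L),
      ⁅b.e k, w⁆ ∈ (RS (L := L) H ρ : Submodule K L) ⊔
        (RS (L := L) H (ρ - b.baseSupp j) : Submodule K L) ⊔
        (RS (L := L) H (ρ - b.baseSupp j - b.baseSupp i) : Submodule K L)) :
    ∃ x y z : L, ∃ a : K, x ∈ RS H ρ ∧ y ∈ RS H (ρ - b.baseSupp j) ∧
      z ∈ RS H (ρ - b.baseSupp j - b.baseSupp i) ∧ x ≠ 0 ∧ y ≠ 0 ∧ z ≠ 0 ∧ a ≠ 0 ∧
      ⁅b.e j, x⁆ = 0 ∧ ⁅b.e j, y⁆ = x ∧ ⁅b.e j, z⁆ = 0 ∧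
      ⁅b.e i, x⁆ = 0 ∧ ⁅b.e i, y⁆ = 0 ∧ ⁅b.e i, z⁆ = a • y := by
  obtain ⟨hij, hA, hβ0⟩ := hyp.third_props hβ
  obtain ⟨x, y, hx, hx0, hex, hy, hy0, hey, hey'⟩ := hyp.exists_low
  obtain ⟨z, hz, hz0⟩ := exists_mem_ne_zero hβ
  have hjz : ⁅b.e j, z⁆ = 0 := by
    have h1 := lie_mem_RS (e_mem b j) hz
    have e : b.baseSupp j + (ρ - b.baseSupp j - b.baseSupp i) = ρ - b.baseSupp i := by abel
    rw [e] at h1
    exact eq_zero_of_RS_eq_bot (hyp.sub_eq_bot hij) h1
  have hiz : ⁅b.e i, z⁆ ∈ RS H (ρ - b.baseSupp j) := by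
    have h1 := lie_mem_RS (e_mem b i) hz
    have e : b.baseSupp i + (ρ - b.baseSupp j - b.baseSupp i) = ρ - b.baseSupp j := by abel
    rwa [e] at h1
  obtain ⟨a, ha⟩ := exists_smul_of_mem_RS hyp.sub_ne_zero' hy hy0 hiz
  refine ⟨x, y, z, a, hx, hy, hz, hx0, hy0, hz0, ?_, hex j, hey, hjz, hex i, hey' i hij, ha⟩
  intro ha0
  rw [ha0, zero_smul] at ha
  obtain ⟨φ, hφ⟩ := exists_ht b
  have hall : ∀ k, ⁅b.e k, z⁆ = 0 := by
    intro k
    by_contra hk
    have h1 := lie_mem_RS (e_mem b k) hz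
    have hzW : z ∈ (RS (L := L) H ρ : Submodule K L) ⊔
        (RS (L := L) H (ρ - b.baseSupp j) : Submodule K L) ⊔
        (RS (L := L) H (ρ - b.baseSupp j - b.baseSupp i) : Submodule K L) :=
      Submodule.mem_sup_right hz
    have h2 := hWe k z hzW
    rw [← LieSubmodule.sup_toSubmodule, ← LieSubmodule.sup_toSubmodule] at h2
    rcases mem_sup_RS₃ h1 h2 hk with h3 | h3 | h3
    · have := congrArg φ h3
      simp only [map_add, map_sub, hφ] at this
      have h2 : (1 : K) = 0 := by linear_combination -this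
      exact one_ne_zero h2
    · have : b.baseSupp k = b.baseSupp i := by
        have e : b.baseSupp k = (b.baseSupp k + (ρ - b.baseSupp j - b.baseSupp i)) -
          (ρ - b.baseSupp j) + b.baseSupp i := by abel
        rw [e, h3]; abel
      have hki : k = i := baseSupp_injective b this
      subst hki
      exact hk ha
    · apply baseSupp_ne_zero b k
      have e : b.baseSupp k = (b.baseSupp k + (ρ - b.baseSupp j - b.baseSupp i)) -
          (ρ - b.baseSupp j - b.baseSupp i) := by abel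
      rw [e, h3, sub_self]
  exact hyp.third_ne.1 (hyp.unique_top hz hz0 hall)

open QuadraticMap in
/-- Main theorem on semi-invariant quadratic forms. -/
theorem main_quad (W : Submodule K L) (hW : Module.finrank K W = 3)
    (hst : ∀ x ∈ H.toSubmodule ⊔ (b.borelUpper : Submodule K L), ∀ w ∈ W, ⁅x, w⁆ ∈ W)
    (q : QuadraticForm K W)
    (hq : ∀ (x : L) (hx : x ∈ H.toSubmodule ⊔ (b.borelUpper : Submodule K L)), ∃ c : K, ∀ w : W,
      QuadraticMap.polar q ⟨⁅x, (w : L)⁆, hst x hx w w.property⟩ w = c * q w) :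
    ∃ (ℓ : Module.Dual K W) (c : K), ∀ w : W, q w = c * ℓ w ^ 2 := by
  obtain ⟨-, i, hij, hA, hβ, hW'⟩ := hyp.main_three W hW hst
  have hWe : ∀ k, ∀ w ∈ W, ⁅b.e k, w⁆ ∈ W := fun k w hw => hst _ (e_mem_borel b k) w hw
  obtain ⟨x, y, z, a, hx, hy, hz, hx0, hy0, hz0, ha, hjx, hjy, hjz, hix, hiy, hiz⟩ :=
    hyp.three_vectors hβ (by rw [← hW']; exact hWe)
  have hxW : x ∈ W := by
    rw [hW']; exact Submodule.mem_sup_left (Submodule.mem_sup_left hx)
  have hyW : y ∈ W := by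
    rw [hW']; exact Submodule.mem_sup_left (Submodule.mem_sup_right hy)
  have hzW : z ∈ W := by
    rw [hW']; exact Submodule.mem_sup_right hz
  obtain ⟨c₁, hc₁⟩ := hq (b.e j) (e_mem_borel b j)
  obtain ⟨c₂, hc₂⟩ := hq (b.e i) (e_mem_borel b i)
  let E₁ : W → W := fun w => ⟨⁅b.e j, (w : L)⁆, hWe j w w.2⟩
  let E₂ : W → W := fun w => ⟨⁅b.e i, (w : L)⁆, hWe i w w.2⟩
  obtain ⟨hqx, hqy, hpxy, hpxz, hpyz⟩ := quad_core q ⟨x, hxW⟩ ⟨y, hyW⟩ ⟨z, hzW⟩ a ha E₁ E₂
    (fun u v => Subtype.ext (by simp [E₁]))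
    (fun u v => Subtype.ext (by simp [E₂]))
    (Subtype.ext (by simpa [E₁] using hjx)) (Subtype.ext (by simpa [E₁] using hjy))
    (Subtype.ext (by simpa [E₁] using hjz))
    (Subtype.ext (by simpa [E₂] using hix)) (Subtype.ext (by simpa [E₂] using hiy))
    (Subtype.ext (by simpa [E₂] using hiz))
    c₁ c₂ hc₁ hc₂
  -- the spanning property
  have hspan : ∀ w : W, ∃ r s t : K,
      w = r • (⟨x, hxW⟩ : W) + s • (⟨y, hyW⟩ : W) + t • (⟨z, hzW⟩ : W) := by
    rintro ⟨w, hw⟩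
    have hw' := hw
    rw [hW'] at hw'
    obtain ⟨w₁₂, hw₁₂, w₃, hw₃, rfl⟩ := Submodule.mem_sup.mp hw'
    obtain ⟨w₁, hw₁, w₂, hw₂, rfl⟩ := Submodule.mem_sup.mp hw₁₂
    obtain ⟨r, rfl⟩ := exists_smul_of_mem_RS hyp.rho_ne_zero hx hx0 hw₁
    obtain ⟨s, rfl⟩ := exists_smul_of_mem_RS hyp.sub_ne_zero' hy hy0 hw₂
    obtain ⟨t, rfl⟩ := exists_smul_of_mem_RS (hyp.third_props hβ).2.2 hz hz0 hw₃
    exact ⟨r, s, t, Subtype.ext (by simp)⟩
  -- the linear form
  have hznot : z ∉ (RS (L := L) H ρ : Submodule K L) ⊔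
      (RS (L := L) H (ρ - b.baseSupp j) : Submodule K L) := by
    intro hmem
    have hd := disjoint_RS_sup (L := L) (hyp.third_ne (i := i)).1 (hyp.third_ne (i := i)).2
    rw [← LieSubmodule.disjoint_toSubmodule, LieSubmodule.sup_toSubmodule,
      Submodule.disjoint_def] at hd
    exact hz0 (hd z hz hmem)
  obtain ⟨f, hfz, hf⟩ := Submodule.exists_dual_map_eq_bot_of_notMem hznot inferInstance
  have hfx : f x = 0 := by
    have : f x ∈ Submodule.map f ((RS (L := L) H ρ : Submodule K L) ⊔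
        (RS (L := L) H (ρ - b.baseSupp j) : Submodule K L)) :=
      Submodule.mem_map_of_mem (Submodule.mem_sup_left hx)
    rw [hf] at this
    simpa using this
  have hfy : f y = 0 := by
    have : f y ∈ Submodule.map f ((RS (L := L) H ρ : Submodule K L) ⊔
        (RS (L := L) H (ρ - b.baseSupp j) : Submodule K L)) :=
      Submodule.mem_map_of_mem (Submodule.mem_sup_right hy)
    rw [hf] at this
    simpa using this
  let ℓ : Module.Dual K W := (f z)⁻¹ • (f ∘ₗ W.subtype)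
  refine ⟨ℓ, q ⟨z, hzW⟩, ?_⟩
  exact quad_final q ⟨x, hxW⟩ ⟨y, hyW⟩ ⟨z, hzW⟩ hspan ℓ (by simp [ℓ, hfx]) (by simp [ℓ, hfy])
    (by simp [ℓ, hfz]) hqx hqy hpxy hpxz hpyz

end Hyp

end Groth.Agent.Lib.Helper92.AdjVar
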