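import Mathlib.Algebra.Lie.Sl2
import Mathlib.Algebra.Lie.Solvable
import Mathlib.LinearAlgebra.Eigenspace.Basic
import Mathlib.LinearAlgebra.Dimension.Constructions
import Mathlib.LinearAlgebra.FiniteDimensional.Lemmas
import Mathlib.Tactic

/-!
# A five-dimensional Lie algebra `sl₂ ⋉ K²` given by a bracket table (helper92)

Abstract part of the computation of the Lie algebra generated by a twistor conic and the
Borel-stable line: dimension `5`, radical spanned by `y, y'`.
-/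

set_option autoImplicit false
set_option linter.unusedSectionVars false

namespace Groth.Agent.Lib.Helper92.AdjVar

open LieAlgebra Module

variable {K 𝔞 : Type*} [Field K] [CharZero K] [LieRing 𝔞] [LieAlgebra K 𝔞]

/-- A Lie algebra over a field of characteristic zero containing an `sl₂`-triple is not solvable. -/
theorem not_isSolvable_of_sl2 (K : Type*) {𝔞 : Type*} [Field K] [CharZero K] [LieRing 𝔞]
    [LieAlgebra K 𝔞] {h e f : 𝔞} (t : IsSl2Triple h e f) :
    ¬ LieAlgebra.IsSolvable 𝔞 := by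
  intro hs
  obtain ⟨k, hk⟩ := LieAlgebra.IsSolvable.solvable K 𝔞
  have key : ∀ k, e ∈ derivedSeries K 𝔞 k ∧ f ∈ derivedSeries K 𝔞 k ∧
      h ∈ derivedSeries K 𝔞 k := by
    intro k
    induction k with
    | zero => simp [derivedSeries_def]
    | succ k ih =>
      obtain ⟨he, hf, hh⟩ := ih
      rw [derivedSeries_def, derivedSeriesOfIdeal_succ, ← derivedSeries_def]
      have h2 : (2 : K) ≠ 0 := two_ne_zero
      refine ⟨?_, ?_, ?_⟩
      · have h1 : ⁅h, e⁆ ∈ ⁅derivedSeries K 𝔞 k, derivedSeries K 𝔞 k⁆ :=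
          LieSubmodule.lie_mem_lie hh he
        rw [t.lie_h_e_smul K] at h1
        have := SMulMemClass.smul_mem (2⁻¹ : K) h1
        rwa [smul_smul, inv_mul_cancel₀ h2, one_smul] at this
      · have h1 : ⁅h, f⁆ ∈ ⁅derivedSeries K 𝔞 k, derivedSeries K 𝔞 k⁆ :=
          LieSubmodule.lie_mem_lie hh hf
        rw [t.lie_lie_smul_f K] at h1
        have := SMulMemClass.smul_mem (-2⁻¹ : K) h1
        rwa [smul_neg, neg_smul, neg_neg, smul_smul, inv_mul_cancel₀ h2, one_smul] at this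
      · have h1 : ⁅e, f⁆ ∈ ⁅derivedSeries K 𝔞 k, derivedSeries K 𝔞 k⁆ :=
          LieSubmodule.lie_mem_lie he hf
        rwa [t.lie_e_f] at h1
  have := (key k).1
  rw [hk] at this
  exact t.e_ne_zero (by simpa using this)

/-- The bracket table of `sl₂ ⋉ K²`. -/
structure Table (K : Type*) {𝔞 : Type*} [Field K] [LieRing 𝔞] [LieAlgebra K 𝔞]
    (e f h y y' : 𝔞) : Prop where
  ef : ⁅e, f⁆ = h
  he : ⁅h, e⁆ = (2 : K) • e
  hf : ⁅h, f⁆ = -((2 : K) • f)
  hy : ⁅h, y⁆ = y
  hy' : ⁅h, y'⁆ = -y'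
  ey : ⁅e, y⁆ = 0
  ey' : ⁅e, y'⁆ = y
  fy : ⁅f, y⁆ = y'
  fy' : ⁅f, y'⁆ = 0
  yy' : ⁅y, y'⁆ = 0

namespace Table

variable {e f h y y' : 𝔞} (T : Table K e f h y y')
include T

lemma fe : ⁅f, e⁆ = -h := by rw [← lie_skew, T.ef]
lemma eh : ⁅e, h⁆ = -((2 : K) • e) := by rw [← lie_skew, T.he]
lemma fh : ⁅f, h⁆ = (2 : K) • f := by rw [← lie_skew, T.hf, neg_neg]
lemma yh : ⁅y, h⁆ = -y := by rw [← lie_skew, T.hy]
lemma y'h : ⁅y', h⁆ = y' := by rw [← lie_skew, T.hy', neg_neg]
lemma ye : ⁅y, e⁆ = 0 := by rw [← lie_skew, T.ey, neg_zero]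
lemma y'e : ⁅y', e⁆ = -y := by rw [← lie_skew, T.ey']
lemma yf : ⁅y, f⁆ = -y' := by rw [← lie_skew, T.fy]
lemma y'f : ⁅y', f⁆ = 0 := by rw [← lie_skew, T.fy', neg_zero]
lemma y'y : ⁅y', y⁆ = 0 := by rw [← lie_skew, T.yy', neg_zero]

/-- Closure of the span of the five vectors under the bracket. -/
lemma lie_mem_span {u v : 𝔞} (hu : u ∈ Submodule.span K ({e, f, h, y, y'} : Set 𝔞))
    (hv : v ∈ Submodule.span K ({e, f, h, y, y'} : Set 𝔞)) :
    ⁅u, v⁆ ∈ Submodule.span K ({e, f, h, y, y'} : Set 𝔞) := by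
  set S := Submodule.span K ({e, f, h, y, y'} : Set 𝔞) with hS
  have me : e ∈ S := Submodule.subset_span (by simp)
  have mf : f ∈ S := Submodule.subset_span (by simp)
  have mh : h ∈ S := Submodule.subset_span (by simp)
  have my : y ∈ S := Submodule.subset_span (by simp)
  have my' : y' ∈ S := Submodule.subset_span (by simp)
  have base : ∀ u ∈ ({e, f, h, y, y'} : Set 𝔞), ∀ v ∈ ({e, f, h, y, y'} : Set 𝔞), ⁅u, v⁆ ∈ S := by
    intro u hu v hv
    simp only [Set.mem_insert_iff, Set.mem_singleton_iff] at hu hv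
    rcases hu with hu | hu | hu | hu | hu <;> rcases hv with hv | hv | hv | hv | hv <;>
      rw [hu, hv] <;>
      simp only [lie_self, T.ef, T.he, T.hf, T.hy, T.hy', T.ey, T.ey', T.fy, T.fy', T.yy',
        T.fe, T.eh, T.fh, T.yh, T.y'h, T.ye, T.y'e, T.yf, T.y'f, T.y'y] <;>
      first
        | exact S.zero_mem
        | assumption
        | exact S.neg_mem ‹_›
        | exact S.smul_mem _ ‹_›
        | exact S.neg_mem (S.smul_mem _ ‹_›)
  have step : ∀ u ∈ ({e, f, h, y, y'} : Set 𝔞), ∀ v ∈ S, ⁅u, v⁆ ∈ S := by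
    intro u hu v hv
    induction hv using Submodule.span_induction with
    | mem v hv => exact base u hu v hv
    | zero => simp
    | add v w _ _ hv hw => rw [lie_add]; exact S.add_mem hv hw
    | smul t v _ hv => rw [lie_smul]; exact S.smul_mem t hv
  induction hu using Submodule.span_induction with
  | mem u hu => exact step u hu v hv
  | zero => simp
  | add u w _ _ hu hw => rw [add_lie]; exact S.add_mem hu hw
  | smul t u _ hu => rw [smul_lie]; exact S.smul_mem t hu

/-- The five vectors are linearly independent (distinct `ad h`-eigenvalues). -/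
lemma linearIndependent (he0 : e ≠ 0) (hf0 : f ≠ 0) (hh0 : h ≠ 0) (hy0 : y ≠ 0) (hy'0 : y' ≠ 0) :
    LinearIndependent K ![e, f, h, y, y'] := by
  let μ : Fin 5 → K := ![2, -2, 0, 1, -1]
  have hμ : Function.Injective μ := by
    intro a b hab
    fin_cases a <;> fin_cases b <;> simp [μ] at hab ⊢ <;> norm_num at hab
  refine Module.End.eigenvectors_linearIndependent' (LieAlgebra.ad K 𝔞 h) μ hμ ![e, f, h, y, y'] ?_
  intro i
  fin_cases i
  · exact ⟨Module.End.mem_eigenspace_iff.mpr (by simp [μ, T.he]), he0⟩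
  · exact ⟨Module.End.mem_eigenspace_iff.mpr (by simp [μ, T.hf]), hf0⟩
  · exact ⟨Module.End.mem_eigenspace_iff.mpr (by simp [μ]), hh0⟩
  · exact ⟨Module.End.mem_eigenspace_iff.mpr (by simp [μ, T.hy]), hy0⟩
  · exact ⟨Module.End.mem_eigenspace_iff.mpr (by simp [μ, T.hy']), hy'0⟩

end Table

end Groth.Agent.Lib.Helper92.AdjVar
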