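import Groth.Agent.Lib.Helper92.AdjVar7

/-!
# Radical and dimension of the five-dimensional Lie algebra `sl₂ ⋉ K²` (helper92)
-/

set_option autoImplicit false
set_option linter.unusedSectionVars false
set_option linter.unusedSimpArgs false

namespace Groth.Agent.Lib.Helper92.AdjVar

open LieAlgebra Module

variable {K 𝔞 : Type*} [Field K] [CharZero K] [LieRing 𝔞] [LieAlgebra K 𝔞]

namespace Table

variable {e f h y y' : 𝔞} (T : Table K e f h y y')
include T

lemma isSl2Triple (hh0 : h ≠ 0) : IsSl2Triple h e f where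
  h_ne_zero := hh0
  lie_e_f := T.ef
  lie_h_e_nsmul := by rw [T.he, two_smul, two_nsmul]
  lie_h_f_nsmul := by rw [T.hf, two_smul, two_nsmul]

theorem finrank_eq (he0 : e ≠ 0) (hf0 : f ≠ 0) (hh0 : h ≠ 0) (hy0 : y ≠ 0) (hy'0 : y' ≠ 0)
    (hspan : ∀ a : 𝔞, ∃ c₁ c₂ c₃ c₄ c₅ : K, a = c₁ • e + c₂ • f + c₃ • h + c₄ • y + c₅ • y') :
    Module.finrank K 𝔞 = 5 := by
  have li := T.linearIndependent he0 hf0 hh0 hy0 hy'0
  have hsp : ⊤ ≤ Submodule.span K (Set.range ![e, f, h, y, y']) := by
    intro a _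
    obtain ⟨c₁, c₂, c₃, c₄, c₅, rfl⟩ := hspan a
    refine Submodule.add_mem _ (Submodule.add_mem _ (Submodule.add_mem _ (Submodule.add_mem _ ?_ ?_)
      ?_) ?_) ?_
    · exact Submodule.smul_mem _ _ (Submodule.subset_span ⟨0, rfl⟩)
    · exact Submodule.smul_mem _ _ (Submodule.subset_span ⟨1, rfl⟩)
    · exact Submodule.smul_mem _ _ (Submodule.subset_span ⟨2, rfl⟩)
    · exact Submodule.smul_mem _ _ (Submodule.subset_span ⟨3, rfl⟩)
    · exact Submodule.smul_mem _ _ (Submodule.subset_span ⟨4, rfl⟩)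
  have := Module.finrank_eq_card_basis (Module.Basis.mk li hsp)
  simpa using this

theorem finrank_span_pair (he0 : e ≠ 0) (hf0 : f ≠ 0) (hh0 : h ≠ 0) (hy0 : y ≠ 0) (hy'0 : y' ≠ 0) :
    Module.finrank K (Submodule.span K ({y, y'} : Set 𝔞)) = 2 := by
  have li := T.linearIndependent he0 hf0 hh0 hy0 hy'0
  have hinj : Function.Injective (![3, 4] : Fin 2 → Fin 5) := by
    intro a b hab
    fin_cases a <;> fin_cases b <;> simp at hab ⊢
  have li2 : LinearIndependent K ![y, y'] := by
    have := li.comp _ hinj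
    convert this using 1
    ext i
    fin_cases i <;> rfl
  have := finrank_span_eq_card li2
  have hr : Set.range ![y, y'] = ({y, y'} : Set 𝔞) := by
    ext z
    simp only [Set.mem_range, Set.mem_insert_iff, Set.mem_singleton_iff]
    constructor
    · rintro ⟨i, rfl⟩
      fin_cases i
      · left; rfl
      · right; rfl
    · rintro (rfl | rfl)
      · exact ⟨0, rfl⟩
      · exact ⟨1, rfl⟩
  rw [hr] at this
  simpa using this

theorem radical_eq [FiniteDimensional K 𝔞] (hh0 : h ≠ 0)
    (hspan : ∀ a : 𝔞, ∃ c₁ c₂ c₃ c₄ c₅ : K, a = c₁ • e + c₂ • f + c₃ • h + c₄ • y + c₅ • y') :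
    ((LieAlgebra.radical K 𝔞 : LieIdeal K 𝔞) : Submodule K 𝔞) =
      Submodule.span K ({y, y'} : Set 𝔞) := by
  have h2 : (2 : K) ≠ 0 := two_ne_zero
  apply le_antisymm
  · -- the radical contains no part of the `sl₂`
    set I := LieAlgebra.radical K 𝔞 with hI
    have hsolv : LieAlgebra.IsSolvable I := inferInstance
    have trip : e ∈ I → f ∈ I → h ∈ I → False := by
      intro he hf hh
      have t : IsSl2Triple (⟨h, hh⟩ : I) ⟨e, he⟩ ⟨f, hf⟩ := by
        refine ⟨?_, ?_, ?_, ?_⟩
        · intro h0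
          exact hh0 (congrArg Subtype.val h0)
        · exact Subtype.ext T.ef
        · apply Subtype.ext
          have := (T.isSl2Triple hh0).lie_h_e_nsmul
          simpa using this
        · apply Subtype.ext
          have := (T.isSl2Triple hh0).lie_h_f_nsmul
          simpa using this
      exact not_isSolvable_of_sl2 K t hsolv
    have he_not : e ∉ I := by
      intro he
      have hh : h ∈ I := by
        rw [← T.ef, ← lie_skew]
        exact I.neg_mem (I.lie_mem he)
      have hf : f ∈ I := by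
        have h1 : ⁅f, h⁆ ∈ I := I.lie_mem hh
        rw [T.fh] at h1
        have := I.smul_mem (2⁻¹ : K) h1
        rwa [smul_smul, inv_mul_cancel₀ h2, one_smul] at this
      exact trip he hf hh
    have hf_not : f ∉ I := by
      intro hf
      have hh : h ∈ I := by
        rw [← T.ef]
        exact I.lie_mem hf
      have he : e ∈ I := by
        have h1 : ⁅e, h⁆ ∈ I := I.lie_mem hh
        rw [T.eh] at h1
        have := I.smul_mem (-2⁻¹ : K) h1
        rwa [smul_neg, neg_smul, neg_neg, smul_smul, inv_mul_cancel₀ h2, one_smul] at this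
      exact trip he hf hh
    intro a ha
    have ha' : a ∈ I := ha
    obtain ⟨c₁, c₂, c₃, c₄, c₅, hrep⟩ := hspan a
    have hc₂ : c₂ = 0 := by
      by_contra hne
      have h1 : ⁅e, ⁅e, a⁆⁆ ∈ I := I.lie_mem (I.lie_mem ha')
      have h3 : ⁅e, ⁅e, a⁆⁆ = (-2 * c₂) • e := by
        rw [hrep]
        simp only [lie_add, lie_smul, lie_self, T.ef, T.eh, T.ey, T.ey', lie_neg, lie_zero,
          smul_zero, neg_zero, add_zero, zero_add]
        module
      rw [h3] at h1
      have := I.smul_mem ((-2 * c₂)⁻¹ : K) h1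
      rw [smul_smul, inv_mul_cancel₀ (by simp [hne]), one_smul] at this
      exact he_not this
    have hc₁ : c₁ = 0 := by
      by_contra hne
      have h1 : ⁅f, ⁅f, a⁆⁆ ∈ I := I.lie_mem (I.lie_mem ha')
      have h3 : ⁅f, ⁅f, a⁆⁆ = (-2 * c₁) • f := by
        rw [hrep]
        simp only [lie_add, lie_smul, lie_self, T.fe, T.fh, T.fy, T.fy', lie_neg, lie_zero,
          smul_zero, neg_zero, add_zero, zero_add]
        module
      rw [h3] at h1
      have := I.smul_mem ((-2 * c₁)⁻¹ : K) h1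
      rw [smul_smul, inv_mul_cancel₀ (by simp [hne]), one_smul] at this
      exact hf_not this
    have hc₃ : c₃ = 0 := by
      by_contra hne
      have h1 : ⁅e, ⁅f, ⁅e, a⁆⁆⁆ - ⁅e, a⁆ ∈ I :=
        I.sub_mem (I.lie_mem (I.lie_mem (I.lie_mem ha'))) (I.lie_mem ha')
      have h3 : ⁅e, ⁅f, ⁅e, a⁆⁆⁆ - ⁅e, a⁆ = (-2 * c₃) • e := by
        rw [hrep, hc₁, hc₂]
        simp only [lie_add, lie_smul, lie_self, T.ef, T.eh, T.ey, T.ey', T.fe, T.fh, T.fy, T.fy',
          lie_neg, lie_zero, smul_zero, neg_zero, add_zero, zero_add, zero_smul]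
        module
      rw [h3] at h1
      have := I.smul_mem ((-2 * c₃)⁻¹ : K) h1
      rw [smul_smul, inv_mul_cancel₀ (by simp [hne]), one_smul] at this
      exact he_not this
    rw [hrep, hc₁, hc₂, hc₃]
    simp only [zero_smul, zero_add]
    exact Submodule.add_mem _ (Submodule.smul_mem _ _ (Submodule.subset_span (by simp)))
      (Submodule.smul_mem _ _ (Submodule.subset_span (by simp)))
  · -- the span of `y, y'` is an abelian ideal
    have hmem : ∀ x m : 𝔞, m ∈ Submodule.span K ({y, y'} : Set 𝔞) →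
        ⁅x, m⁆ ∈ Submodule.span K ({y, y'} : Set 𝔞) := by
      intro x m hm
      obtain ⟨c₁, c₂, c₃, c₄, c₅, rfl⟩ := hspan x
      obtain ⟨d₁, d₂, rfl⟩ := Submodule.mem_span_pair.mp hm
      refine Submodule.mem_span_pair.mpr ⟨c₃ * d₁ + c₁ * d₂, c₂ * d₁ - c₃ * d₂, ?_⟩
      simp only [lie_add, add_lie, lie_smul, smul_lie, lie_self, T.ey, T.ey', T.fy, T.fy', T.hy,
        T.hy', T.yy', T.y'y, smul_zero, add_zero, zero_add, smul_neg]
      module
    let R' : LieIdeal K 𝔞 :=
      { Submodule.span K ({y, y'} : Set 𝔞) with lie_mem := fun {x m} hm => hmem x m hm }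
    have hab : IsLieAbelian R' := by
      refine ⟨fun u v => ?_⟩
      apply Subtype.ext
      obtain ⟨u, hu⟩ := u
      obtain ⟨v, hv⟩ := v
      obtain ⟨d₁, d₂, rfl⟩ := Submodule.mem_span_pair.mp hu
      obtain ⟨d₁', d₂', rfl⟩ := Submodule.mem_span_pair.mp hv
      change ⁅d₁ • y + d₂ • y', d₁' • y + d₂' • y'⁆ = 0
      simp only [lie_add, add_lie, lie_smul, smul_lie, lie_self, T.yy', T.y'y, smul_zero, add_zero]
    have hsol : LieAlgebra.IsSolvable R' := inferInstance
    have hle : R' ≤ LieAlgebra.radical K 𝔞 := (LieIdeal.solvable_iff_le_radical K 𝔞 R').mp hsol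
    intro a ha
    exact hle ha

end Table

end Groth.Agent.Lib.Helper92.AdjVar
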