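import Groth.Agent.Lib.Helper92.AdjVar5
import Groth.Agent.Lib.Helper92.AdjVar8

/-!
# Adjoint varieties: the Lie algebra generated by the twistor conic and the Borel-stable line
(helper92)
-/

set_option autoImplicit false
set_option linter.unusedSectionVars false
set_option linter.unusedSimpArgs false

namespace Groth.Agent.Lib.Helper92.AdjVar

open LieAlgebra LieModule Module

variable {ι : Type*} {K : Type*} {L : Type*} [Fintype ι] [Field K] [CharZero K]
    [IsAlgClosed K] [LieRing L] [LieAlgebra K L] [FiniteDimensional K L] [LieAlgebra.IsSimple K L]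
    {H : LieSubalgebra K L} [H.IsCartanSubalgebra] (b : LieAlgebra.Basis ι H)

lemma RS_neg_ne_bot {χ : Module.Dual K H} (h : RS (L := L) H χ ≠ ⊥) :
    RS (L := L) H (-χ) ≠ ⊥ :=
  (-(⟨⇑χ, h⟩ : Weight K H L)).genWeightSpace_ne_bot

/-- General root string lemma. -/
lemma string_gen (α β : Module.Dual K H) (hα : RS (L := L) H α ≠ ⊥) (hα0 : α ≠ 0)
    (hβ : RS (L := L) H β ≠ ⊥) (hnot : RS (L := L) H (β + α) = ⊥) :
    ∃ n : ℕ, β (LieAlgebra.IsKilling.coroot (⟨⇑α, hα⟩ : Weight K H L)) = (n : K) ∧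
      ∀ k : ℕ, RS (L := L) H (β - k • α) ≠ ⊥ ↔ k ≤ n := by
  let wα' : Weight K H L := ⟨⇑α, hα⟩
  let wβ : Weight K H L := ⟨⇑β, hβ⟩
  have hnz : wα'.IsNonZero := by
    intro hz
    apply hα0
    ext x
    have := congrFun hz x
    simpa [wα'] using this
  have key := LieAlgebra.IsKilling.rootSpace_zsmul_add_ne_bot_iff wα' wβ hnz
  have htop0 : chainTopCoeff (⇑wα') wβ = 0 := by
    by_contra hne
    have h1 : (1 : ℤ) ≤ chainTopCoeff (⇑wα') wβ := by
      have : 0 < chainTopCoeff (⇑wα') wβ := Nat.pos_of_ne_zero hne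
      exact_mod_cast this
    have h2 : -(1 : ℤ) ≤ chainBotCoeff (⇑wα') wβ := by
      have : (0 : ℤ) ≤ chainBotCoeff (⇑wα') wβ := by positivity
      linarith
    have := (key 1).mpr ⟨h1, h2⟩
    apply this
    have e : ((1 : ℤ) • ⇑wα' + ⇑wβ : H → K) = ⇑(β + α) := by
      ext x; simp [wα', wβ, add_comm]
    rw [e]
    exact hnot
  refine ⟨chainBotCoeff (⇑wα') wβ, ?_, ?_⟩
  · have := LieAlgebra.IsKilling.apply_coroot_eq_cast wα' wβ
    rw [htop0] at this
    simpa [wβ] using this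
  · intro k
    have e : ((-(k : ℤ)) • ⇑wα' + ⇑wβ : H → K) = ⇑(β - k • α) := by
      ext x; simp [wα', wβ]; ring
    have := key (-(k : ℤ))
    rw [e, htop0] at this
    rw [this]
    simp only [neg_neg, Nat.cast_le, CharP.cast_eq_zero, Left.neg_nonpos_iff, Nat.cast_nonneg,
      true_and]

namespace Hyp

variable {b} {ρ : Module.Dual K H} {j : ι} (hyp : Hyp (L := L) b ρ j)
include hyp

/-- `2ρ - α_j` is not a weight. -/
lemma two_rho_sub : RS (L := L) H (ρ + (ρ - b.baseSupp j)) = ⊥ := by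
  by_contra hne
  obtain ⟨φ, hφ⟩ := exists_ht b
  obtain ⟨l, hl⟩ := hyp.below _ hne
  obtain ⟨l', hl'⟩ := hyp.below _ (RS_neg_ne_bot hyp.hρ)
  have e1 : φ ρ = 1 - (l.length : K) := by
    have := congrArg φ hl
    simp only [map_add, map_sub, hφ, ht_lsum b φ hφ] at this
    linear_combination this
  have e2 : 2 * φ ρ = (l'.length : K) := by
    have := congrArg φ hl'
    simp only [map_neg, map_sub, ht_lsum b φ hφ] at this
    linear_combination -this
  have e3 : ((2 * l.length + l'.length : ℕ) : K) = ((2 : ℕ) : K) := by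
    push_cast
    rw [← e2, e1]; ring
  have e4 : 2 * l.length + l'.length = 2 := Nat.cast_injective e3
  rcases Nat.eq_zero_or_pos l.length with h0 | hpos
  · have hnil : l = [] := List.length_eq_zero_iff.mp h0
    rw [hnil, lsum_nil, sub_zero] at hl
    apply hyp.rho_ne_alpha
    have : ρ - b.baseSupp j = 0 := by
      have e : ρ - b.baseSupp j = (ρ + (ρ - b.baseSupp j)) - ρ := by abel
      rw [e, hl, sub_self]
    exact sub_eq_zero.mp this
  · have h0 : l'.length = 0 := by omega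
    have hnil : l' = [] := List.length_eq_zero_iff.mp h0
    rw [hnil, lsum_nil, sub_zero] at hl'
    have := congrArg (fun χ : Module.Dual K H => χ (b.h' j)) hl'
    simp only [LinearMap.neg_apply, hyp.hj] at this
    norm_num at this

/-- `-ρ - α_j` is not a weight. -/
lemma neg_top : RS (L := L) H (-ρ + -b.baseSupp j) = ⊥ := by
  by_contra hne
  have := RS_neg_ne_bot hne
  have e : -(-ρ + -b.baseSupp j) = ρ + b.baseSupp j := by abel
  rw [e] at this
  exact this (hyp.htop j)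

lemma rho_coroot :
    ρ (LieAlgebra.IsKilling.coroot (⟨⇑ρ, hyp.hρ⟩ : Weight K H L)) = 2 := by
  have hnz : (⟨⇑ρ, hyp.hρ⟩ : Weight K H L).IsNonZero := by
    intro hz
    apply hyp.rho_ne_zero
    ext x
    have := congrFun hz x
    simpa using this
  exact LieAlgebra.IsKilling.root_apply_coroot hnz

/-- `α_j (coroot ρ) = 1`. -/
lemma alpha_coroot :
    b.baseSupp j (LieAlgebra.IsKilling.coroot (⟨⇑ρ, hyp.hρ⟩ : Weight K H L)) = 1 := by
  obtain ⟨n, hn, hk⟩ := string_gen (L := L) ρ (b.baseSupp j) hyp.hρ hyp.rho_ne_zero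
    (RS_ne_bot_of_mem (e_mem b j) (b.sl2 j).e_ne_zero) (by rw [add_comm]; exact hyp.htop j)
  have h1 : 1 ≤ n := by
    apply (hk 1).mp
    have e : b.baseSupp j - (1 : ℕ) • ρ = -(ρ - b.baseSupp j) := by rw [one_smul]; abel
    rw [e]
    exact RS_neg_ne_bot hyp.sub_ne_bot
  have h2 : ¬ 2 ≤ n := by
    intro h2
    have := (hk 2).mpr h2
    have e : b.baseSupp j - (2 : ℕ) • ρ = -(ρ + (ρ - b.baseSupp j)) := by rw [two_smul]; abel
    rw [e] at this
    apply this
    by_contra hne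
    have h3 := RS_neg_ne_bot hne
    rw [neg_neg] at h3
    exact h3 hyp.two_rho_sub
  have : n = 1 := by omega
  rw [hn, this]; simp

/-- The five vectors spanning the Lie algebra generated by the conic and the line. -/
theorem exists_five : ∃ e f h y y' : L, e ∈ RS H ρ ∧ f ∈ RS H (-ρ) ∧
    y ∈ RS H (ρ - b.baseSupp j) ∧ y' ∈ RS H (-b.baseSupp j) ∧
    e ≠ 0 ∧ f ≠ 0 ∧ h ≠ 0 ∧ y ≠ 0 ∧ y' ≠ 0 ∧ Table K e f h y y' := by
  have hnz : (⟨⇑ρ, hyp.hρ⟩ : Weight K H L).IsNonZero := by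
    intro hz
    apply hyp.rho_ne_zero
    ext x
    have := congrFun hz x
    simpa using this
  obtain ⟨h, e, f, t, he, hf⟩ := LieAlgebra.IsKilling.exists_isSl2Triple_of_weight_isNonZero hnz
  have hh := t.h_eq_coroot hnz he hf
  have he' : e ∈ RS H ρ := he
  have hf' : f ∈ RS H (-ρ) := hf
  obtain ⟨y, hy, hy0⟩ := exists_mem_ne_zero hyp.sub_ne_bot
  have hy' : ⁅f, y⁆ ∈ RS H (-b.baseSupp j) := by
    have := lie_mem_RS hf' hy
    have e : -ρ + (ρ - b.baseSupp j) = -b.baseSupp j := by abel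
    rwa [e] at this
  have hbr : ∀ {χ : Module.Dual K H} {u : L}, u ∈ RS H χ →
      ⁅h, u⁆ = χ (LieAlgebra.IsKilling.coroot (⟨⇑ρ, hyp.hρ⟩ : Weight K H L)) • u := by
    intro χ u hu
    rw [hh]
    exact lie_h_eq hu _
  have hhy : ⁅h, y⁆ = y := by
    rw [hbr hy, LinearMap.sub_apply, hyp.rho_coroot, hyp.alpha_coroot]
    norm_num
  have hey : ⁅e, y⁆ = 0 := eq_zero_of_RS_eq_bot hyp.two_rho_sub (lie_mem_RS he' hy)
  have hey' : ⁅e, ⁅f, y⁆⁆ = y := by
    rw [leibniz_lie, hey, lie_zero, add_zero, t.lie_e_f, hhy]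
  have T : Table K e f h y ⁅f, y⁆ :=
    { ef := t.lie_e_f
      he := t.lie_h_e_smul K
      hf := t.lie_lie_smul_f K
      hy := hhy
      hy' := by
        rw [hbr hy', LinearMap.neg_apply, hyp.alpha_coroot]
        simp
      ey := hey
      ey' := hey'
      fy := rfl
      fy' := eq_zero_of_RS_eq_bot hyp.neg_top (lie_mem_RS hf' hy')
      yy' := by
        have := lie_mem_RS hy hy'
        have e : ρ - b.baseSupp j + -b.baseSupp j = ρ - b.baseSupp j - b.baseSupp j := by abel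
        rw [e] at this
        exact eq_zero_of_RS_eq_bot hyp.sub_two this }
  refine ⟨e, f, h, y, ⁅f, y⁆, he', hf', hy, hy', t.e_ne_zero, t.f_ne_zero, t.h_ne_zero, hy0, ?_, T⟩
  intro h0
  rw [h0, lie_zero] at hey'
  exact hy0 hey'.symm

end Hyp

end Groth.Agent.Lib.Helper92.AdjVar
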