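import Mathlib
import Groth.Prelude.Def_W4c1hilbpnTgt
import Groth.Agent.Lib.Helper92.HilbTgt
import Groth.Agent.Lib.Helper92.HilbTgtDecomp
import Groth.Agent.Lib.Helper92.HilbTgtPow3

set_option linter.unusedSectionVars false
set_option linter.unusedSimpArgs false
set_option linter.unusedVariables false
set_option linter.style.haveILetI false
set_option linter.unnecessarySimpa false
set_option autoImplicit false

/-!
# Graded pieces of `T(I)` for arbitrary monomial ideals: coefficient calculus (helper92)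

For a monomial ideal `I` (no finiteness assumption) and `φ : I → S/I`, `aval φ α β` is the coefficient
of `x^(β+α)` in `φ(x^β)`.  We record the transfer rules for these coefficients, the fact that an
element of `tPiece I α` is determined by its coefficients at a generating set, and a construction
of elements of `tPiece I α` from an admissible coefficient function.
-/

namespace Groth.Agent.Lib.Helper92.Bor

open MvPolynomial W4c1hilbpn Groth.Agent.Lib.Helper92.HilbTgt
  Groth.Agent.Lib.Helper92.HilbTgtDecomp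

universe u

variable {k : Type u} [Field k] {n : ℕ} {I : Ideal (MvPolynomial (Fin n) k)} {α : Fin n → ℤ}

/-- `β + α` is nonnegative and `x^(β+α) ∉ I`. -/
def Good (I : Ideal (MvPolynomial (Fin n) k)) (α : Fin n → ℤ) (β : Fin n →₀ ℕ) : Prop :=
  (∀ i, 0 ≤ toZ β α i) ∧ natPart (toZ β α) ∉ exps I

lemma aval_of_good (φ : Tgt I) {β : Fin n →₀ ℕ} (h : Good I α β) :
    aval φ α β = cf I (natPart (toZ β α)) (ev φ β) := by
  unfold aval
  exact if_pos h

lemma aval_of_not_good (φ : Tgt I) {β : Fin n →₀ ℕ} (h : ¬ Good I α β) : aval φ α β = 0 := by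
  unfold aval
  exact if_neg h

lemma nn_add_single {β : Fin n →₀ ℕ} (hnn : ∀ j, 0 ≤ toZ β α j) (i : Fin n) :
    ∀ j, 0 ≤ toZ (β + Finsupp.single i 1) α j := by
  intro j
  have := hnn j
  rw [toZ_add_single]
  simp only [Pi.add_apply, ez, Pi.single_apply]
  split_ifs <;> omega

lemma shift_add_single {β : Fin n →₀ ℕ} (hnn : ∀ j, 0 ≤ toZ β α j) (i : Fin n) :
    shift (β + Finsupp.single i 1) α = shift β α + Finsupp.single i 1 := by
  rw [shift_eq, shift_eq, toZ_add_single, natPart_add_ez i (hnn i)]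

/-- One-step transfer of coefficients. -/
lemma aval_step (hI : IsMonomial I) (φ : Tgt I) {β : Fin n →₀ ℕ} (hβ : β ∈ exps I) (i : Fin n)
    (hg : Good I α (β + Finsupp.single i 1)) :
    ((∀ j, 0 ≤ toZ β α j) → aval φ α (β + Finsupp.single i 1) = aval φ α β) ∧
      ((∃ j, toZ β α j < 0) → aval φ α (β + Finsupp.single i 1) = 0) := by
  obtain ⟨hnn', hin⟩ := hg
  constructor
  · intro hnn
    have hshift := shift_add_single (α := α) hnn i
    have hin' : shift (β + Finsupp.single i 1) α ∉ exps I := by rw [shift_eq]; exact hin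
    have hin0 : shift β α ∉ exps I := fun h0 => hin' (by rw [hshift]; exact exps_add h0 _)
    unfold aval
    rw [if_pos ⟨hnn', hin⟩, if_pos ⟨hnn, by rw [← shift_eq]; exact hin0⟩,
      ev_step φ hβ i, ← shift_eq, ← shift_eq, hshift]
    exact cf_X_smul hI i (by rw [← hshift]; exact hin') _
  · rintro ⟨j, hj⟩
    have hji : j = i := by
      by_contra hne
      have := hnn' j
      rw [toZ_add_single] at this
      simp only [Pi.add_apply, ez, Pi.single_apply, if_neg hne, add_zero] at this
      omega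
    subst hji
    have h0 : natPart (toZ (β + Finsupp.single j 1) α) j = 0 := by
      have := hnn' j
      rw [toZ_add_single] at this ⊢
      simp only [natPart_apply, Pi.add_apply, ez, Pi.single_eq_same] at this ⊢
      omega
    unfold aval
    rw [if_pos ⟨hnn', hin⟩, ev_step φ hβ j]
    exact cf_X_smul_of_zero hI j hin h0 _

lemma toZ_le_add (β δ : Fin n →₀ ℕ) (j : Fin n) : toZ β α j ≤ toZ (β + δ) α j := by
  simp only [toZ_apply, Finsupp.add_apply]
  push_cast
  have : (0 : ℤ) ≤ (δ j : ℤ) := Int.natCast_nonneg _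
  omega

lemma not_mem_of_add_not_mem {β δ : Fin n →₀ ℕ} (h : β + δ ∉ exps I) : β ∉ exps I :=
  fun hβ => h (exps_add hβ δ)

lemma natPart_toZ_add {β : Fin n →₀ ℕ} (hnn : ∀ j, 0 ≤ toZ β α j) (δ : Fin n →₀ ℕ) :
    natPart (toZ (β + δ) α) = natPart (toZ β α) + δ := by
  ext j
  have := hnn j
  simp only [natPart_apply, toZ_apply, Finsupp.add_apply] at this ⊢
  push_cast
  omega

lemma good_of_good_add {β δ : Fin n →₀ ℕ} (hnn : ∀ j, 0 ≤ toZ β α j)
    (hg : Good I α (β + δ)) : Good I α β := by
  refine ⟨hnn, ?_⟩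
  have := hg.2
  rw [natPart_toZ_add hnn] at this
  exact not_mem_of_add_not_mem this

open Classical in
/-- Transfer of coefficients along divisibility. -/
lemma aval_transfer (hI : IsMonomial I) (φ : Tgt I) (δ : Fin n →₀ ℕ) :
    ∀ {β : Fin n →₀ ℕ}, β ∈ exps I → Good I α (β + δ) →
      aval φ α (β + δ) = if ∀ j, 0 ≤ toZ β α j then aval φ α β else 0 := by
  induction δ using Finsupp.induction_linear with
  | zero =>
    intro β hβ hg
    rw [add_zero] at hg ⊢
    rw [if_pos hg.1]
  | add δ₁ δ₂ h₁ h₂ =>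
    intro β hβ hg
    rw [← add_assoc] at hg ⊢
    have hβ₁ : β + δ₁ ∈ exps I := exps_add hβ _
    rw [h₂ hβ₁ hg]
    by_cases hnn₁ : ∀ j, 0 ≤ toZ (β + δ₁) α j
    · rw [if_pos hnn₁]
      exact h₁ hβ (good_of_good_add hnn₁ hg)
    · rw [if_neg hnn₁, if_neg]
      intro hnn
      apply hnn₁
      intro j
      exact le_trans (hnn j) (toZ_le_add β δ₁ j)
  | single i m =>
    induction m with
    | zero =>
      intro β hβ hg
      rw [Finsupp.single_zero, add_zero] at hg ⊢
      rw [if_pos hg.1]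
    | succ m ih =>
      intro β hβ hg
      have e : Finsupp.single i (m + 1) = Finsupp.single i m + Finsupp.single i 1 := by
        rw [← Finsupp.single_add]
      rw [e, ← add_assoc] at hg ⊢
      have hβ₁ : β + Finsupp.single i m ∈ exps I := exps_add hβ _
      obtain ⟨s1, s2⟩ := aval_step hI φ hβ₁ i hg
      by_cases hnn₁ : ∀ j, 0 ≤ toZ (β + Finsupp.single i m) α j
      · rw [s1 hnn₁]
        exact ih hβ (good_of_good_add hnn₁ hg)
      · have hnn₁' := hnn₁
        push Not at hnn₁'
        rw [s2 hnn₁', if_neg]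
        intro hnn
        apply hnn₁
        intro j
        exact le_trans (hnn j) (toZ_le_add β _ j)

/-- Two multiples of the same good target have the same coefficient. -/
lemma aval_eq_of_common (hI : IsMonomial I) (φ : Tgt I) {β β' : Fin n →₀ ℕ} (hβ : β ∈ exps I)
    (hβ' : β' ∈ exps I) (δ δ' : Fin n →₀ ℕ) (e : β + δ = β' + δ') (hg : Good I α (β + δ))
    (hnn : ∀ j, 0 ≤ toZ β α j) (hnn' : ∀ j, 0 ≤ toZ β' α j) :
    aval φ α β = aval φ α β' := by
  have h1 := aval_transfer hI φ δ hβ hg
  have h2 := aval_transfer hI φ δ' hβ' (by rw [← e]; exact hg)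
  rw [if_pos hnn] at h1
  rw [if_pos hnn'] at h2
  rw [← h1, ← h2, e]

/-- A coefficient linked to a multiple of a "negative" monomial vanishes. -/
lemma aval_eq_zero_of_common (hI : IsMonomial I) (φ : Tgt I) {β β' : Fin n →₀ ℕ} (hβ : β ∈ exps I)
    (hβ' : β' ∈ exps I) (δ δ' : Fin n →₀ ℕ) (e : β + δ = β' + δ') (hg : Good I α (β + δ))
    (hnn : ∀ j, 0 ≤ toZ β α j) (hneg : ∃ j, toZ β' α j < 0) :
    aval φ α β = 0 := by
  have h1 := aval_transfer hI φ δ hβ hg
  have h2 := aval_transfer hI φ δ' hβ' (by rw [← e]; exact hg)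
  rw [if_pos hnn] at h1
  rw [if_neg (by push Not; exact hneg)] at h2
  rw [← h1, e, h2]

/-- The value of an element of the graded piece on a monomial. -/
lemma apply_eq_aval (hI : IsMonomial I) {φ : Tgt I} (hφ : φ ∈ tPiece I α) {β : Fin n →₀ ℕ}
    (hβ : β ∈ exps I) :
    φ ⟨monomial β 1, hβ⟩ = aval φ α β • Ideal.Quotient.mk I (monomial (shift β α) (1 : k)) := by
  by_cases hnn : ∀ i, 0 ≤ toZ β α i
  · obtain ⟨c, hc⟩ := apply_eq_smul_of_mem hφ hβ hnn
    by_cases hin : shift β α ∈ exps I
    · rw [hc, mk_monomial_eq_zero hin, smul_zero, smul_zero]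
    · have hg : Good I α β := ⟨hnn, by rw [← shift_eq]; exact hin⟩
      rw [aval_of_good φ hg, ev_of_mem φ hβ, hc, ← shift_eq, cf_smul hI hin,
        cf_mk_monomial hI hin, if_pos rfl, mul_one]
  · have hnn' := hnn
    push Not at hnn'
    rw [(hφ β hβ).2 hnn', aval_of_not_good φ (fun h => hnn h.1), zero_smul]

/-- An element of the graded piece whose coefficients at a generating set vanish is zero. -/
lemma eq_zero_of_aval_eq_zero (hI : IsMonomial I) {φ : Tgt I} (hφ : φ ∈ tPiece I α)
    (G : Set (Fin n →₀ ℕ)) (hG : ∀ g ∈ G, g ∈ exps I)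
    (hspan : I ≤ Ideal.span ((fun β => monomial β (1 : k)) '' G))
    (h : ∀ g ∈ G, aval φ α g = 0) : φ = 0 := by
  refine tgt_ext_of_le φ 0 ((fun β => monomial β (1 : k)) '' G) ?_ hspan ?_
  · rintro _ ⟨g, hg, rfl⟩
    exact hG g hg
  · rintro _ ⟨g, hg, rfl⟩
    rw [LinearMap.zero_apply, apply_eq_aval hI hφ (hG g hg), h g hg, zero_smul]

lemma ev_add (φ ψ : Tgt I) (β : Fin n →₀ ℕ) : ev (φ + ψ) β = ev φ β + ev ψ β := by
  by_cases hβ : β ∈ exps I
  · rw [ev_of_mem _ hβ, ev_of_mem _ hβ, ev_of_mem _ hβ, LinearMap.add_apply]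
  · unfold ev
    rw [dif_neg (show ¬ monomial β (1 : k) ∈ I from hβ), dif_neg (show ¬ monomial β (1 : k) ∈ I from hβ),
      dif_neg (show ¬ monomial β (1 : k) ∈ I from hβ), add_zero]

lemma ev_smul (c : k) (φ : Tgt I) (β : Fin n →₀ ℕ) : ev (c • φ) β = c • ev φ β := by
  by_cases hβ : β ∈ exps I
  · rw [ev_of_mem _ hβ, ev_of_mem _ hβ, LinearMap.smul_apply]
  · unfold ev
    rw [dif_neg (show ¬ monomial β (1 : k) ∈ I from hβ), dif_neg (show ¬ monomial β (1 : k) ∈ I from hβ),
      smul_zero]

lemma aval_add (hI : IsMonomial I) (φ ψ : Tgt I) (β : Fin n →₀ ℕ) :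
    aval (φ + ψ) α β = aval φ α β + aval ψ α β := by
  by_cases hg : Good I α β
  · rw [aval_of_good _ hg, aval_of_good _ hg, aval_of_good _ hg, ev_add, cf_add hI hg.2]
  · rw [aval_of_not_good _ hg, aval_of_not_good _ hg, aval_of_not_good _ hg, add_zero]

lemma aval_smul (hI : IsMonomial I) (c : k) (φ : Tgt I) (β : Fin n →₀ ℕ) :
    aval (c • φ) α β = c * aval φ α β := by
  by_cases hg : Good I α β
  · rw [aval_of_good _ hg, aval_of_good _ hg, ev_smul, cf_smul hI hg.2]
  · rw [aval_of_not_good _ hg, aval_of_not_good _ hg, mul_zero]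

section construct

/-- Admissible coefficient functions. -/
def AdmVal (I : Ideal (MvPolynomial (Fin n) k)) (α : Fin n → ℤ) (val : (Fin n →₀ ℕ) → k) : Prop :=
  ∀ β ∈ exps I, ∀ i : Fin n, Good I α (β + Finsupp.single i 1) →
    ((∀ j, 0 ≤ toZ β α j) → val (β + Finsupp.single i 1) = val β) ∧
      ((∃ j, toZ β α j < 0) → val (β + Finsupp.single i 1) = 0)

open Classical in
/-- The image of the monomial `x^β`. -/
noncomputable def famV (I : Ideal (MvPolynomial (Fin n) k)) (α : Fin n → ℤ)
    (val : (Fin n →₀ ℕ) → k) (β : Fin n →₀ ℕ) : MvPolynomial (Fin n) k ⧸ I :=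
  (if ∀ j, 0 ≤ toZ β α j then val β else 0) • Ideal.Quotient.mk I (monomial (shift β α) (1 : k))

/-- The `k`-linear map on the whole polynomial ring. -/
noncomputable def psiV (I : Ideal (MvPolynomial (Fin n) k)) (α : Fin n → ℤ)
    (val : (Fin n →₀ ℕ) → k) : MvPolynomial (Fin n) k →ₗ[k] (MvPolynomial (Fin n) k ⧸ I) :=
  (basisMonomials (Fin n) k).constr k (famV I α val)

lemma psiV_monomial (val : (Fin n →₀ ℕ) → k) (β : Fin n →₀ ℕ) :
    psiV I α val (monomial β 1) = famV I α val β := by
  have := (basisMonomials (Fin n) k).constr_basis k (famV I α val) β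
  unfold psiV
  simpa [coe_basisMonomials] using this

lemma famV_step {val : (Fin n →₀ ℕ) → k} (hval : AdmVal I α val) {β : Fin n →₀ ℕ}
    (hβ : β ∈ exps I) (i : Fin n) :
    famV I α val (β + Finsupp.single i 1) = (X i : MvPolynomial (Fin n) k) • famV I α val β := by
  unfold famV
  by_cases hnn : ∀ j, 0 ≤ toZ β α j
  · have hnn' := nn_add_single (α := α) hnn i
    have hshift := shift_add_single (α := α) hnn i
    have hmono : (X i : MvPolynomial (Fin n) k) •
        Ideal.Quotient.mk I (monomial (shift β α) (1 : k))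
        = Ideal.Quotient.mk I (monomial (shift (β + Finsupp.single i 1) α) 1) := by
      show Ideal.Quotient.mk I (X i * monomial (shift β α) 1) = _
      rw [X_mul_monomial_one, hshift]
    rw [if_pos hnn, if_pos hnn', smul_comm, hmono]
    by_cases hin : shift (β + Finsupp.single i 1) α ∈ exps I
    · rw [mk_monomial_eq_zero hin, smul_zero, smul_zero]
    · have hg : Good I α (β + Finsupp.single i 1) := ⟨hnn', by rw [← shift_eq]; exact hin⟩
      rw [(hval β hβ i hg).1 hnn]
  · have hneg := hnn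
    push Not at hneg
    rw [if_neg hnn, zero_smul, smul_zero]
    by_cases hnn' : ∀ l, 0 ≤ toZ (β + Finsupp.single i 1) α l
    · rw [if_pos hnn']
      by_cases hin : natPart (toZ (β + Finsupp.single i 1) α) ∈ exps I
      · rw [shift_eq, mk_monomial_eq_zero hin, smul_zero]
      · rw [(hval β hβ i ⟨hnn', hin⟩).2 hneg, zero_smul]
    · rw [if_neg hnn', zero_smul]

lemma psiV_X_mul_monomial {val : (Fin n →₀ ℕ) → k} (hval : AdmVal I α val) {β : Fin n →₀ ℕ}
    (hβ : β ∈ exps I) (i : Fin n) (a : k) :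
    psiV I α val (X i * monomial β a)
      = (X i : MvPolynomial (Fin n) k) • psiV I α val (monomial β a) := by
  have e : monomial β a = a • monomial β (1 : k) := by rw [smul_monomial, smul_eq_mul, mul_one]
  rw [e, mul_smul_comm, map_smul, map_smul, X_mul_monomial_one, psiV_monomial, psiV_monomial,
    famV_step hval hβ i, smul_comm]

lemma psiV_X_mul (hI : IsMonomial I) {val : (Fin n →₀ ℕ) → k} (hval : AdmVal I α val)
    {p : MvPolynomial (Fin n) k} (hp : p ∈ I) (i : Fin n) :
    psiV I α val (X i * p) = (X i : MvPolynomial (Fin n) k) • psiV I α val p := by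
  have hs := support_sum_monomial_coeff p
  have hmem : ∀ v ∈ p.support, v ∈ exps I := fun v hv => hI p hp v hv
  rw [← hs, Finset.mul_sum, map_sum, map_sum, Finset.smul_sum]
  refine Finset.sum_congr rfl fun v hv => ?_
  exact psiV_X_mul_monomial hval (hmem v hv) i _

lemma psiV_mul (hI : IsMonomial I) {val : (Fin n →₀ ℕ) → k} (hval : AdmVal I α val)
    (s : MvPolynomial (Fin n) k) : ∀ p ∈ I, psiV I α val (s * p) = s • psiV I α val p := by
  induction s using MvPolynomial.induction_on with
  | C a =>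
    intro p _
    rw [C_mul', map_smul, ← algebraMap_eq, algebraMap_smul]
  | add s t hs ht =>
    intro p hp
    rw [add_mul, map_add, hs p hp, ht p hp, add_smul]
  | mul_X s i hs =>
    intro p hp
    rw [mul_assoc, hs _ (I.mul_mem_left _ hp), psiV_X_mul hI hval hp, mul_smul]

/-- The element of `T(I)` attached to an admissible coefficient function. -/
noncomputable def PhiV (hI : IsMonomial I) {val : (Fin n →₀ ℕ) → k} (hval : AdmVal I α val) :
    Tgt I where
  toFun p := psiV I α val p.1
  map_add' p q := by simp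
  map_smul' s p := psiV_mul hI hval s p.1 p.2

lemma PhiV_monomial (hI : IsMonomial I) {val : (Fin n →₀ ℕ) → k} (hval : AdmVal I α val)
    {β : Fin n →₀ ℕ} (hβ : β ∈ exps I) :
    PhiV hI hval ⟨monomial β 1, hβ⟩ = famV I α val β := psiV_monomial val β

lemma PhiV_mem (hI : IsMonomial I) {val : (Fin n →₀ ℕ) → k} (hval : AdmVal I α val) :
    PhiV hI hval ∈ tPiece I α := by
  intro β hβ
  rw [PhiV_monomial hI hval hβ]
  refine ⟨fun _ => ?_, fun ⟨i, hi⟩ => ?_⟩
  · exact Submodule.smul_mem _ _ (Submodule.subset_span rfl)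
  · unfold famV
    rw [if_neg, zero_smul]
    intro h
    exact absurd (h i) (not_le.mpr hi)

lemma aval_PhiV (hI : IsMonomial I) {val : (Fin n →₀ ℕ) → k} (hval : AdmVal I α val)
    {β : Fin n →₀ ℕ} (hβ : β ∈ exps I) (hg : Good I α β) :
    aval (PhiV hI hval) α β = val β := by
  rw [aval_of_good _ hg, ev_of_mem _ hβ, PhiV_monomial hI hval hβ]
  unfold famV
  rw [if_pos hg.1, shift_eq, cf_smul hI hg.2, cf_mk_monomial hI hg.2, if_pos rfl, mul_one]

end construct

end Groth.Agent.Lib.Helper92.Bor
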