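import Groth.Agent.Lib.Helper92.BorA

set_option linter.unusedSectionVars false
set_option linter.unusedSimpArgs false
set_option linter.unusedVariables false
set_option linter.style.haveILetI false
set_option linter.unnecessarySimpa false
set_option autoImplicit false

/-!
# The Borel-fixed ideal `x₀(x₀,…,x_{n-1}) + x₁(x₁,…,x_{n-1})`: membership (helper92)
-/

namespace Groth.Agent.Lib.Helper92.Bor

open MvPolynomial W4c1hilbpn Groth.Agent.Lib.Helper92.HilbTgt
  Groth.Agent.Lib.Helper92.HilbTgtDecomp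

universe u

section index

variable {n : ℕ}

/-- The exponent vector of a variable. -/
noncomputable abbrev s (i : Fin (n + 1)) : Fin (n + 1) →₀ ℕ := Finsupp.single i 1

/-- The middle indices `2, …, n-1`. -/
def Mid (n : ℕ) : Finset (Fin (n + 1)) :=
  Finset.univ.filter fun l => 2 ≤ l.val ∧ l.val + 1 ≤ n

lemma mem_Mid {l : Fin (n + 1)} : l ∈ Mid n ↔ 2 ≤ l.val ∧ l.val + 1 ≤ n := by
  simp [Mid]

lemma val_one_eq (hn : 1 ≤ n) : ((1 : Fin (n + 1)) : ℕ) = 1 := by
  rw [Fin.val_one', Nat.mod_eq_of_lt (by omega)]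

lemma idx_cases (hn : 2 ≤ n) (i : Fin (n + 1)) :
    i = 0 ∨ i = 1 ∨ i ∈ Mid n ∨ i = Fin.last n := by
  have h1 := val_one_eq (n := n) (by omega)
  by_cases h0 : i.val = 0
  · left
    exact Fin.ext h0
  · by_cases h1' : i.val = 1
    · right; left
      exact Fin.ext (by rw [h1', h1])
    · by_cases hl : i.val = n
      · right; right; right
        exact Fin.ext hl
      · right; right; left
        rw [mem_Mid]
        have := i.2
        omega

/-- `u, v` are the indices `0, 1` in some order. -/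
def UV (u v : Fin (n + 1)) : Prop := (u = 0 ∧ v = 1) ∨ (u = 1 ∧ v = 0)

lemma UV.symm {u v : Fin (n + 1)} (h : UV u v) : UV v u := by
  rcases h with ⟨rfl, rfl⟩ | ⟨rfl, rfl⟩
  · exact Or.inr ⟨rfl, rfl⟩
  · exact Or.inl ⟨rfl, rfl⟩

lemma zero_ne_one' (hn : 1 ≤ n) : (0 : Fin (n + 1)) ≠ 1 := by
  intro h
  have := congrArg Fin.val h
  rw [val_one_eq hn] at this
  simp at this

lemma UV.ne (hn : 1 ≤ n) {u v : Fin (n + 1)} (h : UV u v) : u ≠ v := by
  rcases h with ⟨rfl, rfl⟩ | ⟨rfl, rfl⟩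
  · exact zero_ne_one' hn
  · exact (zero_ne_one' hn).symm

lemma UV.val_le (hn : 1 ≤ n) {u v : Fin (n + 1)} (h : UV u v) : u.val ≤ 1 ∧ v.val ≤ 1 := by
  have h1 := val_one_eq hn
  have h0 : ((0 : Fin (n + 1)) : ℕ) = 0 := rfl
  rcases h with ⟨rfl, rfl⟩ | ⟨rfl, rfl⟩
  · rw [h0, h1]; omega
  · rw [h0, h1]; omega

lemma UV.not_mid (hn : 1 ≤ n) {u v : Fin (n + 1)} (h : UV u v) : u ∉ Mid n ∧ v ∉ Mid n := by
  have := h.val_le hn
  rw [mem_Mid, mem_Mid]
  omega

lemma UV.ne_last (hn : 2 ≤ n) {u v : Fin (n + 1)} (h : UV u v) :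
    u ≠ Fin.last n ∧ v ≠ Fin.last n := by
  have := h.val_le (by omega)
  constructor <;> intro e <;> have := congrArg Fin.val e <;> simp only [Fin.val_last] at this <;> omega

lemma mid_ne_of_uv (hn : 1 ≤ n) {u v l : Fin (n + 1)} (h : UV u v) (hl : l ∈ Mid n) :
    l ≠ u ∧ l ≠ v := by
  have := h.val_le hn
  rw [mem_Mid] at hl
  constructor <;> intro e <;> have := congrArg Fin.val e <;> omega

lemma mid_ne_last {l : Fin (n + 1)} (hl : l ∈ Mid n) : l ≠ Fin.last n := by
  rw [mem_Mid] at hl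
  intro e
  have := congrArg Fin.val e
  simp only [Fin.val_last] at this
  omega

lemma last_not_mid : Fin.last n ∉ Mid n := by
  rw [mem_Mid]
  simp

lemma s_self (i : Fin (n + 1)) : s i i = 1 := by simp [s]

lemma s_ne {i j : Fin (n + 1)} (h : i ≠ j) : s i j = 0 := by
  simp [s, Finsupp.single_apply, h]

/-- The total middle degree. -/
noncomputable def mid (β : Fin (n + 1) →₀ ℕ) : ℕ := ∑ l ∈ Mid n, β l

lemma mid_add (β β' : Fin (n + 1) →₀ ℕ) : mid (β + β') = mid β + mid β' := by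
  simp only [mid, Finsupp.add_apply, Finset.sum_add_distrib]

lemma mid_single_of_mem {l : Fin (n + 1)} (hl : l ∈ Mid n) (c : ℕ) :
    mid (Finsupp.single l c) = c := by
  simp only [mid, Finsupp.single_apply]
  rw [Finset.sum_ite_eq (Mid n) l, if_pos hl]

lemma mid_single_of_not_mem {l : Fin (n + 1)} (hl : l ∉ Mid n) (c : ℕ) :
    mid (Finsupp.single l c) = 0 := by
  simp only [mid, Finsupp.single_apply]
  rw [Finset.sum_ite_eq (Mid n) l, if_neg hl]

lemma le_mid (β : Fin (n + 1) →₀ ℕ) {l : Fin (n + 1)} (hl : l ∈ Mid n) : β l ≤ mid β :=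
  Finset.single_le_sum (f := fun l => β l) (fun _ _ => Nat.zero_le _) hl

lemma exists_of_mid_pos {β : Fin (n + 1) →₀ ℕ} (h : 1 ≤ mid β) : ∃ l ∈ Mid n, 1 ≤ β l := by
  by_contra hcon
  push Not at hcon
  have : mid β = 0 := Finset.sum_eq_zero fun l hl => by have := hcon l hl; omega
  omega

lemma mid_le_of_le {β β' : Fin (n + 1) →₀ ℕ} (h : β ≤ β') : mid β ≤ mid β' :=
  Finset.sum_le_sum fun l _ => h l

end index

section ideal

variable (k : Type u) [Field k] (n : ℕ)

/-- The ideal `x₀(x₀,…,x_{n-1}) + x₁(x₁,…,x_{n-1})`. -/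
noncomputable def J11 : Ideal (MvPolynomial (Fin (n + 1)) k) :=
  Ideal.span ({f : MvPolynomial (Fin (n + 1)) k | ∃ i : Fin (n + 1), i.val + 1 ≤ n ∧
      f = MvPolynomial.X 0 * MvPolynomial.X i} ∪
    {f : MvPolynomial (Fin (n + 1)) k | ∃ i : Fin (n + 1), 1 ≤ i.val ∧ i.val ≤ n - 1 ∧
      f = MvPolynomial.X 1 * MvPolynomial.X i})

/-- The exponents of the generators. -/
def G11 : Set (Fin (n + 1) →₀ ℕ) :=
  {g | ∃ i : Fin (n + 1), i.val + 1 ≤ n ∧ g = s 0 + s i} ∪
    {g | ∃ i : Fin (n + 1), 1 ≤ i.val ∧ i.val ≤ n - 1 ∧ g = s 1 + s i}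

lemma X_mul_X_eq (i j : Fin (n + 1)) :
    (X i * X j : MvPolynomial (Fin (n + 1)) k) = monomial (s i + s j) 1 := by
  simp only [X, monomial_mul, mul_one]

lemma J11_eq : J11 k n = Ideal.span ((fun β => monomial β (1 : k)) '' G11 n) := by
  unfold J11 G11
  congr 1
  ext f
  simp only [Set.mem_union, Set.mem_ofPred_eq, Set.mem_image]
  constructor
  · rintro (⟨i, hi, rfl⟩ | ⟨i, h1, h2, rfl⟩)
    · exact ⟨s 0 + s i, Or.inl ⟨i, hi, rfl⟩, (X_mul_X_eq k n 0 i).symm⟩
    · exact ⟨s 1 + s i, Or.inr ⟨i, h1, h2, rfl⟩, (X_mul_X_eq k n 1 i).symm⟩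
  · rintro ⟨g, (⟨i, hi, rfl⟩ | ⟨i, h1, h2, rfl⟩), rfl⟩
    · exact Or.inl ⟨i, hi, (X_mul_X_eq k n 0 i).symm⟩
    · exact Or.inr ⟨i, h1, h2, (X_mul_X_eq k n 1 i).symm⟩

variable {k n}

lemma mem_exps_J11 {β : Fin (n + 1) →₀ ℕ} : β ∈ exps (J11 k n) ↔ ∃ g ∈ G11 n, g ≤ β := by
  classical
  rw [mem_exps, J11_eq, mem_ideal_span_monomial_image]
  constructor
  · intro h
    exact h β (by rw [mem_support_iff, coeff_monomial, if_pos rfl]; exact one_ne_zero)
  · intro h xi hxi
    rw [mem_support_iff, coeff_monomial] at hxi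
    have : β = xi := by
      by_contra hne
      rw [if_neg hne] at hxi
      exact hxi rfl
    rw [← this]
    exact h

lemma isMonomial_J11 : IsMonomial (J11 k n) := by
  intro p hp β hβ
  rw [J11_eq, mem_ideal_span_monomial_image] at hp
  have h := hp β hβ
  show β ∈ exps (J11 k n)
  rw [mem_exps_J11]
  exact h

lemma G11_subset : ∀ g ∈ G11 n, g ∈ exps (J11 k n) := by
  intro g hg
  rw [mem_exps_J11]
  exact ⟨g, hg, le_refl g⟩

lemma J11_le_span : J11 k n ≤ Ideal.span ((fun β => monomial β (1 : k)) '' G11 n) := by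
  rw [J11_eq]

/-- Membership in the ideal in terms of aggregated coordinates. -/
lemma mem_exps_iff (hn : 2 ≤ n) {β : Fin (n + 1) →₀ ℕ} :
    β ∈ exps (J11 k n) ↔
      2 ≤ β 0 ∨ (1 ≤ β 0 ∧ 1 ≤ β 1 + mid β) ∨ 2 ≤ β 1 ∨ (1 ≤ β 1 ∧ 1 ≤ mid β) := by
  have h1 := val_one_eq (n := n) (by omega)
  have h01 := zero_ne_one' (n := n) (by omega)
  rw [mem_exps_J11]
  constructor
  · rintro ⟨g, (⟨i, hi, rfl⟩ | ⟨i, hi1, hi2, rfl⟩), hle⟩
    · have e0 := hle 0
      have ei := hle i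
      rw [Finsupp.add_apply] at e0 ei
      rcases idx_cases hn i with rfl | rfl | hm | rfl
      · rw [s_self] at e0
        left; omega
      · rw [s_self, s_ne h01.symm] at e0
        rw [s_ne h01, s_self] at ei
        right; left; omega
      · have hne := mid_ne_of_uv (by omega) (Or.inl ⟨rfl, rfl⟩ : UV (0 : Fin (n + 1)) 1) hm
        rw [s_self, s_ne hne.1] at e0
        rw [s_ne hne.1.symm, s_self] at ei
        have := le_mid β hm
        right; left; omega
      · simp only [Fin.val_last] at hi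
        omega
    · have e1 := hle 1
      have ei := hle i
      rw [Finsupp.add_apply] at e1 ei
      rcases idx_cases hn i with rfl | rfl | hm | rfl
      · simp at hi1
      · rw [s_self] at e1
        right; right; left; omega
      · have hne := mid_ne_of_uv (by omega) (Or.inl ⟨rfl, rfl⟩ : UV (0 : Fin (n + 1)) 1) hm
        rw [s_self, s_ne hne.2] at e1
        rw [s_ne hne.2.symm, s_self] at ei
        have := le_mid β hm
        right; right; right; omega
      · simp only [Fin.val_last] at hi2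
        omega
  · have key : ∀ (a b : Fin (n + 1)) (x y : ℕ), (a = b → x + y ≤ β a) →
        (a ≠ b → x ≤ β a ∧ y ≤ β b) → Finsupp.single a x + Finsupp.single b y ≤ β := by
      intro a b x y h1 h2 j
      rw [Finsupp.add_apply, Finsupp.single_apply, Finsupp.single_apply]
      by_cases hab : a = b
      · subst hab
        have := h1 rfl
        split_ifs with hj
        · subst hj; exact this
        · omega
      · obtain ⟨p1, p2⟩ := h2 hab
        by_cases hja : a = j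
        · subst hja
          rw [if_pos rfl, if_neg (Ne.symm hab)]
          omega
        · by_cases hjb : b = j
          · subst hjb
            rw [if_neg hja, if_pos rfl]
            omega
          · rw [if_neg hja, if_neg hjb]
            omega
    rintro (h | ⟨ha, hb⟩ | h | ⟨ha, hb⟩)
    · refine ⟨s 0 + s 0, Or.inl ⟨0, by simp; omega, rfl⟩, ?_⟩
      exact key 0 0 1 1 (fun _ => h) (fun hh => absurd rfl hh)
    · by_cases hb1 : 1 ≤ β 1
      · refine ⟨s 0 + s 1, Or.inl ⟨1, by rw [h1]; omega, rfl⟩, ?_⟩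
        exact key 0 1 1 1 (fun hh => absurd hh h01) (fun _ => ⟨ha, hb1⟩)
      · obtain ⟨l, hl, hβl⟩ := exists_of_mid_pos (β := β) (by omega)
        have hne := mid_ne_of_uv (by omega) (Or.inl ⟨rfl, rfl⟩ : UV (0 : Fin (n + 1)) 1) hl
        refine ⟨s 0 + s l, Or.inl ⟨l, (mem_Mid.1 hl).2, rfl⟩, ?_⟩
        exact key 0 l 1 1 (fun hh => absurd hh.symm hne.1) (fun _ => ⟨ha, hβl⟩)
    · refine ⟨s 1 + s 1, Or.inr ⟨1, by rw [h1], by rw [h1]; omega, rfl⟩, ?_⟩
      exact key 1 1 1 1 (fun _ => h) (fun hh => absurd rfl hh)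
    · obtain ⟨l, hl, hβl⟩ := exists_of_mid_pos hb
      have hne := mid_ne_of_uv (by omega) (Or.inl ⟨rfl, rfl⟩ : UV (0 : Fin (n + 1)) 1) hl
      have hl' := mem_Mid.1 hl
      refine ⟨s 1 + s l, Or.inr ⟨l, by omega, by omega, rfl⟩, ?_⟩
      exact key 1 l 1 1 (fun hh => absurd hh.symm hne.2) (fun _ => ⟨ha, hβl⟩)

/-- Symmetric form of the membership criterion. -/
lemma mem_exps_iff_uv (hn : 2 ≤ n) {u v : Fin (n + 1)} (huv : UV u v) {β : Fin (n + 1) →₀ ℕ} :
    β ∈ exps (J11 k n) ↔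
      2 ≤ β u ∨ (1 ≤ β u ∧ 1 ≤ β v + mid β) ∨ 2 ≤ β v ∨ (1 ≤ β v ∧ 1 ≤ mid β) := by
  rw [mem_exps_iff hn]
  rcases huv with ⟨rfl, rfl⟩ | ⟨rfl, rfl⟩
  · rfl
  · constructor <;> intro h <;> omega

end ideal

end Groth.Agent.Lib.Helper92.Bor
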