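import Groth.Agent.Lib.Helper92.BorB

set_option linter.unusedSectionVars false
set_option linter.unusedSimpArgs false
set_option linter.unusedVariables false
set_option linter.style.haveILetI false
set_option linter.unnecessarySimpa false
set_option autoImplicit false

/-!
# Coordinates and multidegrees for the Borel computations (helper92)
-/

namespace Groth.Agent.Lib.Helper92.Bor

open MvPolynomial W4c1hilbpn Groth.Agent.Lib.Helper92.HilbTgt
  Groth.Agent.Lib.Helper92.HilbTgtDecomp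

universe u

section general

variable {k : Type u} [Field k] {m : ℕ} {I : Ideal (MvPolynomial (Fin m) k)}

lemma toZ_dif_apply (β Q P : Fin m →₀ ℕ) (j : Fin m) :
    toZ β (dif Q P) j = (β j : ℤ) + (P j : ℤ) - (Q j : ℤ) := by
  simp only [toZ_apply, dif]
  ring

lemma nn_dif_iff (β Q P : Fin m →₀ ℕ) :
    (∀ j, 0 ≤ toZ β (dif Q P) j) ↔ ∀ j, Q j ≤ β j + P j := by
  constructor
  · intro h j
    have := h j
    rw [toZ_dif_apply] at this
    omega
  · intro h j
    have := h j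
    rw [toZ_dif_apply]
    omega

lemma natPart_dif_add {β Q P : Fin m →₀ ℕ} (hnn : ∀ j, 0 ≤ toZ β (dif Q P) j) :
    natPart (toZ β (dif Q P)) + Q = β + P := by
  ext j
  have := hnn j
  rw [toZ_dif_apply] at this
  simp only [Finsupp.add_apply, natPart_apply, toZ_dif_apply]
  omega

/-- A graded piece with a dual family of coefficients has the expected dimension. -/
lemma finrank_eq_of_dual_family (hI : IsMonomial I) {α : Fin m → ℤ} {d : ℕ}
    (g : Fin d → (Fin m →₀ ℕ)) (φ : Fin d → Tgt I) (hφ : ∀ a, φ a ∈ tPiece I α)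
    (hdual : ∀ a b, aval (φ a) α (g b) = if a = b then 1 else 0)
    (hinj : ∀ ψ ∈ tPiece I α, (∀ b, aval ψ α (g b) = 0) → ψ = 0) :
    Module.finrank k ↥(tPiece I α) = d := by
  classical
  let E : ↥(tPiece I α) →ₗ[k] (Fin d → k) :=
    { toFun := fun ψ b => aval ψ.1 α (g b)
      map_add' := fun ψ ψ' => by
        funext b
        exact aval_add hI ψ.1 ψ'.1 (g b)
      map_smul' := fun c ψ => by
        funext b
        simp only [Pi.smul_apply, RingHom.id_apply, smul_eq_mul]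
        exact aval_smul hI c ψ.1 (g b) }
  have hE : ∀ ψ : ↥(tPiece I α), ∀ b, E ψ b = aval ψ.1 α (g b) := fun _ _ => rfl
  have hinjE : Function.Injective E := by
    rw [injective_iff_map_eq_zero]
    intro ψ hψ
    apply Subtype.ext
    apply hinj ψ.1 ψ.2
    intro b
    have := congrFun hψ b
    rw [hE] at this
    exact this
  have hsurjE : Function.Surjective E := by
    intro x
    refine ⟨∑ a, x a • (⟨φ a, hφ a⟩ : ↥(tPiece I α)), ?_⟩
    funext b
    rw [map_sum]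
    simp only [map_smul, Finset.sum_apply, Pi.smul_apply, smul_eq_mul]
    rw [Finset.sum_eq_single b]
    · rw [hE, hdual, if_pos rfl, mul_one]
    · intro a _ hab
      rw [hE, hdual, if_neg hab, mul_zero]
    · intro h
      exact absurd (Finset.mem_univ b) h
  have e := LinearEquiv.ofBijective E ⟨hinjE, hsurjE⟩
  rw [e.finrank_eq, Module.finrank_fintype_fun_eq_card, Fintype.card_fin]

open Classical in
/-- Indicator functions are admissible under a step condition. -/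
lemma admVal_indicator {α : Fin m → ℤ} (B : (Fin m →₀ ℕ) → Prop)
    (h : ∀ β ∈ exps I, ∀ i : Fin m, Good I α (β + Finsupp.single i 1) →
      ((∀ j, 0 ≤ toZ β α j) → (B (β + Finsupp.single i 1) ↔ B β)) ∧
        ((∃ j, toZ β α j < 0) → ¬ B (β + Finsupp.single i 1))) :
    AdmVal I α (fun β => if B β then (1 : k) else 0) := by
  intro β hβ i hg
  obtain ⟨h1, h2⟩ := h β hβ i hg
  constructor
  · intro hnn
    have := h1 hnn
    show (if B (β + Finsupp.single i 1) then (1 : k) else 0) = if B β then (1 : k) else 0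
    by_cases hb : B β
    · rw [if_pos hb, if_pos (this.2 hb)]
    · rw [if_neg hb, if_neg (fun hh => hb (this.1 hh))]
  · intro hneg
    show (if B (β + Finsupp.single i 1) then (1 : k) else 0) = 0
    rw [if_neg (h2 hneg)]

end general

section coords

variable {n : ℕ}

/-- Coordinates `(β u, β v, β l, mid β, β last)`. -/
noncomputable def crd (u v l : Fin (n + 1)) (β : Fin (n + 1) →₀ ℕ) : ℕ × ℕ × ℕ × ℕ × ℕ :=
  (β u, β v, β l, mid β, β (Fin.last n))

lemma crd_add (u v l : Fin (n + 1)) (β β' : Fin (n + 1) →₀ ℕ) :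
    crd u v l (β + β') = crd u v l β + crd u v l β' := by
  simp only [crd, Finsupp.add_apply, mid_add, Prod.mk_add_mk]

variable {u v l : Fin (n + 1)}

lemma crd_s_u (hn : 2 ≤ n) (huv : UV u v) (hl : l ∈ Mid n) :
    crd u v l (s u) = (1, 0, 0, 0, 0) := by
  have h1 := huv.ne (by omega)
  have h2 := mid_ne_of_uv (by omega) huv hl
  have h3 := (huv.ne_last hn).1
  have h4 := (huv.not_mid (by omega)).1
  simp only [crd, s_self, s_ne h1, s_ne h2.1.symm, s_ne h3, mid_single_of_not_mem h4]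

lemma crd_s_v (hn : 2 ≤ n) (huv : UV u v) (hl : l ∈ Mid n) :
    crd u v l (s v) = (0, 1, 0, 0, 0) := by
  have h1 := huv.ne (by omega)
  have h2 := mid_ne_of_uv (by omega) huv hl
  have h3 := (huv.ne_last hn).2
  have h4 := (huv.not_mid (by omega)).2
  simp only [crd, s_self, s_ne h1.symm, s_ne h2.2.symm, s_ne h3, mid_single_of_not_mem h4]

lemma crd_s_l (hn : 2 ≤ n) (huv : UV u v) (hl : l ∈ Mid n) :
    crd u v l (s l) = (0, 0, 1, 1, 0) := by
  have h2 := mid_ne_of_uv (by omega) huv hl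
  have h3 := mid_ne_last hl
  simp only [crd, s_self, s_ne h2.1, s_ne h2.2, s_ne h3, mid_single_of_mem hl]

lemma crd_s_mid (hn : 2 ≤ n) (huv : UV u v) (hl : l ∈ Mid n) {i : Fin (n + 1)} (hi : i ∈ Mid n)
    (hil : i ≠ l) : crd u v l (s i) = (0, 0, 0, 1, 0) := by
  have h2 := mid_ne_of_uv (by omega) huv hi
  have h3 := mid_ne_last hi
  simp only [crd, s_ne h2.1, s_ne h2.2, s_ne h3, s_ne hil, mid_single_of_mem hi]

lemma crd_s_last (hn : 2 ≤ n) (huv : UV u v) (hl : l ∈ Mid n) :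
    crd u v l (s (Fin.last n)) = (0, 0, 0, 0, 1) := by
  have h3 := huv.ne_last hn
  have h4 := mid_ne_last hl
  simp only [crd, s_self, s_ne h3.1.symm, s_ne h3.2.symm, s_ne h4.symm,
    mid_single_of_not_mem last_not_mid]

/-- The five possible coordinate vectors of a variable. -/
def D5 (d : ℕ × ℕ × ℕ × ℕ × ℕ) : Prop :=
  d = (1, 0, 0, 0, 0) ∨ d = (0, 1, 0, 0, 0) ∨ d = (0, 0, 1, 1, 0) ∨ d = (0, 0, 0, 1, 0) ∨
    d = (0, 0, 0, 0, 1)

lemma crd_s_mem (hn : 2 ≤ n) (huv : UV u v) (hl : l ∈ Mid n) (i : Fin (n + 1)) :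
    D5 (crd u v l (s i)) := by
  rcases idx_cases hn i with rfl | rfl | hi | rfl
  · rcases huv with ⟨rfl, rfl⟩ | ⟨rfl, rfl⟩
    · exact Or.inl (crd_s_u hn (Or.inl ⟨rfl, rfl⟩) hl)
    · exact Or.inr (Or.inl (crd_s_v hn (Or.inr ⟨rfl, rfl⟩) hl))
  · rcases huv with ⟨rfl, rfl⟩ | ⟨rfl, rfl⟩
    · exact Or.inr (Or.inl (crd_s_v hn (Or.inl ⟨rfl, rfl⟩) hl))
    · exact Or.inl (crd_s_u hn (Or.inr ⟨rfl, rfl⟩) hl)
  · by_cases hil : i = l
    · subst hil
      exact Or.inr (Or.inr (Or.inl (crd_s_l hn huv hl)))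
    · exact Or.inr (Or.inr (Or.inr (Or.inl (crd_s_mid hn huv hl hi hil))))
  · exact Or.inr (Or.inr (Or.inr (Or.inr (crd_s_last hn huv hl))))

/-- Membership in the ideal on coordinates. -/
def InI5 (x : ℕ × ℕ × ℕ × ℕ × ℕ) : Prop :=
  2 ≤ x.1 ∨ (1 ≤ x.1 ∧ 1 ≤ x.2.1 + x.2.2.2.1) ∨ 2 ≤ x.2.1 ∨ (1 ≤ x.2.1 ∧ 1 ≤ x.2.2.2.1)

variable {k : Type u} [Field k]

lemma mem_exps_iff_crd (hn : 2 ≤ n) (huv : UV u v) (l : Fin (n + 1)) {β : Fin (n + 1) →₀ ℕ} :
    β ∈ exps (J11 k n) ↔ InI5 (crd u v l β) :=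
  mem_exps_iff_uv hn huv

/-- Extraction of the arithmetic content of a step in the region. -/
lemma extract (hn : 2 ≤ n) (huv : UV u v) (hl : l ∈ Mid n) (Q P : Fin (n + 1) →₀ ℕ)
    {β : Fin (n + 1) →₀ ℕ} (hβ : β ∈ exps (J11 k n)) (i : Fin (n + 1))
    (hg : Good (J11 k n) (dif Q P) (β + s i)) :
    ∃ g : ℕ × ℕ × ℕ × ℕ × ℕ, D5 (crd u v l (s i)) ∧
      g + crd u v l Q = crd u v l β + crd u v l (s i) + crd u v l P ∧
      InI5 (crd u v l β) ∧ ¬ InI5 g := by
  obtain ⟨hnn, hout⟩ := hg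
  refine ⟨crd u v l (natPart (toZ (β + s i) (dif Q P))), crd_s_mem hn huv hl i, ?_, ?_, ?_⟩
  · rw [← crd_add, ← crd_add, ← crd_add, natPart_dif_add hnn]
  · exact (mem_exps_iff_crd hn huv l).1 hβ
  · exact fun h => hout ((mem_exps_iff_crd hn huv l).2 h)

/-- Arithmetic criterion for admissibility of an indicator function. -/
lemma admVal_of_arith (hn : 2 ≤ n) (huv : UV u v) (hl : l ∈ Mid n) (Q P : Fin (n + 1) →₀ ℕ)
    (PB NNp : ℕ × ℕ × ℕ × ℕ × ℕ → Prop) [DecidablePred PB]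
    (hNN : ∀ β : Fin (n + 1) →₀ ℕ, (∀ j, 0 ≤ toZ β (dif Q P) j) ↔ NNp (crd u v l β))
    (harith : ∀ x d g : ℕ × ℕ × ℕ × ℕ × ℕ, D5 d →
      g + crd u v l Q = x + d + crd u v l P → InI5 x → ¬ InI5 g → NNp (x + d) →
        ((NNp x → (PB (x + d) ↔ PB x)) ∧ (¬ NNp x → ¬ PB (x + d)))) :
    AdmVal (J11 k n) (dif Q P) (fun β => if PB (crd u v l β) then (1 : k) else 0) := by
  have := admVal_indicator (k := k) (I := J11 k n) (α := dif Q P)
    (fun β => PB (crd u v l β)) ?_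
  · convert this
  · intro β hβ i hg
    obtain ⟨g, hd, hc, h1, h2⟩ := extract hn huv hl Q P hβ i hg
    have h3 : NNp (crd u v l β + crd u v l (s i)) := by
      rw [← crd_add, ← hNN]
      exact hg.1
    obtain ⟨r1, r2⟩ := harith _ _ g hd hc h1 h2 h3
    constructor
    · intro hnn
      show PB (crd u v l (β + s i)) ↔ PB (crd u v l β)
      rw [crd_add]
      exact r1 ((hNN β).1 hnn)
    · intro hneg
      show ¬ PB (crd u v l (β + s i))
      rw [crd_add]
      apply r2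
      rw [← hNN]
      push Not
      exact hneg

/-- Arithmetic criterion for goodness. -/
lemma good_of_arith (hn : 2 ≤ n) (huv : UV u v) (l : Fin (n + 1)) (Q P : Fin (n + 1) →₀ ℕ)
    {β : Fin (n + 1) →₀ ℕ} (hnn : ∀ j, 0 ≤ toZ β (dif Q P) j)
    (h : ∀ g : ℕ × ℕ × ℕ × ℕ × ℕ, g + crd u v l Q = crd u v l β + crd u v l P → ¬ InI5 g) :
    Good (J11 k n) (dif Q P) β := by
  refine ⟨hnn, ?_⟩
  rw [mem_exps_iff_crd hn huv l]
  apply h
  rw [← crd_add, ← crd_add, natPart_dif_add hnn]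

end coords

end Groth.Agent.Lib.Helper92.Bor
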