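import Groth.Agent.Lib.Helper92.BorC

set_option linter.unusedSectionVars false
set_option linter.unusedSimpArgs false
set_option linter.unusedVariables false
set_option linter.style.haveILetI false
set_option linter.unnecessarySimpa false
set_option autoImplicit false

/-!
# The nonzero graded pieces of `T(I)₀` for `I = x₀(x₀,…,x_{n-1}) + x₁(x₁,…,x_{n-1})` (helper92)
-/

namespace Groth.Agent.Lib.Helper92.Bor

open MvPolynomial W4c1hilbpn Groth.Agent.Lib.Helper92.HilbTgt
  Groth.Agent.Lib.Helper92.HilbTgtDecomp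

universe u

section prelim

variable {m : ℕ}

lemma nn_single_iff (a : Fin m) (x : ℕ) (P β : Fin m →₀ ℕ) :
    (∀ j, (Finsupp.single a x) j ≤ β j + P j) ↔ x ≤ β a + P a := by
  constructor
  · intro h
    have := h a
    rwa [Finsupp.single_eq_same] at this
  · intro h j
    by_cases hj : a = j
    · subst hj
      rwa [Finsupp.single_eq_same]
    · rw [Finsupp.single_eq_of_ne' hj]
      omega

lemma nn_single_add_iff {a b : Fin m} (hab : a ≠ b) (x y : ℕ) (P β : Fin m →₀ ℕ) :
    (∀ j, (Finsupp.single a x + Finsupp.single b y) j ≤ β j + P j) ↔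
      x ≤ β a + P a ∧ y ≤ β b + P b := by
  constructor
  · intro h
    have h1 := h a
    have h2 := h b
    rw [Finsupp.add_apply, Finsupp.single_eq_same, Finsupp.single_eq_of_ne' hab.symm] at h1
    rw [Finsupp.add_apply, Finsupp.single_eq_same, Finsupp.single_eq_of_ne' hab] at h2
    omega
  · rintro ⟨h1, h2⟩ j
    rw [Finsupp.add_apply]
    by_cases hja : a = j
    · subst hja
      rw [Finsupp.single_eq_same, Finsupp.single_eq_of_ne' hab.symm]
      omega
    · by_cases hjb : b = j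
      · subst hjb
        rw [Finsupp.single_eq_same, Finsupp.single_eq_of_ne' hja]
        omega
      · rw [Finsupp.single_eq_of_ne' hja, Finsupp.single_eq_of_ne' hjb]
        omega

lemma nn_double_iff (a : Fin m) (P β : Fin m →₀ ℕ) :
    (∀ j, (Finsupp.single a 1 + Finsupp.single a 1 : Fin m →₀ ℕ) j ≤ β j + P j) ↔
      2 ≤ β a + P a := by
  rw [← Finsupp.single_add]
  exact nn_single_iff a (1 + 1) P β

end prelim

variable {k : Type u} [Field k] {n : ℕ} {u v l : Fin (n + 1)}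

/-- The generators in symmetric form. -/
lemma G11_cases (hn : 2 ≤ n) (huv : UV u v) {g : Fin (n + 1) →₀ ℕ} (hg : g ∈ G11 n) :
    g = s u + s u ∨ g = s u + s v ∨ g = s v + s v ∨ (∃ i ∈ Mid n, g = s u + s i) ∨
      (∃ i ∈ Mid n, g = s v + s i) := by
  have h1 := val_one_eq (n := n) (by omega)
  have key : g = s 0 + s 0 ∨ g = s 0 + s 1 ∨ g = s 1 + s 1 ∨ (∃ i ∈ Mid n, g = s 0 + s i) ∨
      (∃ i ∈ Mid n, g = s 1 + s i) := by
    rcases hg with ⟨i, hi, rfl⟩ | ⟨i, hi1, hi2, rfl⟩
    · rcases idx_cases hn i with rfl | rfl | hm | rfl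
      · exact Or.inl rfl
      · exact Or.inr (Or.inl rfl)
      · exact Or.inr (Or.inr (Or.inr (Or.inl ⟨i, hm, rfl⟩)))
      · simp only [Fin.val_last] at hi
        omega
    · rcases idx_cases hn i with rfl | rfl | hm | rfl
      · simp at hi1
      · exact Or.inr (Or.inr (Or.inl rfl))
      · exact Or.inr (Or.inr (Or.inr (Or.inr ⟨i, hm, rfl⟩)))
      · simp only [Fin.val_last] at hi2
        omega
  rcases huv with ⟨rfl, rfl⟩ | ⟨rfl, rfl⟩
  · exact key
  · rcases key with h | h | h | h | h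
    · exact Or.inr (Or.inr (Or.inl h))
    · exact Or.inr (Or.inl (h.trans (add_comm _ _)))
    · exact Or.inl h
    · exact Or.inr (Or.inr (Or.inr (Or.inr h)))
    · exact Or.inr (Or.inr (Or.inr (Or.inl h)))

lemma mem_G11_uu (hn : 2 ≤ n) (huv : UV u v) : s u + s u ∈ G11 n := by
  have h1 := val_one_eq (n := n) (by omega)
  rcases huv with ⟨rfl, rfl⟩ | ⟨rfl, rfl⟩
  · exact Or.inl ⟨0, by simp; omega, rfl⟩
  · exact Or.inr ⟨1, by rw [h1], by rw [h1]; omega, rfl⟩

lemma mem_G11_uv (hn : 2 ≤ n) (huv : UV u v) : s u + s v ∈ G11 n := by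
  have h1 := val_one_eq (n := n) (by omega)
  rcases huv with ⟨rfl, rfl⟩ | ⟨rfl, rfl⟩
  · exact Or.inl ⟨1, by rw [h1]; omega, rfl⟩
  · exact Or.inl ⟨1, by rw [h1]; omega, add_comm _ _⟩

lemma mem_G11_ul (hn : 2 ≤ n) (huv : UV u v) (hl : l ∈ Mid n) : s u + s l ∈ G11 n := by
  have h1 := val_one_eq (n := n) (by omega)
  have hl' := mem_Mid.1 hl
  rcases huv with ⟨rfl, rfl⟩ | ⟨rfl, rfl⟩
  · exact Or.inl ⟨l, hl'.2, rfl⟩
  · exact Or.inr ⟨l, by omega, by omega, rfl⟩



end Groth.Agent.Lib.Helper92.Bor
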