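import Groth.Agent.Lib.Helper92.BorD

set_option linter.unusedSectionVars false
set_option linter.unusedSimpArgs false
set_option linter.unusedVariables false
set_option linter.style.haveILetI false
set_option linter.unnecessarySimpa false
set_option autoImplicit false

/-!
# Dimensions of the nonzero graded pieces of `T(I)₀` for the ideal `J11` (helper92)
-/

namespace Groth.Agent.Lib.Helper92.Bor

open MvPolynomial W4c1hilbpn Groth.Agent.Lib.Helper92.HilbTgt
  Groth.Agent.Lib.Helper92.HilbTgtDecomp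

universe u

variable {k : Type u} [Field k] {n : ℕ} {u v l : Fin (n + 1)}

open Classical in
/-- Dimension of a graded piece from a family of regions dual to a family of generators. -/
lemma finrank_of_regions (hn : 2 ≤ n) (huv : UV u v) (hl : l ∈ Mid n) (Q P : Fin (n + 1) →₀ ℕ)
    (NNp : ℕ × ℕ × ℕ × ℕ × ℕ → Prop)
    (hNN : ∀ β : Fin (n + 1) →₀ ℕ, (∀ j, 0 ≤ toZ β (dif Q P) j) ↔ NNp (crd u v l β))
    {d : ℕ} (PB : Fin d → ℕ × ℕ × ℕ × ℕ × ℕ → Prop)
    (harith : ∀ a, ∀ x dd g : ℕ × ℕ × ℕ × ℕ × ℕ, D5 dd →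
      g + crd u v l Q = x + dd + crd u v l P → InI5 x → ¬ InI5 g → NNp (x + dd) →
        ((NNp x → (PB a (x + dd) ↔ PB a x)) ∧ (¬ NNp x → ¬ PB a (x + dd))))
    (g : Fin d → (Fin (n + 1) →₀ ℕ)) (hgI : ∀ b, g b ∈ exps (J11 k n))
    (hgood : ∀ b, Good (J11 k n) (dif Q P) (g b))
    (hPB : ∀ a b, PB a (crd u v l (g b)) ↔ a = b)
    (hinj : ∀ ψ ∈ tPiece (J11 k n) (dif Q P), (∀ b, aval ψ (dif Q P) (g b) = 0) → ψ = 0) :
    Module.finrank k ↥(tPiece (J11 k n) (dif Q P)) = d := by
  have hI := isMonomial_J11 (k := k) (n := n)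
  have hval := fun a => admVal_of_arith (k := k) hn huv hl Q P (PB a) NNp hNN (harith a)
  refine finrank_eq_of_dual_family hI g (fun a => PhiV hI (hval a))
    (fun a => PhiV_mem hI (hval a)) ?_ hinj
  intro a b
  rw [aval_PhiV hI (hval a) (hgI b) (hgood b)]
  by_cases hab : a = b
  · rw [if_pos hab, if_pos ((hPB a b).2 hab)]
  · rw [if_neg hab, if_neg (fun h => hab ((hPB a b).1 h))]

/-- Arithmetic criterion for non-goodness. -/
lemma not_good_of_arith (hn : 2 ≤ n) (huv : UV u v) (l : Fin (n + 1)) (Q P : Fin (n + 1) →₀ ℕ)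
    {β : Fin (n + 1) →₀ ℕ}
    (h : (∀ j, 0 ≤ toZ β (dif Q P) j) →
      ∀ g : ℕ × ℕ × ℕ × ℕ × ℕ, g + crd u v l Q = crd u v l β + crd u v l P → InI5 g) :
    ¬ Good (J11 k n) (dif Q P) β := by
  rintro ⟨hnn, hout⟩
  apply hout
  rw [mem_exps_iff_crd hn huv l]
  apply h hnn
  rw [← crd_add, ← crd_add, natPart_dif_add hnn]

/-- Coordinates of a middle variable. -/
lemma crd_s_of_mid (hn : 2 ≤ n) (huv : UV u v) {i : Fin (n + 1)} (hi : i ∈ Mid n) :
    ∃ e : ℕ, e ≤ 1 ∧ crd u v l (s i) = (0, 0, e, 1, 0) := by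
  have h2 := mid_ne_of_uv (by omega) huv hi
  have h3 := mid_ne_last hi
  refine ⟨s i l, ?_, ?_⟩
  · by_cases hil : i = l
    · subst hil
      rw [s_self]
    · rw [s_ne hil]
      omega
  · simp only [crd, s_ne h2.1, s_ne h2.2, s_ne h3, mid_single_of_mem hi]

section F1

lemma nn_F1 (hn : 2 ≤ n) (huv : UV u v) (hl : l ∈ Mid n) (β : Fin (n + 1) →₀ ℕ) :
    (∀ j, 0 ≤ toZ β (dif (s u + s u) (s v + s (Fin.last n))) j) ↔ 2 ≤ (crd u v l β).1 := by
  rw [nn_dif_iff, nn_double_iff, Finsupp.add_apply, s_ne (huv.ne (by omega)).symm,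
    s_ne (huv.ne_last hn).1.symm]
  rfl

/-- The piece of multidegree `e_v + e_last - 2 e_u` is a line. -/
lemma finrank_F1 (hn : 2 ≤ n) (huv : UV u v) (hl : l ∈ Mid n) :
    Module.finrank k ↥(tPiece (J11 k n) (dif (s u + s u) (s v + s (Fin.last n)))) = 1 := by
  have hI := isMonomial_J11 (k := k) (n := n)
  have cu := crd_s_u hn huv hl
  have cv := crd_s_v hn huv hl
  have cl := crd_s_l hn huv hl
  have ct := crd_s_last hn huv hl
  have cQ : crd u v l (s u + s u) = (2, 0, 0, 0, 0) := by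
    rw [crd_add, cu]; rfl
  have cP : crd u v l (s v + s (Fin.last n)) = (0, 1, 0, 0, 1) := by
    rw [crd_add, cv, ct]; rfl
  refine finrank_of_regions (k := k) hn huv hl _ _ (fun x => 2 ≤ x.1) (nn_F1 hn huv hl)
    (fun _ x => x.1 = 2 ∧ x.2.1 = 0 ∧ x.2.2.2.1 = 0) ?_ (fun _ => s u + s u) ?_ ?_ ?_ ?_
  · rintro - ⟨xu, xv, xl, xm, xt⟩ ⟨du, dv, dl, dm, dt⟩ ⟨gu, gv, gl, gm, gt⟩ hd hc h1 h2 h3
    rw [cQ, cP] at hc
    simp only [Prod.mk_add_mk, Prod.mk.injEq] at hc h3 ⊢
    unfold InI5 at h1 h2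
    simp only at h1 h2
    rcases hd with hd | hd | hd | hd | hd <;> simp only [Prod.mk.injEq] at hd <;> omega
  · intro _
    exact G11_subset _ (mem_G11_uu hn huv)
  · intro _
    apply good_of_arith hn huv l
    · rw [nn_F1 hn huv hl, cQ]
    · rintro ⟨gu, gv, gl, gm, gt⟩ hc
      rw [cQ, cP] at hc
      simp only [Prod.mk_add_mk, Prod.mk.injEq] at hc
      unfold InI5
      simp only
      omega
  · intro a b
    rw [cQ]
    simp only [true_and, and_self, true_iff]
    exact Subsingleton.elim a b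
  · intro ψ hψ h0
    apply eq_zero_of_aval_eq_zero hI hψ (G11 n) G11_subset J11_le_span
    intro g hg
    rcases G11_cases hn huv hg with rfl | rfl | rfl | ⟨i, hi, rfl⟩ | ⟨i, hi, rfl⟩
    · exact h0 0
    · apply aval_of_not_good
      intro hg
      have := (nn_F1 hn huv hl _).1 hg.1
      rw [crd_add, cu, cv] at this
      simp only [Prod.mk_add_mk] at this
      omega
    · apply aval_of_not_good
      intro hg
      have := (nn_F1 hn huv hl _).1 hg.1
      rw [crd_add, cv] at this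
      simp only [Prod.mk_add_mk] at this
      omega
    · obtain ⟨e, he, ci⟩ := crd_s_of_mid (l := l) hn huv hi
      apply aval_of_not_good
      intro hg
      have := (nn_F1 hn huv hl _).1 hg.1
      rw [crd_add, cu, ci] at this
      simp only [Prod.mk_add_mk] at this
      omega
    · obtain ⟨e, he, ci⟩ := crd_s_of_mid (l := l) hn huv hi
      apply aval_of_not_good
      intro hg
      have := (nn_F1 hn huv hl _).1 hg.1
      rw [crd_add, cv, ci] at this
      simp only [Prod.mk_add_mk] at this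
      omega

end F1

section F2

lemma nn_F2 (hn : 2 ≤ n) (huv : UV u v) (hl : l ∈ Mid n) (β : Fin (n + 1) →₀ ℕ) :
    (∀ j, 0 ≤ toZ β (dif (s u) (s (Fin.last n))) j) ↔ 1 ≤ (crd u v l β).1 := by
  rw [nn_dif_iff, nn_single_iff, s_ne (huv.ne_last hn).1.symm]
  rfl

/-- The piece of multidegree `e_last - e_u` has dimension three. -/
lemma finrank_F2 (hn : 2 ≤ n) (huv : UV u v) (hl : l ∈ Mid n) :
    Module.finrank k ↥(tPiece (J11 k n) (dif (s u) (s (Fin.last n)))) = 3 := by
  have hI := isMonomial_J11 (k := k) (n := n)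
  have cu := crd_s_u hn huv hl
  have cv := crd_s_v hn huv hl
  have cl := crd_s_l hn huv hl
  have ct := crd_s_last hn huv hl
  have e3 : ∀ m : Fin 3, m = 0 ∨ m = 1 ∨ m = 2 := by decide
  refine finrank_of_regions (k := k) hn huv hl _ _ (fun x => 1 ≤ x.1) (nn_F2 hn huv hl)
    (fun a x => (a.val = 0 ∧ x.1 = 2 ∧ x.2.1 = 0 ∧ x.2.2.2.1 = 0) ∨
      (a.val = 1 ∧ x.1 = 1 ∧ x.2.1 = 1 ∧ x.2.2.2.1 = 0) ∨
      (a.val = 2 ∧ x.1 = 1 ∧ x.2.1 = 0 ∧ 1 ≤ x.2.2.2.1)) ?_
    (fun b => if b.val = 0 then s u + s u else if b.val = 1 then s u + s v else s u + s l)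
    ?_ ?_ ?_ ?_
  · rintro a ⟨xu, xv, xl, xm, xt⟩ ⟨du, dv, dl, dm, dt⟩ ⟨gu, gv, gl, gm, gt⟩ hd hc h1 h2 h3
    rw [cu, ct] at hc
    simp only [Prod.mk_add_mk, Prod.mk.injEq] at hc h3 ⊢
    unfold InI5 at h1 h2
    simp only at h1 h2
    rcases hd with hd | hd | hd | hd | hd <;> simp only [Prod.mk.injEq] at hd <;> omega
  · intro b
    rcases e3 b with rfl | rfl | rfl
    · exact G11_subset _ (mem_G11_uu hn huv)
    · exact G11_subset _ (mem_G11_uv hn huv)
    · exact G11_subset _ (mem_G11_ul hn huv hl)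
  · intro b
    apply good_of_arith hn huv l
    · rw [nn_F2 hn huv hl]
      rcases e3 b with rfl | rfl | rfl
      · show 1 ≤ (crd u v l (s u + s u)).1
        rw [crd_add, cu]
        simp only [Prod.mk_add_mk]
        omega
      · show 1 ≤ (crd u v l (s u + s v)).1
        rw [crd_add, cu, cv]
        simp only [Prod.mk_add_mk]
        omega
      · show 1 ≤ (crd u v l (s u + s l)).1
        rw [crd_add, cu, cl]
        simp only [Prod.mk_add_mk]
        omega
    · rintro ⟨gu, gv, gl, gm, gt⟩ hc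
      rw [cu, ct] at hc
      rcases e3 b with rfl | rfl | rfl
      · have hc' : (gu, gv, gl, gm, gt) + ((1, 0, 0, 0, 0) : ℕ × ℕ × ℕ × ℕ × ℕ) =
            crd u v l (s u + s u) + (0, 0, 0, 0, 1) := hc
        rw [crd_add, cu] at hc'
        simp only [Prod.mk_add_mk, Prod.mk.injEq] at hc'
        unfold InI5
        simp only
        omega
      · have hc' : (gu, gv, gl, gm, gt) + ((1, 0, 0, 0, 0) : ℕ × ℕ × ℕ × ℕ × ℕ) =
            crd u v l (s u + s v) + (0, 0, 0, 0, 1) := hc
        rw [crd_add, cu, cv] at hc'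
        simp only [Prod.mk_add_mk, Prod.mk.injEq] at hc'
        unfold InI5
        simp only
        omega
      · have hc' : (gu, gv, gl, gm, gt) + ((1, 0, 0, 0, 0) : ℕ × ℕ × ℕ × ℕ × ℕ) =
            crd u v l (s u + s l) + (0, 0, 0, 0, 1) := hc
        rw [crd_add, cu, cl] at hc'
        simp only [Prod.mk_add_mk, Prod.mk.injEq] at hc'
        unfold InI5
        simp only
        omega
  · intro a b
    rw [Fin.ext_iff]
    rcases e3 b with rfl | rfl | rfl
    · show _ ∨ _ ∨ _ ↔ a.val = 0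
      have : crd u v l (s u + s u) = (2, 0, 0, 0, 0) := by rw [crd_add, cu]; rfl
      rw [show (if ((0 : Fin 3) : ℕ) = 0 then s u + s u else
        if ((0 : Fin 3) : ℕ) = 1 then s u + s v else s u + s l) = s u + s u from rfl, this]
      simp
    · show _ ∨ _ ∨ _ ↔ a.val = 1
      have : crd u v l (s u + s v) = (1, 1, 0, 0, 0) := by rw [crd_add, cu, cv]; rfl
      rw [show (if ((1 : Fin 3) : ℕ) = 0 then s u + s u else
        if ((1 : Fin 3) : ℕ) = 1 then s u + s v else s u + s l) = s u + s v from rfl, this]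
      simp
    · show _ ∨ _ ∨ _ ↔ a.val = 2
      have : crd u v l (s u + s l) = (1, 0, 1, 1, 0) := by rw [crd_add, cu, cl]; rfl
      rw [show (if ((2 : Fin 3) : ℕ) = 0 then s u + s u else
        if ((2 : Fin 3) : ℕ) = 1 then s u + s v else s u + s l) = s u + s l from rfl, this]
      simp
  · intro ψ hψ h0
    have h00 : aval ψ (dif (s u) (s (Fin.last n))) (s u + s u) = 0 := h0 0
    have h01 : aval ψ (dif (s u) (s (Fin.last n))) (s u + s v) = 0 := h0 1
    have h02 : aval ψ (dif (s u) (s (Fin.last n))) (s u + s l) = 0 := h0 2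
    apply eq_zero_of_aval_eq_zero hI hψ (G11 n) G11_subset J11_le_span
    intro g hg
    rcases G11_cases hn huv hg with rfl | rfl | rfl | ⟨i, hi, rfl⟩ | ⟨i, hi, rfl⟩
    · exact h00
    · exact h01
    · apply aval_of_not_good
      intro hg
      have := (nn_F2 hn huv hl _).1 hg.1
      rw [crd_add, cv] at this
      simp only [Prod.mk_add_mk] at this
      omega
    · obtain ⟨e, he, ci⟩ := crd_s_of_mid (l := l) hn huv hi
      rw [← h02]
      apply aval_eq_of_common hI ψ (G11_subset _ (mem_G11_ul hn huv hi))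
        (G11_subset _ (mem_G11_ul hn huv hl)) (s l) (s i) (add_right_comm _ _ _)
      · apply good_of_arith hn huv l
        · rw [nn_F2 hn huv hl, crd_add, crd_add, cu, ci, cl]
          simp only [Prod.mk_add_mk]
          omega
        · rintro ⟨gu, gv, gl, gm, gt⟩ hc
          rw [crd_add, crd_add, cu, ci, cl, ct] at hc
          simp only [Prod.mk_add_mk, Prod.mk.injEq] at hc
          unfold InI5
          simp only
          omega
      · rw [nn_F2 hn huv hl, crd_add, cu, ci]
        simp only [Prod.mk_add_mk]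
        omega
      · rw [nn_F2 hn huv hl, crd_add, cu, cl]
        simp only [Prod.mk_add_mk]
        omega
    · obtain ⟨e, he, ci⟩ := crd_s_of_mid (l := l) hn huv hi
      apply aval_of_not_good
      intro hg
      have := (nn_F2 hn huv hl _).1 hg.1
      rw [crd_add, cv, ci] at this
      simp only [Prod.mk_add_mk] at this
      omega

end F2

section F3

lemma nn_F3 (hn : 2 ≤ n) (huv : UV u v) (hl : l ∈ Mid n) (β : Fin (n + 1) →₀ ℕ) :
    (∀ j, 0 ≤ toZ β (dif (s u) (s l)) j) ↔ 1 ≤ (crd u v l β).1 := by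
  rw [nn_dif_iff, nn_single_iff, s_ne (mid_ne_of_uv (by omega) huv hl).1]
  rfl

/-- The piece of multidegree `e_l - e_u` is a line. -/
lemma finrank_F3 (hn : 2 ≤ n) (huv : UV u v) (hl : l ∈ Mid n) :
    Module.finrank k ↥(tPiece (J11 k n) (dif (s u) (s l))) = 1 := by
  have hI := isMonomial_J11 (k := k) (n := n)
  have cu := crd_s_u hn huv hl
  have cv := crd_s_v hn huv hl
  have cl := crd_s_l hn huv hl
  have ct := crd_s_last hn huv hl
  have cg : crd u v l (s u + s l) = (1, 0, 1, 1, 0) := by rw [crd_add, cu, cl]; rfl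
  refine finrank_of_regions (k := k) hn huv hl _ _ (fun x => 1 ≤ x.1) (nn_F3 hn huv hl)
    (fun _ x => x.1 = 1 ∧ x.2.1 = 0 ∧ 1 ≤ x.2.2.2.1) ?_ (fun _ => s u + s l) ?_ ?_ ?_ ?_
  · rintro - ⟨xu, xv, xl, xm, xt⟩ ⟨du, dv, dl, dm, dt⟩ ⟨gu, gv, gl, gm, gt⟩ hd hc h1 h2 h3
    rw [cu, cl] at hc
    simp only [Prod.mk_add_mk, Prod.mk.injEq] at hc h3 ⊢
    unfold InI5 at h1 h2
    simp only at h1 h2
    rcases hd with hd | hd | hd | hd | hd <;> simp only [Prod.mk.injEq] at hd <;> omega
  · intro _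
    exact G11_subset _ (mem_G11_ul hn huv hl)
  · intro _
    apply good_of_arith hn huv l
    · rw [nn_F3 hn huv hl, cg]
    · rintro ⟨gu, gv, gl, gm, gt⟩ hc
      rw [cg, cu, cl] at hc
      simp only [Prod.mk_add_mk, Prod.mk.injEq] at hc
      unfold InI5
      simp only
      omega
  · intro a b
    rw [cg]
    simp only [true_and, and_self, true_iff, le_refl]
    exact Subsingleton.elim a b
  · intro ψ hψ h0
    have h00 : aval ψ (dif (s u) (s l)) (s u + s l) = 0 := h0 0
    apply eq_zero_of_aval_eq_zero hI hψ (G11 n) G11_subset J11_le_span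
    intro g hg
    rcases G11_cases hn huv hg with rfl | rfl | rfl | ⟨i, hi, rfl⟩ | ⟨i, hi, rfl⟩
    · apply aval_of_not_good
      apply not_good_of_arith hn huv l
      rintro - ⟨gu, gv, gl, gm, gt⟩ hc
      rw [crd_add, cu, cl] at hc
      simp only [Prod.mk_add_mk, Prod.mk.injEq] at hc
      unfold InI5
      simp only
      omega
    · apply aval_of_not_good
      apply not_good_of_arith hn huv l
      rintro - ⟨gu, gv, gl, gm, gt⟩ hc
      rw [crd_add, cu, cv, cl] at hc
      simp only [Prod.mk_add_mk, Prod.mk.injEq] at hc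
      unfold InI5
      simp only
      omega
    · apply aval_of_not_good
      intro hg
      have := (nn_F3 hn huv hl _).1 hg.1
      rw [crd_add, cv] at this
      simp only [Prod.mk_add_mk] at this
      omega
    · obtain ⟨e, he, ci⟩ := crd_s_of_mid (l := l) hn huv hi
      rw [← h00]
      apply aval_eq_of_common hI ψ (G11_subset _ (mem_G11_ul hn huv hi))
        (G11_subset _ (mem_G11_ul hn huv hl)) (s l) (s i) (add_right_comm _ _ _)
      · apply good_of_arith hn huv l
        · rw [nn_F3 hn huv hl, crd_add, crd_add, cu, ci, cl]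
          simp only [Prod.mk_add_mk]
          omega
        · rintro ⟨gu, gv, gl, gm, gt⟩ hc
          rw [crd_add, crd_add, cu, ci, cl] at hc
          simp only [Prod.mk_add_mk, Prod.mk.injEq] at hc
          unfold InI5
          simp only
          omega
      · rw [nn_F3 hn huv hl, crd_add, cu, ci]
        simp only [Prod.mk_add_mk]
        omega
      · rw [nn_F3 hn huv hl, cg]
    · obtain ⟨e, he, ci⟩ := crd_s_of_mid (l := l) hn huv hi
      apply aval_of_not_good
      intro hg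
      have := (nn_F3 hn huv hl _).1 hg.1
      rw [crd_add, cv, ci] at this
      simp only [Prod.mk_add_mk] at this
      omega

end F3

section F4

lemma nn_F4 (hn : 2 ≤ n) (huv : UV u v) (hl : l ∈ Mid n) (β : Fin (n + 1) →₀ ℕ) :
    (∀ j, 0 ≤ toZ β (dif (s u + s l) (s v + s (Fin.last n))) j) ↔
      1 ≤ (crd u v l β).1 ∧ 1 ≤ (crd u v l β).2.2.1 := by
  have h1 := mid_ne_of_uv (by omega) huv hl
  rw [nn_dif_iff, nn_single_add_iff h1.1.symm, Finsupp.add_apply, Finsupp.add_apply,
    s_ne (huv.ne (by omega)).symm, s_ne (huv.ne_last hn).1.symm, s_ne h1.2.symm,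
    s_ne (mid_ne_last hl).symm]
  rfl

/-- The piece of multidegree `e_v + e_last - e_u - e_l` is a line. -/
lemma finrank_F4 (hn : 2 ≤ n) (huv : UV u v) (hl : l ∈ Mid n) :
    Module.finrank k ↥(tPiece (J11 k n) (dif (s u + s l) (s v + s (Fin.last n)))) = 1 := by
  have hI := isMonomial_J11 (k := k) (n := n)
  have cu := crd_s_u hn huv hl
  have cv := crd_s_v hn huv hl
  have cl := crd_s_l hn huv hl
  have ct := crd_s_last hn huv hl
  have cg : crd u v l (s u + s l) = (1, 0, 1, 1, 0) := by rw [crd_add, cu, cl]; rfl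
  have cP : crd u v l (s v + s (Fin.last n)) = (0, 1, 0, 0, 1) := by
    rw [crd_add, cv, ct]; rfl
  refine finrank_of_regions (k := k) hn huv hl _ _ (fun x => 1 ≤ x.1 ∧ 1 ≤ x.2.2.1)
    (nn_F4 hn huv hl)
    (fun _ x => x.1 = 1 ∧ x.2.1 = 0 ∧ x.2.2.1 = 1 ∧ x.2.2.2.1 = 1) ?_ (fun _ => s u + s l)
    ?_ ?_ ?_ ?_
  · rintro - ⟨xu, xv, xl, xm, xt⟩ ⟨du, dv, dl, dm, dt⟩ ⟨gu, gv, gl, gm, gt⟩ hd hc h1 h2 h3
    rw [cg, cP] at hc
    simp only [Prod.mk_add_mk, Prod.mk.injEq] at hc h3 ⊢
    unfold InI5 at h1 h2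
    simp only at h1 h2
    rcases hd with hd | hd | hd | hd | hd <;> simp only [Prod.mk.injEq] at hd <;> omega
  · intro _
    exact G11_subset _ (mem_G11_ul hn huv hl)
  · intro _
    apply good_of_arith hn huv l
    · rw [nn_F4 hn huv hl, cg]
      exact ⟨le_refl _, le_refl _⟩
    · rintro ⟨gu, gv, gl, gm, gt⟩ hc
      rw [cg, cP] at hc
      simp only [Prod.mk_add_mk, Prod.mk.injEq] at hc
      unfold InI5
      simp only
      omega
  · intro a b
    rw [cg]
    simp only [true_and, and_self, true_iff]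
    exact Subsingleton.elim a b
  · intro ψ hψ h0
    have h00 : aval ψ (dif (s u + s l) (s v + s (Fin.last n))) (s u + s l) = 0 := h0 0
    apply eq_zero_of_aval_eq_zero hI hψ (G11 n) G11_subset J11_le_span
    intro g hg
    rcases G11_cases hn huv hg with rfl | rfl | rfl | ⟨i, hi, rfl⟩ | ⟨i, hi, rfl⟩
    · apply aval_of_not_good
      intro hg
      have := (nn_F4 hn huv hl _).1 hg.1
      rw [crd_add, cu] at this
      simp only [Prod.mk_add_mk] at this
      omega
    · apply aval_of_not_good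
      intro hg
      have := (nn_F4 hn huv hl _).1 hg.1
      rw [crd_add, cu, cv] at this
      simp only [Prod.mk_add_mk] at this
      omega
    · apply aval_of_not_good
      intro hg
      have := (nn_F4 hn huv hl _).1 hg.1
      rw [crd_add, cv] at this
      simp only [Prod.mk_add_mk] at this
      omega
    · by_cases hil : i = l
      · subst hil
        exact h00
      · apply aval_of_not_good
        intro hg
        have := (nn_F4 hn huv hl _).1 hg.1
        rw [crd_add, cu, crd_s_mid hn huv hl hi hil] at this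
        simp only [Prod.mk_add_mk] at this
        omega
    · obtain ⟨e, he, ci⟩ := crd_s_of_mid (l := l) hn huv hi
      apply aval_of_not_good
      intro hg
      have := (nn_F4 hn huv hl _).1 hg.1
      rw [crd_add, cv, ci] at this
      simp only [Prod.mk_add_mk] at this
      omega

end F4

section F7

lemma nn_F7 (hn : 2 ≤ n) (huv : UV u v) (hl : l ∈ Mid n) (β : Fin (n + 1) →₀ ℕ) :
    (∀ j, 0 ≤ toZ β (dif (s l) (s (Fin.last n))) j) ↔ 1 ≤ (crd u v l β).2.2.1 := by
  rw [nn_dif_iff, nn_single_iff, s_ne (mid_ne_last hl).symm]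
  rfl

/-- The piece of multidegree `e_last - e_l` is a plane. -/
lemma finrank_F7 (hn : 2 ≤ n) (hl : l ∈ Mid n) :
    Module.finrank k ↥(tPiece (J11 k n) (dif (s l) (s (Fin.last n)))) = 2 := by
  have hI := isMonomial_J11 (k := k) (n := n)
  have huv : UV (0 : Fin (n + 1)) 1 := Or.inl ⟨rfl, rfl⟩
  have cu := crd_s_u hn huv hl
  have cv := crd_s_v hn huv hl
  have cl := crd_s_l hn huv hl
  have ct := crd_s_last hn huv hl
  have cg0 : crd 0 1 l (s 0 + s l) = (1, 0, 1, 1, 0) := by rw [crd_add, cu, cl]; rfl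
  have cg1 : crd 0 1 l (s 1 + s l) = (0, 1, 1, 1, 0) := by rw [crd_add, cv, cl]; rfl
  have e2 : ∀ m : Fin 2, m = 0 ∨ m = 1 := by decide
  refine finrank_of_regions (k := k) hn huv hl _ _ (fun x => 1 ≤ x.2.2.1) (nn_F7 hn huv hl)
    (fun a x => (a.val = 0 ∧ x.1 = 1 ∧ x.2.1 = 0 ∧ x.2.2.1 = 1 ∧ x.2.2.2.1 = 1) ∨
      (a.val = 1 ∧ x.1 = 0 ∧ x.2.1 = 1 ∧ x.2.2.1 = 1 ∧ x.2.2.2.1 = 1)) ?_
    (fun b => if b.val = 0 then s 0 + s l else s 1 + s l) ?_ ?_ ?_ ?_
  · rintro a ⟨xu, xv, xl, xm, xt⟩ ⟨du, dv, dl, dm, dt⟩ ⟨gu, gv, gl, gm, gt⟩ hd hc h1 h2 h3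
    rw [cl, ct] at hc
    simp only [Prod.mk_add_mk, Prod.mk.injEq] at hc h3 ⊢
    unfold InI5 at h1 h2
    simp only at h1 h2
    rcases hd with hd | hd | hd | hd | hd <;> simp only [Prod.mk.injEq] at hd <;> omega
  · intro b
    rcases e2 b with rfl | rfl
    · exact G11_subset _ (mem_G11_ul hn huv hl)
    · exact G11_subset _ (mem_G11_ul hn huv.symm hl)
  · intro b
    apply good_of_arith hn huv l
    · rw [nn_F7 hn huv hl]
      rcases e2 b with rfl | rfl
      · show 1 ≤ (crd 0 1 l (s 0 + s l)).2.2.1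
        rw [cg0]
      · show 1 ≤ (crd 0 1 l (s 1 + s l)).2.2.1
        rw [cg1]
    · rintro ⟨gu, gv, gl, gm, gt⟩ hc
      rw [cl, ct] at hc
      rcases e2 b with rfl | rfl
      · have hc' : (gu, gv, gl, gm, gt) + ((0, 0, 1, 1, 0) : ℕ × ℕ × ℕ × ℕ × ℕ) =
            crd 0 1 l (s 0 + s l) + (0, 0, 0, 0, 1) := hc
        rw [cg0] at hc'
        simp only [Prod.mk_add_mk, Prod.mk.injEq] at hc'
        unfold InI5
        simp only
        omega
      · have hc' : (gu, gv, gl, gm, gt) + ((0, 0, 1, 1, 0) : ℕ × ℕ × ℕ × ℕ × ℕ) =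
            crd 0 1 l (s 1 + s l) + (0, 0, 0, 0, 1) := hc
        rw [cg1] at hc'
        simp only [Prod.mk_add_mk, Prod.mk.injEq] at hc'
        unfold InI5
        simp only
        omega
  · intro a b
    rw [Fin.ext_iff]
    rcases e2 b with rfl | rfl
    · show _ ∨ _ ↔ a.val = 0
      rw [show (if ((0 : Fin 2) : ℕ) = 0 then s 0 + s l else s 1 + s l) = s 0 + s l from rfl, cg0]
      simp
    · show _ ∨ _ ↔ a.val = 1
      rw [show (if ((1 : Fin 2) : ℕ) = 0 then s 0 + s l else s 1 + s l) = s 1 + s l from rfl, cg1]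
      simp
  · intro ψ hψ h0
    have h00 : aval ψ (dif (s l) (s (Fin.last n))) (s 0 + s l) = 0 := h0 0
    have h01 : aval ψ (dif (s l) (s (Fin.last n))) (s 1 + s l) = 0 := h0 1
    apply eq_zero_of_aval_eq_zero hI hψ (G11 n) G11_subset J11_le_span
    intro g hg
    rcases G11_cases hn huv hg with rfl | rfl | rfl | ⟨i, hi, rfl⟩ | ⟨i, hi, rfl⟩
    · apply aval_of_not_good
      intro hg
      have := (nn_F7 hn huv hl _).1 hg.1
      rw [crd_add, cu] at this
      simp only [Prod.mk_add_mk] at this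
      omega
    · apply aval_of_not_good
      intro hg
      have := (nn_F7 hn huv hl _).1 hg.1
      rw [crd_add, cu, cv] at this
      simp only [Prod.mk_add_mk] at this
      omega
    · apply aval_of_not_good
      intro hg
      have := (nn_F7 hn huv hl _).1 hg.1
      rw [crd_add, cv] at this
      simp only [Prod.mk_add_mk] at this
      omega
    · by_cases hil : i = l
      · subst hil
        exact h00
      · apply aval_of_not_good
        intro hg
        have := (nn_F7 hn huv hl _).1 hg.1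
        rw [crd_add, cu, crd_s_mid hn huv hl hi hil] at this
        simp only [Prod.mk_add_mk] at this
        omega
    · by_cases hil : i = l
      · subst hil
        exact h01
      · apply aval_of_not_good
        intro hg
        have := (nn_F7 hn huv hl _).1 hg.1
        rw [crd_add, cv, crd_s_mid hn huv hl hi hil] at this
        simp only [Prod.mk_add_mk] at this
        omega

end F7

end Groth.Agent.Lib.Helper92.Bor
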