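import Groth.Agent.Lib.Helper92.BorE

set_option linter.unusedSectionVars false
set_option linter.unusedSimpArgs false
set_option linter.unusedVariables false
set_option linter.style.haveILetI false
set_option linter.unnecessarySimpa false
set_option autoImplicit false

/-!
# Classification of the nonzero graded pieces of `T(I)₀` for the ideal `J11` (helper92)
-/

namespace Groth.Agent.Lib.Helper92.Bor

open MvPolynomial W4c1hilbpn Groth.Agent.Lib.Helper92.HilbTgt
  Groth.Agent.Lib.Helper92.HilbTgtDecomp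

universe u

section prelim

variable {m : ℕ}

lemma dif_eq_of_add {g γ Q P : Fin m →₀ ℕ} (h : γ + Q = P + g) : dif g γ = dif Q P := by
  funext j
  have := DFunLike.congr_fun h j
  simp only [Finsupp.add_apply] at this
  simp only [dif]
  omega

lemma sum_natPart {α : Fin m → ℤ} {g : Fin m →₀ ℕ} (hnn : ∀ j, 0 ≤ toZ g α j)
    (hsum : ∑ j, α j = 0) : ∑ j, natPart (toZ g α) j = ∑ j, g j := by
  have : ∑ j, ((natPart (toZ g α) j : ℕ) : ℤ) = ∑ j, ((g j : ℤ) + α j) := by
    refine Finset.sum_congr rfl fun j _ => ?_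
    have := hnn j
    simp only [toZ_apply] at this
    simp only [natPart_apply, toZ_apply]
    omega
  rw [Finset.sum_add_distrib, hsum, add_zero] at this
  exact_mod_cast this

lemma exists_eq_single_of_sum_one {β : Fin m →₀ ℕ} (h : ∑ j, β j = 1) :
    ∃ q, β = Finsupp.single q 1 := by
  have hex : ∃ q, 1 ≤ β q := by
    by_contra hcon
    push Not at hcon
    have : ∑ j, β j = 0 := Finset.sum_eq_zero fun j _ => by have := hcon j; omega
    omega
  obtain ⟨q, hq⟩ := hex
  have h1 := Finset.add_sum_erase Finset.univ (fun j => β j) (Finset.mem_univ q)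
  have h2 : ∑ j ∈ Finset.univ.erase q, β j = 0 := by omega
  rw [Finset.sum_eq_zero_iff] at h2
  refine ⟨q, ?_⟩
  ext j
  by_cases hj : j = q
  · subst hj
    rw [Finsupp.single_eq_same]
    omega
  · rw [Finsupp.single_eq_of_ne hj]
    exact h2 j (Finset.mem_erase.2 ⟨hj, Finset.mem_univ j⟩)

end prelim

variable {k : Type u} [Field k] {n : ℕ} {u v l : Fin (n + 1)}

lemma sum_s (a : Fin (n + 1)) : ∑ j, (s a) j = 1 := by
  simp only [s, Finsupp.single_apply]
  rw [Finset.sum_ite_eq Finset.univ a, if_pos (Finset.mem_univ a)]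

lemma sum_s_add (a b : Fin (n + 1)) : ∑ j, (s a + s b) j = 2 := by
  simp only [Finsupp.add_apply, Finset.sum_add_distrib]
  rw [sum_s, sum_s]

lemma univ_eq (hn : 2 ≤ n) (huv : UV u v) :
    (Finset.univ : Finset (Fin (n + 1))) = insert u (insert v (insert (Fin.last n) (Mid n))) := by
  ext j
  simp only [Finset.mem_univ, Finset.mem_insert, true_iff]
  rcases idx_cases hn j with rfl | rfl | hj | rfl
  · rcases huv with ⟨rfl, rfl⟩ | ⟨rfl, rfl⟩
    · exact Or.inl rfl
    · exact Or.inr (Or.inl rfl)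
  · rcases huv with ⟨rfl, rfl⟩ | ⟨rfl, rfl⟩
    · exact Or.inr (Or.inl rfl)
    · exact Or.inl rfl
  · exact Or.inr (Or.inr (Or.inr hj))
  · exact Or.inr (Or.inr (Or.inl rfl))

lemma sum_eq_crd (hn : 2 ≤ n) (huv : UV u v) (β : Fin (n + 1) →₀ ℕ) :
    ∑ j, β j = β u + β v + mid β + β (Fin.last n) := by
  have h1 := huv.ne (by omega)
  have h2 := huv.ne_last hn
  have h3 := huv.not_mid (by omega)
  rw [univ_eq hn huv, Finset.sum_insert, Finset.sum_insert, Finset.sum_insert last_not_mid]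
  · unfold mid
    omega
  · simp only [Finset.mem_insert, not_or]
    exact ⟨h2.2, h3.2⟩
  · simp only [Finset.mem_insert, not_or]
    exact ⟨h1, h2.1, h3.1⟩

lemma ext_crd (hn : 2 ≤ n) (huv : UV u v) {β β' : Fin (n + 1) →₀ ℕ} (hu : β u = β' u)
    (hv : β v = β' v) (hlast : β (Fin.last n) = β' (Fin.last n))
    (hmid : ∀ j ∈ Mid n, β j = β' j) : β = β' := by
  ext j
  rcases idx_cases hn j with rfl | rfl | hj | rfl
  · rcases huv with ⟨rfl, rfl⟩ | ⟨rfl, rfl⟩
    · exact hu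
    · exact hv
  · rcases huv with ⟨rfl, rfl⟩ | ⟨rfl, rfl⟩
    · exact hv
    · exact hu
  · exact hmid j hj
  · exact hlast

lemma eq_su_slast (hn : 2 ≤ n) (huv : UV u v) {γ : Fin (n + 1) →₀ ℕ} (h1 : γ u = 1)
    (h2 : γ v = 0) (h3 : mid γ = 0) (h4 : γ (Fin.last n) = 1) : γ = s u + s (Fin.last n) := by
  have e1 := huv.ne (by omega)
  have e2 := huv.ne_last hn
  apply ext_crd hn huv
  · rw [Finsupp.add_apply, s_self, s_ne e2.1.symm, h1]
  · rw [Finsupp.add_apply, s_ne e1, s_ne e2.2.symm, h2]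
  · rw [Finsupp.add_apply, s_ne e2.1, s_self, h4]
  · intro j hj
    have := le_mid γ hj
    have e3 := mid_ne_of_uv (by omega) huv hj
    rw [Finsupp.add_apply, s_ne e3.1.symm, s_ne (mid_ne_last hj).symm]
    omega

/-- The multidegrees of the nonzero pieces. -/
def IsFam (n : ℕ) (α : Fin (n + 1) → ℤ) : Prop :=
  ∃ u v : Fin (n + 1), UV u v ∧
    (α = dif (s u + s u) (s v + s (Fin.last n)) ∨ α = dif (s u) (s (Fin.last n)) ∨
      ∃ l ∈ Mid n, α = dif (s u) (s l) ∨ α = dif (s u + s l) (s v + s (Fin.last n)) ∨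
        α = dif (s l) (s (Fin.last n)))

/-- Basic facts on the target of a good generator. -/
lemma facts {α : Fin (n + 1) → ℤ} {g : Fin (n + 1) →₀ ℕ} (hgood : Good (J11 k n) α g)
    (hsum : ∑ j, α j = 0) (hg2 : ∑ j, g j = 2) :
    ∃ γ : Fin (n + 1) →₀ ℕ, γ = natPart (toZ g α) ∧ (∀ j, α j = (γ j : ℤ) - (g j : ℤ)) ∧
      γ ∉ exps (J11 k n) ∧ ∑ j, γ j = 2 := by
  refine ⟨_, rfl, ?_, hgood.2, ?_⟩
  · intro j
    have := hgood.1 j
    simp only [toZ_apply] at this
    simp only [natPart_apply, toZ_apply]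
    omega
  · rw [sum_natPart hgood.1 hsum, hg2]

/-- The killing lemma. -/
lemma kill (φ : Tgt (J11 k n)) {α : Fin (n + 1) → ℤ} {g h δ δ' γ : Fin (n + 1) →₀ ℕ}
    (hγ : γ = natPart (toZ g α)) (hgood : Good (J11 k n) α g) (hg : g ∈ exps (J11 k n))
    (hh : h ∈ exps (J11 k n)) (e : g + δ = h + δ') (hout : γ + δ ∉ exps (J11 k n))
    (hneg : ∃ j, toZ h α j < 0) : aval φ α g = 0 := by
  refine aval_eq_zero_of_common isMonomial_J11 φ hg hh δ δ' e ⟨?_, ?_⟩ hgood.1 hneg
  · intro j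
    exact le_trans (hgood.1 j) (toZ_le_add g δ j)
  · rw [natPart_toZ_add hgood.1, ← hγ]
    exact hout

lemma exists_mid (hn : 3 ≤ n) : ∃ l : Fin (n + 1), l ∈ Mid n := by
  refine ⟨⟨2, by omega⟩, ?_⟩
  rw [mem_Mid]
  simp only
  omega

lemma cls_uu (hn : 3 ≤ n) (huv : UV u v) (φ : Tgt (J11 k n)) {α : Fin (n + 1) → ℤ}
    (hsum : ∑ j, α j = 0) (hgood : Good (J11 k n) α (s u + s u))
    (hav : aval φ α (s u + s u) ≠ 0) : IsFam n α := by
  have hn2 : 2 ≤ n := by omega
  obtain ⟨γ, hγ, hα, hγI, hγ2⟩ := facts hgood hsum (sum_s_add u u)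
  rw [sum_eq_crd hn2 huv] at hγ2
  have hc := hγI
  rw [mem_exps_iff_uv hn2 huv] at hc
  have e1 := huv.ne (by omega)
  have e2 := huv.ne_last hn2
  have hαd : α = dif (s u + s u) γ := by
    funext j
    rw [hα j]
    rfl
  rcases (by omega : (γ u = 1 ∧ γ v = 0 ∧ mid γ = 0 ∧ γ (Fin.last n) = 1) ∨
      (γ u = 0 ∧ γ v = 1 ∧ mid γ = 0 ∧ γ (Fin.last n) = 1) ∨
      (γ u = 0 ∧ γ v = 0 ∧ mid γ + γ (Fin.last n) = 2)) with
    ⟨a1, a2, a3, a4⟩ | ⟨a1, a2, a3, a4⟩ | ⟨a1, a2, a3⟩
  · have hγe := eq_su_slast hn2 huv a1 a2 a3 a4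
    refine ⟨u, v, huv, Or.inr (Or.inl ?_)⟩
    rw [hαd, hγe]
    apply dif_eq_of_add
    abel
  · have hγe := eq_su_slast hn2 huv.symm a2 a1 a3 a4
    refine ⟨u, v, huv, Or.inl ?_⟩
    rw [hαd, hγe]
  · exfalso
    apply hav
    obtain ⟨l, hl⟩ := exists_mid hn
    have e3 := mid_ne_of_uv (by omega) huv hl
    refine kill φ hγ hgood (G11_subset _ (mem_G11_uu hn2 huv))
      (G11_subset _ (mem_G11_ul hn2 huv hl)) (δ := s l) (δ' := s u) (add_right_comm _ _ _) ?_
      ⟨u, ?_⟩
    · rw [mem_exps_iff_uv hn2 huv]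
      simp only [Finsupp.add_apply, s_ne e3.1, s_ne e3.2]
      omega
    · have h1 : (s u + s l) u = 1 := by rw [Finsupp.add_apply, s_self, s_ne e3.1]
      have h2 : (s u + s u) u = 2 := by rw [Finsupp.add_apply, s_self]
      rw [toZ_apply, hα u, h1, h2, a1]
      norm_num

lemma cls_uv (hn : 3 ≤ n) (huv : UV u v) (φ : Tgt (J11 k n)) {α : Fin (n + 1) → ℤ}
    (hsum : ∑ j, α j = 0) (hgood : Good (J11 k n) α (s u + s v))
    (hav : aval φ α (s u + s v) ≠ 0) : IsFam n α := by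
  have hn2 : 2 ≤ n := by omega
  obtain ⟨γ, hγ, hα, hγI, hγ2⟩ := facts hgood hsum (sum_s_add u v)
  rw [sum_eq_crd hn2 huv] at hγ2
  have hc := hγI
  rw [mem_exps_iff_uv hn2 huv] at hc
  have e1 := huv.ne (by omega)
  have e2 := huv.ne_last hn2
  have hαd : α = dif (s u + s v) γ := by
    funext j
    rw [hα j]
    rfl
  rcases (by omega : (γ u = 1 ∧ γ v = 0 ∧ mid γ = 0 ∧ γ (Fin.last n) = 1) ∨
      (γ u = 0 ∧ γ v = 1 ∧ mid γ = 0 ∧ γ (Fin.last n) = 1) ∨
      (γ u = 0 ∧ γ v = 0 ∧ mid γ + γ (Fin.last n) = 2)) with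
    ⟨a1, a2, a3, a4⟩ | ⟨a1, a2, a3, a4⟩ | ⟨a1, a2, a3⟩
  · have hγe := eq_su_slast hn2 huv a1 a2 a3 a4
    refine ⟨v, u, huv.symm, Or.inr (Or.inl ?_)⟩
    rw [hαd, hγe]
    apply dif_eq_of_add
    abel
  · have hγe := eq_su_slast hn2 huv.symm a2 a1 a3 a4
    refine ⟨u, v, huv, Or.inr (Or.inl ?_)⟩
    rw [hαd, hγe]
    apply dif_eq_of_add
    abel
  · exfalso
    apply hav
    obtain ⟨l, hl⟩ := exists_mid hn
    have e3 := mid_ne_of_uv (by omega) huv hl
    refine kill φ hγ hgood (G11_subset _ (mem_G11_uv hn2 huv))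
      (G11_subset _ (mem_G11_ul hn2 huv hl)) (δ := s l) (δ' := s v) (add_right_comm _ _ _) ?_
      ⟨v, ?_⟩
    · rw [mem_exps_iff_uv hn2 huv]
      simp only [Finsupp.add_apply, s_ne e3.1, s_ne e3.2]
      omega
    · have h1 : (s u + s l) v = 0 := by rw [Finsupp.add_apply, s_ne e1, s_ne e3.2]
      have h2 : (s u + s v) v = 1 := by rw [Finsupp.add_apply, s_ne e1, s_self]
      rw [toZ_apply, hα v, h1, h2, a2]
      norm_num

lemma cls_ui (hn : 3 ≤ n) (huv : UV u v) {i : Fin (n + 1)} (hi : i ∈ Mid n)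
    (φ : Tgt (J11 k n)) {α : Fin (n + 1) → ℤ}
    (hsum : ∑ j, α j = 0) (hgood : Good (J11 k n) α (s u + s i))
    (hav : aval φ α (s u + s i) ≠ 0) : IsFam n α := by
  have hn2 : 2 ≤ n := by omega
  obtain ⟨γ, hγ, hα, hγI, hγs⟩ := facts hgood hsum (sum_s_add u i)
  have hγ2 := hγs
  rw [sum_eq_crd hn2 huv] at hγ2
  have hc := hγI
  rw [mem_exps_iff_uv hn2 huv] at hc
  have e1 := huv.ne (by omega)
  have e2 := huv.ne_last hn2
  have e4 := mid_ne_of_uv (by omega) huv hi
  have hαd : α = dif (s u + s i) γ := by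
    funext j
    rw [hα j]
    rfl
  rcases (by omega : (γ u = 1 ∧ γ v = 0 ∧ mid γ = 0 ∧ γ (Fin.last n) = 1) ∨
      (γ u = 0 ∧ γ v = 1 ∧ mid γ = 0 ∧ γ (Fin.last n) = 1) ∨
      (γ u = 0 ∧ γ v = 0 ∧ mid γ + γ (Fin.last n) = 2)) with
    ⟨a1, a2, a3, a4⟩ | ⟨a1, a2, a3, a4⟩ | ⟨a1, a2, a3⟩
  · have hγe := eq_su_slast hn2 huv a1 a2 a3 a4
    refine ⟨u, v, huv, Or.inr (Or.inr ⟨i, hi, Or.inr (Or.inr ?_)⟩)⟩
    rw [hαd, hγe]
    apply dif_eq_of_add
    abel
  · have hγe := eq_su_slast hn2 huv.symm a2 a1 a3 a4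
    refine ⟨u, v, huv, Or.inr (Or.inr ⟨i, hi, Or.inr (Or.inl ?_)⟩)⟩
    rw [hαd, hγe]
  · by_cases hγi : 1 ≤ γ i
    · obtain ⟨γ', hγ'⟩ : ∃ γ', γ = γ' + s i := ⟨γ - s i, by
        ext j
        rw [Finsupp.add_apply, Finsupp.tsub_apply]
        by_cases hj : i = j
        · subst hj
          rw [s_self]
          omega
        · rw [s_ne hj]
          omega⟩
      have hs' : ∑ j, γ' j = 1 := by
        have := hγs
        rw [hγ'] at this
        simp only [Finsupp.add_apply, Finset.sum_add_distrib] at this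
        rw [sum_s] at this
        omega
      obtain ⟨q, hq⟩ := exists_eq_single_of_sum_one hs'
      rw [hq] at hγ'
      have hqu : q ≠ u := by
        intro h
        have := a1
        rw [hγ', Finsupp.add_apply, h, s_self] at this
        omega
      have hqv : q ≠ v := by
        intro h
        have := a2
        rw [hγ', Finsupp.add_apply, h, s_self] at this
        omega
      have hαq : α = dif (s u) (s q) := by
        rw [hαd, hγ']
        apply dif_eq_of_add
        abel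
      have hq' : q ∈ Mid n ∨ q = Fin.last n := by
        rcases idx_cases hn2 q with h | h | h | h
        · rcases huv with ⟨rfl, rfl⟩ | ⟨rfl, rfl⟩
          · exact absurd h hqu
          · exact absurd h hqv
        · rcases huv with ⟨rfl, rfl⟩ | ⟨rfl, rfl⟩
          · exact absurd h hqv
          · exact absurd h hqu
        · exact Or.inl h
        · exact Or.inr h
      rcases hq' with hq' | hq'
      · exact ⟨u, v, huv, Or.inr (Or.inr ⟨q, hq', Or.inl hαq⟩)⟩
      · rw [hq'] at hαq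
        exact ⟨u, v, huv, Or.inr (Or.inl hαq)⟩
    · exfalso
      apply hav
      have hgi : (s u + s i) i = 1 := by rw [Finsupp.add_apply, s_ne e4.1.symm, s_self]
      by_cases hm : 1 ≤ mid γ
      · obtain ⟨p, hp, hγp⟩ := exists_of_mid_pos hm
        have e3 := mid_ne_of_uv (by omega) huv hp
        have hpi : p ≠ i := by
          intro h
          rw [h] at hγp
          exact hγi hγp
        refine kill φ hγ hgood (G11_subset _ (mem_G11_ul hn2 huv hi))
          (G11_subset _ (mem_G11_ul hn2 huv hp)) (δ := s p) (δ' := s i) (add_right_comm _ _ _) ?_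
          ⟨i, ?_⟩
        · rw [mem_exps_iff_uv hn2 huv]
          simp only [Finsupp.add_apply, s_ne e3.1, s_ne e3.2]
          omega
        · have h1 : (s u + s p) i = 0 := by rw [Finsupp.add_apply, s_ne e4.1.symm, s_ne hpi]
          rw [toZ_apply, hα i, h1, hgi]
          have : γ i = 0 := by omega
          rw [this]
          norm_num
      · refine kill φ hγ hgood (G11_subset _ (mem_G11_ul hn2 huv hi))
          (G11_subset _ (mem_G11_uu hn2 huv)) (δ := s u) (δ' := s i) (add_right_comm _ _ _) ?_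
          ⟨i, ?_⟩
        · rw [mem_exps_iff_uv hn2 huv]
          simp only [Finsupp.add_apply, s_self, s_ne e1, mid_add,
            mid_single_of_not_mem (huv.not_mid (by omega)).1]
          omega
        · have h1 : (s u + s u) i = 0 := by rw [Finsupp.add_apply, s_ne e4.1.symm]
          rw [toZ_apply, hα i, h1, hgi]
          have : γ i = 0 := by omega
          rw [this]
          norm_num

end Groth.Agent.Lib.Helper92.Bor
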