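import Groth.Agent.Lib.Helper92.BorF

set_option linter.unusedSectionVars false
set_option linter.unusedSimpArgs false
set_option linter.unusedVariables false
set_option linter.style.haveILetI false
set_option linter.unnecessarySimpa false
set_option autoImplicit false

/-!
# `dim T(I)₀ = 6n - 4` for the ideal `J11` (helper92)
-/

namespace Groth.Agent.Lib.Helper92.Bor

open MvPolynomial W4c1hilbpn Groth.Agent.Lib.Helper92.HilbTgt
  Groth.Agent.Lib.Helper92.HilbTgtDecomp Groth.Agent.Lib.Helper92.HilbTgtPow3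

universe u

variable {k : Type u} [Field k] {n : ℕ}

theorem classify (hn : 3 ≤ n) {α : Fin (n + 1) → ℤ} (hsum : ∑ j, α j = 0)
    (hne : tPiece (J11 k n) α ≠ ⊥) : IsFam n α := by
  have hn2 : 2 ≤ n := by omega
  have hI := isMonomial_J11 (k := k) (n := n)
  obtain ⟨φ, hφ, hφ0⟩ := Submodule.exists_mem_ne_zero_of_ne_bot hne
  by_contra hnot
  apply hφ0
  apply eq_zero_of_aval_eq_zero hI hφ (G11 n) G11_subset J11_le_span
  intro g hg
  by_contra hav
  have hgood : Good (J11 k n) α g := by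
    by_contra h
    exact hav (aval_of_not_good φ h)
  have huv : UV (0 : Fin (n + 1)) 1 := Or.inl ⟨rfl, rfl⟩
  rcases G11_cases hn2 huv hg with rfl | rfl | rfl | ⟨i, hi, rfl⟩ | ⟨i, hi, rfl⟩
  · exact hnot (cls_uu hn huv φ hsum hgood hav)
  · exact hnot (cls_uv hn huv φ hsum hgood hav)
  · exact hnot (cls_uu hn huv.symm φ hsum hgood hav)
  · exact hnot (cls_ui hn huv hi φ hsum hgood hav)
  · exact hnot (cls_ui hn huv.symm hi φ hsum hgood hav)

section index

lemma e2 : ∀ m : Fin 2, m = 0 ∨ m = 1 := by decide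

/-- The index `0` or `1`. -/
def uu (n : ℕ) (b : Fin 2) : Fin (n + 1) := if b.val = 0 then 0 else 1

/-- The other index. -/
def vv (n : ℕ) (b : Fin 2) : Fin (n + 1) := if b.val = 0 then 1 else 0

lemma uv_fin (b : Fin 2) : UV (uu n b) (vv n b) := by
  rcases e2 b with rfl | rfl
  · exact Or.inl ⟨rfl, rfl⟩
  · exact Or.inr ⟨rfl, rfl⟩

lemma exists_fin {u v : Fin (n + 1)} (huv : UV u v) : ∃ b, u = uu n b ∧ v = vv n b := by
  rcases huv with ⟨rfl, rfl⟩ | ⟨rfl, rfl⟩
  · exact ⟨0, rfl, rfl⟩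
  · exact ⟨1, rfl, rfl⟩

/-- The middle indices, parametrized. -/
def mm (n : ℕ) (j : Fin (n - 2)) : Fin (n + 1) := ⟨j.val + 2, by omega⟩

lemma mm_mem (j : Fin (n - 2)) : mm n j ∈ Mid n := by
  rw [mem_Mid]
  simp only [mm]
  omega

lemma exists_mm {l : Fin (n + 1)} (hl : l ∈ Mid n) : ∃ j, mm n j = l := by
  rw [mem_Mid] at hl
  exact ⟨⟨l.val - 2, by omega⟩, Fin.ext (by simp only [mm]; omega)⟩

/-- The index type of the nonzero pieces. -/
abbrev Y (n : ℕ) : Type :=
  Fin 2 ⊕ Fin 2 ⊕ (Fin 2 × Fin (n - 2)) ⊕ (Fin 2 × Fin (n - 2)) ⊕ Fin (n - 2)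

/-- The multidegrees of the nonzero pieces. -/
noncomputable def fam (n : ℕ) : Y n → (Fin (n + 1) → ℤ) :=
  Sum.elim (fun b => dif (s (uu n b) + s (uu n b)) (s (vv n b) + s (Fin.last n)))
    (Sum.elim (fun b => dif (s (uu n b)) (s (Fin.last n)))
      (Sum.elim (fun p => dif (s (uu n p.1)) (s (mm n p.2)))
        (Sum.elim (fun p => dif (s (uu n p.1) + s (mm n p.2)) (s (vv n p.1) + s (Fin.last n)))
          (fun l => dif (s (mm n l)) (s (Fin.last n))))))

/-- The dimensions of the nonzero pieces. -/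
def dims (n : ℕ) : Y n → ℕ :=
  Sum.elim (fun _ => 1) (Sum.elim (fun _ => 3) (Sum.elim (fun _ => 1)
    (Sum.elim (fun _ => 1) (fun _ => 2))))

lemma sum_dims (hn : 3 ≤ n) : ∑ y : Y n, dims n y = 6 * n - 4 := by
  simp only [Fintype.sum_sum_type, dims, Sum.elim_inl, Sum.elim_inr, Finset.sum_const,
    Finset.card_univ, Fintype.card_fin, Fintype.card_prod, smul_eq_mul]
  omega

/-- An integer code separating the multidegrees. -/
def code (n : ℕ) : Y n → ℤ :=
  Sum.elim (fun b => 18 - 9 * (b.val : ℤ))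
    (Sum.elim (fun b => 15 - 3 * (b.val : ℤ))
      (Sum.elim (fun p => 64 * ((p.2.val : ℤ) + 2) - 1 - 3 * (p.1.val : ℤ))
        (Sum.elim (fun p => 19 - 6 * (p.1.val : ℤ) - 64 * ((p.2.val : ℤ) + 2))
          (fun l => 16 - 64 * ((l.val : ℤ) + 2)))))

lemma code_injective : Function.Injective (code n) := by
  intro y y' h
  rcases y with b | b | ⟨b, l⟩ | ⟨b, l⟩ | l <;>
    rcases y' with b' | b' | ⟨b', l'⟩ | ⟨b', l'⟩ | l' <;>
    simp only [code, Sum.elim_inl, Sum.elim_inr] at h <;> first | omega | skip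
  · have hb : b = b' := Fin.ext (by omega)
    rw [hb]
  · have hb : b = b' := Fin.ext (by omega)
    rw [hb]
  · have hb : b = b' := Fin.ext (by omega)
    have hl : l = l' := Fin.ext (by omega)
    rw [hb, hl]
  · have hb : b = b' := Fin.ext (by omega)
    have hl : l = l' := Fin.ext (by omega)
    rw [hb, hl]
  · have hl : l = l' := Fin.ext (by omega)
    rw [hl]

end index

section weights

/-- The weights of the separating functional. -/
def wt (n : ℕ) (j : Fin (n + 1)) : ℤ :=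
  if j = 0 then 1 else if j = 1 then 4 else if j = Fin.last n then 16 else 64 * (j.val : ℤ)

/-- The separating functional. -/
def cfun (n : ℕ) (α : Fin (n + 1) → ℤ) : ℤ := ∑ j, wt n j * α j

lemma sum_wt_s (a : Fin (n + 1)) : ∑ j, wt n j * ((s a j : ℕ) : ℤ) = wt n a := by
  rw [Finset.sum_eq_single a]
  · rw [s_self]
    simp
  · intro b _ hb
    rw [s_ne (Ne.symm hb)]
    simp
  · intro h
    exact absurd (Finset.mem_univ a) h

lemma sum_wt_add (β β' : Fin (n + 1) →₀ ℕ) :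
    ∑ j, wt n j * (((β + β') j : ℕ) : ℤ) =
      ∑ j, wt n j * (β j : ℤ) + ∑ j, wt n j * (β' j : ℤ) := by
  simp only [Finsupp.add_apply, Nat.cast_add, mul_add, Finset.sum_add_distrib]

lemma cfun_dif (Q P : Fin (n + 1) →₀ ℕ) :
    cfun n (dif Q P) = ∑ j, wt n j * (P j : ℤ) - ∑ j, wt n j * (Q j : ℤ) := by
  simp only [cfun, dif, mul_sub, Finset.sum_sub_distrib]

lemma wt_uu (hn : 2 ≤ n) (b : Fin 2) : wt n (uu n b) = 1 + 3 * (b.val : ℤ) := by
  have h01 := zero_ne_one' (n := n) (by omega)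
  rcases e2 b with rfl | rfl
  · show wt n 0 = _
    unfold wt
    rw [if_pos rfl]
    simp
  · show wt n 1 = _
    unfold wt
    rw [if_neg h01.symm, if_pos rfl]
    simp

lemma wt_vv (hn : 2 ≤ n) (b : Fin 2) : wt n (vv n b) = 4 - 3 * (b.val : ℤ) := by
  have h01 := zero_ne_one' (n := n) (by omega)
  rcases e2 b with rfl | rfl
  · show wt n 1 = _
    unfold wt
    rw [if_neg h01.symm, if_pos rfl]
    simp
  · show wt n 0 = _
    unfold wt
    rw [if_pos rfl]
    simp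

lemma wt_last (hn : 2 ≤ n) : wt n (Fin.last n) = 16 := by
  have huv : UV (0 : Fin (n + 1)) 1 := Or.inl ⟨rfl, rfl⟩
  have h := huv.ne_last hn
  unfold wt
  rw [if_neg h.1.symm, if_neg h.2.symm, if_pos rfl]

lemma wt_mm (l : Fin (n - 2)) : wt n (mm n l) = 64 * ((l.val : ℤ) + 2) := by
  have huv : UV (0 : Fin (n + 1)) 1 := Or.inl ⟨rfl, rfl⟩
  have hl := mm_mem l
  have hlt := l.isLt
  have h1 := mid_ne_of_uv (by omega) huv hl
  have h2 := mid_ne_last hl
  unfold wt
  rw [if_neg h1.1, if_neg h1.2, if_neg h2]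
  simp [mm]

lemma cfun_fam (hn : 2 ≤ n) (y : Y n) : cfun n (fam n y) = code n y := by
  rcases y with b | b | ⟨b, l⟩ | ⟨b, l⟩ | l <;>
    simp only [fam, code, Sum.elim_inl, Sum.elim_inr, cfun_dif, sum_wt_add, sum_wt_s, wt_uu hn,
      wt_vv hn, wt_last hn, wt_mm] <;>
    ring

lemma fam_injective (hn : 2 ≤ n) : Function.Injective (fam n) := by
  intro y y' h
  apply code_injective
  rw [← cfun_fam hn, ← cfun_fam hn, h]

end weights

section final

lemma sum_dif (Q P : Fin (n + 1) →₀ ℕ) :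
    ∑ j, dif Q P j = ((∑ j, P j : ℕ) : ℤ) - ((∑ j, Q j : ℕ) : ℤ) := by
  simp only [dif, Finset.sum_sub_distrib, Nat.cast_sum]

lemma sum_fam (y : Y n) : ∑ j, fam n y j = 0 := by
  rcases y with b | b | ⟨b, l⟩ | ⟨b, l⟩ | l <;>
    simp only [fam, Sum.elim_inl, Sum.elim_inr, sum_dif, sum_s, sum_s_add] <;> norm_num

lemma dims_pos (y : Y n) : 0 < dims n y := by
  rcases y with b | b | ⟨b, l⟩ | ⟨b, l⟩ | l <;>
    simp only [dims, Sum.elim_inl, Sum.elim_inr] <;> norm_num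

lemma exists_fam {α : Fin (n + 1) → ℤ} (h : IsFam n α) : ∃ y, fam n y = α := by
  obtain ⟨u, v, huv, h⟩ := h
  obtain ⟨b, rfl, rfl⟩ := exists_fin huv
  rcases h with rfl | rfl | ⟨l, hl, rfl | rfl | rfl⟩
  · exact ⟨Sum.inl b, rfl⟩
  · exact ⟨Sum.inr (Sum.inl b), rfl⟩
  · obtain ⟨j, rfl⟩ := exists_mm hl
    exact ⟨Sum.inr (Sum.inr (Sum.inl (b, j))), rfl⟩
  · obtain ⟨j, rfl⟩ := exists_mm hl
    exact ⟨Sum.inr (Sum.inr (Sum.inr (Sum.inl (b, j)))), rfl⟩
  · obtain ⟨j, rfl⟩ := exists_mm hl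
    exact ⟨Sum.inr (Sum.inr (Sum.inr (Sum.inr j))), rfl⟩

variable (k)

lemma finrank_fam (hn : 3 ≤ n) (y : Y n) :
    Module.finrank k ↥(tPiece (J11 k n) (fam n y)) = dims n y := by
  have hn2 : 2 ≤ n := by omega
  obtain ⟨l₀, hl₀⟩ := exists_mid hn
  rcases y with b | b | ⟨b, l⟩ | ⟨b, l⟩ | l
  · exact finrank_F1 hn2 (uv_fin b) hl₀
  · exact finrank_F2 hn2 (uv_fin b) hl₀
  · exact finrank_F3 hn2 (uv_fin b) (mm_mem l)
  · exact finrank_F4 hn2 (uv_fin b) (mm_mem l)
  · exact finrank_F7 hn2 (mm_mem l)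

/-- The family of pieces of total degree zero. -/
noncomputable def MM (n : ℕ) (α : {α : Fin (n + 1) → ℤ // ∑ i, α i = 0}) :
    Submodule k (Tgt (J11 k n)) := tPiece (J11 k n) α.1

/-- The index map. -/
noncomputable def FF (n : ℕ) (y : Y n) : {α : Fin (n + 1) → ℤ // ∑ i, α i = 0} :=
  ⟨fam n y, sum_fam y⟩

lemma finrank_MM (hn : 3 ≤ n) (y : Y n) : Module.finrank k ↥(MM k n (FF n y)) = dims n y :=
  finrank_fam k hn y

lemma cov_MM (hn : 3 ≤ n) (α : {α : Fin (n + 1) → ℤ // ∑ i, α i = 0}) (hα : MM k n α ≠ ⊥) :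
    ∃ y, FF n y = α := by
  obtain ⟨y, hy⟩ := exists_fam (classify hn α.2 hα)
  exact ⟨y, Subtype.ext hy⟩

lemma finite_MM (hn : 3 ≤ n) (α : {α : Fin (n + 1) → ℤ // ∑ i, α i = 0}) :
    Module.Finite k ↥(MM k n α) := by
  by_cases hα : MM k n α = ⊥
  · rw [hα]
    infer_instance
  · obtain ⟨y, rfl⟩ := cov_MM k hn α hα
    have h : 0 < Module.finrank k ↥(MM k n (FF n y)) := by
      rw [finrank_MM k hn y]
      exact dims_pos y
    exact FiniteDimensional.of_finrank_pos (K := k) (V := ↥(MM k n (FF n y))) h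

/-- `dim T(I)₀ = 6n - 4` for `I = x₀(x₀,…,x_{n-1}) + x₁(x₁,…,x_{n-1})`. -/
theorem finrank_J11 (hn : 3 ≤ n) :
    Module.finrank k ↥(⨆ α : {α : Fin (n + 1) → ℤ // ∑ i, α i = 0}, tPiece (J11 k n) α.1) =
      6 * n - 4 := by
  classical
  have hn2 : 2 ≤ n := by omega
  have hI := isMonomial_J11 (k := k) (n := n)
  have hM : iSupIndep (MM k n) := (iSupIndep_tPiece hI).comp Subtype.val_injective
  have hF : Function.Injective (FF n) :=
    fun y y' h => fam_injective hn2 (congrArg Subtype.val h)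
  have hsup : (⨆ α, MM k n α) = ⨆ y ∈ (Finset.univ : Finset (Y n)), MM k n (FF n y) := by
    apply le_antisymm
    · refine iSup_le fun α => ?_
      by_cases hα : MM k n α = ⊥
      · rw [hα]
        exact bot_le
      · obtain ⟨y, rfl⟩ := cov_MM k hn α hα
        exact le_biSup (fun y => MM k n (FF n y)) (Finset.mem_univ y)
    · exact iSup₂_le fun y _ => le_iSup (MM k n) (FF n y)
  show Module.finrank k ↥(⨆ α, MM k n α) = 6 * n - 4
  rw [hsup, finrank_biSup_comp (MM k n) hM (finite_MM k hn) (FF n) Finset.univ hF.injOn,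
    ← sum_dims hn]
  exact Finset.sum_congr rfl fun y _ => finrank_MM k hn y

end final

end Groth.Agent.Lib.Helper92.Bor
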