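import Groth.Agent.Lib.Helper92.BsA

set_option linter.unusedSectionVars false
set_option linter.unusedSimpArgs false
set_option linter.unusedVariables false
set_option linter.style.haveILetI false
set_option linter.unnecessarySimpa false
set_option autoImplicit false

/-!
# A generic coordinate framework for monomial ideals described by five aggregated coordinates (helper92)

The coordinates are `crd 0 1 l β = (β 0, β 1, β l, mid β, β n)`; membership in the ideal is assumed to be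
described by a predicate `InI` on coordinates.
-/

namespace Groth.Agent.Lib.Helper92.Bq

open MvPolynomial W4c1hilbpn Groth.Agent.Lib.Helper92.HilbTgt
  Groth.Agent.Lib.Helper92.HilbTgtDecomp Groth.Agent.Lib.Helper92.Bor

universe u

variable {k : Type u} [Field k] {n : ℕ} {l : Fin (n + 1)}
  {I : Ideal (MvPolynomial (Fin (n + 1)) k)}

lemma uv01 : UV (0 : Fin (n + 1)) 1 := Or.inl ⟨rfl, rfl⟩

/-- Extraction of the arithmetic content of a step in the region. -/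
lemma extractG (InI : ℕ × ℕ × ℕ × ℕ × ℕ → Prop)
    (hmem : ∀ β : Fin (n + 1) →₀ ℕ, β ∈ exps I ↔ InI (crd 0 1 l β))
    (hn : 2 ≤ n) (hl : l ∈ Mid n) (Q P : Fin (n + 1) →₀ ℕ)
    {β : Fin (n + 1) →₀ ℕ} (hβ : β ∈ exps I) (i : Fin (n + 1))
    (hg : Good I (dif Q P) (β + s i)) :
    ∃ g : ℕ × ℕ × ℕ × ℕ × ℕ, D5 (crd 0 1 l (s i)) ∧
      g + crd 0 1 l Q = crd 0 1 l β + crd 0 1 l (s i) + crd 0 1 l P ∧ InI (crd 0 1 l β) ∧ ¬ InI g := by
  obtain ⟨hnn, hout⟩ := hg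
  refine ⟨crd 0 1 l (natPart (toZ (β + s i) (dif Q P))), crd_s_mem hn uv01 hl i, ?_, ?_, ?_⟩
  · rw [← crd_add, ← crd_add, ← crd_add, natPart_dif_add hnn]
  · exact (hmem β).1 hβ
  · exact fun h => hout ((hmem _).2 h)

/-- Arithmetic criterion for admissibility of an indicator function. -/
lemma admVal_of_arithG (InI : ℕ × ℕ × ℕ × ℕ × ℕ → Prop)
    (hmem : ∀ β : Fin (n + 1) →₀ ℕ, β ∈ exps I ↔ InI (crd 0 1 l β))
    (hn : 2 ≤ n) (hl : l ∈ Mid n) (Q P : Fin (n + 1) →₀ ℕ)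
    (PB NNp : ℕ × ℕ × ℕ × ℕ × ℕ → Prop) [DecidablePred PB]
    (hNN : ∀ β : Fin (n + 1) →₀ ℕ, (∀ j, 0 ≤ toZ β (dif Q P) j) ↔ NNp (crd 0 1 l β))
    (harith : ∀ x d g : ℕ × ℕ × ℕ × ℕ × ℕ, D5 d →
      g + crd 0 1 l Q = x + d + crd 0 1 l P → InI x → ¬ InI g → NNp (x + d) →
        ((NNp x → (PB (x + d) ↔ PB x)) ∧ (¬ NNp x → ¬ PB (x + d)))) :
    AdmVal I (dif Q P) (fun β => if PB (crd 0 1 l β) then (1 : k) else 0) := by
  have := admVal_indicator (k := k) (I := I) (α := dif Q P)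
    (fun β => PB (crd 0 1 l β)) ?_
  · convert this
  · intro β hβ i hg
    obtain ⟨g, hd, hc, h1, h2⟩ := extractG InI hmem hn hl Q P hβ i hg
    have h3 : NNp (crd 0 1 l β + crd 0 1 l (s i)) := by
      rw [← crd_add, ← hNN]
      exact hg.1
    obtain ⟨r1, r2⟩ := harith _ _ g hd hc h1 h2 h3
    constructor
    · intro hnn
      show PB (crd 0 1 l (β + s i)) ↔ PB (crd 0 1 l β)
      rw [crd_add]
      exact r1 ((hNN β).1 hnn)
    · intro hneg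
      show ¬ PB (crd 0 1 l (β + s i))
      rw [crd_add]
      apply r2
      rw [← hNN]
      push Not
      exact hneg

/-- Arithmetic criterion for goodness. -/
lemma good_of_arithG (InI : ℕ × ℕ × ℕ × ℕ × ℕ → Prop)
    (hmem : ∀ β : Fin (n + 1) →₀ ℕ, β ∈ exps I ↔ InI (crd 0 1 l β))
    (Q P : Fin (n + 1) →₀ ℕ)
    {β : Fin (n + 1) →₀ ℕ} (hnn : ∀ j, 0 ≤ toZ β (dif Q P) j)
    (h : ∀ g : ℕ × ℕ × ℕ × ℕ × ℕ, g + crd 0 1 l Q = crd 0 1 l β + crd 0 1 l P → ¬ InI g) :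
    Good I (dif Q P) β := by
  refine ⟨hnn, ?_⟩
  rw [hmem]
  apply h
  rw [← crd_add, ← crd_add, natPart_dif_add hnn]

/-- Arithmetic criterion for non-goodness. -/
lemma not_good_of_arithG (InI : ℕ × ℕ × ℕ × ℕ × ℕ → Prop)
    (hmem : ∀ β : Fin (n + 1) →₀ ℕ, β ∈ exps I ↔ InI (crd 0 1 l β))
    (Q P : Fin (n + 1) →₀ ℕ) {β : Fin (n + 1) →₀ ℕ}
    (h : (∀ j, 0 ≤ toZ β (dif Q P) j) →
      ∀ g : ℕ × ℕ × ℕ × ℕ × ℕ, g + crd 0 1 l Q = crd 0 1 l β + crd 0 1 l P → InI g) :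
    ¬ Good I (dif Q P) β := by
  rintro ⟨hnn, hout⟩
  apply hout
  rw [hmem]
  apply h hnn
  rw [← crd_add, ← crd_add, natPart_dif_add hnn]

open Classical in
/-- Dimension of a graded piece from a family of regions dual to a family of generators. -/
lemma finrank_of_regionsG (hI : IsMonomial I) (InI : ℕ × ℕ × ℕ × ℕ × ℕ → Prop)
    (hmem : ∀ β : Fin (n + 1) →₀ ℕ, β ∈ exps I ↔ InI (crd 0 1 l β))
    (hn : 2 ≤ n) (hl : l ∈ Mid n) (Q P : Fin (n + 1) →₀ ℕ)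
    (NNp : ℕ × ℕ × ℕ × ℕ × ℕ → Prop)
    (hNN : ∀ β : Fin (n + 1) →₀ ℕ, (∀ j, 0 ≤ toZ β (dif Q P) j) ↔ NNp (crd 0 1 l β))
    {d : ℕ} (PB : Fin d → ℕ × ℕ × ℕ × ℕ × ℕ → Prop)
    (harith : ∀ a, ∀ x dd g : ℕ × ℕ × ℕ × ℕ × ℕ, D5 dd →
      g + crd 0 1 l Q = x + dd + crd 0 1 l P → InI x → ¬ InI g → NNp (x + dd) →
        ((NNp x → (PB a (x + dd) ↔ PB a x)) ∧ (¬ NNp x → ¬ PB a (x + dd))))
    (g : Fin d → (Fin (n + 1) →₀ ℕ)) (hgI : ∀ b, g b ∈ exps I)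
    (hgood : ∀ b, Good I (dif Q P) (g b))
    (hPB : ∀ a b, PB a (crd 0 1 l (g b)) ↔ a = b)
    (hinj : ∀ ψ ∈ tPiece I (dif Q P), (∀ b, aval ψ (dif Q P) (g b) = 0) → ψ = 0) :
    Module.finrank k ↥(tPiece I (dif Q P)) = d := by
  have hval := fun a => admVal_of_arithG (k := k) InI hmem hn hl Q P (PB a) NNp hNN (harith a)
  refine finrank_eq_of_dual_family hI g (fun a => PhiV hI (hval a))
    (fun a => PhiV_mem hI (hval a)) ?_ hinj
  intro a b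
  rw [aval_PhiV hI (hval a) (hgI b) (hgood b)]
  by_cases hab : a = b
  · rw [if_pos hab, if_pos ((hPB a b).2 hab)]
  · rw [if_neg hab, if_neg (fun h => hab ((hPB a b).1 h))]

/-- Linking two generators through a common multiple. -/
lemma aval_linkG (hI : IsMonomial I) (InI : ℕ × ℕ × ℕ × ℕ × ℕ → Prop)
    (hmem : ∀ β : Fin (n + 1) →₀ ℕ, β ∈ exps I ↔ InI (crd 0 1 l β))
    (Q P : Fin (n + 1) →₀ ℕ)
    (NNp : ℕ × ℕ × ℕ × ℕ × ℕ → Prop)
    (hNN : ∀ β : Fin (n + 1) →₀ ℕ, (∀ j, 0 ≤ toZ β (dif Q P) j) ↔ NNp (crd 0 1 l β))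
    (ψ : Tgt I) {a b c : Fin (n + 1)} (hg : s a + s b ∈ exps I)
    (hg' : s a + s c ∈ exps I) (h0 : aval ψ (dif Q P) (s a + s c) = 0)
    (hnn : NNp (crd 0 1 l (s a + s b))) (hnn' : NNp (crd 0 1 l (s a + s c)))
    (hnn'' : NNp (crd 0 1 l (s a + s b + s c)))
    (harith : ∀ g : ℕ × ℕ × ℕ × ℕ × ℕ,
      g + crd 0 1 l Q = crd 0 1 l (s a + s b + s c) + crd 0 1 l P → ¬ InI g) :
    aval ψ (dif Q P) (s a + s b) = 0 := by
  rw [← h0]
  exact aval_eq_of_common hI ψ hg hg' (s c) (s b) (add_right_comm _ _ _)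
    (good_of_arithG InI hmem Q P ((hNN _).2 hnn'') harith) ((hNN _).2 hnn) ((hNN _).2 hnn')

/-- Vanishing of a coefficient at a monomial which is not good. -/
lemma aval_ngG (InI : ℕ × ℕ × ℕ × ℕ × ℕ → Prop)
    (hmem : ∀ β : Fin (n + 1) →₀ ℕ, β ∈ exps I ↔ InI (crd 0 1 l β))
    (Q P : Fin (n + 1) →₀ ℕ) (NNp : ℕ × ℕ × ℕ × ℕ × ℕ → Prop)
    (hNN : ∀ β : Fin (n + 1) →₀ ℕ, (∀ j, 0 ≤ toZ β (dif Q P) j) ↔ NNp (crd 0 1 l β))
    (ψ : Tgt I) {β : Fin (n + 1) →₀ ℕ}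
    (h : NNp (crd 0 1 l β) → ∀ g : ℕ × ℕ × ℕ × ℕ × ℕ, g + crd 0 1 l Q = crd 0 1 l β + crd 0 1 l P → InI g) :
    aval ψ (dif Q P) β = 0 :=
  aval_of_not_good ψ (not_good_of_arithG InI hmem Q P (fun hnn => h ((hNN β).1 hnn)))

end Groth.Agent.Lib.Helper92.Bq
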