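import Groth.Agent.Lib.Helper92.BsA

set_option linter.unusedSectionVars false
set_option linter.unusedSimpArgs false
set_option linter.unusedVariables false
set_option linter.style.haveILetI false
set_option linter.unnecessarySimpa false
set_option autoImplicit false

/-!
# The Borel-fixed ideal `x₀(x₀,…,x_{n-1}) + x₁(x₁,…,x_{n-2})`: membership (helper92)
-/

namespace Groth.Agent.Lib.Helper92.Bs

open MvPolynomial W4c1hilbpn Groth.Agent.Lib.Helper92.HilbTgt
  Groth.Agent.Lib.Helper92.HilbTgtDecomp Groth.Agent.Lib.Helper92.Bor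

universe u

section index

variable {n : ℕ}

/-- The middle indices `2, …, n-2`. -/
def Mid2 (n : ℕ) : Finset (Fin (n + 1)) :=
  Finset.univ.filter fun l => 2 ≤ l.val ∧ l.val + 2 ≤ n

lemma mem_Mid2 {l : Fin (n + 1)} : l ∈ Mid2 n ↔ 2 ≤ l.val ∧ l.val + 2 ≤ n := by
  simp [Mid2]

/-- The penultimate index `n - 1`. -/
def pp (n : ℕ) : Fin (n + 1) := ⟨n - 1, by omega⟩

lemma vp : (pp n).val = n - 1 := rfl

lemma v0 : ((0 : Fin (n + 1)) : ℕ) = 0 := rfl

lemma ne_of_val {a b : Fin (n + 1)} (h : a.val ≠ b.val) : a ≠ b := fun e => h (congrArg Fin.val e)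

lemma idx_cases2 (hn : 3 ≤ n) (i : Fin (n + 1)) :
    i = 0 ∨ i = 1 ∨ i ∈ Mid2 n ∨ i = pp n ∨ i = Fin.last n := by
  have h1 := val_one_eq (n := n) (by omega)
  by_cases h0 : i.val = 0
  · left
    exact Fin.ext h0
  · by_cases h1' : i.val = 1
    · right; left
      exact Fin.ext (by rw [h1', h1])
    · by_cases hl : i.val = n
      · right; right; right; right
        exact Fin.ext hl
      · by_cases hp : i.val = n - 1
        · right; right; right; left
          exact Fin.ext hp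
        · right; right; left
          rw [mem_Mid2]
          have := i.2
          omega

/-- The basic inequalities between the special indices. -/
lemma ne_basic (hn : 3 ≤ n) :
    (0 : Fin (n + 1)) ≠ 1 ∧ (0 : Fin (n + 1)) ≠ pp n ∧ (0 : Fin (n + 1)) ≠ Fin.last n ∧
      (1 : Fin (n + 1)) ≠ pp n ∧ (1 : Fin (n + 1)) ≠ Fin.last n ∧ pp n ≠ Fin.last n := by
  have h1 := val_one_eq (n := n) (by omega)
  refine ⟨?_, ?_, ?_, ?_, ?_, ?_⟩ <;> apply ne_of_val <;>
    simp only [v0, h1, vp, Fin.val_last] <;> omega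

lemma mid2_ne (hn : 3 ≤ n) {l : Fin (n + 1)} (hl : l ∈ Mid2 n) :
    l ≠ 0 ∧ l ≠ 1 ∧ l ≠ pp n ∧ l ≠ Fin.last n := by
  have h1 := val_one_eq (n := n) (by omega)
  rw [mem_Mid2] at hl
  refine ⟨?_, ?_, ?_, ?_⟩ <;> apply ne_of_val <;>
    simp only [v0, h1, vp, Fin.val_last] <;> omega

lemma not_mid2 (hn : 3 ≤ n) :
    (0 : Fin (n + 1)) ∉ Mid2 n ∧ (1 : Fin (n + 1)) ∉ Mid2 n ∧ pp n ∉ Mid2 n ∧
      Fin.last n ∉ Mid2 n := by
  have h1 := val_one_eq (n := n) (by omega)
  simp only [mem_Mid2, v0, h1, vp, Fin.val_last]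
  omega

/-- The total middle degree. -/
noncomputable def mid2 (β : Fin (n + 1) →₀ ℕ) : ℕ := ∑ l ∈ Mid2 n, β l

lemma mid2_add (β β' : Fin (n + 1) →₀ ℕ) : mid2 (β + β') = mid2 β + mid2 β' := by
  simp only [mid2, Finsupp.add_apply, Finset.sum_add_distrib]

lemma mid2_single_of_mem {l : Fin (n + 1)} (hl : l ∈ Mid2 n) (c : ℕ) :
    mid2 (Finsupp.single l c) = c := by
  simp only [mid2, Finsupp.single_apply]
  rw [Finset.sum_ite_eq (Mid2 n) l, if_pos hl]

lemma mid2_single_of_not_mem {l : Fin (n + 1)} (hl : l ∉ Mid2 n) (c : ℕ) :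
    mid2 (Finsupp.single l c) = 0 := by
  simp only [mid2, Finsupp.single_apply]
  rw [Finset.sum_ite_eq (Mid2 n) l, if_neg hl]

lemma le_mid2 (β : Fin (n + 1) →₀ ℕ) {l : Fin (n + 1)} (hl : l ∈ Mid2 n) : β l ≤ mid2 β :=
  Finset.single_le_sum (f := fun l => β l) (fun _ _ => Nat.zero_le _) hl

lemma exists_of_mid2_pos {β : Fin (n + 1) →₀ ℕ} (h : 1 ≤ mid2 β) : ∃ l ∈ Mid2 n, 1 ≤ β l := by
  by_contra hcon
  push Not at hcon
  have : mid2 β = 0 := Finset.sum_eq_zero fun l hl => by have := hcon l hl; omega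
  omega

lemma exists_mid2 (hn : 4 ≤ n) : ∃ l : Fin (n + 1), l ∈ Mid2 n := by
  refine ⟨⟨2, by omega⟩, ?_⟩
  rw [mem_Mid2]
  simp only
  omega

end index

section ideal

variable (k : Type u) [Field k] (n : ℕ)

/-- The ideal `x₀(x₀,…,x_{n-1}) + x₁(x₁,…,x_{n-2})`. -/
noncomputable def J21 : Ideal (MvPolynomial (Fin (n + 1)) k) :=
  Ideal.span ({f : MvPolynomial (Fin (n + 1)) k | ∃ i : Fin (n + 1), i.val + 1 ≤ n ∧
      f = MvPolynomial.X 0 * MvPolynomial.X i} ∪
    {f : MvPolynomial (Fin (n + 1)) k | ∃ i : Fin (n + 1), 1 ≤ i.val ∧ i.val ≤ n - 2 ∧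
      f = MvPolynomial.X 1 * MvPolynomial.X i})

/-- The exponents of the generators. -/
def G21 : Set (Fin (n + 1) →₀ ℕ) :=
  {g | ∃ i : Fin (n + 1), i.val + 1 ≤ n ∧ g = s 0 + s i} ∪
    {g | ∃ i : Fin (n + 1), 1 ≤ i.val ∧ i.val ≤ n - 2 ∧ g = s 1 + s i}

lemma J21_eq : J21 k n = Ideal.span ((fun β => monomial β (1 : k)) '' G21 n) := by
  unfold J21 G21
  congr 1
  ext f
  simp only [Set.mem_union, Set.mem_ofPred_eq, Set.mem_image]
  constructor
  · rintro (⟨i, hi, rfl⟩ | ⟨i, h1, h2, rfl⟩)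
    · exact ⟨s 0 + s i, Or.inl ⟨i, hi, rfl⟩, (X_mul_X_eq k n 0 i).symm⟩
    · exact ⟨s 1 + s i, Or.inr ⟨i, h1, h2, rfl⟩, (X_mul_X_eq k n 1 i).symm⟩
  · rintro ⟨g, (⟨i, hi, rfl⟩ | ⟨i, h1, h2, rfl⟩), rfl⟩
    · exact Or.inl ⟨i, hi, (X_mul_X_eq k n 0 i).symm⟩
    · exact Or.inr ⟨i, h1, h2, (X_mul_X_eq k n 1 i).symm⟩

variable {k n}

lemma mem_exps_J21 {β : Fin (n + 1) →₀ ℕ} : β ∈ exps (J21 k n) ↔ ∃ g ∈ G21 n, g ≤ β := by
  classical
  rw [mem_exps, J21_eq, mem_ideal_span_monomial_image]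
  constructor
  · intro h
    exact h β (by rw [mem_support_iff, coeff_monomial, if_pos rfl]; exact one_ne_zero)
  · intro h xi hxi
    rw [mem_support_iff, coeff_monomial] at hxi
    have : β = xi := by
      by_contra hne
      rw [if_neg hne] at hxi
      exact hxi rfl
    rw [← this]
    exact h

lemma isMonomial_J21 : IsMonomial (J21 k n) := by
  intro p hp β hβ
  rw [J21_eq, mem_ideal_span_monomial_image] at hp
  have h := hp β hβ
  show β ∈ exps (J21 k n)
  rw [mem_exps_J21]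
  exact h

lemma G21_subset : ∀ g ∈ G21 n, g ∈ exps (J21 k n) := by
  intro g hg
  rw [mem_exps_J21]
  exact ⟨g, hg, le_refl g⟩

lemma J21_le_span : J21 k n ≤ Ideal.span ((fun β => monomial β (1 : k)) '' G21 n) := by
  rw [J21_eq]

/-- A sum of two singles is below `β`. -/
lemma two_le {β : Fin (n + 1) →₀ ℕ} (a b : Fin (n + 1)) (x y : ℕ) (h1 : a = b → x + y ≤ β a)
    (h2 : a ≠ b → x ≤ β a ∧ y ≤ β b) : Finsupp.single a x + Finsupp.single b y ≤ β := by
  intro j
  rw [Finsupp.add_apply, Finsupp.single_apply, Finsupp.single_apply]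
  by_cases hab : a = b
  · subst hab
    have := h1 rfl
    split_ifs with hj
    · subst hj; exact this
    · omega
  · obtain ⟨p1, p2⟩ := h2 hab
    by_cases hja : a = j
    · subst hja
      rw [if_pos rfl, if_neg (Ne.symm hab)]
      omega
    · by_cases hjb : b = j
      · subst hjb
        rw [if_neg hja, if_pos rfl]
        omega
      · rw [if_neg hja, if_neg hjb]
        omega

/-- Membership in the ideal in terms of aggregated coordinates. -/
lemma mem_exps_iff2 (hn : 3 ≤ n) {β : Fin (n + 1) →₀ ℕ} :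
    β ∈ exps (J21 k n) ↔
      2 ≤ β 0 ∨ (1 ≤ β 0 ∧ 1 ≤ β 1 + mid2 β + β (pp n)) ∨ 2 ≤ β 1 ∨
        (1 ≤ β 1 ∧ 1 ≤ mid2 β) := by
  have h1 := val_one_eq (n := n) (by omega)
  obtain ⟨h01, h0p, h0t, h1p, h1t, hpt⟩ := ne_basic hn
  rw [mem_exps_J21]
  constructor
  · rintro ⟨g, (⟨i, hi, rfl⟩ | ⟨i, hi1, hi2, rfl⟩), hle⟩
    · have e0 := hle 0
      have ei := hle i
      rw [Finsupp.add_apply] at e0 ei
      rcases idx_cases2 hn i with rfl | rfl | hm | rfl | rfl
      · rw [s_self] at e0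
        left; omega
      · rw [s_self, s_ne h01.symm] at e0
        rw [s_ne h01, s_self] at ei
        right; left; omega
      · have hne := mid2_ne hn hm
        rw [s_self, s_ne hne.1] at e0
        rw [s_ne hne.1.symm, s_self] at ei
        have := le_mid2 β hm
        right; left; omega
      · rw [s_self, s_ne h0p.symm] at e0
        rw [s_ne h0p, s_self] at ei
        right; left; omega
      · simp only [Fin.val_last] at hi
        omega
    · have e1 := hle 1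
      have ei := hle i
      rw [Finsupp.add_apply] at e1 ei
      rcases idx_cases2 hn i with rfl | rfl | hm | rfl | rfl
      · simp at hi1
      · rw [s_self] at e1
        right; right; left; omega
      · have hne := mid2_ne hn hm
        rw [s_self, s_ne hne.2.1] at e1
        rw [s_ne hne.2.1.symm, s_self] at ei
        have := le_mid2 β hm
        right; right; right; omega
      · rw [vp] at hi2
        omega
      · simp only [Fin.val_last] at hi2
        omega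
  · rintro (h | ⟨ha, hb⟩ | h | ⟨ha, hb⟩)
    · refine ⟨s 0 + s 0, Or.inl ⟨0, by simp; omega, rfl⟩, ?_⟩
      exact two_le 0 0 1 1 (fun _ => h) (fun hh => absurd rfl hh)
    · by_cases hb1 : 1 ≤ β 1
      · refine ⟨s 0 + s 1, Or.inl ⟨1, by rw [h1]; omega, rfl⟩, ?_⟩
        exact two_le 0 1 1 1 (fun hh => absurd hh h01) (fun _ => ⟨ha, hb1⟩)
      · by_cases hbp : 1 ≤ β (pp n)
        · refine ⟨s 0 + s (pp n), Or.inl ⟨pp n, by rw [vp]; omega, rfl⟩, ?_⟩
          exact two_le 0 (pp n) 1 1 (fun hh => absurd hh h0p) (fun _ => ⟨ha, hbp⟩)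
        · obtain ⟨l, hl, hβl⟩ := exists_of_mid2_pos (β := β) (by omega)
          have hne := mid2_ne hn hl
          have hl' := mem_Mid2.1 hl
          refine ⟨s 0 + s l, Or.inl ⟨l, by omega, rfl⟩, ?_⟩
          exact two_le 0 l 1 1 (fun hh => absurd hh.symm hne.1) (fun _ => ⟨ha, hβl⟩)
    · refine ⟨s 1 + s 1, Or.inr ⟨1, by rw [h1], by rw [h1]; omega, rfl⟩, ?_⟩
      exact two_le 1 1 1 1 (fun _ => h) (fun hh => absurd rfl hh)
    · obtain ⟨l, hl, hβl⟩ := exists_of_mid2_pos hb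
      have hne := mid2_ne hn hl
      have hl' := mem_Mid2.1 hl
      refine ⟨s 1 + s l, Or.inr ⟨l, by omega, by omega, rfl⟩, ?_⟩
      exact two_le 1 l 1 1 (fun hh => absurd hh.symm hne.2.1) (fun _ => ⟨ha, hβl⟩)

end ideal

end Groth.Agent.Lib.Helper92.Bs
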