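import Groth.Agent.Lib.Helper92.BqA
import Groth.Agent.Lib.Helper92.BsB

set_option linter.unusedSectionVars false
set_option linter.unusedSimpArgs false
set_option linter.unusedVariables false
set_option linter.style.haveILetI false
set_option linter.unnecessarySimpa false
set_option autoImplicit false

/-!
# The ideal `x₀(x₀,…,x_{n-1}) + (x₁^q)`: membership (helper92)
-/

namespace Groth.Agent.Lib.Helper92.Bq

open MvPolynomial W4c1hilbpn Groth.Agent.Lib.Helper92.HilbTgt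
  Groth.Agent.Lib.Helper92.HilbTgtDecomp Groth.Agent.Lib.Helper92.Bor

universe u

variable (k : Type u) [Field k] (n q : ℕ)

/-- The ideal `x₀(x₀,…,x_{n-1}) + (x₁^q)`. -/
noncomputable def Jq : Ideal (MvPolynomial (Fin (n + 1)) k) :=
  Ideal.span ({f : MvPolynomial (Fin (n + 1)) k | ∃ i : Fin (n + 1), i.val + 1 ≤ n ∧
      f = MvPolynomial.X 0 * MvPolynomial.X i} ∪ {MvPolynomial.X 1 ^ q})

/-- The exponents of the generators. -/
def Gq : Set (Fin (n + 1) →₀ ℕ) :=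
  {g | ∃ i : Fin (n + 1), i.val + 1 ≤ n ∧ g = s 0 + s i} ∪ {Finsupp.single 1 q}

lemma X_pow_eq (i : Fin (n + 1)) :
    (X i ^ q : MvPolynomial (Fin (n + 1)) k) = monomial (Finsupp.single i q) 1 := by
  rw [X_pow_eq_monomial]

lemma Jq_eq : Jq k n q = Ideal.span ((fun β => monomial β (1 : k)) '' Gq n q) := by
  unfold Jq Gq
  congr 1
  ext f
  simp only [Set.mem_union, Set.mem_ofPred_eq, Set.mem_image, Set.mem_singleton_iff]
  constructor
  · rintro (⟨i, hi, rfl⟩ | rfl)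
    · exact ⟨s 0 + s i, Or.inl ⟨i, hi, rfl⟩, (X_mul_X_eq k n 0 i).symm⟩
    · exact ⟨Finsupp.single 1 q, Or.inr rfl, (X_pow_eq k n q 1).symm⟩
  · rintro ⟨g, (⟨i, hi, rfl⟩ | rfl), rfl⟩
    · exact Or.inl ⟨i, hi, (X_mul_X_eq k n 0 i).symm⟩
    · exact Or.inr (X_pow_eq k n q 1).symm

variable {k n q}

lemma mem_exps_Jq {β : Fin (n + 1) →₀ ℕ} : β ∈ exps (Jq k n q) ↔ ∃ g ∈ Gq n q, g ≤ β := by
  classical
  rw [mem_exps, Jq_eq, mem_ideal_span_monomial_image]
  constructor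
  · intro h
    exact h β (by rw [mem_support_iff, coeff_monomial, if_pos rfl]; exact one_ne_zero)
  · intro h xi hxi
    rw [mem_support_iff, coeff_monomial] at hxi
    have : β = xi := by
      by_contra hne
      rw [if_neg hne] at hxi
      exact hxi rfl
    rw [← this]
    exact h

lemma isMonomial_Jq : IsMonomial (Jq k n q) := by
  intro p hp β hβ
  rw [Jq_eq, mem_ideal_span_monomial_image] at hp
  have h := hp β hβ
  show β ∈ exps (Jq k n q)
  rw [mem_exps_Jq]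
  exact h

lemma Gq_subset : ∀ g ∈ Gq n q, g ∈ exps (Jq k n q) := by
  intro g hg
  rw [mem_exps_Jq]
  exact ⟨g, hg, le_refl g⟩

lemma Jq_le_span : Jq k n q ≤ Ideal.span ((fun β => monomial β (1 : k)) '' Gq n q) := by
  rw [Jq_eq]

/-- Membership in the ideal in terms of aggregated coordinates. -/
lemma mem_exps_iffq (hn : 2 ≤ n) {β : Fin (n + 1) →₀ ℕ} :
    β ∈ exps (Jq k n q) ↔ 2 ≤ β 0 ∨ (1 ≤ β 0 ∧ 1 ≤ β 1 + mid β) ∨ q ≤ β 1 := by
  have h1 := val_one_eq (n := n) (by omega)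
  have h01 := zero_ne_one' (n := n) (by omega)
  rw [mem_exps_Jq]
  constructor
  · rintro ⟨g, (⟨i, hi, rfl⟩ | rfl), hle⟩
    · have e0 := hle 0
      have ei := hle i
      rw [Finsupp.add_apply] at e0 ei
      rcases idx_cases hn i with rfl | rfl | hm | rfl
      · rw [s_self] at e0
        left; omega
      · rw [s_self, s_ne h01.symm] at e0
        rw [s_ne h01, s_self] at ei
        right; left; omega
      · have hne := mid_ne_of_uv (by omega) (Or.inl ⟨rfl, rfl⟩ : UV (0 : Fin (n + 1)) 1) hm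
        rw [s_self, s_ne hne.1] at e0
        rw [s_ne hne.1.symm, s_self] at ei
        have := le_mid β hm
        right; left; omega
      · simp only [Fin.val_last] at hi
        omega
    · have e1 := hle 1
      rw [Finsupp.single_eq_same] at e1
      right; right; exact e1
  · rintro (h | ⟨ha, hb⟩ | h)
    · refine ⟨s 0 + s 0, Or.inl ⟨0, by simp; omega, rfl⟩, ?_⟩
      exact Groth.Agent.Lib.Helper92.Bs.two_le 0 0 1 1 (fun _ => h) (fun hh => absurd rfl hh)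
    · by_cases hb1 : 1 ≤ β 1
      · refine ⟨s 0 + s 1, Or.inl ⟨1, by rw [h1]; omega, rfl⟩, ?_⟩
        exact Groth.Agent.Lib.Helper92.Bs.two_le 0 1 1 1 (fun hh => absurd hh h01) (fun _ => ⟨ha, hb1⟩)
      · obtain ⟨l, hl, hβl⟩ := exists_of_mid_pos (β := β) (by omega)
        have hne := mid_ne_of_uv (by omega) (Or.inl ⟨rfl, rfl⟩ : UV (0 : Fin (n + 1)) 1) hl
        refine ⟨s 0 + s l, Or.inl ⟨l, (mem_Mid.1 hl).2, rfl⟩, ?_⟩
        exact Groth.Agent.Lib.Helper92.Bs.two_le 0 l 1 1 (fun hh => absurd hh.symm hne.1) (fun _ => ⟨ha, hβl⟩)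
    · refine ⟨Finsupp.single 1 q, Or.inr rfl, ?_⟩
      intro j
      by_cases hj : (1 : Fin (n + 1)) = j
      · subst hj
        rw [Finsupp.single_eq_same]
        exact h
      · rw [Finsupp.single_eq_of_ne' hj]
        exact Nat.zero_le _

/-- Membership on coordinates. -/
def InIq (q : ℕ) (x : ℕ × ℕ × ℕ × ℕ × ℕ) : Prop :=
  2 ≤ x.1 ∨ (1 ≤ x.1 ∧ 1 ≤ x.2.1 + x.2.2.2.1) ∨ q ≤ x.2.1

lemma hmemq (hn : 2 ≤ n) (l : Fin (n + 1)) (β : Fin (n + 1) →₀ ℕ) :
    β ∈ exps (Jq k n q) ↔ InIq q (crd 0 1 l β) :=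
  mem_exps_iffq hn

section gens

lemma Gq_cases (hn : 2 ≤ n) {g : Fin (n + 1) →₀ ℕ} (hg : g ∈ Gq n q) :
    g = s 0 + s 0 ∨ g = s 0 + s 1 ∨ (∃ i ∈ Mid n, g = s 0 + s i) ∨ g = Finsupp.single 1 q := by
  rcases hg with ⟨i, hi, rfl⟩ | rfl
  · rcases idx_cases hn i with rfl | rfl | hm | rfl
    · exact Or.inl rfl
    · exact Or.inr (Or.inl rfl)
    · exact Or.inr (Or.inr (Or.inl ⟨i, hm, rfl⟩))
    · simp only [Fin.val_last] at hi
      omega
  · exact Or.inr (Or.inr (Or.inr rfl))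

lemma mem_Gq_00 (hn : 2 ≤ n) : s 0 + s 0 ∈ Gq n q := Or.inl ⟨0, by simp; omega, rfl⟩

lemma mem_Gq_01 (hn : 2 ≤ n) : s 0 + s 1 ∈ Gq n q := by
  have h1 := val_one_eq (n := n) (by omega)
  exact Or.inl ⟨1, by rw [h1]; omega, rfl⟩

lemma mem_Gq_0m (hn : 2 ≤ n) {i : Fin (n + 1)} (hi : i ∈ Mid n) : s 0 + s i ∈ Gq n q :=
  Or.inl ⟨i, (mem_Mid.1 hi).2, rfl⟩

lemma mem_Gq_pow : Finsupp.single 1 q ∈ Gq n q := Or.inr rfl

/-- Coordinates of `x₁^j`. -/
lemma crd_pow (hn : 2 ≤ n) {l : Fin (n + 1)} (hl : l ∈ Mid n) (j : ℕ) :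
    crd 0 1 l (Finsupp.single 1 j) = (0, j, 0, 0, 0) := by
  have h01 := zero_ne_one' (n := n) (by omega)
  have hne := mid_ne_of_uv (by omega) (Or.inl ⟨rfl, rfl⟩ : UV (0 : Fin (n + 1)) 1) hl
  have hnl := (uv01 (n := n)).ne_last hn
  have hnm := (uv01 (n := n)).not_mid (by omega)
  simp only [crd, Finsupp.single_eq_same, Finsupp.single_eq_of_ne' h01.symm,
    Finsupp.single_eq_of_ne' hne.2.symm, Finsupp.single_eq_of_ne' hnl.2,
    mid_single_of_not_mem hnm.2]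

/-- Coordinates of `x_n^j`. -/
lemma crd_lastpow (hn : 2 ≤ n) {l : Fin (n + 1)} (hl : l ∈ Mid n) (j : ℕ) :
    crd 0 1 l (Finsupp.single (Fin.last n) j) = (0, 0, 0, 0, j) := by
  have hnl := (uv01 (n := n)).ne_last hn
  have hml := mid_ne_last hl
  simp only [crd, Finsupp.single_eq_same, Finsupp.single_eq_of_ne' hnl.1.symm,
    Finsupp.single_eq_of_ne' hnl.2.symm, Finsupp.single_eq_of_ne' hml.symm,
    mid_single_of_not_mem last_not_mid]

end gens

end Groth.Agent.Lib.Helper92.Bq
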