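import Groth.Agent.Lib.Helper92.BqB

set_option linter.unusedSectionVars false
set_option linter.unusedSimpArgs false
set_option linter.unusedVariables false
set_option linter.style.haveILetI false
set_option linter.unnecessarySimpa false
set_option autoImplicit false

/-!
# Dimensions of the nonzero graded pieces of `T(I)₀` for the ideal `Jq`, part C (helper92)

(Generated from a table of regions; every arithmetic side condition is discharged by `omega`.)
-/

namespace Groth.Agent.Lib.Helper92.Bq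

open MvPolynomial W4c1hilbpn Groth.Agent.Lib.Helper92.HilbTgt
  Groth.Agent.Lib.Helper92.HilbTgtDecomp Groth.Agent.Lib.Helper92.Bor

universe u

variable {k : Type u} [Field k] {n q : ℕ} {l : Fin (n + 1)}

section famT1

lemma nn_T1 (hn : 2 ≤ n) (hl : l ∈ Mid n) (β : Fin (n + 1) →₀ ℕ) :
    (∀ i', 0 ≤ toZ β (dif (s 0) (s (Fin.last n))) i') ↔ 1 ≤ (crd 0 1 l β).1 := by
  have h01 := zero_ne_one' (n := n) (by omega)
  have hne := mid_ne_of_uv (by omega) (uv01 (n := n)) hl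
  have hnl := (uv01 (n := n)).ne_last hn
  have hml := mid_ne_last hl
  rw [nn_dif_iff, nn_single_iff, s_ne hnl.1.symm]
  rfl

lemma finrank_T1 (hn : 2 ≤ n) (hl : l ∈ Mid n) (hq : 2 ≤ q) :
    Module.finrank k ↥(tPiece (Jq k n q) (dif (s 0) (s (Fin.last n)))) = 2 := by
  have hI := isMonomial_Jq (k := k) (n := n) (q := q)
  have c0 := crd_s_u hn (uv01 (n := n)) hl
  have c1 := crd_s_v hn (uv01 (n := n)) hl
  have cl := crd_s_l hn (uv01 (n := n)) hl
  have ct := crd_s_last hn (uv01 (n := n)) hl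
  have cpw := crd_pow (n := n) hn hl
  have ctp := crd_lastpow (n := n) hn hl
  have eD : ∀ m : Fin 2, m = 0 ∨ m = 1 := by decide
  refine finrank_of_regionsG hI (InIq q) (hmemq hn l) hn hl _ _ (fun x => 1 ≤ x.1) (nn_T1 hn hl)
    (fun a x => (a.val = 0 ∧ x.1 = 1) ∨ (a.val = 1 ∧ x.1 = 2)) ?_
    (fun b => if b.val = 0 then s 0 + s 1 else s 0 + s 0) ?_ ?_ ?_ ?_
  · rintro a ⟨x0, x1, xl, xm, xt⟩ ⟨d0, d1, dl, dm, dt⟩ ⟨g0, g1, gl, gm, gt⟩ hd hc h1 h2 h3
    simp only [crd_add, c0, c1, cl, ct, cpw, ctp] at hc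
    simp only [Prod.mk_add_mk, Prod.mk.injEq] at hc h3 ⊢
    unfold InIq at h1 h2
    simp only at h1 h2
    rcases hd with hd | hd | hd | hd | hd <;> simp only [Prod.mk.injEq] at hd <;> omega
  · intro b
    rcases eD b with rfl | rfl
    · exact Gq_subset _ (mem_Gq_01 hn)
    · exact Gq_subset _ (mem_Gq_00 hn)
  · intro b
    rcases eD b with rfl | rfl
    · apply good_of_arithG (InIq q) (hmemq hn l)
      · rw [nn_T1 hn hl]
        show 1 ≤ (crd 0 1 l (s 0 + s 1)).1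
        simp only [crd_add, c0, c1, cl, ct, cpw, ctp, Prod.mk_add_mk] <;> omega
      · rintro ⟨g0, g1, gl, gm, gt⟩ hc
        have hc' : ((g0, g1, gl, gm, gt) : ℕ × ℕ × ℕ × ℕ × ℕ) + crd 0 1 l (s 0) =
            crd 0 1 l (s 0 + s 1) + crd 0 1 l (s (Fin.last n)) := hc
        simp only [crd_add, c0, c1, cl, ct, cpw, ctp, Prod.mk_add_mk, Prod.mk.injEq] at hc'
        unfold InIq
        simp only
        omega
    · apply good_of_arithG (InIq q) (hmemq hn l)
      · rw [nn_T1 hn hl]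
        show 1 ≤ (crd 0 1 l (s 0 + s 0)).1
        simp only [crd_add, c0, c1, cl, ct, cpw, ctp, Prod.mk_add_mk] <;> omega
      · rintro ⟨g0, g1, gl, gm, gt⟩ hc
        have hc' : ((g0, g1, gl, gm, gt) : ℕ × ℕ × ℕ × ℕ × ℕ) + crd 0 1 l (s 0) =
            crd 0 1 l (s 0 + s 0) + crd 0 1 l (s (Fin.last n)) := hc
        simp only [crd_add, c0, c1, cl, ct, cpw, ctp, Prod.mk_add_mk, Prod.mk.injEq] at hc'
        unfold InIq
        simp only
        omega
  · intro a b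
    rw [Fin.ext_iff]
    rcases eD b with rfl | rfl
    · show (a.val = 0 ∧ (crd 0 1 l (s 0 + s 1)).1 = 1) ∨ (a.val = 1 ∧ (crd 0 1 l (s 0 + s 1)).1 = 2) ↔ a.val = 0
      simp [crd_add, c0, c1, cl, ct, cpw, ctp]
    · show (a.val = 0 ∧ (crd 0 1 l (s 0 + s 0)).1 = 1) ∨ (a.val = 1 ∧ (crd 0 1 l (s 0 + s 0)).1 = 2) ↔ a.val = 1
      simp [crd_add, c0, c1, cl, ct, cpw, ctp]
  · intro ψ hψ h0
    have hd0 : aval ψ (dif (s 0) (s (Fin.last n))) (s 0 + s 1) = 0 := h0 0
    have hd1 : aval ψ (dif (s 0) (s (Fin.last n))) (s 0 + s 0) = 0 := h0 1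
    apply eq_zero_of_aval_eq_zero hI hψ (Gq n q) Gq_subset Jq_le_span
    intro g hg
    rcases Gq_cases hn hg with rfl | rfl | ⟨i, hi, rfl⟩ | rfl
    · exact hd1
    · exact hd0
    · by_cases hil' : l = i
      · subst hil'
        · refine aval_linkG hI (InIq q) (hmemq hn l) _ _ (fun x => 1 ≤ x.1) (nn_T1 hn hl) ψ
            (Gq_subset _ (mem_Gq_0m hn hl)) (Gq_subset _ (mem_Gq_01 hn)) hd0 ?_ ?_ ?_ ?_
          · simp only [crd_add, c0, c1, cl, ct, cpw, ctp, Prod.mk_add_mk] <;> omega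
          · simp only [crd_add, c0, c1, cl, ct, cpw, ctp, Prod.mk_add_mk] <;> omega
          · simp only [crd_add, c0, c1, cl, ct, cpw, ctp, Prod.mk_add_mk] <;> omega
          · rintro ⟨g0, g1, gl, gm, gt⟩ hc
            simp only [crd_add, c0, c1, cl, ct, cpw, ctp, Prod.mk_add_mk, Prod.mk.injEq] at hc
            unfold InIq
            simp only
            omega
      · have hil : i ≠ l := fun h => hil' h.symm
        · refine aval_linkG hI (InIq q) (hmemq hn l) _ _ (fun x => 1 ≤ x.1) (nn_T1 hn hl) ψ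
            (Gq_subset _ (mem_Gq_0m hn hi)) (Gq_subset _ (mem_Gq_01 hn)) hd0 ?_ ?_ ?_ ?_
          · simp only [crd_add, c0, c1, cl, ct, cpw, ctp, crd_s_mid hn (uv01 (n := n)) hl hi hil, Prod.mk_add_mk] <;> omega
          · simp only [crd_add, c0, c1, cl, ct, cpw, ctp, crd_s_mid hn (uv01 (n := n)) hl hi hil, Prod.mk_add_mk] <;> omega
          · simp only [crd_add, c0, c1, cl, ct, cpw, ctp, crd_s_mid hn (uv01 (n := n)) hl hi hil, Prod.mk_add_mk] <;> omega
          · rintro ⟨g0, g1, gl, gm, gt⟩ hc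
            simp only [crd_add, c0, c1, cl, ct, cpw, ctp, crd_s_mid hn (uv01 (n := n)) hl hi hil, Prod.mk_add_mk, Prod.mk.injEq] at hc
            unfold InIq
            simp only
            omega
    · apply aval_ngG (InIq q) (hmemq hn l) _ _ (fun x => 1 ≤ x.1) (nn_T1 hn hl) ψ
      rintro hnn ⟨g0, g1, gl, gm, gt⟩ hc
      simp only [crd_add, c0, c1, cl, ct, cpw, ctp, Prod.mk_add_mk, Prod.mk.injEq] at hnn hc <;>
        (unfold InIq; simp only; omega)

end famT1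

section famT2

lemma nn_T2 (hn : 2 ≤ n) (hl : l ∈ Mid n) (β : Fin (n + 1) →₀ ℕ) :
    (∀ i', 0 ≤ toZ β (dif (s 0) (s 1)) i') ↔ 1 ≤ (crd 0 1 l β).1 := by
  have h01 := zero_ne_one' (n := n) (by omega)
  have hne := mid_ne_of_uv (by omega) (uv01 (n := n)) hl
  have hnl := (uv01 (n := n)).ne_last hn
  have hml := mid_ne_last hl
  rw [nn_dif_iff, nn_single_iff, s_ne h01.symm]
  rfl

lemma finrank_T2 (hn : 2 ≤ n) (hl : l ∈ Mid n) (hq : 2 ≤ q) :
    Module.finrank k ↥(tPiece (Jq k n q) (dif (s 0) (s 1))) = 1 := by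
  have hI := isMonomial_Jq (k := k) (n := n) (q := q)
  have c0 := crd_s_u hn (uv01 (n := n)) hl
  have c1 := crd_s_v hn (uv01 (n := n)) hl
  have cl := crd_s_l hn (uv01 (n := n)) hl
  have ct := crd_s_last hn (uv01 (n := n)) hl
  have cpw := crd_pow (n := n) hn hl
  have ctp := crd_lastpow (n := n) hn hl
  have eD : ∀ m : Fin 1, m = 0 := by decide
  refine finrank_of_regionsG hI (InIq q) (hmemq hn l) hn hl _ _ (fun x => 1 ≤ x.1) (nn_T2 hn hl)
    (fun a x => (a.val = 0 ∧ x.1 = 1)) ?_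
    (fun b => s 0 + s l) ?_ ?_ ?_ ?_
  · rintro a ⟨x0, x1, xl, xm, xt⟩ ⟨d0, d1, dl, dm, dt⟩ ⟨g0, g1, gl, gm, gt⟩ hd hc h1 h2 h3
    simp only [crd_add, c0, c1, cl, ct, cpw, ctp] at hc
    simp only [Prod.mk_add_mk, Prod.mk.injEq] at hc h3 ⊢
    unfold InIq at h1 h2
    simp only at h1 h2
    rcases hd with hd | hd | hd | hd | hd <;> simp only [Prod.mk.injEq] at hd <;> omega
  · intro b
    rcases eD b with rfl
    · exact Gq_subset _ (mem_Gq_0m hn hl)
  · intro b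
    rcases eD b with rfl
    · apply good_of_arithG (InIq q) (hmemq hn l)
      · rw [nn_T2 hn hl]
        show 1 ≤ (crd 0 1 l (s 0 + s l)).1
        simp only [crd_add, c0, c1, cl, ct, cpw, ctp, Prod.mk_add_mk] <;> omega
      · rintro ⟨g0, g1, gl, gm, gt⟩ hc
        have hc' : ((g0, g1, gl, gm, gt) : ℕ × ℕ × ℕ × ℕ × ℕ) + crd 0 1 l (s 0) =
            crd 0 1 l (s 0 + s l) + crd 0 1 l (s 1) := hc
        simp only [crd_add, c0, c1, cl, ct, cpw, ctp, Prod.mk_add_mk, Prod.mk.injEq] at hc'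
        unfold InIq
        simp only
        omega
  · intro a b
    rw [Fin.ext_iff]
    rcases eD b with rfl
    · show (a.val = 0 ∧ (crd 0 1 l (s 0 + s l)).1 = 1) ↔ a.val = 0
      simp [crd_add, c0, c1, cl, ct, cpw, ctp]
  · intro ψ hψ h0
    have hd0 : aval ψ (dif (s 0) (s 1)) (s 0 + s l) = 0 := h0 0
    apply eq_zero_of_aval_eq_zero hI hψ (Gq n q) Gq_subset Jq_le_span
    intro g hg
    rcases Gq_cases hn hg with rfl | rfl | ⟨i, hi, rfl⟩ | rfl
    · apply aval_ngG (InIq q) (hmemq hn l) _ _ (fun x => 1 ≤ x.1) (nn_T2 hn hl) ψ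
      rintro hnn ⟨g0, g1, gl, gm, gt⟩ hc
      simp only [crd_add, c0, c1, cl, ct, cpw, ctp, Prod.mk_add_mk, Prod.mk.injEq] at hnn hc <;>
        (unfold InIq; simp only; omega)
    · by_cases hcond : q ≤ 2
      · apply aval_ngG (InIq q) (hmemq hn l) _ _ (fun x => 1 ≤ x.1) (nn_T2 hn hl) ψ
        rintro hnn ⟨g0, g1, gl, gm, gt⟩ hc
        simp only [crd_add, c0, c1, cl, ct, cpw, ctp, Prod.mk_add_mk, Prod.mk.injEq] at hnn hc <;>
          (unfold InIq; simp only; omega)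
      · refine aval_linkG hI (InIq q) (hmemq hn l) _ _ (fun x => 1 ≤ x.1) (nn_T2 hn hl) ψ
          (Gq_subset _ (mem_Gq_01 hn)) (Gq_subset _ (mem_Gq_0m hn hl)) hd0 ?_ ?_ ?_ ?_
        · simp only [crd_add, c0, c1, cl, ct, cpw, ctp, Prod.mk_add_mk] <;> omega
        · simp only [crd_add, c0, c1, cl, ct, cpw, ctp, Prod.mk_add_mk] <;> omega
        · simp only [crd_add, c0, c1, cl, ct, cpw, ctp, Prod.mk_add_mk] <;> omega
        · rintro ⟨g0, g1, gl, gm, gt⟩ hc
          simp only [crd_add, c0, c1, cl, ct, cpw, ctp, Prod.mk_add_mk, Prod.mk.injEq] at hc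
          unfold InIq
          simp only
          omega
    · by_cases hil' : l = i
      · subst hil'
        · exact hd0
      · have hil : i ≠ l := fun h => hil' h.symm
        · refine aval_linkG hI (InIq q) (hmemq hn l) _ _ (fun x => 1 ≤ x.1) (nn_T2 hn hl) ψ
            (Gq_subset _ (mem_Gq_0m hn hi)) (Gq_subset _ (mem_Gq_0m hn hl)) hd0 ?_ ?_ ?_ ?_
          · simp only [crd_add, c0, c1, cl, ct, cpw, ctp, crd_s_mid hn (uv01 (n := n)) hl hi hil, Prod.mk_add_mk] <;> omega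
          · simp only [crd_add, c0, c1, cl, ct, cpw, ctp, crd_s_mid hn (uv01 (n := n)) hl hi hil, Prod.mk_add_mk] <;> omega
          · simp only [crd_add, c0, c1, cl, ct, cpw, ctp, crd_s_mid hn (uv01 (n := n)) hl hi hil, Prod.mk_add_mk] <;> omega
          · rintro ⟨g0, g1, gl, gm, gt⟩ hc
            simp only [crd_add, c0, c1, cl, ct, cpw, ctp, crd_s_mid hn (uv01 (n := n)) hl hi hil, Prod.mk_add_mk, Prod.mk.injEq] at hc
            unfold InIq
            simp only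
            omega
    · apply aval_ngG (InIq q) (hmemq hn l) _ _ (fun x => 1 ≤ x.1) (nn_T2 hn hl) ψ
      rintro hnn ⟨g0, g1, gl, gm, gt⟩ hc
      simp only [crd_add, c0, c1, cl, ct, cpw, ctp, Prod.mk_add_mk, Prod.mk.injEq] at hnn hc <;>
        (unfold InIq; simp only; omega)

end famT2

section famT3

lemma nn_T3 (hn : 2 ≤ n) (hl : l ∈ Mid n) (β : Fin (n + 1) →₀ ℕ) :
    (∀ i', 0 ≤ toZ β (dif (s 0) (s l)) i') ↔ 1 ≤ (crd 0 1 l β).1 := by
  have h01 := zero_ne_one' (n := n) (by omega)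
  have hne := mid_ne_of_uv (by omega) (uv01 (n := n)) hl
  have hnl := (uv01 (n := n)).ne_last hn
  have hml := mid_ne_last hl
  rw [nn_dif_iff, nn_single_iff, s_ne hne.1]
  rfl

lemma finrank_T3 (hn : 2 ≤ n) (hl : l ∈ Mid n) (hq : 2 ≤ q) :
    Module.finrank k ↥(tPiece (Jq k n q) (dif (s 0) (s l))) = 1 := by
  have hI := isMonomial_Jq (k := k) (n := n) (q := q)
  have c0 := crd_s_u hn (uv01 (n := n)) hl
  have c1 := crd_s_v hn (uv01 (n := n)) hl
  have cl := crd_s_l hn (uv01 (n := n)) hl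
  have ct := crd_s_last hn (uv01 (n := n)) hl
  have cpw := crd_pow (n := n) hn hl
  have ctp := crd_lastpow (n := n) hn hl
  have eD : ∀ m : Fin 1, m = 0 := by decide
  refine finrank_of_regionsG hI (InIq q) (hmemq hn l) hn hl _ _ (fun x => 1 ≤ x.1) (nn_T3 hn hl)
    (fun a x => (a.val = 0 ∧ x.1 = 1)) ?_
    (fun b => s 0 + s 1) ?_ ?_ ?_ ?_
  · rintro a ⟨x0, x1, xl, xm, xt⟩ ⟨d0, d1, dl, dm, dt⟩ ⟨g0, g1, gl, gm, gt⟩ hd hc h1 h2 h3
    simp only [crd_add, c0, c1, cl, ct, cpw, ctp] at hc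
    simp only [Prod.mk_add_mk, Prod.mk.injEq] at hc h3 ⊢
    unfold InIq at h1 h2
    simp only at h1 h2
    rcases hd with hd | hd | hd | hd | hd <;> simp only [Prod.mk.injEq] at hd <;> omega
  · intro b
    rcases eD b with rfl
    · exact Gq_subset _ (mem_Gq_01 hn)
  · intro b
    rcases eD b with rfl
    · apply good_of_arithG (InIq q) (hmemq hn l)
      · rw [nn_T3 hn hl]
        show 1 ≤ (crd 0 1 l (s 0 + s 1)).1
        simp only [crd_add, c0, c1, cl, ct, cpw, ctp, Prod.mk_add_mk] <;> omega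
      · rintro ⟨g0, g1, gl, gm, gt⟩ hc
        have hc' : ((g0, g1, gl, gm, gt) : ℕ × ℕ × ℕ × ℕ × ℕ) + crd 0 1 l (s 0) =
            crd 0 1 l (s 0 + s 1) + crd 0 1 l (s l) := hc
        simp only [crd_add, c0, c1, cl, ct, cpw, ctp, Prod.mk_add_mk, Prod.mk.injEq] at hc'
        unfold InIq
        simp only
        omega
  · intro a b
    rw [Fin.ext_iff]
    rcases eD b with rfl
    · show (a.val = 0 ∧ (crd 0 1 l (s 0 + s 1)).1 = 1) ↔ a.val = 0
      simp [crd_add, c0, c1, cl, ct, cpw, ctp]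
  · intro ψ hψ h0
    have hd0 : aval ψ (dif (s 0) (s l)) (s 0 + s 1) = 0 := h0 0
    apply eq_zero_of_aval_eq_zero hI hψ (Gq n q) Gq_subset Jq_le_span
    intro g hg
    rcases Gq_cases hn hg with rfl | rfl | ⟨i, hi, rfl⟩ | rfl
    · apply aval_ngG (InIq q) (hmemq hn l) _ _ (fun x => 1 ≤ x.1) (nn_T3 hn hl) ψ
      rintro hnn ⟨g0, g1, gl, gm, gt⟩ hc
      simp only [crd_add, c0, c1, cl, ct, cpw, ctp, Prod.mk_add_mk, Prod.mk.injEq] at hnn hc <;>
        (unfold InIq; simp only; omega)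
    · exact hd0
    · by_cases hil' : l = i
      · subst hil'
        · refine aval_linkG hI (InIq q) (hmemq hn l) _ _ (fun x => 1 ≤ x.1) (nn_T3 hn hl) ψ
            (Gq_subset _ (mem_Gq_0m hn hl)) (Gq_subset _ (mem_Gq_01 hn)) hd0 ?_ ?_ ?_ ?_
          · simp only [crd_add, c0, c1, cl, ct, cpw, ctp, Prod.mk_add_mk] <;> omega
          · simp only [crd_add, c0, c1, cl, ct, cpw, ctp, Prod.mk_add_mk] <;> omega
          · simp only [crd_add, c0, c1, cl, ct, cpw, ctp, Prod.mk_add_mk] <;> omega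
          · rintro ⟨g0, g1, gl, gm, gt⟩ hc
            simp only [crd_add, c0, c1, cl, ct, cpw, ctp, Prod.mk_add_mk, Prod.mk.injEq] at hc
            unfold InIq
            simp only
            omega
      · have hil : i ≠ l := fun h => hil' h.symm
        · refine aval_linkG hI (InIq q) (hmemq hn l) _ _ (fun x => 1 ≤ x.1) (nn_T3 hn hl) ψ
            (Gq_subset _ (mem_Gq_0m hn hi)) (Gq_subset _ (mem_Gq_01 hn)) hd0 ?_ ?_ ?_ ?_
          · simp only [crd_add, c0, c1, cl, ct, cpw, ctp, crd_s_mid hn (uv01 (n := n)) hl hi hil, Prod.mk_add_mk] <;> omega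
          · simp only [crd_add, c0, c1, cl, ct, cpw, ctp, crd_s_mid hn (uv01 (n := n)) hl hi hil, Prod.mk_add_mk] <;> omega
          · simp only [crd_add, c0, c1, cl, ct, cpw, ctp, crd_s_mid hn (uv01 (n := n)) hl hi hil, Prod.mk_add_mk] <;> omega
          · rintro ⟨g0, g1, gl, gm, gt⟩ hc
            simp only [crd_add, c0, c1, cl, ct, cpw, ctp, crd_s_mid hn (uv01 (n := n)) hl hi hil, Prod.mk_add_mk, Prod.mk.injEq] at hc
            unfold InIq
            simp only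
            omega
    · apply aval_ngG (InIq q) (hmemq hn l) _ _ (fun x => 1 ≤ x.1) (nn_T3 hn hl) ψ
      rintro hnn ⟨g0, g1, gl, gm, gt⟩ hc
      simp only [crd_add, c0, c1, cl, ct, cpw, ctp, Prod.mk_add_mk, Prod.mk.injEq] at hnn hc <;>
        (unfold InIq; simp only; omega)

end famT3

section famV

lemma nn_V (hn : 2 ≤ n) (hl : l ∈ Mid n) (β : Fin (n + 1) →₀ ℕ) :
    (∀ i', 0 ≤ toZ β (dif (s l) (s (Fin.last n))) i') ↔ 1 ≤ (crd 0 1 l β).2.2.1 := by
  have h01 := zero_ne_one' (n := n) (by omega)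
  have hne := mid_ne_of_uv (by omega) (uv01 (n := n)) hl
  have hnl := (uv01 (n := n)).ne_last hn
  have hml := mid_ne_last hl
  rw [nn_dif_iff, nn_single_iff, s_ne hml.symm]
  rfl

lemma finrank_V (hn : 2 ≤ n) (hl : l ∈ Mid n) (hq : 2 ≤ q) :
    Module.finrank k ↥(tPiece (Jq k n q) (dif (s l) (s (Fin.last n)))) = 1 := by
  have hI := isMonomial_Jq (k := k) (n := n) (q := q)
  have c0 := crd_s_u hn (uv01 (n := n)) hl
  have c1 := crd_s_v hn (uv01 (n := n)) hl
  have cl := crd_s_l hn (uv01 (n := n)) hl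
  have ct := crd_s_last hn (uv01 (n := n)) hl
  have cpw := crd_pow (n := n) hn hl
  have ctp := crd_lastpow (n := n) hn hl
  have eD : ∀ m : Fin 1, m = 0 := by decide
  refine finrank_of_regionsG hI (InIq q) (hmemq hn l) hn hl _ _ (fun x => 1 ≤ x.2.2.1) (nn_V hn hl)
    (fun a x => (a.val = 0 ∧ x.1 = 1)) ?_
    (fun b => s 0 + s l) ?_ ?_ ?_ ?_
  · rintro a ⟨x0, x1, xl, xm, xt⟩ ⟨d0, d1, dl, dm, dt⟩ ⟨g0, g1, gl, gm, gt⟩ hd hc h1 h2 h3
    simp only [crd_add, c0, c1, cl, ct, cpw, ctp] at hc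
    simp only [Prod.mk_add_mk, Prod.mk.injEq] at hc h3 ⊢
    unfold InIq at h1 h2
    simp only at h1 h2
    rcases hd with hd | hd | hd | hd | hd <;> simp only [Prod.mk.injEq] at hd <;> omega
  · intro b
    rcases eD b with rfl
    · exact Gq_subset _ (mem_Gq_0m hn hl)
  · intro b
    rcases eD b with rfl
    · apply good_of_arithG (InIq q) (hmemq hn l)
      · rw [nn_V hn hl]
        show 1 ≤ (crd 0 1 l (s 0 + s l)).2.2.1
        simp only [crd_add, c0, c1, cl, ct, cpw, ctp, Prod.mk_add_mk] <;> omega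
      · rintro ⟨g0, g1, gl, gm, gt⟩ hc
        have hc' : ((g0, g1, gl, gm, gt) : ℕ × ℕ × ℕ × ℕ × ℕ) + crd 0 1 l (s l) =
            crd 0 1 l (s 0 + s l) + crd 0 1 l (s (Fin.last n)) := hc
        simp only [crd_add, c0, c1, cl, ct, cpw, ctp, Prod.mk_add_mk, Prod.mk.injEq] at hc'
        unfold InIq
        simp only
        omega
  · intro a b
    rw [Fin.ext_iff]
    rcases eD b with rfl
    · show (a.val = 0 ∧ (crd 0 1 l (s 0 + s l)).1 = 1) ↔ a.val = 0
      simp [crd_add, c0, c1, cl, ct, cpw, ctp]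
  · intro ψ hψ h0
    have hd0 : aval ψ (dif (s l) (s (Fin.last n))) (s 0 + s l) = 0 := h0 0
    apply eq_zero_of_aval_eq_zero hI hψ (Gq n q) Gq_subset Jq_le_span
    intro g hg
    rcases Gq_cases hn hg with rfl | rfl | ⟨i, hi, rfl⟩ | rfl
    · apply aval_ngG (InIq q) (hmemq hn l) _ _ (fun x => 1 ≤ x.2.2.1) (nn_V hn hl) ψ
      rintro hnn ⟨g0, g1, gl, gm, gt⟩ hc
      simp only [crd_add, c0, c1, cl, ct, cpw, ctp, Prod.mk_add_mk, Prod.mk.injEq] at hnn hc <;>
        (unfold InIq; simp only; omega)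
    · apply aval_ngG (InIq q) (hmemq hn l) _ _ (fun x => 1 ≤ x.2.2.1) (nn_V hn hl) ψ
      rintro hnn ⟨g0, g1, gl, gm, gt⟩ hc
      simp only [crd_add, c0, c1, cl, ct, cpw, ctp, Prod.mk_add_mk, Prod.mk.injEq] at hnn hc <;>
        (unfold InIq; simp only; omega)
    · by_cases hil' : l = i
      · subst hil'
        · exact hd0
      · have hil : i ≠ l := fun h => hil' h.symm
        · apply aval_ngG (InIq q) (hmemq hn l) _ _ (fun x => 1 ≤ x.2.2.1) (nn_V hn hl) ψ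
          rintro hnn ⟨g0, g1, gl, gm, gt⟩ hc
          simp only [crd_add, c0, c1, cl, ct, cpw, ctp, crd_s_mid hn (uv01 (n := n)) hl hi hil, Prod.mk_add_mk, Prod.mk.injEq] at hnn hc <;>
            (unfold InIq; simp only; omega)
    · apply aval_ngG (InIq q) (hmemq hn l) _ _ (fun x => 1 ≤ x.2.2.1) (nn_V hn hl) ψ
      rintro hnn ⟨g0, g1, gl, gm, gt⟩ hc
      simp only [crd_add, c0, c1, cl, ct, cpw, ctp, Prod.mk_add_mk, Prod.mk.injEq] at hnn hc <;>
        (unfold InIq; simp only; omega)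

end famV

section famU1

lemma nn_U1 (hn : 2 ≤ n) (hl : l ∈ Mid n) (β : Fin (n + 1) →₀ ℕ) :
    (∀ i', 0 ≤ toZ β (dif (Finsupp.single 1 q) (s 0 + Finsupp.single (Fin.last n) (q - 1))) i') ↔ q ≤ (crd 0 1 l β).2.1 := by
  have h01 := zero_ne_one' (n := n) (by omega)
  have hne := mid_ne_of_uv (by omega) (uv01 (n := n)) hl
  have hnl := (uv01 (n := n)).ne_last hn
  have hml := mid_ne_last hl
  rw [nn_dif_iff, nn_single_iff, Finsupp.add_apply, s_ne h01, Finsupp.single_eq_of_ne' hnl.2.symm]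
  rfl

lemma finrank_U1 (hn : 2 ≤ n) (hl : l ∈ Mid n) (hq : 2 ≤ q) :
    Module.finrank k ↥(tPiece (Jq k n q) (dif (Finsupp.single 1 q) (s 0 + Finsupp.single (Fin.last n) (q - 1)))) = 1 := by
  have hI := isMonomial_Jq (k := k) (n := n) (q := q)
  have c0 := crd_s_u hn (uv01 (n := n)) hl
  have c1 := crd_s_v hn (uv01 (n := n)) hl
  have cl := crd_s_l hn (uv01 (n := n)) hl
  have ct := crd_s_last hn (uv01 (n := n)) hl
  have cpw := crd_pow (n := n) hn hl
  have ctp := crd_lastpow (n := n) hn hl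
  have eD : ∀ m : Fin 1, m = 0 := by decide
  refine finrank_of_regionsG hI (InIq q) (hmemq hn l) hn hl _ _ (fun x => q ≤ x.2.1) (nn_U1 hn hl)
    (fun a x => (a.val = 0 ∧ x.1 = 0)) ?_
    (fun b => Finsupp.single 1 q) ?_ ?_ ?_ ?_
  · rintro a ⟨x0, x1, xl, xm, xt⟩ ⟨d0, d1, dl, dm, dt⟩ ⟨g0, g1, gl, gm, gt⟩ hd hc h1 h2 h3
    simp only [crd_add, c0, c1, cl, ct, cpw, ctp] at hc
    simp only [Prod.mk_add_mk, Prod.mk.injEq] at hc h3 ⊢
    unfold InIq at h1 h2
    simp only at h1 h2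
    rcases hd with hd | hd | hd | hd | hd <;> simp only [Prod.mk.injEq] at hd <;> omega
  · intro b
    rcases eD b with rfl
    · exact Gq_subset _ (mem_Gq_pow)
  · intro b
    rcases eD b with rfl
    · apply good_of_arithG (InIq q) (hmemq hn l)
      · rw [nn_U1 hn hl]
        show q ≤ (crd 0 1 l (Finsupp.single 1 q)).2.1
        simp only [crd_add, c0, c1, cl, ct, cpw, ctp, Prod.mk_add_mk] <;> omega
      · rintro ⟨g0, g1, gl, gm, gt⟩ hc
        have hc' : ((g0, g1, gl, gm, gt) : ℕ × ℕ × ℕ × ℕ × ℕ) + crd 0 1 l (Finsupp.single 1 q) =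
            crd 0 1 l (Finsupp.single 1 q) + crd 0 1 l (s 0 + Finsupp.single (Fin.last n) (q - 1)) := hc
        simp only [crd_add, c0, c1, cl, ct, cpw, ctp, Prod.mk_add_mk, Prod.mk.injEq] at hc'
        unfold InIq
        simp only
        omega
  · intro a b
    rw [Fin.ext_iff]
    rcases eD b with rfl
    · show (a.val = 0 ∧ (crd 0 1 l (Finsupp.single 1 q)).1 = 0) ↔ a.val = 0
      simp [crd_add, c0, c1, cl, ct, cpw, ctp]
  · intro ψ hψ h0
    have hd0 : aval ψ (dif (Finsupp.single 1 q) (s 0 + Finsupp.single (Fin.last n) (q - 1))) (Finsupp.single 1 q) = 0 := h0 0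
    apply eq_zero_of_aval_eq_zero hI hψ (Gq n q) Gq_subset Jq_le_span
    intro g hg
    rcases Gq_cases hn hg with rfl | rfl | ⟨i, hi, rfl⟩ | rfl
    · apply aval_ngG (InIq q) (hmemq hn l) _ _ (fun x => q ≤ x.2.1) (nn_U1 hn hl) ψ
      rintro hnn ⟨g0, g1, gl, gm, gt⟩ hc
      simp only [crd_add, c0, c1, cl, ct, cpw, ctp, Prod.mk_add_mk, Prod.mk.injEq] at hnn hc <;>
        (unfold InIq; simp only; omega)
    · apply aval_ngG (InIq q) (hmemq hn l) _ _ (fun x => q ≤ x.2.1) (nn_U1 hn hl) ψ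
      rintro hnn ⟨g0, g1, gl, gm, gt⟩ hc
      simp only [crd_add, c0, c1, cl, ct, cpw, ctp, Prod.mk_add_mk, Prod.mk.injEq] at hnn hc <;>
        (unfold InIq; simp only; omega)
    · by_cases hil' : l = i
      · subst hil'
        · apply aval_ngG (InIq q) (hmemq hn l) _ _ (fun x => q ≤ x.2.1) (nn_U1 hn hl) ψ
          rintro hnn ⟨g0, g1, gl, gm, gt⟩ hc
          simp only [crd_add, c0, c1, cl, ct, cpw, ctp, Prod.mk_add_mk, Prod.mk.injEq] at hnn hc <;>
            (unfold InIq; simp only; omega)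
      · have hil : i ≠ l := fun h => hil' h.symm
        · apply aval_ngG (InIq q) (hmemq hn l) _ _ (fun x => q ≤ x.2.1) (nn_U1 hn hl) ψ
          rintro hnn ⟨g0, g1, gl, gm, gt⟩ hc
          simp only [crd_add, c0, c1, cl, ct, cpw, ctp, crd_s_mid hn (uv01 (n := n)) hl hi hil, Prod.mk_add_mk, Prod.mk.injEq] at hnn hc <;>
            (unfold InIq; simp only; omega)
    · exact hd0

end famU1

section famW

lemma nn_W (hn : 2 ≤ n) (hl : l ∈ Mid n) (β : Fin (n + 1) →₀ ℕ) :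
    (∀ i', 0 ≤ toZ β (dif (s 1) (s (Fin.last n))) i') ↔ 1 ≤ (crd 0 1 l β).2.1 := by
  have h01 := zero_ne_one' (n := n) (by omega)
  have hne := mid_ne_of_uv (by omega) (uv01 (n := n)) hl
  have hnl := (uv01 (n := n)).ne_last hn
  have hml := mid_ne_last hl
  rw [nn_dif_iff, nn_single_iff, s_ne hnl.2.symm]
  rfl

lemma finrank_W (hn : 2 ≤ n) (hl : l ∈ Mid n) (hq : 2 ≤ q) :
    Module.finrank k ↥(tPiece (Jq k n q) (dif (s 1) (s (Fin.last n)))) = 2 := by
  have hI := isMonomial_Jq (k := k) (n := n) (q := q)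
  have c0 := crd_s_u hn (uv01 (n := n)) hl
  have c1 := crd_s_v hn (uv01 (n := n)) hl
  have cl := crd_s_l hn (uv01 (n := n)) hl
  have ct := crd_s_last hn (uv01 (n := n)) hl
  have cpw := crd_pow (n := n) hn hl
  have ctp := crd_lastpow (n := n) hn hl
  have eD : ∀ m : Fin 2, m = 0 ∨ m = 1 := by decide
  refine finrank_of_regionsG hI (InIq q) (hmemq hn l) hn hl _ _ (fun x => 1 ≤ x.2.1) (nn_W hn hl)
    (fun a x => (a.val = 0 ∧ x.1 = 0) ∨ (a.val = 1 ∧ x.1 = 1)) ?_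
    (fun b => if b.val = 0 then Finsupp.single 1 q else s 0 + s 1) ?_ ?_ ?_ ?_
  · rintro a ⟨x0, x1, xl, xm, xt⟩ ⟨d0, d1, dl, dm, dt⟩ ⟨g0, g1, gl, gm, gt⟩ hd hc h1 h2 h3
    simp only [crd_add, c0, c1, cl, ct, cpw, ctp] at hc
    simp only [Prod.mk_add_mk, Prod.mk.injEq] at hc h3 ⊢
    unfold InIq at h1 h2
    simp only at h1 h2
    rcases hd with hd | hd | hd | hd | hd <;> simp only [Prod.mk.injEq] at hd <;> omega
  · intro b
    rcases eD b with rfl | rfl
    · exact Gq_subset _ (mem_Gq_pow)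
    · exact Gq_subset _ (mem_Gq_01 hn)
  · intro b
    rcases eD b with rfl | rfl
    · apply good_of_arithG (InIq q) (hmemq hn l)
      · rw [nn_W hn hl]
        show 1 ≤ (crd 0 1 l (Finsupp.single 1 q)).2.1
        simp only [crd_add, c0, c1, cl, ct, cpw, ctp, Prod.mk_add_mk] <;> omega
      · rintro ⟨g0, g1, gl, gm, gt⟩ hc
        have hc' : ((g0, g1, gl, gm, gt) : ℕ × ℕ × ℕ × ℕ × ℕ) + crd 0 1 l (s 1) =
            crd 0 1 l (Finsupp.single 1 q) + crd 0 1 l (s (Fin.last n)) := hc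
        simp only [crd_add, c0, c1, cl, ct, cpw, ctp, Prod.mk_add_mk, Prod.mk.injEq] at hc'
        unfold InIq
        simp only
        omega
    · apply good_of_arithG (InIq q) (hmemq hn l)
      · rw [nn_W hn hl]
        show 1 ≤ (crd 0 1 l (s 0 + s 1)).2.1
        simp only [crd_add, c0, c1, cl, ct, cpw, ctp, Prod.mk_add_mk] <;> omega
      · rintro ⟨g0, g1, gl, gm, gt⟩ hc
        have hc' : ((g0, g1, gl, gm, gt) : ℕ × ℕ × ℕ × ℕ × ℕ) + crd 0 1 l (s 1) =
            crd 0 1 l (s 0 + s 1) + crd 0 1 l (s (Fin.last n)) := hc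
        simp only [crd_add, c0, c1, cl, ct, cpw, ctp, Prod.mk_add_mk, Prod.mk.injEq] at hc'
        unfold InIq
        simp only
        omega
  · intro a b
    rw [Fin.ext_iff]
    rcases eD b with rfl | rfl
    · show (a.val = 0 ∧ (crd 0 1 l (Finsupp.single 1 q)).1 = 0) ∨ (a.val = 1 ∧ (crd 0 1 l (Finsupp.single 1 q)).1 = 1) ↔ a.val = 0
      simp [crd_add, c0, c1, cl, ct, cpw, ctp]
    · show (a.val = 0 ∧ (crd 0 1 l (s 0 + s 1)).1 = 0) ∨ (a.val = 1 ∧ (crd 0 1 l (s 0 + s 1)).1 = 1) ↔ a.val = 1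
      simp [crd_add, c0, c1, cl, ct, cpw, ctp]
  · intro ψ hψ h0
    have hd0 : aval ψ (dif (s 1) (s (Fin.last n))) (Finsupp.single 1 q) = 0 := h0 0
    have hd1 : aval ψ (dif (s 1) (s (Fin.last n))) (s 0 + s 1) = 0 := h0 1
    apply eq_zero_of_aval_eq_zero hI hψ (Gq n q) Gq_subset Jq_le_span
    intro g hg
    rcases Gq_cases hn hg with rfl | rfl | ⟨i, hi, rfl⟩ | rfl
    · apply aval_ngG (InIq q) (hmemq hn l) _ _ (fun x => 1 ≤ x.2.1) (nn_W hn hl) ψ
      rintro hnn ⟨g0, g1, gl, gm, gt⟩ hc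
      simp only [crd_add, c0, c1, cl, ct, cpw, ctp, Prod.mk_add_mk, Prod.mk.injEq] at hnn hc <;>
        (unfold InIq; simp only; omega)
    · exact hd1
    · by_cases hil' : l = i
      · subst hil'
        · apply aval_ngG (InIq q) (hmemq hn l) _ _ (fun x => 1 ≤ x.2.1) (nn_W hn hl) ψ
          rintro hnn ⟨g0, g1, gl, gm, gt⟩ hc
          simp only [crd_add, c0, c1, cl, ct, cpw, ctp, Prod.mk_add_mk, Prod.mk.injEq] at hnn hc <;>
            (unfold InIq; simp only; omega)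
      · have hil : i ≠ l := fun h => hil' h.symm
        · apply aval_ngG (InIq q) (hmemq hn l) _ _ (fun x => 1 ≤ x.2.1) (nn_W hn hl) ψ
          rintro hnn ⟨g0, g1, gl, gm, gt⟩ hc
          simp only [crd_add, c0, c1, cl, ct, cpw, ctp, crd_s_mid hn (uv01 (n := n)) hl hi hil, Prod.mk_add_mk, Prod.mk.injEq] at hnn hc <;>
            (unfold InIq; simp only; omega)
    · exact hd0

end famW

section famU

lemma nn_U (hn : 2 ≤ n) (hl : l ∈ Mid n) (j : ℕ) (m : Fin (n + 1) →₀ ℕ) (hj1 : 1 ≤ j) (hjq : j ≤ q) (hm0 : m 0 = 0) (hm1 : m 1 = 0)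
    (hdeg : mid m + m (Fin.last n) = j) (hexc : ¬ (j = q ∧ mid m = 0)) (hnotA : ¬ (j = 1 ∧ mid m = 0)) (β : Fin (n + 1) →₀ ℕ) :
    (∀ i', 0 ≤ toZ β (dif (Finsupp.single 1 j) (m)) i') ↔ j ≤ (crd 0 1 l β).2.1 := by
  rw [nn_dif_iff, nn_single_iff, hm1]
  rfl

lemma finrank_U (hn : 2 ≤ n) (hl : l ∈ Mid n) (hq : 2 ≤ q) (j : ℕ) (m : Fin (n + 1) →₀ ℕ) (hj1 : 1 ≤ j) (hjq : j ≤ q) (hm0 : m 0 = 0) (hm1 : m 1 = 0)
    (hdeg : mid m + m (Fin.last n) = j) (hexc : ¬ (j = q ∧ mid m = 0)) (hnotA : ¬ (j = 1 ∧ mid m = 0)) :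
    Module.finrank k ↥(tPiece (Jq k n q) (dif (Finsupp.single 1 j) (m))) = 1 := by
  have hI := isMonomial_Jq (k := k) (n := n) (q := q)
  have c0 := crd_s_u hn (uv01 (n := n)) hl
  have c1 := crd_s_v hn (uv01 (n := n)) hl
  have cl := crd_s_l hn (uv01 (n := n)) hl
  have ct := crd_s_last hn (uv01 (n := n)) hl
  have cpw := crd_pow (n := n) hn hl
  have ctp := crd_lastpow (n := n) hn hl
  have cm : crd 0 1 l m = (0, 0, m l, mid m, m (Fin.last n)) := by simp only [crd, hm0, hm1]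
  have hmlm := le_mid m hl
  have eD : ∀ m : Fin 1, m = 0 := by decide
  refine finrank_of_regionsG hI (InIq q) (hmemq hn l) hn hl _ _ (fun x => j ≤ x.2.1) (nn_U hn hl j m hj1 hjq hm0 hm1 hdeg hexc hnotA)
    (fun a x => (a.val = 0 ∧ x.1 = 0)) ?_
    (fun b => Finsupp.single 1 q) ?_ ?_ ?_ ?_
  · rintro a ⟨x0, x1, xl, xm, xt⟩ ⟨d0, d1, dl, dm, dt⟩ ⟨g0, g1, gl, gm, gt⟩ hd hc h1 h2 h3
    simp only [crd_add, c0, c1, cl, ct, cpw, ctp, cm] at hc
    simp only [Prod.mk_add_mk, Prod.mk.injEq] at hc h3 ⊢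
    unfold InIq at h1 h2
    simp only at h1 h2
    rcases hd with hd | hd | hd | hd | hd <;> simp only [Prod.mk.injEq] at hd <;> omega
  · intro b
    rcases eD b with rfl
    · exact Gq_subset _ (mem_Gq_pow)
  · intro b
    rcases eD b with rfl
    · apply good_of_arithG (InIq q) (hmemq hn l)
      · rw [nn_U hn hl j m hj1 hjq hm0 hm1 hdeg hexc hnotA]
        show j ≤ (crd 0 1 l (Finsupp.single 1 q)).2.1
        simp only [crd_add, c0, c1, cl, ct, cpw, ctp, cm, Prod.mk_add_mk] <;> omega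
      · rintro ⟨g0, g1, gl, gm, gt⟩ hc
        have hc' : ((g0, g1, gl, gm, gt) : ℕ × ℕ × ℕ × ℕ × ℕ) + crd 0 1 l (Finsupp.single 1 j) =
            crd 0 1 l (Finsupp.single 1 q) + crd 0 1 l (m) := hc
        simp only [crd_add, c0, c1, cl, ct, cpw, ctp, cm, Prod.mk_add_mk, Prod.mk.injEq] at hc'
        unfold InIq
        simp only
        omega
  · intro a b
    rw [Fin.ext_iff]
    rcases eD b with rfl
    · show (a.val = 0 ∧ (crd 0 1 l (Finsupp.single 1 q)).1 = 0) ↔ a.val = 0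
      simp [crd_add, c0, c1, cl, ct, cpw, ctp, cm]
  · intro ψ hψ h0
    have hd0 : aval ψ (dif (Finsupp.single 1 j) (m)) (Finsupp.single 1 q) = 0 := h0 0
    apply eq_zero_of_aval_eq_zero hI hψ (Gq n q) Gq_subset Jq_le_span
    intro g hg
    rcases Gq_cases hn hg with rfl | rfl | ⟨i, hi, rfl⟩ | rfl
    · apply aval_ngG (InIq q) (hmemq hn l) _ _ (fun x => j ≤ x.2.1) (nn_U hn hl j m hj1 hjq hm0 hm1 hdeg hexc hnotA) ψ
      rintro hnn ⟨g0, g1, gl, gm, gt⟩ hc
      simp only [crd_add, c0, c1, cl, ct, cpw, ctp, cm, Prod.mk_add_mk, Prod.mk.injEq] at hnn hc <;>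
        (unfold InIq; simp only; omega)
    · apply aval_ngG (InIq q) (hmemq hn l) _ _ (fun x => j ≤ x.2.1) (nn_U hn hl j m hj1 hjq hm0 hm1 hdeg hexc hnotA) ψ
      rintro hnn ⟨g0, g1, gl, gm, gt⟩ hc
      simp only [crd_add, c0, c1, cl, ct, cpw, ctp, cm, Prod.mk_add_mk, Prod.mk.injEq] at hnn hc <;>
        (unfold InIq; simp only; omega)
    · by_cases hil' : l = i
      · subst hil'
        · apply aval_ngG (InIq q) (hmemq hn l) _ _ (fun x => j ≤ x.2.1) (nn_U hn hl j m hj1 hjq hm0 hm1 hdeg hexc hnotA) ψ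
          rintro hnn ⟨g0, g1, gl, gm, gt⟩ hc
          simp only [crd_add, c0, c1, cl, ct, cpw, ctp, cm, Prod.mk_add_mk, Prod.mk.injEq] at hnn hc <;>
            (unfold InIq; simp only; omega)
      · have hil : i ≠ l := fun h => hil' h.symm
        · apply aval_ngG (InIq q) (hmemq hn l) _ _ (fun x => j ≤ x.2.1) (nn_U hn hl j m hj1 hjq hm0 hm1 hdeg hexc hnotA) ψ
          rintro hnn ⟨g0, g1, gl, gm, gt⟩ hc
          simp only [crd_add, c0, c1, cl, ct, cpw, ctp, cm, crd_s_mid hn (uv01 (n := n)) hl hi hil, Prod.mk_add_mk, Prod.mk.injEq] at hnn hc <;>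
            (unfold InIq; simp only; omega)
    · exact hd0

end famU

end Groth.Agent.Lib.Helper92.Bq
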