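import Groth.Agent.Lib.Helper92.BqC

set_option linter.unusedSectionVars false
set_option linter.unusedSimpArgs false
set_option linter.unusedVariables false
set_option linter.style.haveILetI false
set_option linter.unnecessarySimpa false
set_option autoImplicit false

/-!
# Classification of the nonzero graded pieces of `T(I)₀` for the ideal `Jq` (helper92)
-/

namespace Groth.Agent.Lib.Helper92.Bq

open MvPolynomial W4c1hilbpn Groth.Agent.Lib.Helper92.HilbTgt
  Groth.Agent.Lib.Helper92.HilbTgtDecomp Groth.Agent.Lib.Helper92.Bor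

universe u

variable {k : Type u} [Field k] {n q : ℕ} {α : Fin (n + 1) → ℤ}

/-- The multidegrees of the nonzero pieces. -/
def IsFamQ (n q : ℕ) (α : Fin (n + 1) → ℤ) : Prop :=
  α = dif (s 0) (s (Fin.last n)) ∨ α = dif (s 0) (s 1) ∨
  α = dif (Finsupp.single 1 q) (s 0 + Finsupp.single (Fin.last n) (q - 1)) ∨
  α = dif (s 1) (s (Fin.last n)) ∨
  (∃ l ∈ Mid n, α = dif (s 0) (s l) ∨ α = dif (s l) (s (Fin.last n))) ∨
  ∃ (j : ℕ) (m : Fin (n + 1) →₀ ℕ), 1 ≤ j ∧ j ≤ q ∧ m 0 = 0 ∧ m 1 = 0 ∧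
    mid m + m (Fin.last n) = j ∧ ¬ (j = q ∧ mid m = 0) ∧ ¬ (j = 1 ∧ mid m = 0) ∧
    α = dif (Finsupp.single 1 j) m

lemma fT1 (h : α = dif (s 0) (s (Fin.last n))) : IsFamQ n q α := Or.inl h
lemma fT2 (h : α = dif (s 0) (s 1)) : IsFamQ n q α := Or.inr (Or.inl h)
lemma fU1 (h : α = dif (Finsupp.single 1 q) (s 0 + Finsupp.single (Fin.last n) (q - 1))) :
    IsFamQ n q α := Or.inr (Or.inr (Or.inl h))
lemma fW (h : α = dif (s 1) (s (Fin.last n))) : IsFamQ n q α :=
  Or.inr (Or.inr (Or.inr (Or.inl h)))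
lemma fT3 {l : Fin (n + 1)} (hl : l ∈ Mid n) (h : α = dif (s 0) (s l)) : IsFamQ n q α :=
  Or.inr (Or.inr (Or.inr (Or.inr (Or.inl ⟨l, hl, Or.inl h⟩))))
lemma fV {l : Fin (n + 1)} (hl : l ∈ Mid n) (h : α = dif (s l) (s (Fin.last n))) :
    IsFamQ n q α :=
  Or.inr (Or.inr (Or.inr (Or.inr (Or.inl ⟨l, hl, Or.inr h⟩))))

/-- The families `e_y - e_0`. -/
lemma fTy (hn : 2 ≤ n) {y : Fin (n + 1)} (hy : y ≠ 0) (h : α = dif (s 0) (s y)) :
    IsFamQ n q α := by
  rcases idx_cases hn y with rfl | rfl | hm | rfl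
  · exact absurd rfl hy
  · exact fT2 h
  · exact fT3 hm h
  · exact fT1 h

/-- Splitting off a variable from a quadratic monomial. -/
lemma split_off2 {γ : Fin (n + 1) →₀ ℕ} {x : Fin (n + 1)} (hx : 1 ≤ γ x)
    (a0 : γ 0 = 0) (hs : ∑ j, γ j = 2) : ∃ y, y ≠ 0 ∧ γ = s y + s x := by
  obtain ⟨γ', hγ'⟩ : ∃ γ', γ = γ' + s x := ⟨γ - s x, by
    ext j
    rw [Finsupp.add_apply, Finsupp.tsub_apply]
    by_cases hj : x = j
    · subst hj
      rw [s_self]
      omega
    · rw [s_ne hj]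
      omega⟩
  have hs' : ∑ j, γ' j = 1 := by
    have := hs
    rw [hγ'] at this
    simp only [Finsupp.add_apply, Finset.sum_add_distrib] at this
    rw [sum_s] at this
    omega
  obtain ⟨y, hy⟩ := exists_eq_single_of_sum_one hs'
  rw [hy] at hγ'
  refine ⟨y, ?_, hγ'⟩
  intro h
  have := a0
  rw [hγ', Finsupp.add_apply, h, s_self] at this
  omega

lemma sum_single (a : Fin (n + 1)) (c : ℕ) : ∑ j, (Finsupp.single a c : Fin (n + 1) →₀ ℕ) j = c := by
  simp only [Finsupp.single_apply]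
  rw [Finset.sum_ite_eq Finset.univ a, if_pos (Finset.mem_univ a)]

lemma exists_mid_ne (hn : 4 ≤ n) (i : Fin (n + 1)) : ∃ l' ∈ Mid n, l' ≠ i := by
  by_cases hi : i.val = 2
  · refine ⟨⟨3, by omega⟩, ?_, ?_⟩
    · rw [mem_Mid]
      simp only
      omega
    · intro h
      have := congrArg Fin.val h
      simp only at this
      omega
  · refine ⟨⟨2, by omega⟩, ?_, ?_⟩
    · rw [mem_Mid]
      simp only
      omega
    · intro h
      have := congrArg Fin.val h
      simp only at this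
      omega

section cases

variable (hn : 3 ≤ n) (hq : 2 ≤ q)

include hn hq in
lemma clsq_00 (φ : Tgt (Jq k n q)) (hsum : ∑ j, α j = 0)
    (hgood : Good (Jq k n q) α (s 0 + s 0)) (hav : aval φ α (s 0 + s 0) ≠ 0) : IsFamQ n q α := by
  have hn2 : 2 ≤ n := by omega
  obtain ⟨γ, hγ, hα, hγI, hγs⟩ := factsI hgood hsum (sum_s_add 0 0)
  have hγ2 := hγs
  rw [sum_eq_crd hn2 uv01] at hγ2
  have hc := hγI
  rw [mem_exps_iffq hn2] at hc
  have hαd : α = dif (s 0 + s 0) γ := by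
    funext j
    rw [hα j]
    rfl
  by_cases a0 : γ 0 = 1
  · have hγe := eq_su_slast hn2 uv01 a0 (by omega) (by omega) (by omega)
    refine fT1 ?_
    rw [hαd, hγe]
    apply dif_eq_of_add
    abel
  · exfalso
    apply hav
    obtain ⟨l, hl⟩ := exists_mid hn
    have e3 := mid_ne_of_uv (by omega) (uv01 (n := n)) hl
    refine killI isMonomial_Jq φ hγ hgood (Gq_subset _ (mem_Gq_00 hn2))
      (Gq_subset _ (mem_Gq_0m hn2 hl)) (δ := s l) (δ' := s 0) (add_right_comm _ _ _) ?_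
      ⟨0, ?_⟩
    · rw [mem_exps_iffq hn2]
      simp only [Finsupp.add_apply, s_ne e3.1, s_ne e3.2]
      omega
    · have h1 : ((s 0 + s l : Fin (n + 1) →₀ ℕ)) 0 = 1 := by
        rw [Finsupp.add_apply, s_self, s_ne e3.1]
      have h2 : ((s 0 + s 0 : Fin (n + 1) →₀ ℕ)) 0 = 2 := by rw [Finsupp.add_apply, s_self]
      have h3 : γ 0 = 0 := by omega
      rw [toZ_apply, hα 0, h1, h2, h3]
      norm_num

include hn hq in
lemma clsq_01 (φ : Tgt (Jq k n q)) (hsum : ∑ j, α j = 0)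
    (hgood : Good (Jq k n q) α (s 0 + s 1)) (hav : aval φ α (s 0 + s 1) ≠ 0) : IsFamQ n q α := by
  have hn2 : 2 ≤ n := by omega
  have h01 := zero_ne_one' (n := n) (by omega)
  obtain ⟨γ, hγ, hα, hγI, hγs⟩ := factsI hgood hsum (sum_s_add 0 1)
  have hγ2 := hγs
  rw [sum_eq_crd hn2 uv01] at hγ2
  have hc := hγI
  rw [mem_exps_iffq hn2] at hc
  have hαd : α = dif (s 0 + s 1) γ := by
    funext j
    rw [hα j]
    rfl
  by_cases a0 : γ 0 = 1
  · have hγe := eq_su_slast hn2 uv01 a0 (by omega) (by omega) (by omega)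
    refine fW ?_
    rw [hαd, hγe]
    apply dif_eq_of_add
    abel
  · have a0' : γ 0 = 0 := by omega
    by_cases a1 : 1 ≤ γ 1
    · obtain ⟨y, hy, hγe⟩ := split_off2 a1 a0' hγs
      refine fTy hn2 hy ?_
      rw [hαd, hγe]
      apply dif_eq_of_add
      abel
    · exfalso
      apply hav
      obtain ⟨l, hl⟩ := exists_mid hn
      have e3 := mid_ne_of_uv (by omega) (uv01 (n := n)) hl
      refine killI isMonomial_Jq φ hγ hgood (Gq_subset _ (mem_Gq_01 hn2))
        (Gq_subset _ (mem_Gq_0m hn2 hl)) (δ := s l) (δ' := s 1) (add_right_comm _ _ _) ?_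
        ⟨1, ?_⟩
      · rw [mem_exps_iffq hn2]
        simp only [Finsupp.add_apply, s_ne e3.1, s_ne e3.2]
        omega
      · have h1 : ((s 0 + s l : Fin (n + 1) →₀ ℕ)) 1 = 0 := by
          rw [Finsupp.add_apply, s_ne h01, s_ne e3.2]
        have h2 : ((s 0 + s 1 : Fin (n + 1) →₀ ℕ)) 1 = 1 := by
          rw [Finsupp.add_apply, s_ne h01, s_self]
        have h3 : γ 1 = 0 := by omega
        rw [toZ_apply, hα 1, h1, h2, h3]
        norm_num

include hn hq in
lemma clsq_0m (hcase : n = 3 → 4 ≤ q) {i : Fin (n + 1)} (hi : i ∈ Mid n) (φ : Tgt (Jq k n q))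
    (hsum : ∑ j, α j = 0)
    (hgood : Good (Jq k n q) α (s 0 + s i)) (hav : aval φ α (s 0 + s i) ≠ 0) : IsFamQ n q α := by
  have hn2 : 2 ≤ n := by omega
  have h01 := zero_ne_one' (n := n) (by omega)
  have e4 := mid_ne_of_uv (by omega) (uv01 (n := n)) hi
  obtain ⟨γ, hγ, hα, hγI, hγs⟩ := factsI hgood hsum (sum_s_add 0 i)
  have hγ2 := hγs
  rw [sum_eq_crd hn2 uv01] at hγ2
  have hc := hγI
  rw [mem_exps_iffq hn2] at hc
  have hαd : α = dif (s 0 + s i) γ := by
    funext j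
    rw [hα j]
    rfl
  have hgi : ((s 0 + s i : Fin (n + 1) →₀ ℕ)) i = 1 := by
    rw [Finsupp.add_apply, s_ne e4.1.symm, s_self]
  by_cases a0 : γ 0 = 1
  · have hγe := eq_su_slast hn2 uv01 a0 (by omega) (by omega) (by omega)
    refine fV hi ?_
    rw [hαd, hγe]
    apply dif_eq_of_add
    abel
  · have a0' : γ 0 = 0 := by omega
    by_cases ai : 1 ≤ γ i
    · obtain ⟨y, hy, hγe⟩ := split_off2 ai a0' hγs
      refine fTy hn2 hy ?_
      rw [hαd, hγe]
      apply dif_eq_of_add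
      abel
    · exfalso
      apply hav
      have h3 : γ i = 0 := by omega
      by_cases hn4 : 4 ≤ n
      · obtain ⟨l, hl, hli⟩ := exists_mid_ne hn4 i
        have e3 := mid_ne_of_uv (by omega) (uv01 (n := n)) hl
        refine killI isMonomial_Jq φ hγ hgood (Gq_subset _ (mem_Gq_0m hn2 hi))
          (Gq_subset _ (mem_Gq_0m hn2 hl)) (δ := s l) (δ' := s i) (add_right_comm _ _ _) ?_
          ⟨i, ?_⟩
        · rw [mem_exps_iffq hn2]
          simp only [Finsupp.add_apply, s_ne e3.1, s_ne e3.2]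
          omega
        · have h1 : ((s 0 + s l : Fin (n + 1) →₀ ℕ)) i = 0 := by
            rw [Finsupp.add_apply, s_ne e4.1.symm, s_ne hli]
          rw [toZ_apply, hα i, h1, hgi, h3]
          norm_num
      · have hq4 : 4 ≤ q := hcase (by omega)
        refine killI isMonomial_Jq φ hγ hgood (Gq_subset _ (mem_Gq_0m hn2 hi))
          (Gq_subset _ (mem_Gq_01 hn2)) (δ := s 1) (δ' := s i) (add_right_comm _ _ _) ?_
          ⟨i, ?_⟩
        · rw [mem_exps_iffq hn2]
          simp only [Finsupp.add_apply, s_ne h01.symm, s_self]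
          omega
        · have h1 : ((s 0 + s 1 : Fin (n + 1) →₀ ℕ)) i = 0 := by
            rw [Finsupp.add_apply, s_ne e4.1.symm, s_ne e4.2.symm]
          rw [toZ_apply, hα i, h1, hgi, h3]
          norm_num

end cases

end Groth.Agent.Lib.Helper92.Bq
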