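import Groth.Agent.Lib.Helper92.BqD

set_option linter.unusedSectionVars false
set_option linter.unusedSimpArgs false
set_option linter.unusedVariables false
set_option linter.style.haveILetI false
set_option linter.unnecessarySimpa false
set_option autoImplicit false

/-!
# Classification of the nonzero graded pieces of `T(I)₀` for the ideal `Jq`: the generator `x₁^q` (helper92)
-/

namespace Groth.Agent.Lib.Helper92.Bq

open MvPolynomial W4c1hilbpn Groth.Agent.Lib.Helper92.HilbTgt
  Groth.Agent.Lib.Helper92.HilbTgtDecomp Groth.Agent.Lib.Helper92.Bor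

universe u

variable {k : Type u} [Field k] {n q : ℕ} {α : Fin (n + 1) → ℤ}

lemma mid_erase_one (hn : 2 ≤ n) (γ : Fin (n + 1) →₀ ℕ) : mid (γ.erase 1) = mid γ := by
  unfold mid
  refine Finset.sum_congr rfl fun l hl => ?_
  have e := mid_ne_of_uv (by omega) (uv01 (n := n)) hl
  exact Finsupp.erase_ne e.2

lemma clsq_pow (hn : 3 ≤ n) (hq : 2 ≤ q) (φ : Tgt (Jq k n q)) (hsum : ∑ j, α j = 0)
    (hgood : Good (Jq k n q) α (Finsupp.single 1 q))
    (hav : aval φ α (Finsupp.single 1 q) ≠ 0) : IsFamQ n q α := by
  have hn2 : 2 ≤ n := by omega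
  have h01 := zero_ne_one' (n := n) (by omega)
  have hnl := (uv01 (n := n)).ne_last hn2
  have hnm := (uv01 (n := n)).not_mid (by omega)
  obtain ⟨γ, hγ, hα, hγI, hγs⟩ := factsI hgood hsum (sum_single 1 q)
  have hγ2 := hγs
  rw [sum_eq_crd hn2 uv01] at hγ2
  have hc := hγI
  rw [mem_exps_iffq hn2] at hc
  have hαd : α = dif (Finsupp.single 1 q) γ := by
    funext j
    rw [hα j]
    rfl
  by_cases a0 : γ 0 = 1
  · have a1 : γ 1 = 0 := by omega
    have am : mid γ = 0 := by omega
    have at' : γ (Fin.last n) = q - 1 := by omega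
    have hγe : γ = s 0 + Finsupp.single (Fin.last n) (q - 1) := by
      apply ext_crd hn2 uv01
      · rw [Finsupp.add_apply, s_self, Finsupp.single_eq_of_ne' hnl.1.symm, a0, add_zero]
      · rw [Finsupp.add_apply, s_ne h01, Finsupp.single_eq_of_ne' hnl.2.symm, a1, add_zero]
      · rw [Finsupp.add_apply, s_ne hnl.1, Finsupp.single_eq_same, at']
        omega
      · intro j hj
        have := le_mid γ hj
        have e3 := mid_ne_of_uv (by omega) (uv01 (n := n)) hj
        rw [Finsupp.add_apply, s_ne e3.1.symm, Finsupp.single_eq_of_ne' (mid_ne_last hj).symm]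
        omega
    refine fU1 ?_
    rw [hαd, hγe]
  · have a0' : γ 0 = 0 := by omega
    have hm1 : (γ.erase 1) 1 = 0 := Finsupp.erase_same
    have hm0 : (γ.erase 1) 0 = 0 := by
      rw [Finsupp.erase_ne h01]
      exact a0'
    have hmid : mid (γ.erase 1) = mid γ := mid_erase_one hn2 γ
    have hmn : (γ.erase 1) (Fin.last n) = γ (Fin.last n) := Finsupp.erase_ne hnl.2.symm
    by_cases hx : γ 1 = 0 ∧ mid γ = 0
    · exfalso
      apply hav
      have e1 : (Finsupp.single 1 q : Fin (n + 1) →₀ ℕ) = s 1 + Finsupp.single 1 (q - 1) := by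
        rw [← Finsupp.single_add]
        congr 1
        omega
      refine killI isMonomial_Jq φ hγ hgood (Gq_subset _ mem_Gq_pow)
        (Gq_subset _ (mem_Gq_01 hn2)) (δ := s 0) (δ' := Finsupp.single 1 (q - 1)) ?_ ?_
        ⟨1, ?_⟩
      · rw [e1]
        abel
      · rw [mem_exps_iffq hn2]
        simp only [Finsupp.add_apply, mid_add, s_self, s_ne h01, mid_single_of_not_mem hnm.1]
        omega
      · have h1 : ((s 0 + s 1 : Fin (n + 1) →₀ ℕ)) 1 = 1 := by
          rw [Finsupp.add_apply, s_ne h01, s_self]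
        have h2 : ((Finsupp.single 1 q : Fin (n + 1) →₀ ℕ)) 1 = q := Finsupp.single_eq_same
        rw [toZ_apply, hα 1, h1, h2, hx.1]
        push_cast
        omega
    · have key : ∀ j : ℕ, γ 1 + j = q →
          α = dif (Finsupp.single 1 j) (γ.erase 1) := by
        intro j hj
        rw [hαd]
        apply dif_eq_of_add
        ext x
        by_cases hx1 : x = 1
        · subst hx1
          rw [Finsupp.add_apply, Finsupp.add_apply, Finsupp.single_eq_same, Finsupp.single_eq_same,
            hm1]
          omega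
        · rw [Finsupp.add_apply, Finsupp.add_apply, Finsupp.single_eq_of_ne hx1,
            Finsupp.single_eq_of_ne hx1, Finsupp.erase_ne hx1]
      by_cases hw : γ 1 + 1 = q ∧ mid γ = 0
      · have hme : γ.erase 1 = s (Fin.last n) := by
          apply ext_crd hn2 uv01
          · rw [hm0, s_ne hnl.1.symm]
          · rw [hm1, s_ne hnl.2.symm]
          · rw [hmn, s_self]
            omega
          · intro j hj
            have := le_mid γ hj
            have e3 := mid_ne_of_uv (by omega) (uv01 (n := n)) hj
            rw [Finsupp.erase_ne e3.2, s_ne (mid_ne_last hj).symm]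
            omega
        refine fW ?_
        rw [key 1 hw.1, hme]
      · refine Or.inr (Or.inr (Or.inr (Or.inr (Or.inr
          ⟨q - γ 1, γ.erase 1, ?_, ?_, hm0, hm1, ?_, ?_, ?_, key _ ?_⟩))))
        · omega
        · omega
        · rw [hmid, hmn]
          omega
        · rw [hmid]
          omega
        · rw [hmid]
          omega
        · omega

/-- Classification of the nonzero pieces of total degree zero. -/
theorem classifyQ (hn : 3 ≤ n) (hq : 2 ≤ q) (hcase : n = 3 → 4 ≤ q) (hsum : ∑ j, α j = 0)
    (hne : tPiece (Jq k n q) α ≠ ⊥) : IsFamQ n q α := by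
  have hn2 : 2 ≤ n := by omega
  obtain ⟨φ, g, hg, hgood, hav⟩ :=
    exists_good_gen isMonomial_Jq hne (Gq n q) Gq_subset Jq_le_span
  rcases Gq_cases hn2 hg with rfl | rfl | ⟨i, hi, rfl⟩ | rfl
  · exact clsq_00 hn hq φ hsum hgood hav
  · exact clsq_01 hn hq φ hsum hgood hav
  · exact clsq_0m hn hq hcase hi φ hsum hgood hav
  · exact clsq_pow hn hq φ hsum hgood hav

end Groth.Agent.Lib.Helper92.Bq
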