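import Groth.Agent.Lib.Helper92.BsH

set_option linter.unusedSectionVars false
set_option linter.unusedSimpArgs false
set_option linter.unusedVariables false
set_option linter.style.haveILetI false
set_option linter.unnecessarySimpa false
set_option autoImplicit false

/-!
# `dim T(I)₀ = 6n - 6` for the ideal `J21` (helper92)
-/

namespace Groth.Agent.Lib.Helper92.Bs

open MvPolynomial W4c1hilbpn Groth.Agent.Lib.Helper92.HilbTgt
  Groth.Agent.Lib.Helper92.HilbTgtDecomp Groth.Agent.Lib.Helper92.Bor

universe u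

section weights

variable {m : ℕ}

/-- A linear functional on multidegrees. -/
def cfunW (w : Fin m → ℤ) (α : Fin m → ℤ) : ℤ := ∑ j, w j * α j

lemma sum_w_single (w : Fin m → ℤ) (a : Fin m) :
    ∑ j, w j * (((Finsupp.single a 1 : Fin m →₀ ℕ) j : ℕ) : ℤ) = w a := by
  rw [Finset.sum_eq_single a]
  · rw [Finsupp.single_eq_same]
    simp
  · intro b _ hb
    rw [Finsupp.single_eq_of_ne hb]
    simp
  · intro h
    exact absurd (Finset.mem_univ a) h

lemma sum_w_add (w : Fin m → ℤ) (β β' : Fin m →₀ ℕ) :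
    ∑ j, w j * (((β + β') j : ℕ) : ℤ) = ∑ j, w j * (β j : ℤ) + ∑ j, w j * (β' j : ℤ) := by
  simp only [Finsupp.add_apply, Nat.cast_add, mul_add, Finset.sum_add_distrib]

lemma cfunW_dif (w : Fin m → ℤ) (Q P : Fin m →₀ ℕ) :
    cfunW w (dif Q P) = ∑ j, w j * (P j : ℤ) - ∑ j, w j * (Q j : ℤ) := by
  simp only [cfunW, dif, mul_sub, Finset.sum_sub_distrib]

end weights

variable {k : Type u} [Field k] {n : ℕ}

/-- The middle indices, parametrized. -/
def mm2 (n : ℕ) (j : Fin (n - 3)) : Fin (n + 1) := ⟨j.val + 2, by omega⟩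

lemma mm2_mem (j : Fin (n - 3)) : mm2 n j ∈ Mid2 n := by
  rw [mem_Mid2]
  simp only [mm2]
  omega

lemma exists_mm2 {l : Fin (n + 1)} (hl : l ∈ Mid2 n) : ∃ j, mm2 n j = l := by
  rw [mem_Mid2] at hl
  exact ⟨⟨l.val - 2, by omega⟩, Fin.ext (by simp only [mm2]; omega)⟩

/-- The index type of the nonzero pieces. -/
abbrev Y2 (n : ℕ) : Type := Fin 8 ⊕ (Fin 5 × Fin (n - 3))

/-- The multidegrees not depending on a middle index. -/
noncomputable def famC (n : ℕ) (c : Fin 8) : Fin (n + 1) → ℤ :=
  if c.val = 0 then dif (s 0) (s (Fin.last n))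
  else if c.val = 1 then dif (s 0) (s (pp n))
  else if c.val = 2 then dif (s 0 + s (pp n)) (s 1 + s (Fin.last n))
  else if c.val = 3 then dif (s 0) (s 1)
  else if c.val = 4 then dif (s 1) (s (Fin.last n))
  else if c.val = 5 then dif (s 1) (s (pp n))
  else if c.val = 6 then dif (s (pp n)) (s (Fin.last n))
  else dif (s 1 + s 1) (s 0 + s (Fin.last n))

/-- The multidegrees depending on a middle index. -/
noncomputable def famL (n : ℕ) (c : Fin 5) (l : Fin (n + 1)) : Fin (n + 1) → ℤ :=
  if c.val = 0 then dif (s 0) (s l)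
  else if c.val = 1 then dif (s 1) (s l)
  else if c.val = 2 then dif (s l) (s (Fin.last n))
  else if c.val = 3 then dif (s l) (s (pp n))
  else dif (s 1 + s l) (s 0 + s (Fin.last n))

/-- The multidegrees of the nonzero pieces. -/
noncomputable def fam2 (n : ℕ) : Y2 n → (Fin (n + 1) → ℤ) :=
  Sum.elim (famC n) (fun p => famL n p.1 (mm2 n p.2))

/-- Dimensions. -/
def dimsC (c : Fin 8) : ℕ :=
  if c.val = 0 then 2 else if c.val = 4 then 3 else if c.val = 5 then 2 else 1

/-- Dimensions. -/
def dimsL (c : Fin 5) : ℕ := if c.val = 2 then 2 else 1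

/-- The dimensions of the nonzero pieces. -/
def dims2 (n : ℕ) : Y2 n → ℕ := Sum.elim dimsC (fun p => dimsL p.1)

lemma sum_dims2 (hn : 4 ≤ n) : ∑ y : Y2 n, dims2 n y = 6 * n - 6 := by
  have h8 : ∑ c : Fin 8, dimsC c = 12 := by decide
  have h5 : ∑ c : Fin 5, dimsL c = 6 := by decide
  simp only [Fintype.sum_sum_type, dims2, Sum.elim_inl, Sum.elim_inr, Fintype.sum_prod_type,
    Finset.sum_const, Finset.card_univ, Fintype.card_fin, smul_eq_mul, h8]
  rw [← Finset.mul_sum, h5]
  omega

/-- Codes. -/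
def codeC (c : Fin 8) : ℤ :=
  if c.val = 0 then 26 else if c.val = 1 then 8 else if c.val = 2 then 20
  else if c.val = 3 then 2 else if c.val = 4 then 24 else if c.val = 5 then 6
  else if c.val = 6 then 18 else 22

/-- Codes. -/
def codeL (c : Fin 5) (W : ℤ) : ℤ :=
  if c.val = 0 then W - 1 else if c.val = 1 then W - 3 else if c.val = 2 then 27 - W
  else if c.val = 3 then 9 - W else 25 - W

/-- An integer code separating the multidegrees. -/
def code2 (n : ℕ) : Y2 n → ℤ :=
  Sum.elim codeC (fun p => codeL p.1 (100 * ((p.2.val : ℤ) + 2)))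

lemma code2_injective : Function.Injective (code2 n) := by
  intro y y' h
  rcases y with c | ⟨c, j⟩ <;> rcases y' with c' | ⟨c', j'⟩ <;>
    simp only [code2, Sum.elim_inl, Sum.elim_inr] at h
  · have hv : c.val = c'.val := by
      unfold codeC at h
      split_ifs at h <;> omega
    rw [Fin.ext hv]
  · exfalso
    unfold codeC codeL at h
    split_ifs at h <;> omega
  · exfalso
    unfold codeC codeL at h
    split_ifs at h <;> omega
  · have hv : c.val = c'.val ∧ j.val = j'.val := by
      unfold codeL at h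
      split_ifs at h <;> omega
    rw [Fin.ext hv.1, Fin.ext hv.2]

end Groth.Agent.Lib.Helper92.Bs
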