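import Groth.Agent.Lib.Helper92.BqE
import Groth.Agent.Lib.Helper92.BqC
import Groth.Agent.Lib.Helper92.BsI
import Mathlib.Algebra.Order.Antidiag.FinsuppEquiv

set_option linter.unusedSectionVars false
set_option linter.unusedSimpArgs false
set_option linter.unusedVariables false
set_option linter.style.haveILetI false
set_option linter.unnecessarySimpa false
set_option autoImplicit false

/-!
# The parametric family of nonzero pieces of `T(I)₀` for the ideal `Jq`: the index set (helper92)
-/

namespace Groth.Agent.Lib.Helper92.Bq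

open MvPolynomial W4c1hilbpn Groth.Agent.Lib.Helper92.HilbTgt
  Groth.Agent.Lib.Helper92.HilbTgtDecomp Groth.Agent.Lib.Helper92.Bor

universe u

variable {k : Type u} [Field k] {n q : ℕ}

/-- The indices `≥ 1`. -/
def S1 (n : ℕ) : Finset (Fin (n + 1)) := Finset.univ.erase 0

lemma card_S1 : (S1 n).card = n := by
  rw [S1, Finset.card_erase_of_mem (Finset.mem_univ _), Finset.card_univ, Fintype.card_fin]
  rfl

lemma mem_S1 {l : Fin (n + 1)} : l ∈ S1 n ↔ l ≠ 0 := by simp [S1]

lemma sum_S1 (γ : Fin (n + 1) →₀ ℕ) (h0 : γ 0 = 0) : (S1 n).sum γ = ∑ j, γ j := by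
  rw [S1, ← Finset.add_sum_erase Finset.univ γ (Finset.mem_univ 0), h0, zero_add]

lemma mem_antidiag {γ : Fin (n + 1) →₀ ℕ} :
    γ ∈ (S1 n).finsuppAntidiag q ↔ γ 0 = 0 ∧ ∑ j, γ j = q := by
  rw [Finset.mem_finsuppAntidiag]
  constructor
  · rintro ⟨h1, h2⟩
    have h0 : γ 0 = 0 := by
      by_contra h
      have := h2 (Finsupp.mem_support_iff.mpr h)
      rw [mem_S1] at this
      exact this rfl
    refine ⟨h0, ?_⟩
    rw [← sum_S1 γ h0]
    exact h1
  · rintro ⟨h0, h1⟩
    refine ⟨?_, fun l hl => ?_⟩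
    · rw [sum_S1 γ h0]
      exact h1
    · rw [mem_S1]
      rintro rfl
      exact (Finsupp.mem_support_iff.mp hl) h0

/-- Excluded exponent: the zero multidegree. -/
noncomputable def exA (n q : ℕ) : Fin (n + 1) →₀ ℕ := Finsupp.single 1 q

/-- Excluded exponent: the piece vanishes. -/
noncomputable def exB (n q : ℕ) : Fin (n + 1) →₀ ℕ := Finsupp.single (Fin.last n) q

/-- Excluded exponent: the multidegree `e_n - e_1`, of dimension two. -/
noncomputable def exC (n q : ℕ) : Fin (n + 1) →₀ ℕ := Finsupp.single 1 (q - 1) + s (Fin.last n)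

/-- The parameter set of the family `U`. -/
noncomputable def Uset (n q : ℕ) : Finset (Fin (n + 1) →₀ ℕ) :=
  (S1 n).finsuppAntidiag q \ {exA n q, exB n q, exC n q}

lemma mem_Uset {γ : Fin (n + 1) →₀ ℕ} : γ ∈ Uset n q ↔
    (γ 0 = 0 ∧ ∑ j, γ j = q) ∧ γ ≠ exA n q ∧ γ ≠ exB n q ∧ γ ≠ exC n q := by
  rw [Uset, Finset.mem_sdiff, mem_antidiag]
  simp only [Finset.mem_insert, Finset.mem_singleton, not_or]

lemma exA_apply_one : exA n q 1 = q := Finsupp.single_eq_same
lemma exB_apply_last : exB n q (Fin.last n) = q := Finsupp.single_eq_same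

lemma card_Uset (hn : 2 ≤ n) (hq : 2 ≤ q) :
    (Uset n q).card + 3 = (n + q - 1).choose (n - 1) := by
  have h01 := zero_ne_one' (n := n) (by omega)
  have hnl := (uv01 (n := n)).ne_last hn
  have hsub : ({exA n q, exB n q, exC n q} : Finset (Fin (n + 1) →₀ ℕ)) ⊆
      (S1 n).finsuppAntidiag q := by
    intro x hx
    simp only [Finset.mem_insert, Finset.mem_singleton] at hx
    rw [mem_antidiag]
    rcases hx with rfl | rfl | rfl
    · exact ⟨Finsupp.single_eq_of_ne' h01.symm, sum_single 1 q⟩
    · exact ⟨Finsupp.single_eq_of_ne' hnl.1.symm, sum_single _ q⟩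
    · refine ⟨?_, ?_⟩
      · rw [exC, Finsupp.add_apply, Finsupp.single_eq_of_ne' h01.symm, s_ne hnl.1.symm]
      · rw [exC]
        simp only [Finsupp.add_apply, Finset.sum_add_distrib]
        rw [sum_single, sum_s]
        omega
  have hAB : exA n q ≠ exB n q := by
    intro h
    have := DFunLike.congr_fun h 1
    rw [exA_apply_one, exB, Finsupp.single_eq_of_ne' hnl.2.symm] at this
    omega
  have hAC : exA n q ≠ exC n q := by
    intro h
    have := DFunLike.congr_fun h 1
    rw [exA_apply_one, exC, Finsupp.add_apply, Finsupp.single_eq_same, s_ne hnl.2.symm] at this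
    omega
  have hBC : exB n q ≠ exC n q := by
    intro h
    have := DFunLike.congr_fun h 1
    rw [exB, Finsupp.single_eq_of_ne' hnl.2.symm, exC, Finsupp.add_apply, Finsupp.single_eq_same,
      s_ne hnl.2.symm] at this
    omega
  have hcard3 : ({exA n q, exB n q, exC n q} : Finset (Fin (n + 1) →₀ ℕ)).card = 3 := by
    rw [Finset.card_insert_of_notMem, Finset.card_insert_of_notMem, Finset.card_singleton]
    · simpa using hBC
    · simp only [Finset.mem_insert, Finset.mem_singleton, not_or]
      exact ⟨hAB, hAC⟩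
  have h3 : 3 ≤ (n + q - 1).choose q := by
    have := Finset.card_le_card hsub
    rw [hcard3, Finset.card_finsuppAntidiag_nat_eq_choose, card_S1] at this
    exact this
  rw [Uset, Finset.card_sdiff_of_subset hsub, hcard3, Finset.card_finsuppAntidiag_nat_eq_choose,
    card_S1, Nat.sub_add_cancel h3]
  exact Nat.choose_symm_of_eq_add (by omega)

end Groth.Agent.Lib.Helper92.Bq
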