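import Groth.Agent.Lib.Helper92.BqF

set_option linter.unusedSectionVars false
set_option linter.unusedSimpArgs false
set_option linter.unusedVariables false
set_option linter.style.haveILetI false
set_option linter.unnecessarySimpa false
set_option autoImplicit false

/-!
# `dim T(I)₀ = 2n - 1 + C(n+q-1, n-1)` for the ideal `Jq`: assembly (helper92)
-/

namespace Groth.Agent.Lib.Helper92.Bq

open MvPolynomial W4c1hilbpn Groth.Agent.Lib.Helper92.HilbTgt
  Groth.Agent.Lib.Helper92.HilbTgtDecomp Groth.Agent.Lib.Helper92.Bor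

universe u

variable {k : Type u} [Field k] {n q : ℕ}

lemma eq_of_coords (hn : 2 ≤ n) {γ γ' : Fin (n + 1) →₀ ℕ} (h0 : γ 0 = γ' 0) (h1 : γ 1 = γ' 1)
    (ht : γ (Fin.last n) = γ' (Fin.last n)) (hm : mid γ = 0) (hm' : mid γ' = 0) : γ = γ' := by
  apply ext_crd hn uv01 h0 h1 ht
  intro j hj
  have := le_mid γ hj
  have := le_mid γ' hj
  omega

lemma exA_coords (hn : 2 ≤ n) :
    exA n q 0 = 0 ∧ exA n q 1 = q ∧ exA n q (Fin.last n) = 0 ∧ mid (exA n q) = 0 := by
  have h01 := zero_ne_one' (n := n) (by omega)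
  have hnl := (uv01 (n := n)).ne_last hn
  have hnm := (uv01 (n := n)).not_mid (by omega)
  exact ⟨Finsupp.single_eq_of_ne' h01.symm, Finsupp.single_eq_same,
    Finsupp.single_eq_of_ne' hnl.2, mid_single_of_not_mem hnm.2 q⟩

lemma exB_coords (hn : 2 ≤ n) :
    exB n q 0 = 0 ∧ exB n q 1 = 0 ∧ exB n q (Fin.last n) = q ∧ mid (exB n q) = 0 := by
  have h01 := zero_ne_one' (n := n) (by omega)
  have hnl := (uv01 (n := n)).ne_last hn
  exact ⟨Finsupp.single_eq_of_ne' hnl.1.symm, Finsupp.single_eq_of_ne' hnl.2.symm,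
    Finsupp.single_eq_same, mid_single_of_not_mem last_not_mid q⟩

lemma exC_coords (hn : 2 ≤ n) :
    exC n q 0 = 0 ∧ exC n q 1 = q - 1 ∧ exC n q (Fin.last n) = 1 ∧ mid (exC n q) = 0 := by
  have h01 := zero_ne_one' (n := n) (by omega)
  have hnl := (uv01 (n := n)).ne_last hn
  have hnm := (uv01 (n := n)).not_mid (by omega)
  refine ⟨?_, ?_, ?_, ?_⟩
  · rw [exC, Finsupp.add_apply, Finsupp.single_eq_of_ne' h01.symm, s_ne hnl.1.symm]
  · rw [exC, Finsupp.add_apply, Finsupp.single_eq_same, s_ne hnl.2.symm, add_zero]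
  · rw [exC, Finsupp.add_apply, Finsupp.single_eq_of_ne' hnl.2, s_self, zero_add]
  · rw [exC, mid_add, mid_single_of_not_mem hnm.2, mid_single_of_not_mem last_not_mid]

lemma dif_erase {γ : Fin (n + 1) →₀ ℕ} {j : ℕ} (hj : γ 1 + j = q) :
    dif (Finsupp.single 1 q) γ = dif (Finsupp.single 1 j) (γ.erase 1) := by
  apply dif_eq_of_add
  ext x
  by_cases hx1 : x = 1
  · subst hx1
    rw [Finsupp.add_apply, Finsupp.add_apply, Finsupp.single_eq_same, Finsupp.single_eq_same,
      Finsupp.erase_same]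
    omega
  · rw [Finsupp.add_apply, Finsupp.add_apply, Finsupp.single_eq_of_ne hx1,
      Finsupp.single_eq_of_ne hx1, Finsupp.erase_ne hx1]

lemma finrank_Ug (hn : 2 ≤ n) {l : Fin (n + 1)} (hl : l ∈ Mid n) (hq : 2 ≤ q)
    {γ : Fin (n + 1) →₀ ℕ} (hγ : γ ∈ Uset n q) :
    Module.finrank k ↥(tPiece (Jq k n q) (dif (Finsupp.single 1 q) γ)) = 1 := by
  obtain ⟨⟨h0, hs⟩, hA, hB, hC⟩ := mem_Uset.mp hγ
  rw [sum_eq_crd hn uv01] at hs
  obtain ⟨a0, a1, at', am⟩ := exA_coords (q := q) hn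
  obtain ⟨b0, b1, bt, bm⟩ := exB_coords (q := q) hn
  obtain ⟨c0, c1, ct, cm⟩ := exC_coords (q := q) hn
  have h01 := zero_ne_one' (n := n) (by omega)
  have hnl := (uv01 (n := n)).ne_last hn
  have h1q : γ 1 < q := by
    by_contra hcon
    apply hA
    apply eq_of_coords hn <;> omega
  have hexc : ¬ (γ 1 = 0 ∧ mid γ = 0) := by
    rintro ⟨e1, e2⟩
    apply hB
    apply eq_of_coords hn <;> omega
  have hnotA : ¬ (γ 1 + 1 = q ∧ mid γ = 0) := by
    rintro ⟨e1, e2⟩
    apply hC
    apply eq_of_coords hn <;> omega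
  rw [dif_erase (j := q - γ 1) (by omega)]
  have hm1 : (γ.erase 1) 1 = 0 := Finsupp.erase_same
  have hm0 : (γ.erase 1) 0 = 0 := by
    rw [Finsupp.erase_ne h01]
    exact h0
  have hmid : mid (γ.erase 1) = mid γ := mid_erase_one hn γ
  have hmn : (γ.erase 1) (Fin.last n) = γ (Fin.last n) := Finsupp.erase_ne hnl.2.symm
  exact finrank_U hn hl hq (q - γ 1) (γ.erase 1) (by omega) (by omega) hm0 hm1
    (by rw [hmid, hmn]; omega) (by rw [hmid]; omega) (by rw [hmid]; omega)

/-- The middle indices, parametrized. -/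
def mm (n : ℕ) (j : Fin (n - 2)) : Fin (n + 1) := ⟨j.val + 2, by omega⟩

lemma mm_mem (j : Fin (n - 2)) : mm n j ∈ Mid n := by
  rw [mem_Mid]
  simp only [mm]
  omega

lemma exists_mm {l : Fin (n + 1)} (hl : l ∈ Mid n) : ∃ j, mm n j = l := by
  rw [mem_Mid] at hl
  exact ⟨⟨l.val - 2, by omega⟩, Fin.ext (by simp only [mm]; omega)⟩

lemma mm_injective : Function.Injective (mm n) := by
  intro j j' h
  have := congrArg Fin.val h
  simp only [mm] at this
  exact Fin.ext (by omega)

/-- The index type of the nonzero pieces. -/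
abbrev YQ (n q : ℕ) : Type := Fin 4 ⊕ (Fin 2 × Fin (n - 2)) ⊕ ↥(Uset n q)

/-- The multidegrees not depending on a parameter. -/
noncomputable def famCq (n q : ℕ) (c : Fin 4) : Fin (n + 1) → ℤ :=
  if c.val = 0 then dif (s 0) (s (Fin.last n))
  else if c.val = 1 then dif (s 0) (s 1)
  else if c.val = 2 then dif (Finsupp.single 1 q) (s 0 + Finsupp.single (Fin.last n) (q - 1))
  else dif (s 1) (s (Fin.last n))

/-- The multidegrees depending on a middle index. -/
noncomputable def famLq (n : ℕ) (c : Fin 2) (l : Fin (n + 1)) : Fin (n + 1) → ℤ :=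
  if c.val = 0 then dif (s 0) (s l) else dif (s l) (s (Fin.last n))

/-- The multidegrees of the nonzero pieces. -/
noncomputable def famQ (n q : ℕ) : YQ n q → (Fin (n + 1) → ℤ) :=
  Sum.elim (famCq n q) (Sum.elim (fun p => famLq n p.1 (mm n p.2))
    (fun γ => dif (Finsupp.single 1 q) γ.1))

/-- Dimensions. -/
def dimsCq (c : Fin 4) : ℕ := if c.val = 0 then 2 else if c.val = 3 then 2 else 1

/-- The dimensions of the nonzero pieces. -/
def dimsQ (n q : ℕ) : YQ n q → ℕ := Sum.elim dimsCq (fun _ => 1)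

lemma sum_dimsQ (hn : 2 ≤ n) (hq : 2 ≤ q) :
    ∑ y : YQ n q, dimsQ n q y = 2 * n - 1 + (n + q - 1).choose (n - 1) := by
  have h4 : ∑ c : Fin 4, dimsCq c = 6 := by decide
  have hc := card_Uset hn hq
  simp only [Fintype.sum_sum_type, dimsQ, Sum.elim_inl, Sum.elim_inr, Finset.sum_const,
    Finset.card_univ, Fintype.card_sum, Fintype.card_prod, Fintype.card_fin, Fintype.card_coe,
    smul_eq_mul, h4]
  omega

lemma e4 : ∀ c : Fin 4, c = 0 ∨ c = 1 ∨ c = 2 ∨ c = 3 := by decide

lemma e2 : ∀ c : Fin 2, c = 0 ∨ c = 1 := by decide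

lemma dimsQ_pos (y : YQ n q) : 0 < dimsQ n q y := by
  rcases y with c | y
  · show 0 < dimsCq c
    unfold dimsCq
    split_ifs <;> norm_num
  · exact Nat.one_pos

lemma sum_famQ (hq : 1 ≤ q) (y : YQ n q) : ∑ j, famQ n q y j = 0 := by
  rcases y with c | ⟨c, j⟩ | γ
  · rcases e4 c with rfl | rfl | rfl | rfl
    · show ∑ j, dif (s 0) (s (Fin.last n)) j = 0
      simp only [sum_dif, sum_s, sum_s_add]
      norm_num
    · show ∑ j, dif (s 0) (s (1 : Fin (n + 1))) j = 0
      simp only [sum_dif, sum_s, sum_s_add]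
      norm_num
    · show ∑ j, dif (Finsupp.single 1 q) (s 0 + Finsupp.single (Fin.last n) (q - 1)) j = 0
      rw [sum_dif]
      simp only [Finsupp.add_apply, Finset.sum_add_distrib]
      rw [sum_single, sum_single, sum_single]
      omega
    · show ∑ j, dif (s 1) (s (Fin.last n)) j = 0
      simp only [sum_dif, sum_s, sum_s_add]
      norm_num
  · rcases e2 c with rfl | rfl
    · show ∑ i, dif (s 0) (s (mm n j)) i = 0
      simp only [sum_dif, sum_s, sum_s_add]
      norm_num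
    · show ∑ i, dif (s (mm n j)) (s (Fin.last n)) i = 0
      simp only [sum_dif, sum_s, sum_s_add]
      norm_num
  · show ∑ i, dif (Finsupp.single 1 q) γ.1 i = 0
    rw [sum_dif, sum_single, (mem_Uset.mp γ.2).1.2]
    omega

lemma exists_famQ (hn : 2 ≤ n) (hq : 2 ≤ q) {α : Fin (n + 1) → ℤ} (h : IsFamQ n q α) :
    ∃ y, famQ n q y = α := by
  rcases h with rfl | rfl | rfl | rfl | ⟨l, hl, rfl | rfl⟩ |
    ⟨j, m, hj1, hjq, hm0, hm1, hdeg, hexc, hnotA, rfl⟩
  · exact ⟨Sum.inl 0, rfl⟩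
  · exact ⟨Sum.inl 1, rfl⟩
  · exact ⟨Sum.inl 2, rfl⟩
  · exact ⟨Sum.inl 3, rfl⟩
  · obtain ⟨j, rfl⟩ := exists_mm hl
    exact ⟨Sum.inr (Sum.inl (0, j)), rfl⟩
  · obtain ⟨j, rfl⟩ := exists_mm hl
    exact ⟨Sum.inr (Sum.inl (1, j)), rfl⟩
  · have h01 := zero_ne_one' (n := n) (by omega)
    have hnm := (uv01 (n := n)).not_mid (by omega)
    obtain ⟨a0, a1, at', am⟩ := exA_coords (q := q) hn
    obtain ⟨b0, b1, bt, bm⟩ := exB_coords (q := q) hn
    obtain ⟨c0, c1, ct, cm⟩ := exC_coords (q := q) hn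
    have g1 : ((m + Finsupp.single 1 (q - j) : Fin (n + 1) →₀ ℕ)) 1 = q - j := by
      rw [Finsupp.add_apply, hm1, Finsupp.single_eq_same, zero_add]
    have gm : mid (m + Finsupp.single 1 (q - j)) = mid m := by
      rw [mid_add, mid_single_of_not_mem hnm.2, add_zero]
    have hmem : m + Finsupp.single 1 (q - j) ∈ Uset n q := by
      rw [mem_Uset]
      refine ⟨⟨?_, ?_⟩, ?_, ?_, ?_⟩
      · rw [Finsupp.add_apply, hm0, Finsupp.single_eq_of_ne' h01.symm, add_zero]
      · simp only [Finsupp.add_apply, Finset.sum_add_distrib]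
        rw [sum_single, sum_eq_crd hn uv01]
        omega
      · intro h
        have e1 := DFunLike.congr_fun h 1
        rw [g1] at e1
        omega
      · intro h
        have e1 := DFunLike.congr_fun h 1
        have em := congrArg mid h
        rw [g1] at e1
        rw [gm] at em
        omega
      · intro h
        have e1 := DFunLike.congr_fun h 1
        have em := congrArg mid h
        rw [g1] at e1
        rw [gm] at em
        omega
    refine ⟨Sum.inr (Sum.inr ⟨_, hmem⟩), ?_⟩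
    show dif (Finsupp.single 1 q) (m + Finsupp.single 1 (q - j)) = dif (Finsupp.single 1 j) m
    apply dif_eq_of_add
    rw [add_assoc, ← Finsupp.single_add]
    congr 2
    omega

end Groth.Agent.Lib.Helper92.Bq
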