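import Groth.Agent.Lib.Helper92.BqG

set_option linter.unusedSectionVars false
set_option linter.unusedSimpArgs false
set_option linter.unusedVariables false
set_option linter.style.haveILetI false
set_option linter.unnecessarySimpa false
set_option autoImplicit false

/-!
# `dim T(I)₀ = 2n - 1 + C(n+q-1, n-1)` for the ideal `Jq`: injectivity and the final count (helper92)
-/

namespace Groth.Agent.Lib.Helper92.Bq

open MvPolynomial W4c1hilbpn Groth.Agent.Lib.Helper92.HilbTgt
  Groth.Agent.Lib.Helper92.HilbTgtDecomp Groth.Agent.Lib.Helper92.Bor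

universe u

variable {k : Type u} [Field k] {n q : ℕ}

/-- The signature of a multidegree: its entries at `0`, `1` and `n`. -/
def sig (α : Fin (n + 1) → ℤ) : ℤ × ℤ × ℤ := (α 0, α 1, α (Fin.last n))

lemma sig_dif (Q P : Fin (n + 1) →₀ ℕ) : sig (dif Q P) =
    ((P 0 : ℤ) - (Q 0 : ℤ), (P 1 : ℤ) - (Q 1 : ℤ),
      (P (Fin.last n) : ℤ) - (Q (Fin.last n) : ℤ)) := rfl

lemma dif_right_inj {Q P P' : Fin (n + 1) →₀ ℕ} (h : dif Q P = dif Q P') : P = P' := by
  ext i
  have := congrFun h i
  simp only [dif] at this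
  omega

lemma dif_left_inj {Q Q' P : Fin (n + 1) →₀ ℕ} (h : dif Q P = dif Q' P) : Q = Q' := by
  ext i
  have := congrFun h i
  simp only [dif] at this
  omega

lemma s_inj {a b : Fin (n + 1)} (h : s a = s b) : a = b :=
  Finsupp.single_left_injective one_ne_zero h

lemma dif_W (hq : 1 ≤ q) :
    dif (s 1) (s (Fin.last n)) = dif (Finsupp.single 1 q) (exC n q) := by
  symm
  apply dif_eq_of_add
  rw [exC, add_right_comm, ← Finsupp.single_add, show q - 1 + 1 = q by omega]
  exact add_comm _ _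

section sigs

variable (hn : 2 ≤ n)
include hn

lemma sig_C0 : sig (famQ n q (Sum.inl 0)) = (-1, 0, 1) := by
  have h01 := zero_ne_one' (n := n) (by omega)
  have hnl := (uv01 (n := n)).ne_last hn
  show sig (dif (s 0) (s (Fin.last n))) = _
  simp [sig_dif, Finsupp.single_apply, h01, h01.symm, hnl.1, hnl.1.symm, hnl.2, hnl.2.symm]

lemma sig_C1 : sig (famQ n q (Sum.inl 1)) = (-1, 1, 0) := by
  have h01 := zero_ne_one' (n := n) (by omega)
  have hnl := (uv01 (n := n)).ne_last hn
  show sig (dif (s 0) (s 1)) = _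
  simp [sig_dif, Finsupp.single_apply, h01, h01.symm, hnl.1, hnl.1.symm, hnl.2, hnl.2.symm]

lemma sig_C2 : sig (famQ n q (Sum.inl 2)) = (1, -(q : ℤ), ((q - 1 : ℕ) : ℤ)) := by
  have h01 := zero_ne_one' (n := n) (by omega)
  have hnl := (uv01 (n := n)).ne_last hn
  show sig (dif (Finsupp.single 1 q) (s 0 + Finsupp.single (Fin.last n) (q - 1))) = _
  simp [sig_dif, Finsupp.single_apply, h01, h01.symm, hnl.1, hnl.1.symm, hnl.2, hnl.2.symm]

lemma sig_C3 : sig (famQ n q (Sum.inl 3)) = (0, -1, 1) := by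
  have h01 := zero_ne_one' (n := n) (by omega)
  have hnl := (uv01 (n := n)).ne_last hn
  show sig (dif (s 1) (s (Fin.last n))) = _
  simp [sig_dif, Finsupp.single_apply, h01, h01.symm, hnl.1, hnl.1.symm, hnl.2, hnl.2.symm]

lemma sig_L0 (j : Fin (n - 2)) : sig (famQ n q (Sum.inr (Sum.inl (0, j)))) = (-1, 0, 0) := by
  have h01 := zero_ne_one' (n := n) (by omega)
  have hnl := (uv01 (n := n)).ne_last hn
  have hm := mid_ne_of_uv (by omega) (uv01 (n := n)) (mm_mem j)
  have hml := mid_ne_last (mm_mem j)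
  show sig (dif (s 0) (s (mm n j))) = _
  simp [sig_dif, Finsupp.single_apply, h01, h01.symm, hnl.1, hnl.1.symm, hnl.2, hnl.2.symm,
    hm.1, hm.2, hml, hm.1.symm, hm.2.symm, hml.symm]

lemma sig_L1 (j : Fin (n - 2)) : sig (famQ n q (Sum.inr (Sum.inl (1, j)))) = (0, 0, 1) := by
  have h01 := zero_ne_one' (n := n) (by omega)
  have hnl := (uv01 (n := n)).ne_last hn
  have hm := mid_ne_of_uv (by omega) (uv01 (n := n)) (mm_mem j)
  have hml := mid_ne_last (mm_mem j)
  show sig (dif (s (mm n j)) (s (Fin.last n))) = _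
  simp [sig_dif, Finsupp.single_apply, h01, h01.symm, hnl.1, hnl.1.symm, hnl.2, hnl.2.symm,
    hm.1, hm.2, hml, hm.1.symm, hm.2.symm, hml.symm]

lemma sig_U (γ : ↥(Uset n q)) : sig (famQ n q (Sum.inr (Sum.inr γ))) =
    (0, (γ.1 1 : ℤ) - (q : ℤ), (γ.1 (Fin.last n) : ℤ)) := by
  have h01 := zero_ne_one' (n := n) (by omega)
  have hnl := (uv01 (n := n)).ne_last hn
  have h0 := (mem_Uset.mp γ.2).1.1
  show sig (dif (Finsupp.single 1 q) γ.1) = _
  simp [sig_dif, Finsupp.single_apply, h01, h01.symm, hnl.1, hnl.1.symm, hnl.2, hnl.2.symm, h0]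

end sigs

lemma lt_of_mem_Uset (hn : 2 ≤ n) {γ : Fin (n + 1) →₀ ℕ} (hγ : γ ∈ Uset n q) : γ 1 < q := by
  obtain ⟨⟨h0, hs⟩, hA, hB, hC⟩ := mem_Uset.mp hγ
  rw [sum_eq_crd hn uv01] at hs
  obtain ⟨a0, a1, at', am⟩ := exA_coords (q := q) hn
  by_contra hcon
  apply hA
  apply eq_of_coords hn <;> omega

lemma famQ_injective (hn : 2 ≤ n) (hq : 2 ≤ q) : Function.Injective (famQ n q) := by
  intro y y' h
  rcases y with c | ⟨c, j⟩ | γ
  · rcases y' with c' | ⟨c', j'⟩ | γ'
    · have hcc : c = c' := by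
        rcases e4 c with rfl | rfl | rfl | rfl <;> rcases e4 c' with rfl | rfl | rfl | rfl <;>
          first
          | rfl
          | (exfalso
             have hs := congrArg (sig (n := n)) h
             simp only [sig_C0 hn, sig_C1 hn, sig_C2 hn, sig_C3 hn] at hs
             obtain ⟨h0, h1t⟩ := Prod.mk.inj hs
             obtain ⟨h1, ht⟩ := Prod.mk.inj h1t
             omega)
      rw [hcc]
    · exfalso
      rcases e4 c with rfl | rfl | rfl | rfl <;> rcases e2 c' with rfl | rfl <;>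
        (have hs := congrArg (sig (n := n)) h
         simp only [sig_C0 hn, sig_C1 hn, sig_C2 hn, sig_C3 hn, sig_L0 hn, sig_L1 hn] at hs
         obtain ⟨h0, h1t⟩ := Prod.mk.inj hs
         obtain ⟨h1, ht⟩ := Prod.mk.inj h1t
         omega)
    · exfalso
      have hlt := lt_of_mem_Uset hn γ'.2
      rcases e4 c with rfl | rfl | rfl | rfl
      · have hs := congrArg (sig (n := n)) h
        simp only [sig_C0 hn, sig_U hn] at hs
        obtain ⟨h0, h1t⟩ := Prod.mk.inj hs
        omega
      · have hs := congrArg (sig (n := n)) h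
        simp only [sig_C1 hn, sig_U hn] at hs
        obtain ⟨h0, h1t⟩ := Prod.mk.inj hs
        omega
      · have hs := congrArg (sig (n := n)) h
        simp only [sig_C2 hn, sig_U hn] at hs
        obtain ⟨h0, h1t⟩ := Prod.mk.inj hs
        omega
      · have h' : dif (s 1) (s (Fin.last n)) = dif (Finsupp.single 1 q) γ'.1 := h
        rw [dif_W (q := q) (by omega)] at h'
        exact (mem_Uset.mp γ'.2).2.2.2 (dif_right_inj h').symm
  · rcases y' with c' | ⟨c', j'⟩ | γ'
    · exfalso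
      rcases e4 c' with rfl | rfl | rfl | rfl <;> rcases e2 c with rfl | rfl <;>
        (have hs := congrArg (sig (n := n)) h
         simp only [sig_C0 hn, sig_C1 hn, sig_C2 hn, sig_C3 hn, sig_L0 hn, sig_L1 hn] at hs
         obtain ⟨h0, h1t⟩ := Prod.mk.inj hs
         obtain ⟨h1, ht⟩ := Prod.mk.inj h1t
         omega)
    · rcases e2 c with rfl | rfl <;> rcases e2 c' with rfl | rfl
      · have h' : dif (s 0) (s (mm n j)) = dif (s 0) (s (mm n j')) := h
        rw [mm_injective (s_inj (dif_right_inj h'))]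
      · exfalso
        have hs := congrArg (sig (n := n)) h
        simp only [sig_L0 hn, sig_L1 hn] at hs
        obtain ⟨h0, h1t⟩ := Prod.mk.inj hs
        omega
      · exfalso
        have hs := congrArg (sig (n := n)) h
        simp only [sig_L0 hn, sig_L1 hn] at hs
        obtain ⟨h0, h1t⟩ := Prod.mk.inj hs
        omega
      · have h' : dif (s (mm n j)) (s (Fin.last n)) = dif (s (mm n j')) (s (Fin.last n)) := h
        rw [mm_injective (s_inj (dif_left_inj h'))]
    · exfalso
      have hlt := lt_of_mem_Uset hn γ'.2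
      rcases e2 c with rfl | rfl
      · have hs := congrArg (sig (n := n)) h
        simp only [sig_L0 hn, sig_U hn] at hs
        obtain ⟨h0, h1t⟩ := Prod.mk.inj hs
        omega
      · have hs := congrArg (sig (n := n)) h
        simp only [sig_L1 hn, sig_U hn] at hs
        obtain ⟨h0, h1t⟩ := Prod.mk.inj hs
        obtain ⟨h1, ht⟩ := Prod.mk.inj h1t
        omega
  · rcases y' with c' | ⟨c', j'⟩ | γ'
    · exfalso
      have hlt := lt_of_mem_Uset hn γ.2
      rcases e4 c' with rfl | rfl | rfl | rfl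
      · have hs := congrArg (sig (n := n)) h
        simp only [sig_C0 hn, sig_U hn] at hs
        obtain ⟨h0, h1t⟩ := Prod.mk.inj hs
        omega
      · have hs := congrArg (sig (n := n)) h
        simp only [sig_C1 hn, sig_U hn] at hs
        obtain ⟨h0, h1t⟩ := Prod.mk.inj hs
        omega
      · have hs := congrArg (sig (n := n)) h
        simp only [sig_C2 hn, sig_U hn] at hs
        obtain ⟨h0, h1t⟩ := Prod.mk.inj hs
        omega
      · have h' : dif (Finsupp.single 1 q) γ.1 = dif (s 1) (s (Fin.last n)) := h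
        rw [dif_W (q := q) (by omega)] at h'
        exact (mem_Uset.mp γ.2).2.2.2 (dif_right_inj h')
    · exfalso
      have hlt := lt_of_mem_Uset hn γ.2
      rcases e2 c' with rfl | rfl
      · have hs := congrArg (sig (n := n)) h
        simp only [sig_L0 hn, sig_U hn] at hs
        obtain ⟨h0, h1t⟩ := Prod.mk.inj hs
        omega
      · have hs := congrArg (sig (n := n)) h
        simp only [sig_L1 hn, sig_U hn] at hs
        obtain ⟨h0, h1t⟩ := Prod.mk.inj hs
        obtain ⟨h1, ht⟩ := Prod.mk.inj h1t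
        omega
    · have h' : dif (Finsupp.single 1 q) γ.1 = dif (Finsupp.single 1 q) γ'.1 := h
      rw [Subtype.ext (dif_right_inj h')]

variable (k)

lemma finrank_famQ (hn : 3 ≤ n) (hq : 2 ≤ q) (y : YQ n q) :
    Module.finrank k ↥(tPiece (Jq k n q) (famQ n q y)) = dimsQ n q y := by
  have hn2 : 2 ≤ n := by omega
  obtain ⟨l₀, hl₀⟩ : ∃ l, l ∈ Mid n := ⟨mm n ⟨0, by omega⟩, mm_mem _⟩
  rcases y with c | ⟨c, j⟩ | γ
  · rcases e4 c with rfl | rfl | rfl | rfl
    · exact finrank_T1 hn2 hl₀ hq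
    · exact finrank_T2 hn2 hl₀ hq
    · exact finrank_U1 hn2 hl₀ hq
    · exact finrank_W hn2 hl₀ hq
  · rcases e2 c with rfl | rfl
    · exact finrank_T3 hn2 (mm_mem j) hq
    · exact finrank_V hn2 (mm_mem j) hq
  · exact finrank_Ug hn2 hl₀ hq γ.2

/-- `dim T(I)₀ = 2n - 1 + C(n+q-1, n-1)` for `I = x₀(x₀,…,x_{n-1}) + (x₁^q)`. -/
theorem finrank_Jq (hn : 3 ≤ n) (hq : 2 ≤ q) (hcase : n = 3 → 4 ≤ q) :
    Module.finrank k ↥(⨆ α : {α : Fin (n + 1) → ℤ // ∑ i, α i = 0}, tPiece (Jq k n q) α.1) =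
      2 * n - 1 + (n + q - 1).choose (n - 1) := by
  have hn2 : 2 ≤ n := by omega
  rw [finrank_T0_of_list (isMonomial_Jq (k := k) (n := n) (q := q)) (famQ n q)
    (famQ_injective hn2 hq) (sum_famQ (by omega)) (dimsQ n q) dimsQ_pos (finrank_famQ k hn hq)
    (fun α hsum hne => exists_famQ hn2 hq (classifyQ hn hq hcase hsum hne))]
  exact sum_dimsQ hn2 hq

end Groth.Agent.Lib.Helper92.Bq
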