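import Groth.Agent.Lib.Helper92.BorG

set_option linter.unusedSectionVars false
set_option linter.unusedSimpArgs false
set_option linter.unusedVariables false
set_option linter.style.haveILetI false
set_option linter.unnecessarySimpa false
set_option autoImplicit false

/-!
# Generic tools for computing `T(I)₀` of a monomial ideal from a list of multidegrees (helper92)
-/

namespace Groth.Agent.Lib.Helper92.Bor

open MvPolynomial W4c1hilbpn Groth.Agent.Lib.Helper92.HilbTgt
  Groth.Agent.Lib.Helper92.HilbTgtDecomp Groth.Agent.Lib.Helper92.HilbTgtPow3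

universe u

variable {k : Type u} [Field k] {m : ℕ} {I : Ideal (MvPolynomial (Fin m) k)}

/-- Basic facts on the target of a good generator. -/
lemma factsI {α : Fin m → ℤ} {g : Fin m →₀ ℕ} (hgood : Good I α g)
    (hsum : ∑ j, α j = 0) {d : ℕ} (hg2 : ∑ j, g j = d) :
    ∃ γ : Fin m →₀ ℕ, γ = natPart (toZ g α) ∧ (∀ j, α j = (γ j : ℤ) - (g j : ℤ)) ∧
      γ ∉ exps I ∧ ∑ j, γ j = d := by
  refine ⟨_, rfl, ?_, hgood.2, ?_⟩
  · intro j
    have := hgood.1 j
    simp only [toZ_apply] at this
    simp only [natPart_apply, toZ_apply]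
    omega
  · rw [sum_natPart hgood.1 hsum, hg2]

/-- The killing lemma. -/
lemma killI (hI : IsMonomial I) (φ : Tgt I) {α : Fin m → ℤ} {g h δ δ' γ : Fin m →₀ ℕ}
    (hγ : γ = natPart (toZ g α)) (hgood : Good I α g) (hg : g ∈ exps I)
    (hh : h ∈ exps I) (e : g + δ = h + δ') (hout : γ + δ ∉ exps I)
    (hneg : ∃ j, toZ h α j < 0) : aval φ α g = 0 := by
  refine aval_eq_zero_of_common hI φ hg hh δ δ' e ⟨?_, ?_⟩ hgood.1 hneg
  · intro j
    exact le_trans (hgood.1 j) (toZ_le_add g δ j)
  · rw [natPart_toZ_add hgood.1, ← hγ]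
    exact hout

/-- A nonzero piece has a good generator with nonzero coefficient. -/
lemma exists_good_gen (hI : IsMonomial I) {α : Fin m → ℤ} (hne : tPiece I α ≠ ⊥)
    (G : Set (Fin m →₀ ℕ)) (hG : ∀ g ∈ G, g ∈ exps I)
    (hspan : I ≤ Ideal.span ((fun β => monomial β (1 : k)) '' G)) :
    ∃ φ : Tgt I, ∃ g ∈ G, Good I α g ∧ aval φ α g ≠ 0 := by
  obtain ⟨φ, hφ, hφ0⟩ := Submodule.exists_mem_ne_zero_of_ne_bot hne
  by_contra hcon
  push Not at hcon
  apply hφ0
  apply eq_zero_of_aval_eq_zero hI hφ G hG hspan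
  intro g hg
  by_cases hgood : Good I α g
  · exact hcon φ g hg hgood
  · exact aval_of_not_good φ hgood

section assembly

variable (I)

/-- The family of pieces of total degree zero. -/
noncomputable def MMI (α : {α : Fin m → ℤ // ∑ i, α i = 0}) : Submodule k (Tgt I) :=
  tPiece I α.1

variable {I}

/-- Generic assembly: the dimension of `T(I)₀` from a complete irredundant list of nonzero pieces. -/
theorem finrank_T0_of_list (hI : IsMonomial I) {Y : Type} [Fintype Y] (f : Y → (Fin m → ℤ))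
    (hf : Function.Injective f) (hsum : ∀ y, ∑ j, f y j = 0) (dims : Y → ℕ)
    (hpos : ∀ y, 0 < dims y)
    (hdim : ∀ y, Module.finrank k ↥(tPiece I (f y)) = dims y)
    (hcov : ∀ α : Fin m → ℤ, ∑ j, α j = 0 → tPiece I α ≠ ⊥ → ∃ y, f y = α) :
    Module.finrank k ↥(⨆ α : {α : Fin m → ℤ // ∑ i, α i = 0}, tPiece I α.1) =
      ∑ y, dims y := by
  classical
  let F : Y → {α : Fin m → ℤ // ∑ i, α i = 0} := fun y => ⟨f y, hsum y⟩
  have hM : iSupIndep (MMI I) := (iSupIndep_tPiece hI).comp Subtype.val_injective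
  have hF : Function.Injective F := fun y y' h => hf (congrArg Subtype.val h)
  have hcov' : ∀ α, MMI I α ≠ ⊥ → ∃ y, F y = α := by
    intro α hα
    obtain ⟨y, hy⟩ := hcov α.1 α.2 hα
    exact ⟨y, Subtype.ext hy⟩
  have hdim' : ∀ y, Module.finrank k ↥(MMI I (F y)) = dims y := hdim
  have hfin : ∀ α, Module.Finite k ↥(MMI I α) := by
    intro α
    by_cases hα : MMI I α = ⊥
    · rw [hα]
      infer_instance
    · obtain ⟨y, rfl⟩ := hcov' α hα
      have h : 0 < Module.finrank k ↥(MMI I (F y)) := by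
        rw [hdim' y]
        exact hpos y
      exact FiniteDimensional.of_finrank_pos (K := k) (V := ↥(MMI I (F y))) h
  have hsup : (⨆ α, MMI I α) = ⨆ y ∈ (Finset.univ : Finset Y), MMI I (F y) := by
    apply le_antisymm
    · refine iSup_le fun α => ?_
      by_cases hα : MMI I α = ⊥
      · rw [hα]
        exact bot_le
      · obtain ⟨y, rfl⟩ := hcov' α hα
        exact le_biSup (fun y => MMI I (F y)) (Finset.mem_univ y)
    · exact iSup₂_le fun y _ => le_iSup (MMI I) (F y)
  show Module.finrank k ↥(⨆ α, MMI I α) = _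
  rw [hsup, finrank_biSup_comp (MMI I) hM hfin F Finset.univ hF.injOn]
  exact Finset.sum_congr rfl fun y _ => hdim' y

end assembly

end Groth.Agent.Lib.Helper92.Bor
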