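import Groth.Agent.Lib.Helper92.BsB

set_option linter.unusedSectionVars false
set_option linter.unusedSimpArgs false
set_option linter.unusedVariables false
set_option linter.style.haveILetI false
set_option linter.unnecessarySimpa false
set_option autoImplicit false

/-!
# Coordinates for the ideal `J21` (helper92)
-/

namespace Groth.Agent.Lib.Helper92.Bs

open MvPolynomial W4c1hilbpn Groth.Agent.Lib.Helper92.HilbTgt
  Groth.Agent.Lib.Helper92.HilbTgtDecomp Groth.Agent.Lib.Helper92.Bor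

universe u

variable {n : ℕ}

/-- Coordinates `(β 0, β 1, β l, mid2 β, β (n-1), β n)`. -/
noncomputable def crd6 (l : Fin (n + 1)) (β : Fin (n + 1) →₀ ℕ) : ℕ × ℕ × ℕ × ℕ × ℕ × ℕ :=
  (β 0, β 1, β l, mid2 β, β (pp n), β (Fin.last n))

lemma crd6_add (l : Fin (n + 1)) (β β' : Fin (n + 1) →₀ ℕ) :
    crd6 l (β + β') = crd6 l β + crd6 l β' := by
  simp only [crd6, Finsupp.add_apply, mid2_add, Prod.mk_add_mk]

variable {l : Fin (n + 1)}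

lemma c6_0 (hn : 3 ≤ n) (hl : l ∈ Mid2 n) : crd6 l (s 0) = (1, 0, 0, 0, 0, 0) := by
  obtain ⟨h01, h0p, h0t, h1p, h1t, hpt⟩ := ne_basic hn
  have hm := mid2_ne hn hl
  have hnm := not_mid2 hn
  simp only [crd6, s_self, s_ne h01, s_ne hm.1.symm, s_ne h0p, s_ne h0t,
    mid2_single_of_not_mem hnm.1]

lemma c6_1 (hn : 3 ≤ n) (hl : l ∈ Mid2 n) : crd6 l (s 1) = (0, 1, 0, 0, 0, 0) := by
  obtain ⟨h01, h0p, h0t, h1p, h1t, hpt⟩ := ne_basic hn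
  have hm := mid2_ne hn hl
  have hnm := not_mid2 hn
  simp only [crd6, s_self, s_ne h01.symm, s_ne hm.2.1.symm, s_ne h1p, s_ne h1t,
    mid2_single_of_not_mem hnm.2.1]

lemma c6_l (hn : 3 ≤ n) (hl : l ∈ Mid2 n) : crd6 l (s l) = (0, 0, 1, 1, 0, 0) := by
  have hm := mid2_ne hn hl
  simp only [crd6, s_self, s_ne hm.1, s_ne hm.2.1, s_ne hm.2.2.1, s_ne hm.2.2.2,
    mid2_single_of_mem hl]

lemma c6_mid (hn : 3 ≤ n) {i : Fin (n + 1)} (hi : i ∈ Mid2 n) (hil : i ≠ l) :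
    crd6 l (s i) = (0, 0, 0, 1, 0, 0) := by
  have hm := mid2_ne hn hi
  simp only [crd6, s_ne hm.1, s_ne hm.2.1, s_ne hm.2.2.1, s_ne hm.2.2.2, s_ne hil,
    mid2_single_of_mem hi]

lemma c6_of_mid (hn : 3 ≤ n) {i : Fin (n + 1)} (hi : i ∈ Mid2 n) :
    ∃ e : ℕ, e ≤ 1 ∧ crd6 l (s i) = (0, 0, e, 1, 0, 0) := by
  have hm := mid2_ne hn hi
  refine ⟨s i l, ?_, ?_⟩
  · by_cases hil : i = l
    · subst hil
      rw [s_self]
    · rw [s_ne hil]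
      omega
  · simp only [crd6, s_ne hm.1, s_ne hm.2.1, s_ne hm.2.2.1, s_ne hm.2.2.2, mid2_single_of_mem hi]

lemma c6_p (hn : 3 ≤ n) (hl : l ∈ Mid2 n) : crd6 l (s (pp n)) = (0, 0, 0, 0, 1, 0) := by
  obtain ⟨h01, h0p, h0t, h1p, h1t, hpt⟩ := ne_basic hn
  have hm := mid2_ne hn hl
  have hnm := not_mid2 hn
  simp only [crd6, s_self, s_ne h0p.symm, s_ne h1p.symm, s_ne hm.2.2.1.symm, s_ne hpt,
    mid2_single_of_not_mem hnm.2.2.1]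

lemma c6_t (hn : 3 ≤ n) (hl : l ∈ Mid2 n) : crd6 l (s (Fin.last n)) = (0, 0, 0, 0, 0, 1) := by
  obtain ⟨h01, h0p, h0t, h1p, h1t, hpt⟩ := ne_basic hn
  have hm := mid2_ne hn hl
  have hnm := not_mid2 hn
  simp only [crd6, s_self, s_ne h0t.symm, s_ne h1t.symm, s_ne hm.2.2.2.symm, s_ne hpt.symm,
    mid2_single_of_not_mem hnm.2.2.2]

/-- The six possible coordinate vectors of a variable. -/
def D6 (d : ℕ × ℕ × ℕ × ℕ × ℕ × ℕ) : Prop :=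
  d = (1, 0, 0, 0, 0, 0) ∨ d = (0, 1, 0, 0, 0, 0) ∨ d = (0, 0, 1, 1, 0, 0) ∨
    d = (0, 0, 0, 1, 0, 0) ∨ d = (0, 0, 0, 0, 1, 0) ∨ d = (0, 0, 0, 0, 0, 1)

lemma crd6_s_mem (hn : 3 ≤ n) (hl : l ∈ Mid2 n) (i : Fin (n + 1)) : D6 (crd6 l (s i)) := by
  rcases idx_cases2 hn i with rfl | rfl | hi | rfl | rfl
  · exact Or.inl (c6_0 hn hl)
  · exact Or.inr (Or.inl (c6_1 hn hl))
  · by_cases hil : i = l
    · subst hil
      exact Or.inr (Or.inr (Or.inl (c6_l hn hl)))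
    · exact Or.inr (Or.inr (Or.inr (Or.inl (c6_mid hn hi hil))))
  · exact Or.inr (Or.inr (Or.inr (Or.inr (Or.inl (c6_p hn hl)))))
  · exact Or.inr (Or.inr (Or.inr (Or.inr (Or.inr (c6_t hn hl)))))

/-- Membership in the ideal on coordinates. -/
def InI6 (x : ℕ × ℕ × ℕ × ℕ × ℕ × ℕ) : Prop :=
  2 ≤ x.1 ∨ (1 ≤ x.1 ∧ 1 ≤ x.2.1 + x.2.2.2.1 + x.2.2.2.2.1) ∨ 2 ≤ x.2.1 ∨
    (1 ≤ x.2.1 ∧ 1 ≤ x.2.2.2.1)

variable {k : Type u} [Field k]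

lemma mem_exps_iff_crd6 (hn : 3 ≤ n) (l : Fin (n + 1)) {β : Fin (n + 1) →₀ ℕ} :
    β ∈ exps (J21 k n) ↔ InI6 (crd6 l β) :=
  mem_exps_iff2 hn

/-- Extraction of the arithmetic content of a step in the region. -/
lemma extract6 (hn : 3 ≤ n) (hl : l ∈ Mid2 n) (Q P : Fin (n + 1) →₀ ℕ)
    {β : Fin (n + 1) →₀ ℕ} (hβ : β ∈ exps (J21 k n)) (i : Fin (n + 1))
    (hg : Good (J21 k n) (dif Q P) (β + s i)) :
    ∃ g : ℕ × ℕ × ℕ × ℕ × ℕ × ℕ, D6 (crd6 l (s i)) ∧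
      g + crd6 l Q = crd6 l β + crd6 l (s i) + crd6 l P ∧
      InI6 (crd6 l β) ∧ ¬ InI6 g := by
  obtain ⟨hnn, hout⟩ := hg
  refine ⟨crd6 l (natPart (toZ (β + s i) (dif Q P))), crd6_s_mem hn hl i, ?_, ?_, ?_⟩
  · rw [← crd6_add, ← crd6_add, ← crd6_add, natPart_dif_add hnn]
  · exact (mem_exps_iff_crd6 hn l).1 hβ
  · exact fun h => hout ((mem_exps_iff_crd6 hn l).2 h)

/-- Arithmetic criterion for admissibility of an indicator function. -/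
lemma admVal_of_arith6 (hn : 3 ≤ n) (hl : l ∈ Mid2 n) (Q P : Fin (n + 1) →₀ ℕ)
    (PB NNp : ℕ × ℕ × ℕ × ℕ × ℕ × ℕ → Prop) [DecidablePred PB]
    (hNN : ∀ β : Fin (n + 1) →₀ ℕ, (∀ j, 0 ≤ toZ β (dif Q P) j) ↔ NNp (crd6 l β))
    (harith : ∀ x d g : ℕ × ℕ × ℕ × ℕ × ℕ × ℕ, D6 d →
      g + crd6 l Q = x + d + crd6 l P → InI6 x → ¬ InI6 g → NNp (x + d) →
        ((NNp x → (PB (x + d) ↔ PB x)) ∧ (¬ NNp x → ¬ PB (x + d)))) :
    AdmVal (J21 k n) (dif Q P) (fun β => if PB (crd6 l β) then (1 : k) else 0) := by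
  have := admVal_indicator (k := k) (I := J21 k n) (α := dif Q P)
    (fun β => PB (crd6 l β)) ?_
  · convert this
  · intro β hβ i hg
    obtain ⟨g, hd, hc, h1, h2⟩ := extract6 hn hl Q P hβ i hg
    have h3 : NNp (crd6 l β + crd6 l (s i)) := by
      rw [← crd6_add, ← hNN]
      exact hg.1
    obtain ⟨r1, r2⟩ := harith _ _ g hd hc h1 h2 h3
    constructor
    · intro hnn
      show PB (crd6 l (β + s i)) ↔ PB (crd6 l β)
      rw [crd6_add]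
      exact r1 ((hNN β).1 hnn)
    · intro hneg
      show ¬ PB (crd6 l (β + s i))
      rw [crd6_add]
      apply r2
      rw [← hNN]
      push Not
      exact hneg

/-- Arithmetic criterion for goodness. -/
lemma good_of_arith6 (hn : 3 ≤ n) (l : Fin (n + 1)) (Q P : Fin (n + 1) →₀ ℕ)
    {β : Fin (n + 1) →₀ ℕ} (hnn : ∀ j, 0 ≤ toZ β (dif Q P) j)
    (h : ∀ g : ℕ × ℕ × ℕ × ℕ × ℕ × ℕ, g + crd6 l Q = crd6 l β + crd6 l P → ¬ InI6 g) :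
    Good (J21 k n) (dif Q P) β := by
  refine ⟨hnn, ?_⟩
  rw [mem_exps_iff_crd6 hn l]
  apply h
  rw [← crd6_add, ← crd6_add, natPart_dif_add hnn]

/-- Arithmetic criterion for non-goodness. -/
lemma not_good_of_arith6 (hn : 3 ≤ n) (l : Fin (n + 1)) (Q P : Fin (n + 1) →₀ ℕ)
    {β : Fin (n + 1) →₀ ℕ}
    (h : (∀ j, 0 ≤ toZ β (dif Q P) j) →
      ∀ g : ℕ × ℕ × ℕ × ℕ × ℕ × ℕ, g + crd6 l Q = crd6 l β + crd6 l P → InI6 g) :
    ¬ Good (J21 k n) (dif Q P) β := by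
  rintro ⟨hnn, hout⟩
  apply hout
  rw [mem_exps_iff_crd6 hn l]
  apply h hnn
  rw [← crd6_add, ← crd6_add, natPart_dif_add hnn]

open Classical in
/-- Dimension of a graded piece from a family of regions dual to a family of generators. -/
lemma finrank_of_regions6 (hn : 3 ≤ n) (hl : l ∈ Mid2 n) (Q P : Fin (n + 1) →₀ ℕ)
    (NNp : ℕ × ℕ × ℕ × ℕ × ℕ × ℕ → Prop)
    (hNN : ∀ β : Fin (n + 1) →₀ ℕ, (∀ j, 0 ≤ toZ β (dif Q P) j) ↔ NNp (crd6 l β))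
    {d : ℕ} (PB : Fin d → ℕ × ℕ × ℕ × ℕ × ℕ × ℕ → Prop)
    (harith : ∀ a, ∀ x dd g : ℕ × ℕ × ℕ × ℕ × ℕ × ℕ, D6 dd →
      g + crd6 l Q = x + dd + crd6 l P → InI6 x → ¬ InI6 g → NNp (x + dd) →
        ((NNp x → (PB a (x + dd) ↔ PB a x)) ∧ (¬ NNp x → ¬ PB a (x + dd))))
    (g : Fin d → (Fin (n + 1) →₀ ℕ)) (hgI : ∀ b, g b ∈ exps (J21 k n))
    (hgood : ∀ b, Good (J21 k n) (dif Q P) (g b))
    (hPB : ∀ a b, PB a (crd6 l (g b)) ↔ a = b)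
    (hinj : ∀ ψ ∈ tPiece (J21 k n) (dif Q P), (∀ b, aval ψ (dif Q P) (g b) = 0) → ψ = 0) :
    Module.finrank k ↥(tPiece (J21 k n) (dif Q P)) = d := by
  have hI := isMonomial_J21 (k := k) (n := n)
  have hval := fun a => admVal_of_arith6 (k := k) hn hl Q P (PB a) NNp hNN (harith a)
  refine finrank_eq_of_dual_family hI g (fun a => PhiV hI (hval a))
    (fun a => PhiV_mem hI (hval a)) ?_ hinj
  intro a b
  rw [aval_PhiV hI (hval a) (hgI b) (hgood b)]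
  by_cases hab : a = b
  · rw [if_pos hab, if_pos ((hPB a b).2 hab)]
  · rw [if_neg hab, if_neg (fun h => hab ((hPB a b).1 h))]

/-- Linking two generators through a common multiple. -/
lemma aval_link6 (hn : 3 ≤ n) (l : Fin (n + 1)) (Q P : Fin (n + 1) →₀ ℕ)
    (NNp : ℕ × ℕ × ℕ × ℕ × ℕ × ℕ → Prop)
    (hNN : ∀ β : Fin (n + 1) →₀ ℕ, (∀ j, 0 ≤ toZ β (dif Q P) j) ↔ NNp (crd6 l β))
    (ψ : Tgt (J21 k n)) {a b c : Fin (n + 1)} (hg : s a + s b ∈ exps (J21 k n))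
    (hg' : s a + s c ∈ exps (J21 k n)) (h0 : aval ψ (dif Q P) (s a + s c) = 0)
    (hnn : NNp (crd6 l (s a + s b))) (hnn' : NNp (crd6 l (s a + s c)))
    (hnn'' : NNp (crd6 l (s a + s b + s c)))
    (harith : ∀ g : ℕ × ℕ × ℕ × ℕ × ℕ × ℕ,
      g + crd6 l Q = crd6 l (s a + s b + s c) + crd6 l P → ¬ InI6 g) :
    aval ψ (dif Q P) (s a + s b) = 0 := by
  rw [← h0]
  exact aval_eq_of_common isMonomial_J21 ψ hg hg' (s c) (s b) (add_right_comm _ _ _)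
    (good_of_arith6 hn l Q P ((hNN _).2 hnn'') harith) ((hNN _).2 hnn) ((hNN _).2 hnn')

/-- Vanishing of a coefficient at a monomial violating non-negativity. -/
lemma aval_nn6 {α : Fin (n + 1) → ℤ} (NNp : ℕ × ℕ × ℕ × ℕ × ℕ × ℕ → Prop)
    (hNN : ∀ β : Fin (n + 1) →₀ ℕ, (∀ j, 0 ≤ toZ β α j) ↔ NNp (crd6 l β))
    (ψ : Tgt (J21 k n)) {β : Fin (n + 1) →₀ ℕ} (h : ¬ NNp (crd6 l β)) : aval ψ α β = 0 :=
  aval_of_not_good ψ (fun hg => h ((hNN β).1 hg.1))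

/-- Vanishing of a coefficient at a monomial whose target lies in the ideal. -/
lemma aval_ng6 (hn : 3 ≤ n) (l : Fin (n + 1)) (Q P : Fin (n + 1) →₀ ℕ) (ψ : Tgt (J21 k n))
    {β : Fin (n + 1) →₀ ℕ}
    (h : ∀ g : ℕ × ℕ × ℕ × ℕ × ℕ × ℕ, g + crd6 l Q = crd6 l β + crd6 l P → InI6 g) :
    aval ψ (dif Q P) β = 0 :=
  aval_of_not_good ψ (not_good_of_arith6 hn l Q P (fun _ => h))

section gens

lemma G21_cases (hn : 3 ≤ n) {g : Fin (n + 1) →₀ ℕ} (hg : g ∈ G21 n) :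
    g = s 0 + s 0 ∨ g = s 0 + s 1 ∨ (∃ i ∈ Mid2 n, g = s 0 + s i) ∨ g = s 0 + s (pp n) ∨
      g = s 1 + s 1 ∨ (∃ i ∈ Mid2 n, g = s 1 + s i) := by
  rcases hg with ⟨i, hi, rfl⟩ | ⟨i, hi1, hi2, rfl⟩
  · rcases idx_cases2 hn i with rfl | rfl | hm | rfl | rfl
    · exact Or.inl rfl
    · exact Or.inr (Or.inl rfl)
    · exact Or.inr (Or.inr (Or.inl ⟨i, hm, rfl⟩))
    · exact Or.inr (Or.inr (Or.inr (Or.inl rfl)))
    · simp only [Fin.val_last] at hi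
      omega
  · rcases idx_cases2 hn i with rfl | rfl | hm | rfl | rfl
    · simp at hi1
    · exact Or.inr (Or.inr (Or.inr (Or.inr (Or.inl rfl))))
    · exact Or.inr (Or.inr (Or.inr (Or.inr (Or.inr ⟨i, hm, rfl⟩))))
    · rw [vp] at hi2
      omega
    · simp only [Fin.val_last] at hi2
      omega

lemma mem_G21_00 (hn : 3 ≤ n) : s 0 + s 0 ∈ G21 n := Or.inl ⟨0, by simp; omega, rfl⟩

lemma mem_G21_01 (hn : 3 ≤ n) : s 0 + s 1 ∈ G21 n := by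
  have h1 := val_one_eq (n := n) (by omega)
  exact Or.inl ⟨1, by rw [h1]; omega, rfl⟩

lemma mem_G21_0m (hn : 3 ≤ n) {i : Fin (n + 1)} (hi : i ∈ Mid2 n) : s 0 + s i ∈ G21 n := by
  have := mem_Mid2.1 hi
  exact Or.inl ⟨i, by omega, rfl⟩

lemma mem_G21_0p (hn : 3 ≤ n) : s 0 + s (pp n) ∈ G21 n :=
  Or.inl ⟨pp n, by rw [vp]; omega, rfl⟩

lemma mem_G21_11 (hn : 3 ≤ n) : s 1 + s 1 ∈ G21 n := by
  have h1 := val_one_eq (n := n) (by omega)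
  exact Or.inr ⟨1, by rw [h1], by rw [h1]; omega, rfl⟩

lemma mem_G21_1m (hn : 3 ≤ n) {i : Fin (n + 1)} (hi : i ∈ Mid2 n) : s 1 + s i ∈ G21 n := by
  have := mem_Mid2.1 hi
  exact Or.inr ⟨i, by omega, by omega, rfl⟩

end gens

end Groth.Agent.Lib.Helper92.Bs
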