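import Groth.Agent.Lib.Helper92.BsC

set_option linter.unusedSectionVars false
set_option linter.unusedSimpArgs false
set_option linter.unusedVariables false
set_option linter.style.haveILetI false
set_option linter.unnecessarySimpa false
set_option autoImplicit false

/-!
# Dimensions of the nonzero graded pieces of `T(I)₀` for the ideal `J21`, part E (helper92)

(Generated from a table of regions; every arithmetic side condition is discharged by `omega`.)
-/

namespace Groth.Agent.Lib.Helper92.Bs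

open MvPolynomial W4c1hilbpn Groth.Agent.Lib.Helper92.HilbTgt
  Groth.Agent.Lib.Helper92.HilbTgtDecomp Groth.Agent.Lib.Helper92.Bor

universe u

variable {k : Type u} [Field k] {n : ℕ} {l : Fin (n + 1)}

section famB1

lemma nn_B1 (hn : 3 ≤ n) (hl : l ∈ Mid2 n) (β : Fin (n + 1) →₀ ℕ) :
    (∀ j, 0 ≤ toZ β (dif (s 1) (s (Fin.last n))) j) ↔ 1 ≤ (crd6 l β).2.1 := by
  obtain ⟨h01, h0p, h0t, h1p, h1t, hpt⟩ := ne_basic hn
  have hm := mid2_ne hn hl
  rw [nn_dif_iff, nn_single_iff]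
  simp only [Finsupp.add_apply, s_ne (h1t.symm)]
  rfl

lemma finrank_B1 (hn : 3 ≤ n) (hl : l ∈ Mid2 n) :
    Module.finrank k ↥(tPiece (J21 k n) (dif (s 1) (s (Fin.last n)))) = 3 := by
  have hI := isMonomial_J21 (k := k) (n := n)
  have c0 := c6_0 hn hl
  have c1 := c6_1 hn hl
  have cl := c6_l hn hl
  have cp := c6_p hn hl
  have ct := c6_t hn hl
  have eD : ∀ m : Fin 3, m = 0 ∨ m = 1 ∨ m = 2 := by decide
  refine finrank_of_regions6 (k := k) hn hl _ _ (fun x => 1 ≤ x.2.1) (nn_B1 hn hl)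
    (fun a x => (a.val = 0 ∧ x.1 = 0 ∧ x.2.1 = 1) ∨ (a.val = 1 ∧ x.2.1 = 2) ∨ (a.val = 2 ∧ x.1 = 1)) ?_
    (fun b => if b.val = 0 then s 1 + s l else if b.val = 1 then s 1 + s 1 else s 0 + s 1) ?_ ?_ ?_ ?_
  · rintro a ⟨x0, x1, xl, xm, xp, xt⟩ ⟨d0, d1, dl, dm, dp, dt⟩ ⟨g0, g1, gl, gm, gp, gt⟩ hd hc h1 h2 h3
    simp only [crd6_add, c0, c1, cl, cp, ct] at hc
    simp only [Prod.mk_add_mk, Prod.mk.injEq] at hc h3 ⊢
    unfold InI6 at h1 h2
    simp only at h1 h2
    rcases hd with hd | hd | hd | hd | hd | hd <;> simp only [Prod.mk.injEq] at hd <;> omega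
  · intro b
    rcases eD b with rfl | rfl | rfl
    · exact G21_subset _ (mem_G21_1m hn hl)
    · exact G21_subset _ (mem_G21_11 hn)
    · exact G21_subset _ (mem_G21_01 hn)
  · intro b
    rcases eD b with rfl | rfl | rfl
    · apply good_of_arith6 hn l
      · rw [nn_B1 hn hl]
        show 1 ≤ (crd6 l (s 1 + s l)).2.1
        simp only [crd6_add, c0, c1, cl, cp, ct, Prod.mk_add_mk]
        omega
      · rintro ⟨g0, g1, gl, gm, gp, gt⟩ hc
        have hc' : ((g0, g1, gl, gm, gp, gt) : ℕ × ℕ × ℕ × ℕ × ℕ × ℕ) + crd6 l (s 1) =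
            crd6 l (s 1 + s l) + crd6 l (s (Fin.last n)) := hc
        simp only [crd6_add, c0, c1, cl, cp, ct, Prod.mk_add_mk, Prod.mk.injEq] at hc'
        unfold InI6
        simp only
        omega
    · apply good_of_arith6 hn l
      · rw [nn_B1 hn hl]
        show 1 ≤ (crd6 l (s 1 + s 1)).2.1
        simp only [crd6_add, c0, c1, cl, cp, ct, Prod.mk_add_mk]
        omega
      · rintro ⟨g0, g1, gl, gm, gp, gt⟩ hc
        have hc' : ((g0, g1, gl, gm, gp, gt) : ℕ × ℕ × ℕ × ℕ × ℕ × ℕ) + crd6 l (s 1) =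
            crd6 l (s 1 + s 1) + crd6 l (s (Fin.last n)) := hc
        simp only [crd6_add, c0, c1, cl, cp, ct, Prod.mk_add_mk, Prod.mk.injEq] at hc'
        unfold InI6
        simp only
        omega
    · apply good_of_arith6 hn l
      · rw [nn_B1 hn hl]
        show 1 ≤ (crd6 l (s 0 + s 1)).2.1
        simp only [crd6_add, c0, c1, cl, cp, ct, Prod.mk_add_mk]
        omega
      · rintro ⟨g0, g1, gl, gm, gp, gt⟩ hc
        have hc' : ((g0, g1, gl, gm, gp, gt) : ℕ × ℕ × ℕ × ℕ × ℕ × ℕ) + crd6 l (s 1) =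
            crd6 l (s 0 + s 1) + crd6 l (s (Fin.last n)) := hc
        simp only [crd6_add, c0, c1, cl, cp, ct, Prod.mk_add_mk, Prod.mk.injEq] at hc'
        unfold InI6
        simp only
        omega
  · intro a b
    rw [Fin.ext_iff]
    rcases eD b with rfl | rfl | rfl
    · show (a.val = 0 ∧ (crd6 l (s 1 + s l)).1 = 0 ∧ (crd6 l (s 1 + s l)).2.1 = 1) ∨ (a.val = 1 ∧ (crd6 l (s 1 + s l)).2.1 = 2) ∨ (a.val = 2 ∧ (crd6 l (s 1 + s l)).1 = 1) ↔ a.val = 0
      simp [crd6_add, c0, c1, cl, cp, ct]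
    · show (a.val = 0 ∧ (crd6 l (s 1 + s 1)).1 = 0 ∧ (crd6 l (s 1 + s 1)).2.1 = 1) ∨ (a.val = 1 ∧ (crd6 l (s 1 + s 1)).2.1 = 2) ∨ (a.val = 2 ∧ (crd6 l (s 1 + s 1)).1 = 1) ↔ a.val = 1
      simp [crd6_add, c0, c1, cl, cp, ct]
    · show (a.val = 0 ∧ (crd6 l (s 0 + s 1)).1 = 0 ∧ (crd6 l (s 0 + s 1)).2.1 = 1) ∨ (a.val = 1 ∧ (crd6 l (s 0 + s 1)).2.1 = 2) ∨ (a.val = 2 ∧ (crd6 l (s 0 + s 1)).1 = 1) ↔ a.val = 2
      simp [crd6_add, c0, c1, cl, cp, ct]
  · intro ψ hψ h0
    have hd0 : aval ψ (dif (s 1) (s (Fin.last n))) (s 1 + s l) = 0 := h0 0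
    have hd1 : aval ψ (dif (s 1) (s (Fin.last n))) (s 1 + s 1) = 0 := h0 1
    have hd2 : aval ψ (dif (s 1) (s (Fin.last n))) (s 0 + s 1) = 0 := h0 2
    apply eq_zero_of_aval_eq_zero hI hψ (G21 n) G21_subset J21_le_span
    intro g hg
    rcases G21_cases hn hg with rfl | rfl | ⟨i, hi, rfl⟩ | rfl | rfl | ⟨i, hi, rfl⟩
    · refine aval_nn6 (l := l) (fun x => 1 ≤ x.2.1) (nn_B1 hn hl) ψ ?_
      simp only [crd6_add, c0, c1, cl, cp, ct, Prod.mk_add_mk]
      omega
    · exact hd2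
    · by_cases hil' : l = i
      · subst hil'
        · refine aval_nn6 (l := l) (fun x => 1 ≤ x.2.1) (nn_B1 hn hl) ψ ?_
          simp only [crd6_add, c0, c1, cl, cp, ct, Prod.mk_add_mk]
          omega
      · have hil : i ≠ l := fun h => hil' h.symm
        · refine aval_nn6 (l := l) (fun x => 1 ≤ x.2.1) (nn_B1 hn hl) ψ ?_
          simp only [crd6_add, c0, c1, cl, cp, ct, c6_mid hn hi hil, Prod.mk_add_mk]
          omega
    · refine aval_nn6 (l := l) (fun x => 1 ≤ x.2.1) (nn_B1 hn hl) ψ ?_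
      simp only [crd6_add, c0, c1, cl, cp, ct, Prod.mk_add_mk]
      omega
    · exact hd1
    · by_cases hil' : l = i
      · subst hil'
        · exact hd0
      · have hil : i ≠ l := fun h => hil' h.symm
        · refine aval_link6 hn l _ _ (fun x => 1 ≤ x.2.1) (nn_B1 hn hl) ψ (G21_subset _ (mem_G21_1m hn hi))
            (G21_subset _ (mem_G21_1m hn hl)) hd0 ?_ ?_ ?_ ?_
          · simp only [crd6_add, c0, c1, cl, cp, ct, c6_mid hn hi hil, Prod.mk_add_mk]
            omega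
          · simp only [crd6_add, c0, c1, cl, cp, ct, c6_mid hn hi hil, Prod.mk_add_mk]
            omega
          · simp only [crd6_add, c0, c1, cl, cp, ct, c6_mid hn hi hil, Prod.mk_add_mk]
            omega
          · rintro ⟨g0, g1, gl, gm, gp, gt⟩ hc
            simp only [crd6_add, c0, c1, cl, cp, ct, c6_mid hn hi hil, Prod.mk_add_mk, Prod.mk.injEq] at hc
            unfold InI6
            simp only
            omega

end famB1

section famB2

lemma nn_B2 (hn : 3 ≤ n) (hl : l ∈ Mid2 n) (β : Fin (n + 1) →₀ ℕ) :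
    (∀ j, 0 ≤ toZ β (dif (s 1) (s (pp n))) j) ↔ 1 ≤ (crd6 l β).2.1 := by
  obtain ⟨h01, h0p, h0t, h1p, h1t, hpt⟩ := ne_basic hn
  have hm := mid2_ne hn hl
  rw [nn_dif_iff, nn_single_iff]
  simp only [Finsupp.add_apply, s_ne (h1p.symm)]
  rfl

lemma finrank_B2 (hn : 3 ≤ n) (hl : l ∈ Mid2 n) :
    Module.finrank k ↥(tPiece (J21 k n) (dif (s 1) (s (pp n)))) = 2 := by
  have hI := isMonomial_J21 (k := k) (n := n)
  have c0 := c6_0 hn hl
  have c1 := c6_1 hn hl
  have cl := c6_l hn hl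
  have cp := c6_p hn hl
  have ct := c6_t hn hl
  have eD : ∀ m : Fin 2, m = 0 ∨ m = 1 := by decide
  refine finrank_of_regions6 (k := k) hn hl _ _ (fun x => 1 ≤ x.2.1) (nn_B2 hn hl)
    (fun a x => (a.val = 0 ∧ x.2.1 = 1) ∨ (a.val = 1 ∧ x.2.1 = 2)) ?_
    (fun b => if b.val = 0 then s 1 + s l else s 1 + s 1) ?_ ?_ ?_ ?_
  · rintro a ⟨x0, x1, xl, xm, xp, xt⟩ ⟨d0, d1, dl, dm, dp, dt⟩ ⟨g0, g1, gl, gm, gp, gt⟩ hd hc h1 h2 h3
    simp only [crd6_add, c0, c1, cl, cp, ct] at hc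
    simp only [Prod.mk_add_mk, Prod.mk.injEq] at hc h3 ⊢
    unfold InI6 at h1 h2
    simp only at h1 h2
    rcases hd with hd | hd | hd | hd | hd | hd <;> simp only [Prod.mk.injEq] at hd <;> omega
  · intro b
    rcases eD b with rfl | rfl
    · exact G21_subset _ (mem_G21_1m hn hl)
    · exact G21_subset _ (mem_G21_11 hn)
  · intro b
    rcases eD b with rfl | rfl
    · apply good_of_arith6 hn l
      · rw [nn_B2 hn hl]
        show 1 ≤ (crd6 l (s 1 + s l)).2.1
        simp only [crd6_add, c0, c1, cl, cp, ct, Prod.mk_add_mk]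
        omega
      · rintro ⟨g0, g1, gl, gm, gp, gt⟩ hc
        have hc' : ((g0, g1, gl, gm, gp, gt) : ℕ × ℕ × ℕ × ℕ × ℕ × ℕ) + crd6 l (s 1) =
            crd6 l (s 1 + s l) + crd6 l (s (pp n)) := hc
        simp only [crd6_add, c0, c1, cl, cp, ct, Prod.mk_add_mk, Prod.mk.injEq] at hc'
        unfold InI6
        simp only
        omega
    · apply good_of_arith6 hn l
      · rw [nn_B2 hn hl]
        show 1 ≤ (crd6 l (s 1 + s 1)).2.1
        simp only [crd6_add, c0, c1, cl, cp, ct, Prod.mk_add_mk]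
        omega
      · rintro ⟨g0, g1, gl, gm, gp, gt⟩ hc
        have hc' : ((g0, g1, gl, gm, gp, gt) : ℕ × ℕ × ℕ × ℕ × ℕ × ℕ) + crd6 l (s 1) =
            crd6 l (s 1 + s 1) + crd6 l (s (pp n)) := hc
        simp only [crd6_add, c0, c1, cl, cp, ct, Prod.mk_add_mk, Prod.mk.injEq] at hc'
        unfold InI6
        simp only
        omega
  · intro a b
    rw [Fin.ext_iff]
    rcases eD b with rfl | rfl
    · show (a.val = 0 ∧ (crd6 l (s 1 + s l)).2.1 = 1) ∨ (a.val = 1 ∧ (crd6 l (s 1 + s l)).2.1 = 2) ↔ a.val = 0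
      simp [crd6_add, c0, c1, cl, cp, ct]
    · show (a.val = 0 ∧ (crd6 l (s 1 + s 1)).2.1 = 1) ∨ (a.val = 1 ∧ (crd6 l (s 1 + s 1)).2.1 = 2) ↔ a.val = 1
      simp [crd6_add, c0, c1, cl, cp, ct]
  · intro ψ hψ h0
    have hd0 : aval ψ (dif (s 1) (s (pp n))) (s 1 + s l) = 0 := h0 0
    have hd1 : aval ψ (dif (s 1) (s (pp n))) (s 1 + s 1) = 0 := h0 1
    apply eq_zero_of_aval_eq_zero hI hψ (G21 n) G21_subset J21_le_span
    intro g hg
    rcases G21_cases hn hg with rfl | rfl | ⟨i, hi, rfl⟩ | rfl | rfl | ⟨i, hi, rfl⟩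
    · refine aval_nn6 (l := l) (fun x => 1 ≤ x.2.1) (nn_B2 hn hl) ψ ?_
      simp only [crd6_add, c0, c1, cl, cp, ct, Prod.mk_add_mk]
      omega
    · apply aval_ng6 hn l
      rintro ⟨g0, g1, gl, gm, gp, gt⟩ hc
      simp only [crd6_add, c0, c1, cl, cp, ct, Prod.mk_add_mk, Prod.mk.injEq] at hc
      unfold InI6
      simp only
      omega
    · by_cases hil' : l = i
      · subst hil'
        · refine aval_nn6 (l := l) (fun x => 1 ≤ x.2.1) (nn_B2 hn hl) ψ ?_
          simp only [crd6_add, c0, c1, cl, cp, ct, Prod.mk_add_mk]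
          omega
      · have hil : i ≠ l := fun h => hil' h.symm
        · refine aval_nn6 (l := l) (fun x => 1 ≤ x.2.1) (nn_B2 hn hl) ψ ?_
          simp only [crd6_add, c0, c1, cl, cp, ct, c6_mid hn hi hil, Prod.mk_add_mk]
          omega
    · refine aval_nn6 (l := l) (fun x => 1 ≤ x.2.1) (nn_B2 hn hl) ψ ?_
      simp only [crd6_add, c0, c1, cl, cp, ct, Prod.mk_add_mk]
      omega
    · exact hd1
    · by_cases hil' : l = i
      · subst hil'
        · exact hd0
      · have hil : i ≠ l := fun h => hil' h.symm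
        · refine aval_link6 hn l _ _ (fun x => 1 ≤ x.2.1) (nn_B2 hn hl) ψ (G21_subset _ (mem_G21_1m hn hi))
            (G21_subset _ (mem_G21_1m hn hl)) hd0 ?_ ?_ ?_ ?_
          · simp only [crd6_add, c0, c1, cl, cp, ct, c6_mid hn hi hil, Prod.mk_add_mk]
            omega
          · simp only [crd6_add, c0, c1, cl, cp, ct, c6_mid hn hi hil, Prod.mk_add_mk]
            omega
          · simp only [crd6_add, c0, c1, cl, cp, ct, c6_mid hn hi hil, Prod.mk_add_mk]
            omega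
          · rintro ⟨g0, g1, gl, gm, gp, gt⟩ hc
            simp only [crd6_add, c0, c1, cl, cp, ct, c6_mid hn hi hil, Prod.mk_add_mk, Prod.mk.injEq] at hc
            unfold InI6
            simp only
            omega

end famB2

section famB3

lemma nn_B3 (hn : 3 ≤ n) (hl : l ∈ Mid2 n) (β : Fin (n + 1) →₀ ℕ) :
    (∀ j, 0 ≤ toZ β (dif (s 1) (s l)) j) ↔ 1 ≤ (crd6 l β).2.1 := by
  obtain ⟨h01, h0p, h0t, h1p, h1t, hpt⟩ := ne_basic hn
  have hm := mid2_ne hn hl
  rw [nn_dif_iff, nn_single_iff]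
  simp only [Finsupp.add_apply, s_ne hm.2.1]
  rfl

lemma finrank_B3 (hn : 3 ≤ n) (hl : l ∈ Mid2 n) :
    Module.finrank k ↥(tPiece (J21 k n) (dif (s 1) (s l))) = 1 := by
  have hI := isMonomial_J21 (k := k) (n := n)
  have c0 := c6_0 hn hl
  have c1 := c6_1 hn hl
  have cl := c6_l hn hl
  have cp := c6_p hn hl
  have ct := c6_t hn hl
  have eD : ∀ m : Fin 1, m = 0 := by decide
  refine finrank_of_regions6 (k := k) hn hl _ _ (fun x => 1 ≤ x.2.1) (nn_B3 hn hl)
    (fun a x => (a.val = 0 ∧ x.2.1 = 1)) ?_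
    (fun b => s 1 + s l) ?_ ?_ ?_ ?_
  · rintro a ⟨x0, x1, xl, xm, xp, xt⟩ ⟨d0, d1, dl, dm, dp, dt⟩ ⟨g0, g1, gl, gm, gp, gt⟩ hd hc h1 h2 h3
    simp only [crd6_add, c0, c1, cl, cp, ct] at hc
    simp only [Prod.mk_add_mk, Prod.mk.injEq] at hc h3 ⊢
    unfold InI6 at h1 h2
    simp only at h1 h2
    rcases hd with hd | hd | hd | hd | hd | hd <;> simp only [Prod.mk.injEq] at hd <;> omega
  · intro b
    rcases eD b with rfl
    · exact G21_subset _ (mem_G21_1m hn hl)
  · intro b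
    rcases eD b with rfl
    · apply good_of_arith6 hn l
      · rw [nn_B3 hn hl]
        show 1 ≤ (crd6 l (s 1 + s l)).2.1
        simp only [crd6_add, c0, c1, cl, cp, ct, Prod.mk_add_mk]
        omega
      · rintro ⟨g0, g1, gl, gm, gp, gt⟩ hc
        have hc' : ((g0, g1, gl, gm, gp, gt) : ℕ × ℕ × ℕ × ℕ × ℕ × ℕ) + crd6 l (s 1) =
            crd6 l (s 1 + s l) + crd6 l (s l) := hc
        simp only [crd6_add, c0, c1, cl, cp, ct, Prod.mk_add_mk, Prod.mk.injEq] at hc'
        unfold InI6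
        simp only
        omega
  · intro a b
    rw [Fin.ext_iff]
    rcases eD b with rfl
    · show (a.val = 0 ∧ (crd6 l (s 1 + s l)).2.1 = 1) ↔ a.val = 0
      simp [crd6_add, c0, c1, cl, cp, ct]
  · intro ψ hψ h0
    have hd0 : aval ψ (dif (s 1) (s l)) (s 1 + s l) = 0 := h0 0
    apply eq_zero_of_aval_eq_zero hI hψ (G21 n) G21_subset J21_le_span
    intro g hg
    rcases G21_cases hn hg with rfl | rfl | ⟨i, hi, rfl⟩ | rfl | rfl | ⟨i, hi, rfl⟩
    · refine aval_nn6 (l := l) (fun x => 1 ≤ x.2.1) (nn_B3 hn hl) ψ ?_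
      simp only [crd6_add, c0, c1, cl, cp, ct, Prod.mk_add_mk]
      omega
    · apply aval_ng6 hn l
      rintro ⟨g0, g1, gl, gm, gp, gt⟩ hc
      simp only [crd6_add, c0, c1, cl, cp, ct, Prod.mk_add_mk, Prod.mk.injEq] at hc
      unfold InI6
      simp only
      omega
    · by_cases hil' : l = i
      · subst hil'
        · refine aval_nn6 (l := l) (fun x => 1 ≤ x.2.1) (nn_B3 hn hl) ψ ?_
          simp only [crd6_add, c0, c1, cl, cp, ct, Prod.mk_add_mk]
          omega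
      · have hil : i ≠ l := fun h => hil' h.symm
        · refine aval_nn6 (l := l) (fun x => 1 ≤ x.2.1) (nn_B3 hn hl) ψ ?_
          simp only [crd6_add, c0, c1, cl, cp, ct, c6_mid hn hi hil, Prod.mk_add_mk]
          omega
    · refine aval_nn6 (l := l) (fun x => 1 ≤ x.2.1) (nn_B3 hn hl) ψ ?_
      simp only [crd6_add, c0, c1, cl, cp, ct, Prod.mk_add_mk]
      omega
    · apply aval_ng6 hn l
      rintro ⟨g0, g1, gl, gm, gp, gt⟩ hc
      simp only [crd6_add, c0, c1, cl, cp, ct, Prod.mk_add_mk, Prod.mk.injEq] at hc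
      unfold InI6
      simp only
      omega
    · by_cases hil' : l = i
      · subst hil'
        · exact hd0
      · have hil : i ≠ l := fun h => hil' h.symm
        · refine aval_link6 hn l _ _ (fun x => 1 ≤ x.2.1) (nn_B3 hn hl) ψ (G21_subset _ (mem_G21_1m hn hi))
            (G21_subset _ (mem_G21_1m hn hl)) hd0 ?_ ?_ ?_ ?_
          · simp only [crd6_add, c0, c1, cl, cp, ct, c6_mid hn hi hil, Prod.mk_add_mk]
            omega
          · simp only [crd6_add, c0, c1, cl, cp, ct, c6_mid hn hi hil, Prod.mk_add_mk]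
            omega
          · simp only [crd6_add, c0, c1, cl, cp, ct, c6_mid hn hi hil, Prod.mk_add_mk]
            omega
          · rintro ⟨g0, g1, gl, gm, gp, gt⟩ hc
            simp only [crd6_add, c0, c1, cl, cp, ct, c6_mid hn hi hil, Prod.mk_add_mk, Prod.mk.injEq] at hc
            unfold InI6
            simp only
            omega

end famB3

end Groth.Agent.Lib.Helper92.Bs
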