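import Groth.Agent.Lib.Helper92.BsF

set_option linter.unusedSectionVars false
set_option linter.unusedSimpArgs false
set_option linter.unusedVariables false
set_option linter.style.haveILetI false
set_option linter.unnecessarySimpa false
set_option autoImplicit false

/-!
# Classification of the nonzero graded pieces of `T(I)₀` for the ideal `J21` (helper92)
-/

namespace Groth.Agent.Lib.Helper92.Bs

open MvPolynomial W4c1hilbpn Groth.Agent.Lib.Helper92.HilbTgt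
  Groth.Agent.Lib.Helper92.HilbTgtDecomp Groth.Agent.Lib.Helper92.Bor

universe u

variable {k : Type u} [Field k] {n : ℕ}

lemma univ_eq2 (hn : 3 ≤ n) :
    (Finset.univ : Finset (Fin (n + 1))) =
      insert 0 (insert 1 (insert (pp n) (insert (Fin.last n) (Mid2 n)))) := by
  ext j
  simp only [Finset.mem_univ, Finset.mem_insert, true_iff]
  rcases idx_cases2 hn j with rfl | rfl | hj | rfl | rfl
  · exact Or.inl rfl
  · exact Or.inr (Or.inl rfl)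
  · exact Or.inr (Or.inr (Or.inr (Or.inr hj)))
  · exact Or.inr (Or.inr (Or.inl rfl))
  · exact Or.inr (Or.inr (Or.inr (Or.inl rfl)))

lemma sum_eq_crd2 (hn : 3 ≤ n) (β : Fin (n + 1) →₀ ℕ) :
    ∑ j, β j = β 0 + β 1 + mid2 β + β (pp n) + β (Fin.last n) := by
  obtain ⟨h01, h0p, h0t, h1p, h1t, hpt⟩ := ne_basic hn
  have hnm := not_mid2 hn
  rw [univ_eq2 hn, Finset.sum_insert, Finset.sum_insert, Finset.sum_insert,
    Finset.sum_insert hnm.2.2.2]
  · unfold mid2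
    omega
  · simp only [Finset.mem_insert, not_or]
    exact ⟨hpt, hnm.2.2.1⟩
  · simp only [Finset.mem_insert, not_or]
    exact ⟨h1p, h1t, hnm.2.1⟩
  · simp only [Finset.mem_insert, not_or]
    exact ⟨h01, h0p, h0t, hnm.1⟩

lemma ext_crd2 (hn : 3 ≤ n) {β β' : Fin (n + 1) →₀ ℕ} (h0 : β 0 = β' 0) (h1 : β 1 = β' 1)
    (hp : β (pp n) = β' (pp n)) (ht : β (Fin.last n) = β' (Fin.last n))
    (hmid : ∀ j ∈ Mid2 n, β j = β' j) : β = β' := by
  ext j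
  rcases idx_cases2 hn j with rfl | rfl | hj | rfl | rfl
  · exact h0
  · exact h1
  · exact hmid j hj
  · exact hp
  · exact ht

/-- `γ = x₀ x_n`. -/
lemma eq_G1 (hn : 3 ≤ n) {γ : Fin (n + 1) →₀ ℕ} (a0 : γ 0 = 1) (a1 : γ 1 = 0) (am : mid2 γ = 0)
    (ap : γ (pp n) = 0) (at' : γ (Fin.last n) = 1) : γ = s 0 + s (Fin.last n) := by
  obtain ⟨h01, h0p, h0t, h1p, h1t, hpt⟩ := ne_basic hn
  apply ext_crd2 hn
  · rw [Finsupp.add_apply, s_self, s_ne h0t.symm, a0]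
  · rw [Finsupp.add_apply, s_ne h01, s_ne h1t.symm, a1]
  · rw [Finsupp.add_apply, s_ne h0p, s_ne hpt.symm, ap]
  · rw [Finsupp.add_apply, s_ne h0t, s_self, at']
  · intro j hj
    have := le_mid2 γ hj
    have hm := mid2_ne hn hj
    rw [Finsupp.add_apply, s_ne hm.1.symm, s_ne hm.2.2.2.symm]
    omega

/-- `γ = x₁ x_{n-1}`. -/
lemma eq_G2 (hn : 3 ≤ n) {γ : Fin (n + 1) →₀ ℕ} (a0 : γ 0 = 0) (a1 : γ 1 = 1) (am : mid2 γ = 0)
    (ap : γ (pp n) = 1) (at' : γ (Fin.last n) = 0) : γ = s 1 + s (pp n) := by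
  obtain ⟨h01, h0p, h0t, h1p, h1t, hpt⟩ := ne_basic hn
  apply ext_crd2 hn
  · rw [Finsupp.add_apply, s_ne h01.symm, s_ne h0p.symm, a0]
  · rw [Finsupp.add_apply, s_self, s_ne h1p.symm, a1]
  · rw [Finsupp.add_apply, s_ne h1p, s_self, ap]
  · rw [Finsupp.add_apply, s_ne h1t, s_ne hpt, at']
  · intro j hj
    have := le_mid2 γ hj
    have hm := mid2_ne hn hj
    rw [Finsupp.add_apply, s_ne hm.2.1.symm, s_ne hm.2.2.1.symm]
    omega

/-- `γ = x₁ x_n`. -/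
lemma eq_G3 (hn : 3 ≤ n) {γ : Fin (n + 1) →₀ ℕ} (a0 : γ 0 = 0) (a1 : γ 1 = 1) (am : mid2 γ = 0)
    (ap : γ (pp n) = 0) (at' : γ (Fin.last n) = 1) : γ = s 1 + s (Fin.last n) := by
  obtain ⟨h01, h0p, h0t, h1p, h1t, hpt⟩ := ne_basic hn
  apply ext_crd2 hn
  · rw [Finsupp.add_apply, s_ne h01.symm, s_ne h0t.symm, a0]
  · rw [Finsupp.add_apply, s_self, s_ne h1t.symm, a1]
  · rw [Finsupp.add_apply, s_ne h1p, s_ne hpt.symm, ap]
  · rw [Finsupp.add_apply, s_ne h1t, s_self, at']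
  · intro j hj
    have := le_mid2 γ hj
    have hm := mid2_ne hn hj
    rw [Finsupp.add_apply, s_ne hm.2.1.symm, s_ne hm.2.2.2.symm]
    omega

/-- Splitting off a variable from a quadratic monomial avoiding `x₀, x₁`. -/
lemma split_off (hn : 3 ≤ n) {γ : Fin (n + 1) →₀ ℕ} {x : Fin (n + 1)} (hx : 1 ≤ γ x)
    (a0 : γ 0 = 0) (a1 : γ 1 = 0) (hs : ∑ j, γ j = 2) :
    ∃ q, (q ∈ Mid2 n ∨ q = pp n ∨ q = Fin.last n) ∧ γ = s q + s x := by
  obtain ⟨γ', hγ'⟩ : ∃ γ', γ = γ' + s x := ⟨γ - s x, by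
    ext j
    rw [Finsupp.add_apply, Finsupp.tsub_apply]
    by_cases hj : x = j
    · subst hj
      rw [s_self]
      omega
    · rw [s_ne hj]
      omega⟩
  have hs' : ∑ j, γ' j = 1 := by
    have := hs
    rw [hγ'] at this
    simp only [Finsupp.add_apply, Finset.sum_add_distrib] at this
    rw [sum_s] at this
    omega
  obtain ⟨q, hq⟩ := exists_eq_single_of_sum_one hs'
  rw [hq] at hγ'
  have hq0 : q ≠ 0 := by
    intro h
    have := a0
    rw [hγ', Finsupp.add_apply, h, s_self] at this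
    omega
  have hq1 : q ≠ 1 := by
    intro h
    have := a1
    rw [hγ', Finsupp.add_apply, h, s_self] at this
    omega
  refine ⟨q, ?_, hγ'⟩
  rcases idx_cases2 hn q with h | h | h | h | h
  · exact absurd h hq0
  · exact absurd h hq1
  · exact Or.inl h
  · exact Or.inr (Or.inl h)
  · exact Or.inr (Or.inr h)

/-- The multidegrees of the nonzero pieces. -/
def IsFam2 (n : ℕ) (α : Fin (n + 1) → ℤ) : Prop :=
  α = dif (s 0) (s (Fin.last n)) ∨ α = dif (s 0) (s (pp n)) ∨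
  α = dif (s 0 + s (pp n)) (s 1 + s (Fin.last n)) ∨ α = dif (s 0) (s 1) ∨
  α = dif (s 1) (s (Fin.last n)) ∨ α = dif (s 1) (s (pp n)) ∨
  α = dif (s (pp n)) (s (Fin.last n)) ∨ α = dif (s 1 + s 1) (s 0 + s (Fin.last n)) ∨
  ∃ l ∈ Mid2 n, α = dif (s 0) (s l) ∨ α = dif (s 1) (s l) ∨ α = dif (s l) (s (Fin.last n)) ∨
    α = dif (s l) (s (pp n)) ∨ α = dif (s 1 + s l) (s 0 + s (Fin.last n))

variable {α : Fin (n + 1) → ℤ}

lemma fA1 (h : α = dif (s 0) (s (Fin.last n))) : IsFam2 n α := Or.inl h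
lemma fA2 (h : α = dif (s 0) (s (pp n))) : IsFam2 n α := Or.inr (Or.inl h)
lemma fA4 (h : α = dif (s 0 + s (pp n)) (s 1 + s (Fin.last n))) : IsFam2 n α :=
  Or.inr (Or.inr (Or.inl h))
lemma fA5 (h : α = dif (s 0) (s 1)) : IsFam2 n α := Or.inr (Or.inr (Or.inr (Or.inl h)))
lemma fB1 (h : α = dif (s 1) (s (Fin.last n))) : IsFam2 n α :=
  Or.inr (Or.inr (Or.inr (Or.inr (Or.inl h))))
lemma fB2 (h : α = dif (s 1) (s (pp n))) : IsFam2 n α :=
  Or.inr (Or.inr (Or.inr (Or.inr (Or.inr (Or.inl h)))))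
lemma fD (h : α = dif (s (pp n)) (s (Fin.last n))) : IsFam2 n α :=
  Or.inr (Or.inr (Or.inr (Or.inr (Or.inr (Or.inr (Or.inl h))))))
lemma fE1 (h : α = dif (s 1 + s 1) (s 0 + s (Fin.last n))) : IsFam2 n α :=
  Or.inr (Or.inr (Or.inr (Or.inr (Or.inr (Or.inr (Or.inr (Or.inl h)))))))
lemma fL {l : Fin (n + 1)} (hl : l ∈ Mid2 n)
    (h : α = dif (s 0) (s l) ∨ α = dif (s 1) (s l) ∨ α = dif (s l) (s (Fin.last n)) ∨
      α = dif (s l) (s (pp n)) ∨ α = dif (s 1 + s l) (s 0 + s (Fin.last n))) : IsFam2 n α :=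
  Or.inr (Or.inr (Or.inr (Or.inr (Or.inr (Or.inr (Or.inr (Or.inr ⟨l, hl, h⟩)))))))
lemma fA3 {l : Fin (n + 1)} (hl : l ∈ Mid2 n) (h : α = dif (s 0) (s l)) : IsFam2 n α :=
  fL hl (Or.inl h)
lemma fB3 {l : Fin (n + 1)} (hl : l ∈ Mid2 n) (h : α = dif (s 1) (s l)) : IsFam2 n α :=
  fL hl (Or.inr (Or.inl h))
lemma fC1 {l : Fin (n + 1)} (hl : l ∈ Mid2 n) (h : α = dif (s l) (s (Fin.last n))) :
    IsFam2 n α := fL hl (Or.inr (Or.inr (Or.inl h)))
lemma fC2 {l : Fin (n + 1)} (hl : l ∈ Mid2 n) (h : α = dif (s l) (s (pp n))) : IsFam2 n α :=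
  fL hl (Or.inr (Or.inr (Or.inr (Or.inl h))))
lemma fE2 {l : Fin (n + 1)} (hl : l ∈ Mid2 n)
    (h : α = dif (s 1 + s l) (s 0 + s (Fin.last n))) : IsFam2 n α :=
  fL hl (Or.inr (Or.inr (Or.inr (Or.inr h))))

lemma fAq {q : Fin (n + 1)} (hq : q ∈ Mid2 n ∨ q = pp n ∨ q = Fin.last n)
    (h : α = dif (s 0) (s q)) : IsFam2 n α := by
  rcases hq with hq | rfl | rfl
  · exact fA3 hq h
  · exact fA2 h
  · exact fA1 h

lemma fBq {q : Fin (n + 1)} (hq : q ∈ Mid2 n ∨ q = pp n ∨ q = Fin.last n)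
    (h : α = dif (s 1) (s q)) : IsFam2 n α := by
  rcases hq with hq | rfl | rfl
  · exact fB3 hq h
  · exact fB2 h
  · exact fB1 h

end Groth.Agent.Lib.Helper92.Bs
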