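import Groth.Agent.Lib.Helper92.BsG

set_option linter.unusedSectionVars false
set_option linter.unusedSimpArgs false
set_option linter.unusedVariables false
set_option linter.style.haveILetI false
set_option linter.unnecessarySimpa false
set_option autoImplicit false

/-!
# Classification of the nonzero graded pieces of `T(I)₀` for the ideal `J21`, case analysis (helper92)
-/

namespace Groth.Agent.Lib.Helper92.Bs

open MvPolynomial W4c1hilbpn Groth.Agent.Lib.Helper92.HilbTgt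
  Groth.Agent.Lib.Helper92.HilbTgtDecomp Groth.Agent.Lib.Helper92.Bor

universe u

variable {k : Type u} [Field k] {n : ℕ} {α : Fin (n + 1) → ℤ}

/-- The possible quadratic standard monomials. -/
lemma gamma_cases {γ : Fin (n + 1) →₀ ℕ}
    (hc : ¬ (2 ≤ γ 0 ∨ (1 ≤ γ 0 ∧ 1 ≤ γ 1 + mid2 γ + γ (pp n)) ∨ 2 ≤ γ 1 ∨
      (1 ≤ γ 1 ∧ 1 ≤ mid2 γ)))
    (hγ2 : γ 0 + γ 1 + mid2 γ + γ (pp n) + γ (Fin.last n) = 2) :
    (γ 0 = 1 ∧ γ 1 = 0 ∧ mid2 γ = 0 ∧ γ (pp n) = 0 ∧ γ (Fin.last n) = 1) ∨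
      (γ 0 = 0 ∧ γ 1 = 1 ∧ mid2 γ = 0 ∧ γ (pp n) = 1 ∧ γ (Fin.last n) = 0) ∨
      (γ 0 = 0 ∧ γ 1 = 1 ∧ mid2 γ = 0 ∧ γ (pp n) = 0 ∧ γ (Fin.last n) = 1) ∨
      (γ 0 = 0 ∧ γ 1 = 0) := by
  by_cases a0 : γ 0 = 1
  · refine Or.inl ⟨a0, ?_, ?_, ?_, ?_⟩ <;> omega
  · have a0' : γ 0 = 0 := by omega
    by_cases a1 : γ 1 = 1
    · have am : mid2 γ = 0 := by omega
      by_cases ap : γ (pp n) = 1
      · refine Or.inr (Or.inl ⟨a0', a1, am, ap, ?_⟩)
        omega
      · refine Or.inr (Or.inr (Or.inl ⟨a0', a1, am, ?_, ?_⟩)) <;> omega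
    · refine Or.inr (Or.inr (Or.inr ⟨a0', ?_⟩))
      omega

lemma cls_00 (hn4 : 4 ≤ n) (φ : Tgt (J21 k n)) (hsum : ∑ j, α j = 0)
    (hgood : Good (J21 k n) α (s 0 + s 0)) (hav : aval φ α (s 0 + s 0) ≠ 0) : IsFam2 n α := by
  have hn : 3 ≤ n := by omega
  obtain ⟨γ, hγ, hα, hγI, hγs⟩ := factsI hgood hsum (sum_s_add 0 0)
  have hγ2 := hγs
  rw [sum_eq_crd2 hn] at hγ2
  have hc := hγI
  rw [mem_exps_iff2 hn] at hc
  obtain ⟨h01, h0p, h0t, h1p, h1t, hpt⟩ := ne_basic hn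
  have hαd : α = dif (s 0 + s 0) γ := by
    funext j
    rw [hα j]
    rfl
  by_cases a0 : γ 0 = 1
  · have hγe := eq_G1 hn a0 (by omega) (by omega) (by omega) (by omega)
    refine fA1 ?_
    rw [hαd, hγe]
    apply dif_eq_of_add
    abel
  · exfalso
    apply hav
    refine killI isMonomial_J21 φ hγ hgood (G21_subset _ (mem_G21_00 hn))
      (G21_subset _ (mem_G21_0p hn)) (δ := s (pp n)) (δ' := s 0) (add_right_comm _ _ _) ?_
      ⟨0, ?_⟩
    · rw [mem_exps_iff2 hn]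
      simp only [Finsupp.add_apply, mid2_add, s_ne h0p.symm, s_ne h1p.symm, s_self,
        mid2_single_of_not_mem (not_mid2 hn).2.2.1]
      omega
    · have h1 : ((s 0 + s (pp n) : Fin (n + 1) →₀ ℕ)) 0 = 1 := by rw [Finsupp.add_apply, s_self, s_ne h0p.symm]
      have h2 : ((s 0 + s 0 : Fin (n + 1) →₀ ℕ)) 0 = 2 := by rw [Finsupp.add_apply, s_self]
      have h3 : γ 0 = 0 := by omega
      rw [toZ_apply, hα 0, h1, h2, h3]
      norm_num

lemma cls_01 (hn4 : 4 ≤ n) (φ : Tgt (J21 k n)) (hsum : ∑ j, α j = 0)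
    (hgood : Good (J21 k n) α (s 0 + s 1)) (hav : aval φ α (s 0 + s 1) ≠ 0) : IsFam2 n α := by
  have hn : 3 ≤ n := by omega
  obtain ⟨γ, hγ, hα, hγI, hγs⟩ := factsI hgood hsum (sum_s_add 0 1)
  have hγ2 := hγs
  rw [sum_eq_crd2 hn] at hγ2
  have hc := hγI
  rw [mem_exps_iff2 hn] at hc
  obtain ⟨h01, h0p, h0t, h1p, h1t, hpt⟩ := ne_basic hn
  have hαd : α = dif (s 0 + s 1) γ := by
    funext j
    rw [hα j]
    rfl
  rcases gamma_cases hc hγ2 with ⟨a0, a1, am, ap, at'⟩ | ⟨a0, a1, am, ap, at'⟩ |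
    ⟨a0, a1, am, ap, at'⟩ | ⟨a0, a1⟩
  · have hγe := eq_G1 hn a0 a1 am ap at'
    refine fB1 ?_
    rw [hαd, hγe]
    apply dif_eq_of_add
    abel
  · have hγe := eq_G2 hn a0 a1 am ap at'
    refine fA2 ?_
    rw [hαd, hγe]
    apply dif_eq_of_add
    abel
  · have hγe := eq_G3 hn a0 a1 am ap at'
    refine fA1 ?_
    rw [hαd, hγe]
    apply dif_eq_of_add
    abel
  · exfalso
    apply hav
    refine killI isMonomial_J21 φ hγ hgood (G21_subset _ (mem_G21_01 hn))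
      (G21_subset _ (mem_G21_0p hn)) (δ := s (pp n)) (δ' := s 1) (add_right_comm _ _ _) ?_
      ⟨1, ?_⟩
    · rw [mem_exps_iff2 hn]
      simp only [Finsupp.add_apply, mid2_add, s_ne h0p.symm, s_ne h1p.symm, s_self,
        mid2_single_of_not_mem (not_mid2 hn).2.2.1]
      omega
    · have h1 : ((s 0 + s (pp n) : Fin (n + 1) →₀ ℕ)) 1 = 0 := by rw [Finsupp.add_apply, s_ne h01, s_ne h1p.symm]
      have h2 : ((s 0 + s 1 : Fin (n + 1) →₀ ℕ)) 1 = 1 := by rw [Finsupp.add_apply, s_ne h01, s_self]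
      rw [toZ_apply, hα 1, h1, h2, a1]
      norm_num

lemma cls_0m (hn4 : 4 ≤ n) {i : Fin (n + 1)} (hi : i ∈ Mid2 n) (φ : Tgt (J21 k n))
    (hsum : ∑ j, α j = 0)
    (hgood : Good (J21 k n) α (s 0 + s i)) (hav : aval φ α (s 0 + s i) ≠ 0) : IsFam2 n α := by
  have hn : 3 ≤ n := by omega
  obtain ⟨γ, hγ, hα, hγI, hγs⟩ := factsI hgood hsum (sum_s_add 0 i)
  have hγ2 := hγs
  rw [sum_eq_crd2 hn] at hγ2
  have hc := hγI
  rw [mem_exps_iff2 hn] at hc
  obtain ⟨h01, h0p, h0t, h1p, h1t, hpt⟩ := ne_basic hn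
  have hm := mid2_ne hn hi
  have hαd : α = dif (s 0 + s i) γ := by
    funext j
    rw [hα j]
    rfl
  by_cases a0 : γ 0 = 1
  · have hγe := eq_G1 hn a0 (by omega) (by omega) (by omega) (by omega)
    refine fC1 hi ?_
    rw [hαd, hγe]
    apply dif_eq_of_add
    abel
  · have a0' : γ 0 = 0 := by omega
    by_cases hγi : 1 ≤ γ i
    · have a1 : γ 1 = 0 := by
        have := le_mid2 γ hi
        omega
      obtain ⟨q, hq, hγe⟩ := split_off hn hγi a0' a1 hγs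
      refine fAq hq ?_
      rw [hαd, hγe]
      apply dif_eq_of_add
      abel
    · exfalso
      apply hav
      refine killI isMonomial_J21 φ hγ hgood (G21_subset _ (mem_G21_0m hn hi))
        (G21_subset _ (mem_G21_0p hn)) (δ := s (pp n)) (δ' := s i) (add_right_comm _ _ _) ?_
        ⟨i, ?_⟩
      · rw [mem_exps_iff2 hn]
        simp only [Finsupp.add_apply, mid2_add, s_ne h0p.symm, s_ne h1p.symm, s_self,
          mid2_single_of_not_mem (not_mid2 hn).2.2.1]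
        omega
      · have h1 : ((s 0 + s (pp n) : Fin (n + 1) →₀ ℕ)) i = 0 := by
          rw [Finsupp.add_apply, s_ne hm.1.symm, s_ne hm.2.2.1.symm]
        have h2 : ((s 0 + s i : Fin (n + 1) →₀ ℕ)) i = 1 := by rw [Finsupp.add_apply, s_ne hm.1.symm, s_self]
        have h3 : γ i = 0 := by omega
        rw [toZ_apply, hα i, h1, h2, h3]
        norm_num

lemma cls_0p (hn4 : 4 ≤ n) (φ : Tgt (J21 k n)) (hsum : ∑ j, α j = 0)
    (hgood : Good (J21 k n) α (s 0 + s (pp n))) (hav : aval φ α (s 0 + s (pp n)) ≠ 0) :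
    IsFam2 n α := by
  have hn : 3 ≤ n := by omega
  obtain ⟨γ, hγ, hα, hγI, hγs⟩ := factsI hgood hsum (sum_s_add 0 (pp n))
  have hγ2 := hγs
  rw [sum_eq_crd2 hn] at hγ2
  have hc := hγI
  rw [mem_exps_iff2 hn] at hc
  obtain ⟨h01, h0p, h0t, h1p, h1t, hpt⟩ := ne_basic hn
  have hαd : α = dif (s 0 + s (pp n)) γ := by
    funext j
    rw [hα j]
    rfl
  rcases gamma_cases hc hγ2 with ⟨a0, a1, am, ap, at'⟩ | ⟨a0, a1, am, ap, at'⟩ |
    ⟨a0, a1, am, ap, at'⟩ | ⟨a0, a1⟩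
  · have hγe := eq_G1 hn a0 a1 am ap at'
    refine fD ?_
    rw [hαd, hγe]
    apply dif_eq_of_add
    abel
  · have hγe := eq_G2 hn a0 a1 am ap at'
    refine fA5 ?_
    rw [hαd, hγe]
    apply dif_eq_of_add
    abel
  · have hγe := eq_G3 hn a0 a1 am ap at'
    refine fA4 ?_
    rw [hαd, hγe]
  · by_cases hγp : 1 ≤ γ (pp n)
    · obtain ⟨q, hq, hγe⟩ := split_off hn hγp a0 a1 hγs
      refine fAq hq ?_
      rw [hαd, hγe]
      apply dif_eq_of_add
      abel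
    · exfalso
      apply hav
      obtain ⟨l, hl⟩ := exists_mid2 hn4
      have hm := mid2_ne hn hl
      refine killI isMonomial_J21 φ hγ hgood (G21_subset _ (mem_G21_0p hn))
        (G21_subset _ (mem_G21_0m hn hl)) (δ := s l) (δ' := s (pp n)) (add_right_comm _ _ _) ?_
        ⟨pp n, ?_⟩
      · rw [mem_exps_iff2 hn]
        simp only [Finsupp.add_apply, mid2_add, s_ne hm.1, s_ne hm.2.1]
        omega
      · have h1 : ((s 0 + s l : Fin (n + 1) →₀ ℕ)) (pp n) = 0 := by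
          rw [Finsupp.add_apply, s_ne h0p, s_ne hm.2.2.1]
        have h2 : ((s 0 + s (pp n) : Fin (n + 1) →₀ ℕ)) (pp n) = 1 := by rw [Finsupp.add_apply, s_ne h0p, s_self]
        have h3 : γ (pp n) = 0 := by omega
        rw [toZ_apply, hα (pp n), h1, h2, h3]
        norm_num

lemma cls_11 (hn4 : 4 ≤ n) (φ : Tgt (J21 k n)) (hsum : ∑ j, α j = 0)
    (hgood : Good (J21 k n) α (s 1 + s 1)) (hav : aval φ α (s 1 + s 1) ≠ 0) : IsFam2 n α := by
  have hn : 3 ≤ n := by omega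
  obtain ⟨γ, hγ, hα, hγI, hγs⟩ := factsI hgood hsum (sum_s_add 1 1)
  have hγ2 := hγs
  rw [sum_eq_crd2 hn] at hγ2
  have hc := hγI
  rw [mem_exps_iff2 hn] at hc
  obtain ⟨h01, h0p, h0t, h1p, h1t, hpt⟩ := ne_basic hn
  have hαd : α = dif (s 1 + s 1) γ := by
    funext j
    rw [hα j]
    rfl
  rcases gamma_cases hc hγ2 with ⟨a0, a1, am, ap, at'⟩ | ⟨a0, a1, am, ap, at'⟩ |
    ⟨a0, a1, am, ap, at'⟩ | ⟨a0, a1⟩
  · have hγe := eq_G1 hn a0 a1 am ap at'
    refine fE1 ?_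
    rw [hαd, hγe]
  · have hγe := eq_G2 hn a0 a1 am ap at'
    refine fB2 ?_
    rw [hαd, hγe]
    apply dif_eq_of_add
    abel
  · have hγe := eq_G3 hn a0 a1 am ap at'
    refine fB1 ?_
    rw [hαd, hγe]
    apply dif_eq_of_add
    abel
  · exfalso
    apply hav
    obtain ⟨l, hl⟩ := exists_mid2 hn4
    have hm := mid2_ne hn hl
    refine killI isMonomial_J21 φ hγ hgood (G21_subset _ (mem_G21_11 hn))
      (G21_subset _ (mem_G21_1m hn hl)) (δ := s l) (δ' := s 1) (add_right_comm _ _ _) ?_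
      ⟨1, ?_⟩
    · rw [mem_exps_iff2 hn]
      simp only [Finsupp.add_apply, mid2_add, s_ne hm.1, s_ne hm.2.1]
      omega
    · have h1 : ((s 1 + s l : Fin (n + 1) →₀ ℕ)) 1 = 1 := by rw [Finsupp.add_apply, s_self, s_ne hm.2.1]
      have h2 : ((s 1 + s 1 : Fin (n + 1) →₀ ℕ)) 1 = 2 := by rw [Finsupp.add_apply, s_self]
      rw [toZ_apply, hα 1, h1, h2, a1]
      norm_num

lemma cls_1m (hn4 : 4 ≤ n) {i : Fin (n + 1)} (hi : i ∈ Mid2 n) (φ : Tgt (J21 k n))
    (hsum : ∑ j, α j = 0)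
    (hgood : Good (J21 k n) α (s 1 + s i)) (hav : aval φ α (s 1 + s i) ≠ 0) : IsFam2 n α := by
  have hn : 3 ≤ n := by omega
  obtain ⟨γ, hγ, hα, hγI, hγs⟩ := factsI hgood hsum (sum_s_add 1 i)
  have hγ2 := hγs
  rw [sum_eq_crd2 hn] at hγ2
  have hc := hγI
  rw [mem_exps_iff2 hn] at hc
  obtain ⟨h01, h0p, h0t, h1p, h1t, hpt⟩ := ne_basic hn
  have hm := mid2_ne hn hi
  have hαd : α = dif (s 1 + s i) γ := by
    funext j
    rw [hα j]
    rfl
  have hgi : ((s 1 + s i : Fin (n + 1) →₀ ℕ)) i = 1 := by rw [Finsupp.add_apply, s_ne hm.2.1.symm, s_self]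
  rcases gamma_cases hc hγ2 with ⟨a0, a1, am, ap, at'⟩ | ⟨a0, a1, am, ap, at'⟩ |
    ⟨a0, a1, am, ap, at'⟩ | ⟨a0, a1⟩
  · have hγe := eq_G1 hn a0 a1 am ap at'
    refine fE2 hi ?_
    rw [hαd, hγe]
  · have hγe := eq_G2 hn a0 a1 am ap at'
    refine fC2 hi ?_
    rw [hαd, hγe]
    apply dif_eq_of_add
    abel
  · have hγe := eq_G3 hn a0 a1 am ap at'
    refine fC1 hi ?_
    rw [hαd, hγe]
    apply dif_eq_of_add
    abel
  · by_cases hγi : 1 ≤ γ i
    · obtain ⟨q, hq, hγe⟩ := split_off hn hγi a0 a1 hγs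
      refine fBq hq ?_
      rw [hαd, hγe]
      apply dif_eq_of_add
      abel
    · exfalso
      apply hav
      have h3 : γ i = 0 := by omega
      by_cases hmid : 1 ≤ mid2 γ
      · obtain ⟨p, hp, hγp⟩ := exists_of_mid2_pos hmid
        have hm' := mid2_ne hn hp
        have hpi : p ≠ i := by
          intro h
          rw [h] at hγp
          exact hγi hγp
        refine killI isMonomial_J21 φ hγ hgood (G21_subset _ (mem_G21_1m hn hi))
          (G21_subset _ (mem_G21_1m hn hp)) (δ := s p) (δ' := s i) (add_right_comm _ _ _) ?_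
          ⟨i, ?_⟩
        · rw [mem_exps_iff2 hn]
          simp only [Finsupp.add_apply, mid2_add, s_ne hm'.1, s_ne hm'.2.1]
          omega
        · have h1 : ((s 1 + s p : Fin (n + 1) →₀ ℕ)) i = 0 := by rw [Finsupp.add_apply, s_ne hm.2.1.symm, s_ne hpi]
          rw [toZ_apply, hα i, h1, hgi, h3]
          norm_num
      · refine killI isMonomial_J21 φ hγ hgood (G21_subset _ (mem_G21_1m hn hi))
          (G21_subset _ (mem_G21_11 hn)) (δ := s 1) (δ' := s i) (add_right_comm _ _ _) ?_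
          ⟨i, ?_⟩
        · rw [mem_exps_iff2 hn]
          simp only [Finsupp.add_apply, mid2_add, s_ne h01.symm, s_self, s_ne h1p, s_ne h1t,
            mid2_single_of_not_mem (not_mid2 hn).2.1]
          omega
        · have h1 : ((s 1 + s 1 : Fin (n + 1) →₀ ℕ)) i = 0 := by rw [Finsupp.add_apply, s_ne hm.2.1.symm]
          rw [toZ_apply, hα i, h1, hgi, h3]
          norm_num

/-- Classification of the nonzero pieces of total degree zero. -/
theorem classify2 (hn4 : 4 ≤ n) (hsum : ∑ j, α j = 0) (hne : tPiece (J21 k n) α ≠ ⊥) :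
    IsFam2 n α := by
  have hn : 3 ≤ n := by omega
  obtain ⟨φ, g, hg, hgood, hav⟩ :=
    exists_good_gen isMonomial_J21 hne (G21 n) G21_subset J21_le_span
  rcases G21_cases hn hg with rfl | rfl | ⟨i, hi, rfl⟩ | rfl | rfl | ⟨i, hi, rfl⟩
  · exact cls_00 hn4 φ hsum hgood hav
  · exact cls_01 hn4 φ hsum hgood hav
  · exact cls_0m hn4 hi φ hsum hgood hav
  · exact cls_0p hn4 φ hsum hgood hav
  · exact cls_11 hn4 φ hsum hgood hav
  · exact cls_1m hn4 hi φ hsum hgood hav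

end Groth.Agent.Lib.Helper92.Bs
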