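import Groth.Agent.Lib.Helper92.BsI
import Groth.Agent.Lib.Helper92.BsD
import Groth.Agent.Lib.Helper92.BsE

set_option linter.unusedSectionVars false
set_option linter.unusedSimpArgs false
set_option linter.unusedVariables false
set_option linter.style.haveILetI false
set_option linter.unnecessarySimpa false
set_option autoImplicit false

/-!
# `dim T(I)₀ = 6n - 6` for the ideal `J21`: assembly (helper92)
-/

namespace Groth.Agent.Lib.Helper92.Bs

open MvPolynomial W4c1hilbpn Groth.Agent.Lib.Helper92.HilbTgt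
  Groth.Agent.Lib.Helper92.HilbTgtDecomp Groth.Agent.Lib.Helper92.Bor

universe u

variable {k : Type u} [Field k] {n : ℕ}

/-- The weights of the separating functional. -/
def wt2 (n : ℕ) (j : Fin (n + 1)) : ℤ :=
  if j = 0 then 1 else if j = 1 then 3 else if j = pp n then 9 else if j = Fin.last n then 27
  else 100 * (j.val : ℤ)

lemma wt2_0 : wt2 n 0 = 1 := by
  unfold wt2
  rw [if_pos rfl]

lemma wt2_1 (hn : 3 ≤ n) : wt2 n 1 = 3 := by
  obtain ⟨h01, h0p, h0t, h1p, h1t, hpt⟩ := ne_basic hn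
  unfold wt2
  rw [if_neg h01.symm, if_pos rfl]

lemma wt2_p (hn : 3 ≤ n) : wt2 n (pp n) = 9 := by
  obtain ⟨h01, h0p, h0t, h1p, h1t, hpt⟩ := ne_basic hn
  unfold wt2
  rw [if_neg h0p.symm, if_neg h1p.symm, if_pos rfl]

lemma wt2_t (hn : 3 ≤ n) : wt2 n (Fin.last n) = 27 := by
  obtain ⟨h01, h0p, h0t, h1p, h1t, hpt⟩ := ne_basic hn
  unfold wt2
  rw [if_neg h0t.symm, if_neg h1t.symm, if_neg hpt.symm, if_pos rfl]

lemma wt2_mm (hn : 3 ≤ n) (j : Fin (n - 3)) : wt2 n (mm2 n j) = 100 * ((j.val : ℤ) + 2) := by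
  have hm := mid2_ne hn (mm2_mem j)
  unfold wt2
  rw [if_neg hm.1, if_neg hm.2.1, if_neg hm.2.2.1, if_neg hm.2.2.2]
  simp [mm2]

lemma e8 : ∀ c : Fin 8, c = 0 ∨ c = 1 ∨ c = 2 ∨ c = 3 ∨ c = 4 ∨ c = 5 ∨ c = 6 ∨ c = 7 := by
  decide

lemma e5 : ∀ c : Fin 5, c = 0 ∨ c = 1 ∨ c = 2 ∨ c = 3 ∨ c = 4 := by decide

lemma cfun_fam2 (hn : 3 ≤ n) (y : Y2 n) : cfunW (wt2 n) (fam2 n y) = code2 n y := by
  rcases y with c | ⟨c, j⟩
  · rcases e8 c with rfl | rfl | rfl | rfl | rfl | rfl | rfl | rfl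
    · show cfunW (wt2 n) (dif (s 0) (s (Fin.last n))) = 26
      simp only [cfunW_dif, sum_w_add, sum_w_single, wt2_0, wt2_1 hn, wt2_p hn, wt2_t hn]
      norm_num
    · show cfunW (wt2 n) (dif (s 0) (s (pp n))) = 8
      simp only [cfunW_dif, sum_w_add, sum_w_single, wt2_0, wt2_1 hn, wt2_p hn, wt2_t hn]
      norm_num
    · show cfunW (wt2 n) (dif (s 0 + s (pp n)) (s 1 + s (Fin.last n))) = 20
      simp only [cfunW_dif, sum_w_add, sum_w_single, wt2_0, wt2_1 hn, wt2_p hn, wt2_t hn]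
      norm_num
    · show cfunW (wt2 n) (dif (s 0) (s 1)) = 2
      simp only [cfunW_dif, sum_w_add, sum_w_single, wt2_0, wt2_1 hn, wt2_p hn, wt2_t hn]
      norm_num
    · show cfunW (wt2 n) (dif (s 1) (s (Fin.last n))) = 24
      simp only [cfunW_dif, sum_w_add, sum_w_single, wt2_0, wt2_1 hn, wt2_p hn, wt2_t hn]
      norm_num
    · show cfunW (wt2 n) (dif (s 1) (s (pp n))) = 6
      simp only [cfunW_dif, sum_w_add, sum_w_single, wt2_0, wt2_1 hn, wt2_p hn, wt2_t hn]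
      norm_num
    · show cfunW (wt2 n) (dif (s (pp n)) (s (Fin.last n))) = 18
      simp only [cfunW_dif, sum_w_add, sum_w_single, wt2_0, wt2_1 hn, wt2_p hn, wt2_t hn]
      norm_num
    · show cfunW (wt2 n) (dif (s 1 + s 1) (s 0 + s (Fin.last n))) = 22
      simp only [cfunW_dif, sum_w_add, sum_w_single, wt2_0, wt2_1 hn, wt2_p hn, wt2_t hn]
      norm_num
  · rcases e5 c with rfl | rfl | rfl | rfl | rfl
    · show cfunW (wt2 n) (dif (s 0) (s (mm2 n j))) = 100 * ((j.val : ℤ) + 2) - 1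
      simp only [cfunW_dif, sum_w_add, sum_w_single, wt2_0, wt2_1 hn, wt2_p hn, wt2_t hn,
        wt2_mm hn]
    · show cfunW (wt2 n) (dif (s 1) (s (mm2 n j))) = 100 * ((j.val : ℤ) + 2) - 3
      simp only [cfunW_dif, sum_w_add, sum_w_single, wt2_0, wt2_1 hn, wt2_p hn, wt2_t hn,
        wt2_mm hn]
    · show cfunW (wt2 n) (dif (s (mm2 n j)) (s (Fin.last n))) = 27 - 100 * ((j.val : ℤ) + 2)
      simp only [cfunW_dif, sum_w_add, sum_w_single, wt2_0, wt2_1 hn, wt2_p hn, wt2_t hn,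
        wt2_mm hn]
    · show cfunW (wt2 n) (dif (s (mm2 n j)) (s (pp n))) = 9 - 100 * ((j.val : ℤ) + 2)
      simp only [cfunW_dif, sum_w_add, sum_w_single, wt2_0, wt2_1 hn, wt2_p hn, wt2_t hn,
        wt2_mm hn]
    · show cfunW (wt2 n) (dif (s 1 + s (mm2 n j)) (s 0 + s (Fin.last n))) =
        25 - 100 * ((j.val : ℤ) + 2)
      simp only [cfunW_dif, sum_w_add, sum_w_single, wt2_0, wt2_1 hn, wt2_p hn, wt2_t hn,
        wt2_mm hn]
      ring

lemma fam2_injective (hn : 3 ≤ n) : Function.Injective (fam2 n) := by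
  intro y y' h
  apply code2_injective
  rw [← cfun_fam2 hn, ← cfun_fam2 hn, h]

lemma sum_fam2 (y : Y2 n) : ∑ j, fam2 n y j = 0 := by
  rcases y with c | ⟨c, j⟩
  · rcases e8 c with rfl | rfl | rfl | rfl | rfl | rfl | rfl | rfl
    · show ∑ j, dif (s 0) (s (Fin.last n)) j = 0
      simp only [sum_dif, sum_s, sum_s_add]
      norm_num
    · show ∑ j, dif (s 0) (s (pp n)) j = 0
      simp only [sum_dif, sum_s, sum_s_add]
      norm_num
    · show ∑ j, dif (s 0 + s (pp n)) (s 1 + s (Fin.last n)) j = 0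
      simp only [sum_dif, sum_s, sum_s_add]
      norm_num
    · show ∑ j, dif (s 0) (s (1 : Fin (n + 1))) j = 0
      simp only [sum_dif, sum_s, sum_s_add]
      norm_num
    · show ∑ j, dif (s 1) (s (Fin.last n)) j = 0
      simp only [sum_dif, sum_s, sum_s_add]
      norm_num
    · show ∑ j, dif (s 1) (s (pp n)) j = 0
      simp only [sum_dif, sum_s, sum_s_add]
      norm_num
    · show ∑ j, dif (s (pp n)) (s (Fin.last n)) j = 0
      simp only [sum_dif, sum_s, sum_s_add]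
      norm_num
    · show ∑ j, dif (s 1 + s 1) (s 0 + s (Fin.last n)) j = 0
      simp only [sum_dif, sum_s, sum_s_add]
      norm_num
  · rcases e5 c with rfl | rfl | rfl | rfl | rfl
    · show ∑ i, dif (s 0) (s (mm2 n j)) i = 0
      simp only [sum_dif, sum_s, sum_s_add]
      norm_num
    · show ∑ i, dif (s 1) (s (mm2 n j)) i = 0
      simp only [sum_dif, sum_s, sum_s_add]
      norm_num
    · show ∑ i, dif (s (mm2 n j)) (s (Fin.last n)) i = 0
      simp only [sum_dif, sum_s, sum_s_add]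
      norm_num
    · show ∑ i, dif (s (mm2 n j)) (s (pp n)) i = 0
      simp only [sum_dif, sum_s, sum_s_add]
      norm_num
    · show ∑ i, dif (s 1 + s (mm2 n j)) (s 0 + s (Fin.last n)) i = 0
      simp only [sum_dif, sum_s, sum_s_add]
      norm_num

lemma dims2_pos (y : Y2 n) : 0 < dims2 n y := by
  rcases y with c | ⟨c, j⟩
  · show 0 < dimsC c
    unfold dimsC
    split_ifs <;> norm_num
  · show 0 < dimsL c
    unfold dimsL
    split_ifs <;> norm_num

lemma exists_fam2 {α : Fin (n + 1) → ℤ} (h : IsFam2 n α) : ∃ y, fam2 n y = α := by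
  rcases h with rfl | rfl | rfl | rfl | rfl | rfl | rfl | rfl |
    ⟨l, hl, rfl | rfl | rfl | rfl | rfl⟩
  · exact ⟨Sum.inl 0, rfl⟩
  · exact ⟨Sum.inl 1, rfl⟩
  · exact ⟨Sum.inl 2, rfl⟩
  · exact ⟨Sum.inl 3, rfl⟩
  · exact ⟨Sum.inl 4, rfl⟩
  · exact ⟨Sum.inl 5, rfl⟩
  · exact ⟨Sum.inl 6, rfl⟩
  · exact ⟨Sum.inl 7, rfl⟩
  · obtain ⟨j, rfl⟩ := exists_mm2 hl
    exact ⟨Sum.inr (0, j), rfl⟩
  · obtain ⟨j, rfl⟩ := exists_mm2 hl
    exact ⟨Sum.inr (1, j), rfl⟩
  · obtain ⟨j, rfl⟩ := exists_mm2 hl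
    exact ⟨Sum.inr (2, j), rfl⟩
  · obtain ⟨j, rfl⟩ := exists_mm2 hl
    exact ⟨Sum.inr (3, j), rfl⟩
  · obtain ⟨j, rfl⟩ := exists_mm2 hl
    exact ⟨Sum.inr (4, j), rfl⟩

variable (k)

lemma finrank_fam2 (hn4 : 4 ≤ n) (y : Y2 n) :
    Module.finrank k ↥(tPiece (J21 k n) (fam2 n y)) = dims2 n y := by
  have hn : 3 ≤ n := by omega
  obtain ⟨l₀, hl₀⟩ := exists_mid2 hn4
  rcases y with c | ⟨c, j⟩
  · rcases e8 c with rfl | rfl | rfl | rfl | rfl | rfl | rfl | rfl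
    · exact finrank_A1 hn hl₀
    · exact finrank_A2 hn hl₀
    · exact finrank_A4 hn hl₀
    · exact finrank_A5 hn hl₀
    · exact finrank_B1 hn hl₀
    · exact finrank_B2 hn hl₀
    · exact finrank_D hn hl₀
    · exact finrank_E1 hn hl₀
  · rcases e5 c with rfl | rfl | rfl | rfl | rfl
    · exact finrank_A3 hn (mm2_mem j)
    · exact finrank_B3 hn (mm2_mem j)
    · exact finrank_C1 hn (mm2_mem j)
    · exact finrank_C2 hn (mm2_mem j)
    · exact finrank_E2 hn (mm2_mem j)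

/-- `dim T(I)₀ = 6n - 6` for `I = x₀(x₀,…,x_{n-1}) + x₁(x₁,…,x_{n-2})`. -/
theorem finrank_J21 (hn4 : 4 ≤ n) :
    Module.finrank k ↥(⨆ α : {α : Fin (n + 1) → ℤ // ∑ i, α i = 0}, tPiece (J21 k n) α.1) =
      6 * n - 6 := by
  have hn : 3 ≤ n := by omega
  rw [finrank_T0_of_list (isMonomial_J21 (k := k) (n := n)) (fam2 n) (fam2_injective hn)
    sum_fam2 (dims2 n) dims2_pos (finrank_fam2 k hn4)
    (fun α hsum hne => exists_fam2 (classify2 hn4 hsum hne))]
  exact sum_dims2 hn4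

end Groth.Agent.Lib.Helper92.Bs
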