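import Mathlib

set_option linter.unusedSectionVars false
set_option linter.unusedSimpArgs false
set_option linter.unusedVariables false
set_option linter.style.haveILetI false
set_option linter.unnecessarySimpa false
set_option autoImplicit false

/-!
# Bezout inequality for ternary forms, part 1: dimensions of homogeneous components
-/

namespace Groth.Agent.Lib.Helper92.Bezout

open MvPolynomial

variable {k : Type*} [Field k]

/-- The homogeneous component of degree `n` in three variables. -/
abbrev Rn (k : Type*) [Field k] (n : ℕ) : Submodule k (MvPolynomial (Fin 3) k) :=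
  homogeneousSubmodule (Fin 3) k n

theorem card_degree_eq (n : ℕ) :
    Nat.card {d : Fin 3 →₀ ℕ | d.degree = n} = (n + 2).choose 2 := by
  classical
  have h1 : {d : Fin 3 →₀ ℕ | d.degree = n}
      = ((Finset.univ : Finset (Fin 3)).finsuppAntidiag n : Set (Fin 3 →₀ ℕ)) := by
    ext d
    simp only [Set.mem_ofPred_eq, Finset.mem_coe, Finset.mem_finsuppAntidiag]
    rw [Finsupp.degree_eq_sum]
    constructor
    · intro h
      exact ⟨h, Finset.subset_univ _⟩
    · intro h
      exact h.1
  rw [h1, Nat.card_coe_set_eq, Set.ncard_coe_finset, Finset.card_finsuppAntidiag_nat_eq_choose]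
  simp only [Finset.card_univ, Fintype.card_fin]
  have : 3 + n - 1 = n + 2 := by omega
  rw [this, ← Nat.choose_symm_of_eq_add (show n + 2 = 2 + n by omega)]

theorem finrank_Rn (n : ℕ) : Module.finrank k (Rn k n) = (n + 2).choose 2 := by
  classical
  have e := AddMonoidAlgebra.supportedEquivFinsupp (R := k) (S := k)
    {d : Fin 3 →₀ ℕ | d.degree = n}
  have h : Rn k n = AddMonoidAlgebra.supported k k {d : Fin 3 →₀ ℕ | d.degree = n} :=
    homogeneousSubmodule_eq_finsupp_supported (Fin 3) k n
  rw [h, e.finrank_eq]
  have hfin : Finite {d : Fin 3 →₀ ℕ | d.degree = n} := by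
    apply Nat.finite_of_card_ne_zero
    rw [card_degree_eq]
    have : 0 < (n + 2).choose 2 := Nat.choose_pos (by omega)
    omega
  haveI := Fintype.ofFinite {d : Fin 3 →₀ ℕ | d.degree = n}
  rw [Module.finrank_finsupp_self, ← Nat.card_eq_fintype_card, card_degree_eq]

instance finite_Rn (n : ℕ) : Module.Finite k (Rn k n) := by
  apply Module.finite_of_finrank_pos
  rw [finrank_Rn]
  exact Nat.choose_pos (by omega)

end Groth.Agent.Lib.Helper92.Bezout
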