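import Groth.Agent.Lib.Helper92.Bz1

set_option linter.unusedSectionVars false
set_option linter.unusedSimpArgs false
set_option linter.unusedVariables false
set_option linter.style.haveILetI false
set_option linter.unnecessarySimpa false
set_option autoImplicit false

/-!
# Bezout inequality for ternary forms, part 2: the Koszul dimension count
-/

namespace Groth.Agent.Lib.Helper92.Bezout

open MvPolynomial

variable {k : Type*} [Field k]

attribute [local instance] MvPolynomial.gradedAlgebra

/-- If `f` is a nonzero form of degree `d` and `f * a` is a form of degree `d + t`, then `a` is a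
form of degree `t`. -/
theorem isHomogeneous_of_mul {σ : Type*} {f a : MvPolynomial σ k} {d t : ℕ}
    (hf : f.IsHomogeneous d) (hf0 : f ≠ 0) (h : (f * a).IsHomogeneous (d + t)) :
    a.IsHomogeneous t := by
  classical
  have key : ∀ j, j ≠ t → homogeneousComponent j a = 0 := by
    intro j hj
    have h1 : (DirectSum.decompose (homogeneousSubmodule σ k) (f * a) (d + j) :
        MvPolynomial σ k) = f * DirectSum.decompose (homogeneousSubmodule σ k) a j :=
      DirectSum.coe_decompose_mul_add_of_left_mem _ hf
    have h2 : (DirectSum.decompose (homogeneousSubmodule σ k) (f * a) (d + j) :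
        MvPolynomial σ k) = 0 := by
      have hne : d + t ≠ d + j := fun hh => hj (Nat.add_left_cancel hh).symm
      rw [DirectSum.decompose_of_mem_ne (homogeneousSubmodule σ k) h hne]
    rw [h2] at h1
    have h3 : (DirectSum.decompose (homogeneousSubmodule σ k) a j : MvPolynomial σ k) = 0 := by
      rcases mul_eq_zero.1 h1.symm with h' | h'
      · exact absurd h' hf0
      · exact h'
    have h4 : (DirectSum.decompose (homogeneousSubmodule σ k) a j : MvPolynomial σ k)
        = homogeneousComponent j a := decomposition.decompose'_apply a j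
    rw [← h4, h3]
  have hsum := sum_homogeneousComponent a
  rw [← hsum]
  apply IsHomogeneous.sum
  intro j _
  by_cases hj : j = t
  · subst hj
    exact homogeneousComponent_isHomogeneous j a
  · rw [key j hj]
    exact isHomogeneous_zero _ _ _

theorem two_mul_choose_two (m : ℕ) : 2 * (m + 2).choose 2 = (m + 2) * (m + 1) := by
  induction m with
  | zero => rfl
  | succ m ih =>
    have : (m + 1 + 2).choose 2 = (m + 2).choose 1 + (m + 2).choose 2 := by
      rw [show m + 1 + 2 = (m + 2) + 1 by ring, Nat.choose_succ_succ]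
    rw [this, Nat.choose_one_right, mul_add, ih]
    ring

theorem choose_identity (d e t : ℕ) :
    (d + e + t + 2).choose 2 + (t + 2).choose 2
      = (e + t + 2).choose 2 + (d + t + 2).choose 2 + d * e := by
  have h1 := two_mul_choose_two (d + e + t)
  have h2 := two_mul_choose_two t
  have h3 := two_mul_choose_two (e + t)
  have h4 := two_mul_choose_two (d + t)
  have : 2 * ((d + e + t + 2).choose 2 + (t + 2).choose 2)
      = 2 * ((e + t + 2).choose 2 + (d + t + 2).choose 2 + d * e) := by
    rw [mul_add, mul_add, mul_add, h1, h2, h3, h4]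
    ring
  omega

section Koszul

variable (f g : MvPolynomial (Fin 3) k) {d e : ℕ}

/-- Multiples of `f` by forms of degree `n`. -/
noncomputable def mulSub (f : MvPolynomial (Fin 3) k) (n : ℕ) :
    Submodule k (MvPolynomial (Fin 3) k) :=
  (Rn k n).map (LinearMap.mulLeft k f)

theorem finrank_mulSub (hf0 : f ≠ 0) (n : ℕ) :
    Module.finrank k (mulSub f n) = (n + 2).choose 2 := by
  have hinj : Function.Injective (LinearMap.mulLeft k f) := by
    intro a b hab
    exact mul_left_cancel₀ hf0 hab
  rw [mulSub, ← finrank_Rn (k := k) n]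
  exact (Submodule.equivMapOfInjective _ hinj (Rn k n)).symm.finrank_eq

theorem mulSub_le (hf : f.IsHomogeneous d) (n : ℕ) : mulSub f n ≤ Rn k (d + n) := by
  rintro _ ⟨a, ha, rfl⟩
  exact hf.mul ha

instance finite_mulSub (n : ℕ) : Module.Finite k (mulSub f n) := by
  rw [mulSub]
  infer_instance

theorem inf_le (hf : f.IsHomogeneous d) (hg : g.IsHomogeneous e) (hf0 : f ≠ 0) (hg0 : g ≠ 0)
    (hcop : IsRelPrime f g) (t : ℕ) :
    mulSub f (e + t) ⊓ mulSub g (d + t) ≤ mulSub (f * g) t := by
  rintro x ⟨⟨a, ha, hxa⟩, ⟨b, hb, hxb⟩⟩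
  simp only [LinearMap.mulLeft_apply] at hxa hxb
  -- f * a = g * b
  have hfab : f * a = g * b := by rw [hxa, hxb]
  have hdiv : f ∣ b := hcop.dvd_of_dvd_mul_left ⟨a, hfab.symm⟩
  obtain ⟨c, rfl⟩ := hdiv
  have hc : c.IsHomogeneous t := isHomogeneous_of_mul hf hf0 hb
  refine ⟨c, hc, ?_⟩
  simp only [LinearMap.mulLeft_apply]
  rw [← hxb]
  ring

/-- The Koszul lower bound. -/
theorem finrank_sup_ge (hf : f.IsHomogeneous d) (hg : g.IsHomogeneous e) (hf0 : f ≠ 0)
    (hg0 : g ≠ 0) (hcop : IsRelPrime f g) (t : ℕ) :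
    (e + t + 2).choose 2 + (d + t + 2).choose 2
      ≤ Module.finrank k ↥(mulSub f (e + t) ⊔ mulSub g (d + t)) + (t + 2).choose 2 := by
  have h1 := Submodule.finrank_sup_add_finrank_inf_eq (mulSub f (e + t)) (mulSub g (d + t))
  rw [finrank_mulSub f hf0, finrank_mulSub g hg0] at h1
  have h2 : Module.finrank k ↥(mulSub f (e + t) ⊓ mulSub g (d + t))
      ≤ Module.finrank k ↥(mulSub (f * g) t) :=
    Submodule.finrank_mono (inf_le f g hf hg hf0 hg0 hcop t)
  rw [finrank_mulSub (f * g) (mul_ne_zero hf0 hg0)] at h2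
  omega

/-- **Bezout inequality, abstract form**: a linear map on forms of degree `d + e + t` which kills
the multiples of `f` and `g` and is surjective has target of dimension at most `d * e`. -/
theorem finrank_le_mul (hf : f.IsHomogeneous d) (hg : g.IsHomogeneous e) (hf0 : f ≠ 0)
    (hg0 : g ≠ 0) (hcop : IsRelPrime f g) (t : ℕ) {E : Type*} [AddCommGroup E] [Module k E]
    (Ψ : MvPolynomial (Fin 3) k →ₗ[k] E)
    (hΨf : ∀ a, Ψ (f * a) = 0) (hΨg : ∀ b, Ψ (g * b) = 0)
    (hsurj : ∀ y : E, ∃ h ∈ Rn k (d + e + t), Ψ h = y) :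
    Module.finrank k E ≤ d * e := by
  set N := d + e + t with hN
  let Ψ' : ↥(Rn k N) →ₗ[k] E := Ψ.domRestrict (Rn k N)
  have hrange : LinearMap.range Ψ' = ⊤ := by
    rw [eq_top_iff]
    intro y _
    obtain ⟨h, hh, hy⟩ := hsurj y
    exact ⟨⟨h, hh⟩, hy⟩
  have h1 := LinearMap.finrank_range_add_finrank_ker Ψ'
  rw [hrange, finrank_top, finrank_Rn] at h1
  -- the kernel contains the Koszul piece
  set W := mulSub f (e + t) ⊔ mulSub g (d + t) with hW
  have hWle : W ≤ Rn k N := by
    apply sup_le
    · have := mulSub_le f hf (e + t)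
      rwa [show d + (e + t) = N by omega] at this
    · have := mulSub_le g hg (d + t)
      rwa [show e + (d + t) = N by omega] at this
  have hker : W ≤ (LinearMap.ker Ψ').map (Rn k N).subtype := by
    intro x hx
    have hxR : x ∈ Rn k N := hWle hx
    refine ⟨⟨x, hxR⟩, ?_, rfl⟩
    apply LinearMap.mem_ker.2
    show Ψ x = 0
    have : W ≤ LinearMap.ker Ψ := by
      apply sup_le
      · rintro _ ⟨a, _, rfl⟩
        exact hΨf a
      · rintro _ ⟨b, _, rfl⟩
        exact hΨg b
    exact this hx
  have h2 : Module.finrank k ↥W ≤ Module.finrank k ↥(LinearMap.ker Ψ') := by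
    rw [← Submodule.finrank_map_subtype_eq (Rn k N) (LinearMap.ker Ψ')]
    exact Submodule.finrank_mono hker
  have h3 := finrank_sup_ge f g hf hg hf0 hg0 hcop t
  have h4 := choose_identity d e t
  rw [← hW] at h3
  rw [← hN] at h4
  omega

end Koszul

end Groth.Agent.Lib.Helper92.Bezout
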