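import Groth.Agent.Lib.Helper92.Bz2

set_option linter.unusedSectionVars false
set_option linter.unusedSimpArgs false
set_option linter.unusedVariables false
set_option linter.style.haveILetI false
set_option linter.unnecessarySimpa false
set_option autoImplicit false

/-!
# Bezout inequality for ternary forms, part 3: point functionals
-/

namespace Groth.Agent.Lib.Helper92.Bezout

open MvPolynomial

variable {k : Type*} [Field k]

/-- Evaluation at `v` as a linear functional. -/
noncomputable def evalL (v : Fin 3 → k) : MvPolynomial (Fin 3) k →ₗ[k] k where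
  toFun h := eval v h
  map_add' a b := by simp
  map_smul' c a := by simp [smul_eval]

@[simp] theorem evalL_apply (v : Fin 3 → k) (h : MvPolynomial (Fin 3) k) :
    evalL v h = eval v h := rfl

/-- Directional derivative at `v` in direction `w`, as a linear functional. -/
noncomputable def dirL (v w : Fin 3 → k) : MvPolynomial (Fin 3) k →ₗ[k] k where
  toFun h := ∑ i, w i * eval v (pderiv i h)
  map_add' a b := by simp [mul_add, Finset.sum_add_distrib]
  map_smul' c a := by
    simp only [Derivation.map_smul, smul_eval, RingHom.id_apply, smul_eq_mul, Finset.mul_sum]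
    refine Finset.sum_congr rfl fun i _ => by ring

theorem dirL_apply (v w : Fin 3 → k) (h : MvPolynomial (Fin 3) k) :
    dirL v w h = ∑ i, w i * eval v (pderiv i h) := rfl

theorem dirL_mul (v w : Fin 3 → k) (a b : MvPolynomial (Fin 3) k) :
    dirL v w (a * b) = eval v a * dirL v w b + dirL v w a * eval v b := by
  simp only [dirL_apply, pderiv_mul, map_add, map_mul, Finset.mul_sum, Finset.sum_mul,
    ← Finset.sum_add_distrib]
  refine Finset.sum_congr rfl fun i _ => by ring

/-- If `a` vanishes at `v` then `a ^ 2 * c` vanishes to second order at `v`. -/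
theorem eval_sq_mul (v : Fin 3 → k) {a : MvPolynomial (Fin 3) k} (ha : eval v a = 0)
    (c : MvPolynomial (Fin 3) k) : eval v (a ^ 2 * c) = 0 := by
  simp [ha]

theorem dirL_sq_mul (v w : Fin 3 → k) {a : MvPolynomial (Fin 3) k} (ha : eval v a = 0)
    (c : MvPolynomial (Fin 3) k) : dirL v w (a ^ 2 * c) = 0 := by
  rw [dirL_mul, pow_two, dirL_mul]
  simp [ha]

/-- The linear form with coefficient vector `c`. -/
noncomputable def linForm (c : Fin 3 → k) : MvPolynomial (Fin 3) k := ∑ i, C (c i) * X i

theorem linForm_isHomogeneous (c : Fin 3 → k) : (linForm c).IsHomogeneous 1 := by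
  apply IsHomogeneous.sum
  intro i _
  have := (isHomogeneous_C (Fin 3) (c i)).mul (isHomogeneous_X k i)
  simpa using this

theorem eval_linForm (c v : Fin 3 → k) : eval v (linForm c) = ∑ i, c i * v i := by
  simp [linForm]

theorem pderiv_linForm (c : Fin 3 → k) (j : Fin 3) : pderiv j (linForm c) = C (c j) := by
  classical
  simp only [linForm, map_sum, pderiv_C_mul, pderiv_X, Pi.single_apply]
  rw [Finset.sum_eq_single j]
  · simp
  · intro b _ hb
    simp [hb]
  · intro h
    exact absurd (Finset.mem_univ j) h

theorem dirL_linForm (c v w : Fin 3 → k) : dirL v w (linForm c) = ∑ i, c i * w i := by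
  simp only [dirL_apply, pderiv_linForm, eval_C]
  refine Finset.sum_congr rfl fun i _ => by ring

/-- Separation by a linear form. -/
theorem exists_sep {v v' : Fin 3 → k} (h : ∀ a : k, a • v ≠ v') :
    ∃ c : Fin 3 → k, ∑ i, c i * v i = 0 ∧ ∑ i, c i * v' i ≠ 0 := by
  have hx : v' ∉ Submodule.span k {v} := by
    rw [Submodule.mem_span_singleton]
    rintro ⟨a, ha⟩
    exact h a ha
  obtain ⟨φ, hφ, hφ'⟩ := Submodule.exists_dual_map_eq_bot_of_notMem hx inferInstance
  refine ⟨fun i => φ (fun j => if i = j then 1 else 0), ?_, ?_⟩
  · have h0 : φ v = 0 := by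
      have : φ v ∈ (Submodule.span k {v}).map φ :=
        ⟨v, Submodule.mem_span_singleton_self v, rfl⟩
      rw [hφ'] at this
      simpa using this
    rw [LinearMap.pi_apply_eq_sum_univ φ v] at h0
    simpa [mul_comm] using h0
  · rw [LinearMap.pi_apply_eq_sum_univ φ v'] at hφ
    simpa [mul_comm] using hφ

end Groth.Agent.Lib.Helper92.Bezout
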