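import Groth.Agent.Lib.Helper92.Bz3

set_option linter.unusedSectionVars false
set_option linter.unusedSimpArgs false
set_option linter.unusedVariables false
set_option linter.style.haveILetI false
set_option linter.unnecessarySimpa false
set_option autoImplicit false

/-!
# Bezout inequality for ternary forms, part 4: counting common tangential points
-/

namespace Groth.Agent.Lib.Helper92.Bezout

open MvPolynomial

variable {k : Type*} [Field k]

section Count

variable {ι : Type*} [Fintype ι] [DecidableEq ι]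

/-- The combined functional. -/
noncomputable def PsiL (v w : ι → Fin 3 → k) : MvPolynomial (Fin 3) k →ₗ[k] (ι → k × k) :=
  LinearMap.pi fun i => (evalL (v i)).prod (dirL (v i) (w i))

theorem PsiL_apply (v w : ι → Fin 3 → k) (h : MvPolynomial (Fin 3) k) (i : ι) :
    PsiL v w h i = (eval (v i) h, dirL (v i) (w i) h) := rfl

theorem finrank_target : Module.finrank k (ι → k × k) = 2 * Fintype.card ι := by
  rw [Module.finrank_pi_fintype]
  simp [Module.finrank_prod, mul_comm]

/-- Auxiliary product of squares of separating linear forms. -/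
noncomputable def auxA (c : ι → ι → Fin 3 → k) (P : ι) : MvPolynomial (Fin 3) k :=
  ∏ Q ∈ Finset.univ.erase P, (linForm (c P Q)) ^ 2

theorem auxA_isHomogeneous (c : ι → ι → Fin 3 → k) (P : ι) :
    (auxA c P).IsHomogeneous (2 * (Finset.univ.erase P).card) := by
  have h := IsHomogeneous.prod (Finset.univ.erase P) (fun Q => (linForm (c P Q)) ^ 2)
    (fun _ => 2) (fun Q _ => by
      have := (linForm_isHomogeneous (c P Q)).pow 2
      simpa using this)
  have h2 : ∑ i ∈ Finset.univ.erase P, 2 = 2 * (Finset.univ.erase P).card := by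
    rw [Finset.sum_const, smul_eq_mul, mul_comm]
  rw [h2] at h
  exact h

theorem auxA_eq (c : ι → ι → Fin 3 → k) (P Q : ι) (hQ : Q ≠ P) :
    auxA c P = (linForm (c P Q)) ^ 2 *
      ∏ x ∈ (Finset.univ.erase P).erase Q, (linForm (c P x)) ^ 2 := by
  rw [auxA, Finset.mul_prod_erase (Finset.univ.erase P) (fun x => (linForm (c P x)) ^ 2)
    (Finset.mem_erase.2 ⟨hQ, Finset.mem_univ _⟩)]

theorem eval_auxA_mul_of_ne (v : ι → Fin 3 → k) (c : ι → ι → Fin 3 → k)
    (hc : ∀ P Q, Q ≠ P → ∑ i, c P Q i * v Q i = 0) (P Q : ι) (hQ : Q ≠ P)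
    (B : MvPolynomial (Fin 3) k) : eval (v Q) (auxA c P * B) = 0 := by
  rw [auxA_eq c P Q hQ, mul_assoc]
  apply eval_sq_mul
  rw [eval_linForm]
  exact hc P Q hQ

theorem dirL_auxA_mul_of_ne (v w : ι → Fin 3 → k) (c : ι → ι → Fin 3 → k)
    (hc : ∀ P Q, Q ≠ P → ∑ i, c P Q i * v Q i = 0) (P Q : ι) (hQ : Q ≠ P)
    (B : MvPolynomial (Fin 3) k) : dirL (v Q) (w Q) (auxA c P * B) = 0 := by
  rw [auxA_eq c P Q hQ, mul_assoc]
  apply dirL_sq_mul
  rw [eval_linForm]
  exact hc P Q hQ

theorem eval_auxA_self (v : ι → Fin 3 → k) (c : ι → ι → Fin 3 → k)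
    (hc : ∀ P Q, Q ≠ P → ∑ i, c P Q i * v P i ≠ 0) (P : ι) :
    eval (v P) (auxA c P) ≠ 0 := by
  rw [auxA, map_prod]
  apply Finset.prod_ne_zero_iff.2
  intro Q hQ
  rw [map_pow, eval_linForm]
  exact pow_ne_zero _ (hc P Q (Finset.mem_erase.1 hQ).1)

theorem PsiL_eq_single (v w : ι → Fin 3 → k) (P : ι) (h : MvPolynomial (Fin 3) k)
    (h0 : ∀ Q, Q ≠ P → eval (v Q) h = 0) (h1 : ∀ Q, Q ≠ P → dirL (v Q) (w Q) h = 0) :
    PsiL v w h = Pi.single P (eval (v P) h, dirL (v P) (w P) h) := by
  funext Q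
  by_cases hQ : Q = P
  · subst hQ
    simp [PsiL_apply]
  · rw [PsiL_apply, Pi.single_eq_of_ne hQ, h0 Q hQ, h1 Q hQ]
    rfl

/-- **Counting lemma**: distinct points at which `f` is singular and `g` passes with a common
tangent direction each count twice in the Bezout bound. -/
theorem two_mul_card_le (f g : MvPolynomial (Fin 3) k) {d e : ℕ}
    (hf : f.IsHomogeneous d) (hg : g.IsHomogeneous e) (hf0 : f ≠ 0) (hg0 : g ≠ 0)
    (hcop : IsRelPrime f g) (v w : ι → Fin 3 → k)
    (hv : ∀ i j, i ≠ j → ∀ a : k, a • v j ≠ v i)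
    (hv0 : ∀ i, v i ≠ 0)
    (hw : ∀ i, ∀ a : k, a • v i ≠ w i)
    (hfv : ∀ i, eval (v i) f = 0) (hfd : ∀ i j, eval (v i) (pderiv j f) = 0)
    (hgv : ∀ i, eval (v i) g = 0) (hgd : ∀ i, dirL (v i) (w i) g = 0) :
    2 * Fintype.card ι ≤ d * e := by
  classical
  rw [← finrank_target (k := k) (ι := ι)]
  set t := 2 * Fintype.card ι + 1 with ht
  apply finrank_le_mul f g hf hg hf0 hg0 hcop t (PsiL v w)
  · intro a
    funext i
    rw [PsiL_apply, dirL_mul, map_mul, hfv i]
    have : dirL (v i) (w i) f = 0 := by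
      rw [dirL_apply]
      apply Finset.sum_eq_zero
      intro j _
      rw [hfd i j, mul_zero]
    rw [this]
    simp
  · intro b
    funext i
    rw [PsiL_apply, dirL_mul, map_mul, hgv i, hgd i]
    simp
  · -- surjectivity
    set N := d + e + t with hN
    -- choose separating forms
    have hsep1 : ∀ P Q : ι, ∃ c : Fin 3 → k, Q ≠ P →
        (∑ i, c i * v Q i = 0 ∧ ∑ i, c i * v P i ≠ 0) := by
      intro P Q
      by_cases hQ : Q = P
      · exact ⟨0, fun h => absurd hQ h⟩
      · obtain ⟨c, hc1, hc2⟩ := exists_sep (hv P Q (fun h => hQ h.symm))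
        exact ⟨c, fun _ => ⟨hc1, hc2⟩⟩
    choose c hc using hsep1
    have hsep2 : ∀ P : ι, ∃ m : Fin 3 → k, ∑ i, m i * v P i ≠ 0 := by
      intro P
      have : ∀ a : k, a • (0 : Fin 3 → k) ≠ v P := by
        intro a h
        rw [smul_zero] at h
        exact hv0 P h.symm
      obtain ⟨m, _, hm⟩ := exists_sep this
      exact ⟨m, hm⟩
    choose m hm using hsep2
    have hsep3 : ∀ P : ι, ∃ l : Fin 3 → k, ∑ i, l i * v P i = 0 ∧ ∑ i, l i * w P i ≠ 0 :=
      fun P => exists_sep (hw P)
    choose l hl0 hl1 using hsep3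
    have hcardle : ∀ P : ι, (Finset.univ.erase P).card ≤ Fintype.card ι :=
      fun P => Finset.card_le_univ _
    -- the building blocks
    let r : ι → ℕ := fun P => N - 2 * (Finset.univ.erase P).card - 1
    let h0 : ι → MvPolynomial (Fin 3) k := fun P => auxA c P * (linForm (m P)) ^ (r P + 1)
    let h1 : ι → MvPolynomial (Fin 3) k := fun P =>
      auxA c P * ((linForm (m P)) ^ (r P) * linForm (l P))
    have hh0 : ∀ P, h0 P ∈ Rn k N := by
      intro P
      have h := (auxA_isHomogeneous c P).mul ((linForm_isHomogeneous (m P)).pow (r P + 1))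
      have hdeg : 2 * (Finset.univ.erase P).card + 1 * (r P + 1) = N := by
        have := hcardle P
        simp only [r]
        omega
      rw [hdeg] at h
      exact h
    have hh1 : ∀ P, h1 P ∈ Rn k N := by
      intro P
      have h := (auxA_isHomogeneous c P).mul
        (((linForm_isHomogeneous (m P)).pow (r P)).mul (linForm_isHomogeneous (l P)))
      have hdeg : 2 * (Finset.univ.erase P).card + (1 * r P + 1) = N := by
        have := hcardle P
        simp only [r]
        omega
      rw [hdeg] at h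
      exact h
    have hcQ : ∀ P Q, Q ≠ P → ∑ i, c P Q i * v Q i = 0 := fun P Q h => (hc P Q h).1
    have hcP : ∀ P Q, Q ≠ P → ∑ i, c P Q i * v P i ≠ 0 := fun P Q h => (hc P Q h).2
    have hΨ0 : ∀ P, PsiL v w (h0 P) = Pi.single P
        (eval (v P) (h0 P), dirL (v P) (w P) (h0 P)) := fun P =>
      PsiL_eq_single v w P _ (fun Q hQ => eval_auxA_mul_of_ne v c hcQ P Q hQ _)
        (fun Q hQ => dirL_auxA_mul_of_ne v w c hcQ P Q hQ _)
    have hΨ1 : ∀ P, PsiL v w (h1 P) = Pi.single P
        (eval (v P) (h1 P), dirL (v P) (w P) (h1 P)) := fun P =>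
      PsiL_eq_single v w P _ (fun Q hQ => eval_auxA_mul_of_ne v c hcQ P Q hQ _)
        (fun Q hQ => dirL_auxA_mul_of_ne v w c hcQ P Q hQ _)
    have hE0 : ∀ P, eval (v P) (h0 P) ≠ 0 := by
      intro P
      simp only [h0, map_mul, map_pow, eval_linForm]
      exact mul_ne_zero (eval_auxA_self v c hcP P) (pow_ne_zero _ (hm P))
    have hE1 : ∀ P, eval (v P) (h1 P) = 0 := by
      intro P
      simp only [h1, map_mul, map_pow, eval_linForm, hl0 P, mul_zero]
    have hD1 : ∀ P, dirL (v P) (w P) (h1 P) ≠ 0 := by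
      intro P
      simp only [h1]
      rw [← mul_assoc, dirL_mul, eval_linForm, hl0 P, mul_zero, add_zero, dirL_linForm]
      refine mul_ne_zero ?_ (hl1 P)
      simp only [map_mul, map_pow, eval_linForm]
      exact mul_ne_zero (eval_auxA_self v c hcP P) (pow_ne_zero _ (hm P))
    -- the image of `Rn k N`
    let R : Submodule k (ι → k × k) := (Rn k N).map (PsiL v w)
    have hR01 : ∀ P, (Pi.single P ((0 : k), (1 : k)) : ι → k × k) ∈ R := by
      intro P
      have h : PsiL v w (h1 P) ∈ R := ⟨h1 P, hh1 P, rfl⟩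
      rw [hΨ1 P, hE1 P] at h
      have h2 := R.smul_mem (dirL (v P) (w P) (h1 P))⁻¹ h
      convert h2 using 1
      funext Q
      by_cases hQ : Q = P
      · subst hQ
        simp [inv_mul_cancel₀ (hD1 Q)]
      · simp [Pi.single_eq_of_ne hQ]
    have hR10 : ∀ P, (Pi.single P ((1 : k), (0 : k)) : ι → k × k) ∈ R := by
      intro P
      have h : PsiL v w (h0 P) ∈ R := ⟨h0 P, hh0 P, rfl⟩
      rw [hΨ0 P] at h
      have h2 := R.smul_mem (eval (v P) (h0 P))⁻¹
        (R.sub_mem h (R.smul_mem (dirL (v P) (w P) (h0 P)) (hR01 P)))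
      convert h2 using 1
      funext Q
      by_cases hQ : Q = P
      · subst hQ
        simp [inv_mul_cancel₀ (hE0 Q)]
      · simp [Pi.single_eq_of_ne hQ]
    intro y
    have hy : y ∈ R := by
      have h : y = ∑ P, ((y P).1 • (Pi.single P ((1 : k), (0 : k)) : ι → k × k)
          + (y P).2 • (Pi.single P ((0 : k), (1 : k)) : ι → k × k)) := by
        funext Q
        rw [Finset.sum_apply, Finset.sum_eq_single Q]
        · simp
        · intro P _ hP
          simp [Pi.single_eq_of_ne (Ne.symm hP)]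
        · intro h
          exact absurd (Finset.mem_univ Q) h
      rw [h]
      exact R.sum_mem fun P _ => R.add_mem (R.smul_mem _ (hR10 P)) (R.smul_mem _ (hR01 P))
    obtain ⟨h, hh, hy⟩ := hy
    exact ⟨h, hh, hy⟩

end Count

end Groth.Agent.Lib.Helper92.Bezout
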