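import Groth.Agent.Lib.Helper92.Bz4

set_option linter.unusedSectionVars false
set_option linter.unusedSimpArgs false
set_option linter.unusedVariables false
set_option linter.style.haveILetI false
set_option linter.unnecessarySimpa false
set_option autoImplicit false

/-!
# Bezout inequality for ternary forms, part 5: a polar coprime to a squarefree form
-/

namespace Groth.Agent.Lib.Helper92.Bezout

open MvPolynomial

variable {k : Type*} [Field k]

theorem totalDegree_pderiv_lt {σ : Type*} (i : σ) (q : MvPolynomial σ k) (h : pderiv i q ≠ 0) :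
    (pderiv i q).totalDegree < q.totalDegree := by
  classical
  have key : ∀ m ∈ (pderiv i q).support,
      (m.sum fun _ e => e) + 1 ≤ q.totalDegree := by
    intro m hm
    have h1 : coeff m (pderiv i q) ≠ 0 := mem_support_iff.1 hm
    rw [coeff_pderiv] at h1
    have h2 : coeff (m + Finsupp.single i 1) q ≠ 0 := left_ne_zero_of_mul h1
    have h3 := le_totalDegree (mem_support_iff.2 h2)
    rw [Finsupp.sum_add_index' (fun _ => rfl) (fun _ _ _ => rfl),
      Finsupp.sum_single_index rfl] at h3
    exact h3
  obtain ⟨m0, hm0⟩ : (pderiv i q).support.Nonempty := by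
    rw [Finset.nonempty_iff_ne_empty]
    intro he
    exact h (support_eq_empty.1 he)
  have hpos : 0 < q.totalDegree := by
    have := key m0 hm0
    omega
  rw [totalDegree, Finset.sup_lt_iff (by simpa using hpos)]
  intro m hm
  have := key m hm
  omega

theorem pderiv_eq_zero_of_dvd {σ : Type*} (i : σ) (q : MvPolynomial σ k)
    (h : q ∣ pderiv i q) : pderiv i q = 0 := by
  by_contra h0
  obtain ⟨c, hc⟩ := h
  have hq0 : q ≠ 0 := by
    rintro rfl
    simp at h0
  have hc0 : c ≠ 0 := by
    rintro rfl
    rw [mul_zero] at hc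
    exact h0 hc
  have h1 := totalDegree_pderiv_lt i q h0
  rw [hc, totalDegree_mul_of_isDomain hq0 hc0] at h1
  omega

/-- Over an algebraically closed field a polynomial with all partial derivatives zero is not
irreducible (it is a constant in characteristic zero and a `p`-th power otherwise). -/
theorem not_irreducible_of_pderiv_eq_zero [IsAlgClosed k] {σ : Type*} (q : MvPolynomial σ k)
    (h : ∀ i, pderiv i q = 0) : ¬ Irreducible q := by
  classical
  intro hirr
  have key : ∀ m ∈ q.support, ∀ i, ((m i : ℕ) : k) = 0 := by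
    intro m hm i
    by_cases hmi : m i = 0
    · simp [hmi]
    · have h1 := coeff_pderiv (i := i) q (m - Finsupp.single i 1)
      rw [h i, coeff_zero] at h1
      have h2 : m - Finsupp.single i 1 + Finsupp.single i 1 = m :=
        Finsupp.sub_add_single_one_cancel hmi
      rw [h2] at h1
      have h3 : ((((m - Finsupp.single i 1 : σ →₀ ℕ) i : ℕ)) : k) + 1 = ((m i : ℕ) : k) := by
        have : (m - Finsupp.single i 1 : σ →₀ ℕ) i + 1 = m i := by
          simp only [Finsupp.coe_tsub, Pi.sub_apply, Finsupp.single_eq_same]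
          omega
        rw [← this]
        push_cast
        ring
      rw [h3] at h1
      have hcoef : coeff m q ≠ 0 := mem_support_iff.1 hm
      rcases mul_eq_zero.1 h1.symm with h4 | h4
      · exact absurd h4 hcoef
      · exact h4
  obtain ⟨p, hp⟩ := CharP.exists k
  rcases CharP.char_is_prime_or_zero k p with hpp | hp0
  · haveI := Fact.mk hpp
    have hdiv : ∀ m ∈ q.support, ∀ i, p ∣ m i := fun m hm i =>
      (CharP.cast_eq_zero_iff k p (m i)).1 (key m hm i)
    have hroot : ∀ a : k, ∃ b : k, b ^ p = a := fun a =>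
      IsAlgClosed.exists_pow_nat_eq a hpp.pos
    choose rt hrt using hroot
    let m' : (σ →₀ ℕ) → (σ →₀ ℕ) := fun m => m.mapRange (· / p) (by simp)
    let h' : MvPolynomial σ k := ∑ m ∈ q.support, monomial (m' m) (rt (coeff m q))
    have hq : q = h' ^ p := by
      rw [sum_pow_char]
      conv_lhs => rw [← support_sum_monomial_coeff q]
      refine Finset.sum_congr rfl fun m hm => ?_
      rw [monomial_pow, hrt]
      have hmm : p • m' m = m := by
        ext i
        simp [m', Nat.mul_div_cancel' (hdiv m hm i)]
      rw [hmm]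
    have hp2 := hpp.two_le
    have hpe : p = (p - 1) + 1 := by omega
    rw [hpe, pow_succ] at hq
    rcases hirr.isUnit_or_isUnit hq with hu | hu
    · have hu' : IsUnit h' := (isUnit_pow_iff (by omega)).1 hu
      apply hirr.not_isUnit
      rw [hq]
      exact hu.mul hu'
    · apply hirr.not_isUnit
      rw [hq]
      exact (hu.pow _).mul hu
  · subst hp0
    haveI : CharZero k := CharP.charP_to_charZero k
    have hm0 : ∀ m ∈ q.support, m = 0 := fun m hm => by
      ext i
      have := key m hm i
      exact_mod_cast this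
    have htd : q.totalDegree = 0 := by
      rw [totalDegree]
      apply Nat.le_zero.1
      apply Finset.sup_le
      intro m hm
      rw [hm0 m hm]
      simp
    rw [totalDegree_eq_zero_iff_eq_C] at htd
    by_cases ha : coeff 0 q = 0
    · rw [ha, C_0] at htd
      exact hirr.ne_zero htd
    · apply hirr.not_isUnit
      rw [htd]
      exact (IsUnit.mk0 _ ha).map C

/-- The polar of `f` with respect to `c`. -/
noncomputable def polar (c : Fin 3 → k) (f : MvPolynomial (Fin 3) k) : MvPolynomial (Fin 3) k :=
  ∑ i, C (c i) * pderiv i f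

theorem polar_mul (c : Fin 3 → k) (a b : MvPolynomial (Fin 3) k) :
    polar c (a * b) = polar c a * b + a * polar c b := by
  simp only [polar, pderiv_mul, Finset.sum_mul, Finset.mul_sum, ← Finset.sum_add_distrib]
  refine Finset.sum_congr rfl fun i _ => by ring

theorem polar_add (c c' : Fin 3 → k) (a : MvPolynomial (Fin 3) k) :
    polar (c + c') a = polar c a + polar c' a := by
  simp only [polar, Pi.add_apply, C_add, add_mul, Finset.sum_add_distrib]

theorem polar_smul (r : k) (c : Fin 3 → k) (a : MvPolynomial (Fin 3) k) :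
    polar (r • c) a = C r * polar c a := by
  simp only [polar, Pi.smul_apply, smul_eq_mul, C_mul, Finset.mul_sum, mul_assoc]

theorem polar_zero (a : MvPolynomial (Fin 3) k) : polar (0 : Fin 3 → k) a = 0 := by
  simp [polar]

theorem polar_single (i : Fin 3) (a : MvPolynomial (Fin 3) k) :
    polar (Pi.single i (1 : k)) a = pderiv i a := by
  classical
  rw [polar, Finset.sum_eq_single i]
  · simp
  · intro j _ hj
    simp [Pi.single_eq_of_ne hj]
  · intro h
    exact absurd (Finset.mem_univ i) h

theorem polar_isHomogeneous (c : Fin 3 → k) {f : MvPolynomial (Fin 3) k} {n : ℕ}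
    (hf : f.IsHomogeneous n) : (polar c f).IsHomogeneous (n - 1) := by
  apply IsHomogeneous.sum
  intro i _
  have := (isHomogeneous_C (Fin 3) (c i)).mul (hf.pderiv (i := i))
  simpa using this

theorem eval_polar (c v : Fin 3 → k) (f : MvPolynomial (Fin 3) k) :
    eval v (polar c f) = ∑ i, c i * eval v (pderiv i f) := by
  simp [polar]

/-- The set of directions `c` for which `q` divides its own polar. -/
noncomputable def badSub (q : MvPolynomial (Fin 3) k) : Submodule k (Fin 3 → k) where
  carrier := {c | q ∣ polar c q}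
  add_mem' := by
    intro c c' hc hc'
    show q ∣ polar (c + c') q
    rw [polar_add]
    exact dvd_add hc hc'
  zero_mem' := by
    show q ∣ polar 0 q
    rw [polar_zero]
    exact dvd_zero q
  smul_mem' := by
    intro r c hc
    show q ∣ polar (r • c) q
    rw [polar_smul]
    exact Dvd.dvd.mul_left hc _

theorem mem_badSub (q : MvPolynomial (Fin 3) k) (c : Fin 3 → k) :
    c ∈ badSub q ↔ q ∣ polar c q := Iff.rfl

theorem badSub_ne_top [IsAlgClosed k] {q : MvPolynomial (Fin 3) k} (hq : Irreducible q) :
    badSub q ≠ ⊤ := by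
  intro htop
  apply not_irreducible_of_pderiv_eq_zero q _ hq
  intro i
  apply pderiv_eq_zero_of_dvd
  have : Pi.single i (1 : k) ∈ badSub q := by
    rw [htop]
    exact Submodule.mem_top
  rw [mem_badSub, polar_single] at this
  exact this

/-- A squarefree ternary form has a polar coprime to it. -/
theorem exists_polar_isRelPrime [IsAlgClosed k] (f : MvPolynomial (Fin 3) k)
    (hred : Squarefree f) : ∃ c : Fin 3 → k, IsRelPrime f (polar c f) := by
  classical
  have hf0 : f ≠ 0 := hred.ne_zero
  let F := UniqueFactorizationMonoid.factors f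
  have hirr : ∀ q : {q // q ∈ F.toFinset}, Irreducible q.1 := fun q =>
    UniqueFactorizationMonoid.irreducible_of_factor _ (Multiset.mem_toFinset.1 q.2)
  haveI : Infinite k := IsAlgClosed.instInfinite
  obtain ⟨c, hc⟩ := Submodule.exists_forall_notMem_of_forall_ne_top
    (fun q : {q // q ∈ F.toFinset} => badSub q.1) (fun q => badSub_ne_top (hirr q))
  refine ⟨c, ?_⟩
  intro d hdf hdg
  by_contra hdu
  have hd0 : d ≠ 0 := ne_zero_of_dvd_ne_zero hf0 hdf
  obtain ⟨q₀, hq₀, hq₀d⟩ := WfDvdMonoid.exists_irreducible_factor hdu hd0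
  obtain ⟨q, hqF, hqa⟩ := UniqueFactorizationMonoid.exists_mem_factors_of_dvd hf0 hq₀
    (hq₀d.trans hdf)
  have hqq₀ : q ∣ q₀ := hqa.symm.dvd
  have hqirr : Irreducible q := UniqueFactorizationMonoid.irreducible_of_factor _ hqF
  have hqf : q ∣ f := hqq₀.trans (hq₀d.trans hdf)
  have hqg : q ∣ polar c f := hqq₀.trans (hq₀d.trans hdg)
  obtain ⟨r, hr⟩ := hqf
  have hqr : ¬ q ∣ r := by
    rintro ⟨s, rfl⟩
    have : q * q ∣ f := ⟨s, by rw [hr]; ring⟩
    exact hqirr.not_isUnit (hred q this)
  rw [hr, polar_mul] at hqg
  have h1 : q ∣ polar c q * r := (dvd_add_left (dvd_mul_right q _)).1 hqg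
  have hprime : Prime q := UniqueFactorizationMonoid.irreducible_iff_prime.1 hqirr
  rcases hprime.dvd_or_dvd h1 with h2 | h2
  · exact hc ⟨q, Multiset.mem_toFinset.2 hqF⟩ h2
  · exact hqr h2

end Groth.Agent.Lib.Helper92.Bezout
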