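import Groth.Agent.Lib.Helper92.Bz5

set_option linter.unusedSectionVars false
set_option linter.unusedSimpArgs false
set_option linter.unusedVariables false
set_option linter.style.haveILetI false
set_option linter.unnecessarySimpa false
set_option autoImplicit false

/-!
# Bezout inequality for ternary forms, part 6: singular points of a squarefree form
-/

namespace Groth.Agent.Lib.Helper92.Bezout

open MvPolynomial

variable {k : Type*} [Field k]

/-- A vector orthogonal to `γ` and not proportional to `v`. -/
theorem exists_tangent (γ v : Fin 3 → k) :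
    ∃ w : Fin 3 → k, (∑ i, w i * γ i = 0) ∧ ∀ a : k, a • v ≠ w := by
  let φ : (Fin 3 → k) →ₗ[k] k :=
    { toFun := fun w => ∑ i, w i * γ i
      map_add' := by intros; simp [add_mul, Finset.sum_add_distrib]
      map_smul' := by intros; simp [Finset.mul_sum, mul_assoc] }
  have h1 := LinearMap.finrank_range_add_finrank_ker φ
  rw [Module.finrank_fin_fun] at h1
  have h2 : Module.finrank k (LinearMap.range φ) ≤ 1 := by
    have := Submodule.finrank_le (LinearMap.range φ)
    simpa using this
  by_contra hcon
  push Not at hcon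
  have h3 : LinearMap.ker φ ≤ Submodule.span k {v} := by
    intro w hw
    obtain ⟨a, ha⟩ := hcon w hw
    exact Submodule.mem_span_singleton.2 ⟨a, ha⟩
  have h4 := Submodule.finrank_mono h3
  have h5 : Module.finrank k (Submodule.span k {v}) ≤ 1 := by
    have := finrank_span_le_card (R := k) ({v} : Set (Fin 3 → k))
    simpa using this
  omega

/-- **Singular points of a squarefree ternary form of degree `n`**: any finite set of singular
points has at most `n (n - 1) / 2` elements, stated as `2 * card ≤ n * (n - 1)`. -/
theorem two_mul_card_sing_le [IsAlgClosed k] (f : MvPolynomial (Fin 3) k) {n : ℕ}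
    (hf : f.IsHomogeneous n) (hn : n ≠ 0) (hred : Squarefree f)
    (s : Finset (Projectivization k (Fin 3 → k)))
    (hs : ∀ p ∈ s, eval p.rep f = 0 ∧ ∀ i : Fin 3, eval p.rep (pderiv i f) = 0) :
    2 * s.card ≤ n * (n - 1) := by
  classical
  by_cases hse : s = ∅
  · subst hse
    simp
  obtain ⟨P₀, hP₀⟩ := Finset.nonempty_iff_ne_empty.2 hse
  have hf0 : f ≠ 0 := hred.ne_zero
  obtain ⟨c, hc⟩ := exists_polar_isRelPrime f hred
  have hg : (polar c f).IsHomogeneous (n - 1) := polar_isHomogeneous c hf
  have hg0 : polar c f ≠ 0 := by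
    intro h0
    rw [h0] at hc
    have hu : IsUnit f := hc (dvd_refl f) (dvd_zero f)
    have := (hs P₀ hP₀).1
    have hu' : IsUnit (eval P₀.rep f) := hu.map (eval P₀.rep)
    rw [this] at hu'
    exact not_isUnit_zero hu'
  -- tangent directions
  have hw : ∀ P : s, ∃ w : Fin 3 → k,
      (∑ i, w i * eval P.1.rep (pderiv i (polar c f)) = 0) ∧ ∀ a : k, a • P.1.rep ≠ w :=
    fun P => exists_tangent _ _
  choose w hw1 hw2 using hw
  have key := two_mul_card_le (ι := s) f (polar c f) hf hg hf0 hg0 hc
    (fun P => P.1.rep) w ?_ ?_ hw2 ?_ ?_ ?_ ?_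
  · rwa [Fintype.card_coe] at key
  · intro P Q hPQ a ha
    apply hPQ
    apply Subtype.ext
    rw [← Projectivization.mk_rep P.1, ← Projectivization.mk_rep Q.1,
      Projectivization.mk_eq_mk_iff']
    exact ⟨a, ha⟩
  · intro P
    exact P.1.rep_nonzero
  · intro P
    exact (hs P.1 P.2).1
  · intro P j
    exact (hs P.1 P.2).2 j
  · intro P
    rw [eval_polar]
    apply Finset.sum_eq_zero
    intro i _
    rw [(hs P.1 P.2).2 i, mul_zero]
  · intro P
    rw [dirL_apply]
    exact hw1 P

end Groth.Agent.Lib.Helper92.Bezout
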