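import Mathlib

set_option linter.unusedSectionVars false
set_option linter.unusedSimpArgs false
set_option linter.unusedVariables false
set_option linter.style.haveILetI false

/-!
# Relative Cartan subalgebras, part 1: linear algebra over a ring, fibre by fibre
-/

namespace Groth.Agent.Lib.Helper92.CartanRel

open TensorProduct Module Polynomial

section Nilpotent

variable {A : Type*} [CommRing A] {P : Type*} [AddCommGroup P] [Module A P]

/-- A matrix-like endomorphism of a finite free module which is nilpotent on every fibre is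
nilpotent. -/
theorem isNilpotent_of_forall_baseChange_free [Module.Finite A P] [Module.Free A P]
    (ψ : Module.End A P)
    (h : ∀ p : PrimeSpectrum A, IsNilpotent (ψ.baseChange p.asIdeal.ResidueField)) :
    IsNilpotent ψ := by
  rcases subsingleton_or_nontrivial A with hA | hA
  · haveI : Subsingleton P := Module.subsingleton A P
    exact ⟨1, Subsingleton.elim _ _⟩
  set N := ψ.charpoly.natDegree with hN
  set q : A[X] := ψ.charpoly - X ^ N with hq
  have hqnil : IsNilpotent q := by
    rw [Polynomial.isNilpotent_iff]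
    intro i
    rw [nilpotent_iff_mem_prime]
    intro J hJ
    let p : PrimeSpectrum A := ⟨J, hJ⟩
    have h1 := h p
    rw [LinearMap.isNilpotent_iff_charpoly, LinearMap.charpoly_baseChange] at h1
    have h2 : finrank p.asIdeal.ResidueField (p.asIdeal.ResidueField ⊗[A] P) = N := by
      rw [Module.finrank_baseChange, hN, LinearMap.charpoly_natDegree]
    rw [h2] at h1
    have h3 : q.map (algebraMap A p.asIdeal.ResidueField) = 0 := by
      rw [hq, Polynomial.map_sub, h1, Polynomial.map_pow, Polynomial.map_X, sub_self]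
    have h4 : algebraMap A p.asIdeal.ResidueField (q.coeff i) = 0 := by
      rw [← Polynomial.coeff_map, h3, Polynomial.coeff_zero]
    rw [← RingHom.mem_ker, Ideal.ker_algebraMap_residueField] at h4
    exact h4
  have h5 : IsNilpotent (Polynomial.aeval ψ q) := hqnil.map (Polynomial.aeval ψ)
  rw [hq, map_sub, LinearMap.aeval_self_charpoly, zero_sub, map_pow, Polynomial.aeval_X] at h5
  have h6 : IsNilpotent (ψ ^ N) := by simpa using h5.neg
  rcases Nat.eq_zero_or_pos N with hN0 | hN0
  · rw [hN0, pow_zero] at h6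
    obtain ⟨k, hk⟩ := h6
    rw [one_pow] at hk
    exact ⟨1, by rw [pow_one, ← mul_one ψ, hk, mul_zero]⟩
  · exact IsNilpotent.of_pow h6

/-- An endomorphism of a finite projective module which is nilpotent on every fibre is
nilpotent. -/
theorem isNilpotent_of_forall_baseChange [Module.Finite A P] [Module.Projective A P]
    (φ : Module.End A P)
    (h : ∀ p : PrimeSpectrum A, IsNilpotent (φ.baseChange p.asIdeal.ResidueField)) :
    IsNilpotent φ := by
  obtain ⟨n, f, g, -, -, hfg⟩ := Module.Finite.exists_comp_eq_id_of_projective A P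
  set ψ : Module.End A (Fin n → A) := g ∘ₗ φ ∘ₗ f with hψ
  have hpow : ∀ k : ℕ, ψ ^ (k + 1) = g ∘ₗ (φ ^ (k + 1)) ∘ₗ f := by
    intro k
    induction k with
    | zero => simp [hψ]
    | succ k ih =>
      rw [pow_succ, ih, hψ]
      have : (g ∘ₗ (φ ^ (k + 1)) ∘ₗ f) * (g ∘ₗ φ ∘ₗ f) =
          g ∘ₗ (φ ^ (k + 1)) ∘ₗ (f ∘ₗ g) ∘ₗ φ ∘ₗ f := rfl
      rw [this, hfg, LinearMap.id_comp, pow_succ (n := k + 1)]
      rfl
  have hψnil : ∀ p : PrimeSpectrum A, IsNilpotent (ψ.baseChange p.asIdeal.ResidueField) := by
    intro p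
    obtain ⟨m, hm⟩ := h p
    refine ⟨m + 1, ?_⟩
    rw [← LinearMap.baseChange_pow, hpow, LinearMap.baseChange_comp, LinearMap.baseChange_comp,
      LinearMap.baseChange_pow, pow_succ, hm, zero_mul, LinearMap.zero_comp, LinearMap.comp_zero]
  obtain ⟨k, hk⟩ := isNilpotent_of_forall_baseChange_free ψ hψnil
  refine ⟨k + 1, ?_⟩
  have h1 : ψ ^ (k + 1) = 0 := by rw [pow_succ, hk, zero_mul]
  have h2 : φ ^ (k + 1) = (f ∘ₗ g) ∘ₗ (φ ^ (k + 1)) ∘ₗ (f ∘ₗ g) := by
    rw [hfg, LinearMap.id_comp, LinearMap.comp_id]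
  have h3 : (f ∘ₗ g) ∘ₗ (φ ^ (k + 1)) ∘ₗ (f ∘ₗ g) = f ∘ₗ (g ∘ₗ (φ ^ (k + 1)) ∘ₗ f) ∘ₗ g := rfl
  rw [h2, h3, ← hpow, h1, LinearMap.zero_comp, LinearMap.comp_zero]

end Nilpotent

section Support

variable {A : Type*} [CommRing A] {C : Type*} [AddCommGroup C] [Module A C] [Module.Finite A C]

/-- A finite module whose fibres over `D(f)` vanish is killed by a power of `f`. -/
theorem exists_pow_smul_eq_zero_of_fibres (f : A)
    (h : ∀ q : PrimeSpectrum A, f ∉ q.asIdeal →
      Subsingleton (q.asIdeal.ResidueField ⊗[A] C)) :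
    ∃ m : ℕ, ∀ c : C, f ^ m • c = 0 := by
  have h1 : Module.support A C ⊆ PrimeSpectrum.zeroLocus {f} := by
    intro q hq
    rw [Module.mem_support_iff_nontrivial_residueField_tensorProduct] at hq
    rw [PrimeSpectrum.mem_zeroLocus, Set.singleton_subset_iff]
    by_contra hf
    have := h q hf
    exact not_subsingleton _ this
  rw [Module.support_eq_zeroLocus] at h1
  have h2 : f ∈ (Module.annihilator A C).radical := by
    rw [← PrimeSpectrum.vanishingIdeal_zeroLocus_eq_radical, PrimeSpectrum.mem_vanishingIdeal]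
    intro q hq
    have := h1 hq
    rw [PrimeSpectrum.mem_zeroLocus, Set.singleton_subset_iff] at this
    exact this
  obtain ⟨m, hm⟩ := h2
  exact ⟨m, fun c => Module.mem_annihilator.mp hm c⟩

variable {Q Q' : Type*} [AddCommGroup Q] [Module A Q] [AddCommGroup Q'] [Module A Q']
  [Module.Finite A Q']

/-- If `φ` is surjective on the fibres over `D(f)`, its cokernel is killed by a power of `f`. -/
theorem exists_pow_smul_mem_range_of_fibres (f : A) (φ : Q →ₗ[A] Q')
    (h : ∀ q : PrimeSpectrum A, f ∉ q.asIdeal →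
      Function.Surjective (φ.baseChange q.asIdeal.ResidueField)) :
    ∃ m : ℕ, ∀ y : Q', f ^ m • y ∈ LinearMap.range φ := by
  obtain ⟨m, hm⟩ := exists_pow_smul_eq_zero_of_fibres (C := Q' ⧸ LinearMap.range φ) f (by
    intro q hq
    have hs := h q hq
    have hπ : Function.Surjective
        ((LinearMap.range φ).mkQ.baseChange q.asIdeal.ResidueField) :=
      LinearMap.lTensor_surjective _ (Submodule.mkQ_surjective _)
    refine ⟨fun z w => ?_⟩
    have hz : ∀ z : q.asIdeal.ResidueField ⊗[A] (Q' ⧸ LinearMap.range φ), z = 0 := by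
      intro z
      obtain ⟨w, rfl⟩ := hπ z
      obtain ⟨v, rfl⟩ := hs w
      rw [← LinearMap.comp_apply, ← LinearMap.baseChange_comp]
      have : (LinearMap.range φ).mkQ ∘ₗ φ = 0 := by
        ext x
        simp
      rw [this, LinearMap.baseChange_zero, LinearMap.zero_apply]
    rw [hz z, hz w])
  refine ⟨m, fun y => ?_⟩
  have := hm ((LinearMap.range φ).mkQ y)
  rwa [← map_smul, Submodule.mkQ_apply, Submodule.Quotient.mk_eq_zero] at this

/-- Fibrewise surjective maps into a finite module are surjective. -/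
theorem surjective_of_fibres (φ : Q →ₗ[A] Q')
    (h : ∀ q : PrimeSpectrum A, Function.Surjective (φ.baseChange q.asIdeal.ResidueField)) :
    Function.Surjective φ := by
  obtain ⟨m, hm⟩ := exists_pow_smul_mem_range_of_fibres (1 : A) φ (fun q _ => h q)
  intro y
  have := hm y
  rwa [one_pow, one_smul] at this

end Support

end Groth.Agent.Lib.Helper92.CartanRel
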