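import Groth.Agent.Lib.Helper92.CR9

set_option linter.unusedSectionVars false
set_option linter.unusedSimpArgs false
set_option linter.unusedVariables false
set_option linter.style.haveILetI false

/-!
# Relative Cartan subalgebras, part 10: invariance of rank and regularity under isomorphisms and
identification of the fibres of a base change
-/

namespace Groth.Agent.Lib.Helper92.CartanRel

open TensorProduct LieAlgebra LieSubalgebra Module SGA3t2b

section Equiv

attribute [local instance 100] LieRing.ofAssociativeRing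

variable {K : Type*} [Field K] {L₁ L₂ : Type*} [LieRing L₁] [LieAlgebra K L₁] [Module.Finite K L₁]
  [LieRing L₂] [LieAlgebra K L₂] [Module.Finite K L₂]

theorem rank_eq_of_lieEquiv (e : L₁ ≃ₗ⁅K⁆ L₂) : LieAlgebra.rank K L₁ = LieAlgebra.rank K L₂ := by
  classical
  let b := Module.Free.chooseBasis K L₁
  let b' := b.map e.toLinearEquiv
  show LinearMap.nilRank _ = LinearMap.nilRank _
  rw [LinearMap.nilRank_eq_polyCharpoly_natTrailingDegree _ b,
    LinearMap.nilRank_eq_polyCharpoly_natTrailingDegree _ b',
    LinearMap.polyCharpoly_eq_of_basis _ b b, LinearMap.polyCharpoly_eq_of_basis _ b' b']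
  have key : LinearMap.toMvPolynomial b b.end
      (LieHom.toLinearMap (LieModule.toEnd K L₁ L₁) : L₁ →ₗ[K] Module.End K L₁) =
      LinearMap.toMvPolynomial b' b'.end
      (LieHom.toLinearMap (LieModule.toEnd K L₂ L₂) : L₂ →ₗ[K] Module.End K L₂) := by
    funext ij
    unfold LinearMap.toMvPolynomial
    congr 1
    ext ij k
    rw [LinearMap.toMatrix_apply, LinearMap.toMatrix_apply]
    simp only [Module.Basis.linearMap_repr_apply, LieHom.coe_toLinearMap]
    congr 2
    ext i j
    rw [LinearMap.toMatrix_apply, LinearMap.toMatrix_apply]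
    simp only [LieModule.toEnd_apply_apply]
    show b.repr ⁅b k, b j⁆ i = (b.map e.toLinearEquiv).repr ⁅(b.map e.toLinearEquiv) k,
      (b.map e.toLinearEquiv) j⁆ i
    rw [Module.Basis.map_apply, Module.Basis.map_apply, Module.Basis.map_repr]
    simp only [LinearEquiv.trans_apply]
    congr 2
    show _ = e.symm ⁅e (b k), e (b j)⁆
    rw [← LieEquiv.map_lie, LieEquiv.symm_apply_apply]
  rw [key]

theorem isRegular_lieEquiv (e : L₁ ≃ₗ⁅K⁆ L₂) (x : L₁) :
    LieAlgebra.IsRegular K (e x) ↔ LieAlgebra.IsRegular K x := by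
  rw [LieAlgebra.isRegular_iff_natTrailingDegree_charpoly_eq_rank,
    LieAlgebra.isRegular_iff_natTrailingDegree_charpoly_eq_rank, rank_eq_of_lieEquiv e]
  have : LieAlgebra.ad K L₂ (e x) = e.toLinearEquiv.conj (LieAlgebra.ad K L₁ x) := by
    apply LinearMap.ext
    intro y
    rw [LinearEquiv.conj_apply]
    show ⁅e x, y⁆ = e ⁅x, e.symm y⁆
    rw [LieEquiv.map_lie, LieEquiv.apply_symm_apply]
  rw [this, LinearEquiv.charpoly_conj]

end Equiv

section CancelBaseChange

variable (A B C : Type*) [CommRing A] [CommRing B] [CommRing C] [Algebra A B] [Algebra B C]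
  [Algebra A C] [IsScalarTower A B C] (L : Type*) [LieRing L] [LieAlgebra A L]

theorem tensor_tensor_induction {P : C ⊗[B] (B ⊗[A] L) → Prop} (h0 : P 0)
    (ht : ∀ (c : C) (b : B) (l : L), P (c ⊗ₜ[B] (b ⊗ₜ[A] l)))
    (ha : ∀ x y, P x → P y → P (x + y)) : ∀ x, P x := by
  intro x
  induction x using TensorProduct.induction_on with
  | zero => exact h0
  | tmul c w =>
    induction w using TensorProduct.induction_on with
    | zero => rw [TensorProduct.tmul_zero]; exact h0
    | tmul b l => exact ht c b l
    | add w1 w2 h1 h2 => rw [TensorProduct.tmul_add]; exact ha _ _ h1 h2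
  | add x y hx hy => exact ha _ _ hx hy

/-- Transitivity of base change, as an isomorphism of Lie algebras. -/
noncomputable def cancelBaseChangeLie : C ⊗[B] (B ⊗[A] L) ≃ₗ⁅C⁆ C ⊗[A] L :=
  { TensorProduct.AlgebraTensorModule.cancelBaseChange A B C C L with
    map_lie' := by
      intro x y
      simp only [AddHom.toFun_eq_coe, LinearMap.coe_toAddHom, LinearEquiv.coe_coe]
      induction x using tensor_tensor_induction with
      | h0 => simp
      | ha x1 x2 h1 h2 => rw [add_lie, map_add, h1, h2, map_add, add_lie]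
      | ht c b l =>
        induction y using tensor_tensor_induction with
        | h0 => simp
        | ha y1 y2 h1 h2 => rw [lie_add, map_add, h1, h2, map_add, lie_add]
        | ht c' b' l' =>
          rw [LieAlgebra.ExtendScalars.bracket_tmul, LieAlgebra.ExtendScalars.bracket_tmul,
            TensorProduct.AlgebraTensorModule.cancelBaseChange_tmul,
            TensorProduct.AlgebraTensorModule.cancelBaseChange_tmul,
            TensorProduct.AlgebraTensorModule.cancelBaseChange_tmul,
            LieAlgebra.ExtendScalars.bracket_tmul]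
          congr 1
          rw [Algebra.smul_def, Algebra.smul_def, Algebra.smul_def, map_mul]
          ring }

theorem cancelBaseChangeLie_tmul (c : C) (b : B) (l : L) :
    cancelBaseChangeLie A B C L (c ⊗ₜ[B] (b ⊗ₜ[A] l)) = (b • c) ⊗ₜ[A] l := rfl

end CancelBaseChange

section FieldExt

variable {A : Type*} [CommRing A] (L : Type*) [LieRing L] [LieAlgebra A L] [Module.Finite A L]

theorem rank_tensor_field_ext (K K' : Type*) [Field K] [Field K'] [Algebra A K] [Algebra K K']
    [Algebra A K'] [IsScalarTower A K K'] :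
    LieAlgebra.rank K' (K' ⊗[A] L) = LieAlgebra.rank K (K ⊗[A] L) := by
  rw [← rank_eq_of_lieEquiv (cancelBaseChangeLie A K K' L), rank_baseChange]

theorem finrank_tensor_field_ext (K K' : Type*) [Field K] [Field K'] [Algebra A K] [Algebra K K']
    [Algebra A K'] [IsScalarTower A K K'] :
    finrank K' (K' ⊗[A] L) = finrank K (K ⊗[A] L) := by
  rw [← LinearEquiv.finrank_eq
    (TensorProduct.AlgebraTensorModule.cancelBaseChange A K K' K' L), Module.finrank_baseChange]

variable {L}

theorem isRegular_tensor_field_ext' (K K' : Type*) [Field K] [Field K'] [Algebra A K]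
    [Algebra K K'] [Algebra A K'] [IsScalarTower A K K'] (x : K ⊗[A] L) :
    LieAlgebra.IsRegular K' (cancelBaseChangeLie A K K' L ((1 : K') ⊗ₜ[K] x)) ↔
      LieAlgebra.IsRegular K x := by
  rw [isRegular_lieEquiv]
  exact ⟨isRegular_of_baseChange K K', isRegular_baseChange K K'⟩

theorem isRegular_tensor_field_ext (K K' : Type*) [Field K] [Field K'] [Algebra A K]
    [Algebra K K'] [Algebra A K'] [IsScalarTower A K K'] (a : L) :
    LieAlgebra.IsRegular K' ((1 : K') ⊗ₜ[A] a) ↔ LieAlgebra.IsRegular K ((1 : K) ⊗ₜ[A] a) := by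
  rw [← isRegular_tensor_field_ext' K K', cancelBaseChangeLie_tmul, one_smul]

end FieldExt

section Residue

variable {A : Type*} [CommRing A] (L : Type*) [LieRing L] [LieAlgebra A L] [Module.Finite A L]

/-- A field `K'` over `A` whose structure map has kernel `q` is an extension of `κ(q)`. -/
theorem exists_algebra_residueField (K' : Type*) [Field K'] [Algebra A K'] (q : PrimeSpectrum A)
    (hq : RingHom.ker (algebraMap A K') = q.asIdeal) :
    ∃ (_ : Algebra q.asIdeal.ResidueField K'), IsScalarTower A q.asIdeal.ResidueField K' := by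
  have hf₁ : q.asIdeal ≤ RingHom.ker (algebraMap A K') := hq.ge
  have hf₂ : q.asIdeal.primeCompl ≤ (IsUnit.submonoid K').comap (algebraMap A K') := by
    intro r hr
    show IsUnit (algebraMap A K' r)
    rw [isUnit_iff_ne_zero]
    intro h0
    have : r ∈ RingHom.ker (algebraMap A K') := h0
    rw [hq] at this
    exact hr this
  let φ := Ideal.ResidueField.lift q.asIdeal (algebraMap A K') hf₁ hf₂
  refine ⟨φ.toAlgebra, ?_⟩
  letI := φ.toAlgebra
  apply IsScalarTower.of_algebraMap_eq
  intro r
  exact (Ideal.ResidueField.lift_algebraMap q.asIdeal (algebraMap A K') hf₁ hf₂ r).symm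

theorem rank_tensor_of_ker_eq (K' : Type*) [Field K'] [Algebra A K'] (q : PrimeSpectrum A)
    (hq : RingHom.ker (algebraMap A K') = q.asIdeal) :
    LieAlgebra.rank K' (K' ⊗[A] L) =
      LieAlgebra.rank q.asIdeal.ResidueField (q.asIdeal.ResidueField ⊗[A] L) := by
  obtain ⟨_, _⟩ := exists_algebra_residueField K' q hq
  exact rank_tensor_field_ext L _ _

theorem finrank_tensor_of_ker_eq (K' : Type*) [Field K'] [Algebra A K'] (q : PrimeSpectrum A)
    (hq : RingHom.ker (algebraMap A K') = q.asIdeal) :
    finrank K' (K' ⊗[A] L) =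
      finrank q.asIdeal.ResidueField (q.asIdeal.ResidueField ⊗[A] L) := by
  obtain ⟨_, _⟩ := exists_algebra_residueField K' q hq
  exact finrank_tensor_field_ext L _ _

variable {L}

theorem isRegular_tensor_of_ker_eq (K' : Type*) [Field K'] [Algebra A K'] (q : PrimeSpectrum A)
    (hq : RingHom.ker (algebraMap A K') = q.asIdeal) (a : L) :
    LieAlgebra.IsRegular K' ((1 : K') ⊗ₜ[A] a) ↔
      LieAlgebra.IsRegular q.asIdeal.ResidueField ((1 : q.asIdeal.ResidueField) ⊗ₜ[A] a) := by
  obtain ⟨_, _⟩ := exists_algebra_residueField K' q hq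
  exact isRegular_tensor_field_ext _ _ a

end Residue

section BaseChangeFibre

variable {A : Type*} [CommRing A] (L : Type*) [LieRing L] [LieAlgebra A L] [Module.Finite A L]
  (A' : Type*) [CommRing A'] [Algebra A A']

theorem ker_algebraMap_residueField_comap (p' : PrimeSpectrum A') :
    RingHom.ker (algebraMap A p'.asIdeal.ResidueField) =
      (PrimeSpectrum.comap (algebraMap A A') p').asIdeal := by
  rw [IsScalarTower.algebraMap_eq A A' p'.asIdeal.ResidueField, ← RingHom.comap_ker,
    Ideal.ker_algebraMap_residueField]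
  rfl

theorem rank_fibre_baseChange (p' : PrimeSpectrum A') :
    LieAlgebra.rank p'.asIdeal.ResidueField (p'.asIdeal.ResidueField ⊗[A'] (A' ⊗[A] L)) =
      LieAlgebra.rank (PrimeSpectrum.comap (algebraMap A A') p').asIdeal.ResidueField
        ((PrimeSpectrum.comap (algebraMap A A') p').asIdeal.ResidueField ⊗[A] L) := by
  rw [rank_eq_of_lieEquiv (cancelBaseChangeLie A A' p'.asIdeal.ResidueField L)]
  exact rank_tensor_of_ker_eq L _ _ (ker_algebraMap_residueField_comap A' p')

theorem finrank_fibre_baseChange (p' : PrimeSpectrum A') :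
    finrank p'.asIdeal.ResidueField (p'.asIdeal.ResidueField ⊗[A'] (A' ⊗[A] L)) =
      finrank (PrimeSpectrum.comap (algebraMap A A') p').asIdeal.ResidueField
        ((PrimeSpectrum.comap (algebraMap A A') p').asIdeal.ResidueField ⊗[A] L) := by
  rw [LinearEquiv.finrank_eq (TensorProduct.AlgebraTensorModule.cancelBaseChange A A'
    p'.asIdeal.ResidueField p'.asIdeal.ResidueField L)]
  exact finrank_tensor_of_ker_eq L _ _ (ker_algebraMap_residueField_comap A' p')

variable {L}

theorem isRegular_fibre_baseChange (p' : PrimeSpectrum A') (a : L) :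
    LieAlgebra.IsRegular p'.asIdeal.ResidueField
        ((1 : p'.asIdeal.ResidueField) ⊗ₜ[A'] ((1 : A') ⊗ₜ[A] a)) ↔
      LieAlgebra.IsRegular (PrimeSpectrum.comap (algebraMap A A') p').asIdeal.ResidueField
        ((1 : (PrimeSpectrum.comap (algebraMap A A') p').asIdeal.ResidueField) ⊗ₜ[A] a) := by
  rw [← isRegular_lieEquiv (cancelBaseChangeLie A A' p'.asIdeal.ResidueField L),
    cancelBaseChangeLie_tmul, one_smul]
  exact isRegular_tensor_of_ker_eq _ _ (ker_algebraMap_residueField_comap A' p') a

end BaseChangeFibre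

end Groth.Agent.Lib.Helper92.CartanRel
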