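import Groth.Agent.Lib.Helper92.CR10

set_option linter.unusedSectionVars false
set_option linter.unusedSimpArgs false
set_option linter.unusedVariables false
set_option linter.style.haveILetI false

/-!
# Relative Cartan subalgebras, part 11: (C₁) ⟹ (C₀)
-/

namespace Groth.Agent.Lib.Helper92.CartanRel

open TensorProduct LieAlgebra LieSubalgebra Module SGA3t2b

universe u

variable {A : Type u} [CommRing A] {L : Type u} [LieRing L] [LieAlgebra A L]
  [Module.Finite A L] [Module.Projective A L]

/-- **S8378.** (C₁) ⟹ (C₀). -/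
theorem rank_locally_constant_of_C1 (A' : Type u) [CommRing A'] [Algebra A A']
    [Module.FaithfullyFlat A A'] (H : LieSubalgebra A' (A' ⊗[A] L)) (hH : IsCartanRel H) :
    ∀ p : PrimeSpectrum A, ∃ f : A, f ∉ p.asIdeal ∧ ∀ q : PrimeSpectrum A, f ∉ q.asIdeal →
        LieAlgebra.rank q.asIdeal.ResidueField (q.asIdeal.ResidueField ⊗[A] L) =
          LieAlgebra.rank p.asIdeal.ResidueField (p.asIdeal.ResidueField ⊗[A] L) := by
  set r : PrimeSpectrum A → ℕ := fun q =>
    LieAlgebra.rank q.asIdeal.ResidueField (q.asIdeal.ResidueField ⊗[A] L) with hr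
  set r' : PrimeSpectrum A' → ℕ := fun q' =>
    LieAlgebra.rank q'.asIdeal.ResidueField (q'.asIdeal.ResidueField ⊗[A'] (A' ⊗[A] L)) with hr'
  have hrr' : r' = r ∘ PrimeSpectrum.comap (algebraMap A A') := by
    funext q'
    exact rank_fibre_baseChange L A' q'
  have hcont' : Continuous r' := by
    rw [continuous_discrete_rng]
    intro n
    rw [isOpen_iff_forall_mem_open]
    intro p' hp'
    obtain ⟨f, hf, hfq⟩ := rank_locally_constant_of_isCartanRel hH p'
    refine ⟨(PrimeSpectrum.basicOpen f : Set (PrimeSpectrum A')), ?_,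
      (PrimeSpectrum.basicOpen f).2, hf⟩
    intro q' hq'
    show r' q' = n
    rw [← (show r' p' = n from hp')]
    exact hfq q' hq'
  have hquot : Topology.IsQuotientMap (PrimeSpectrum.comap (algebraMap A A')) :=
    PrimeSpectrum.isQuotientMap_of_generalizingMap
      PrimeSpectrum.comap_surjective_of_faithfullyFlat
      (RingHom.Flat.generalizingMap_comap (RingHom.flat_algebraMap_iff.mpr inferInstance))
  have hcont : Continuous r := by
    rw [hquot.continuous_iff, ← hrr']
    exact hcont'
  intro p
  have hopen : IsOpen (r ⁻¹' {r p}) := (isOpen_discrete _).preimage hcont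
  obtain ⟨f, hf, hfq⟩ := exists_basicOpen_subset hopen (p := p) rfl
  exact ⟨f, hf, fun q hq => hfq q hq⟩

end Groth.Agent.Lib.Helper92.CartanRel
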