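import Groth.Agent.Lib.Helper92.CR11

set_option linter.unusedSectionVars false
set_option linter.unusedSimpArgs false
set_option linter.unusedVariables false
set_option linter.style.haveILetI false

/-!
# Relative Cartan subalgebras, part 12: (C₂) ⟹ local existence of Cartan subalgebras
-/

namespace Groth.Agent.Lib.Helper92.CartanRel

open TensorProduct LieAlgebra LieSubalgebra Module SGA3t2b

universe u

variable {A : Type u} [CommRing A] {L : Type u} [LieRing L] [LieAlgebra A L]
  [Module.Finite A L] [Module.Projective A L]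

/-- A regular element of a fibre lifts, up to a unit, to a global section which is regular on a
basic open neighbourhood (given (C₀)). -/
theorem exists_regular_section_of_C0
    (hC0 : ∀ p : PrimeSpectrum A, ∃ f : A, f ∉ p.asIdeal ∧ ∀ q : PrimeSpectrum A,
      f ∉ q.asIdeal →
        LieAlgebra.rank q.asIdeal.ResidueField (q.asIdeal.ResidueField ⊗[A] L) =
          LieAlgebra.rank p.asIdeal.ResidueField (p.asIdeal.ResidueField ⊗[A] L))
    (p : PrimeSpectrum A)
    (hp : ∃ x : p.asIdeal.ResidueField ⊗[A] L, LieAlgebra.IsRegular p.asIdeal.ResidueField x) :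
    ∃ f : A, f ∉ p.asIdeal ∧ ∃ a : L, ∀ q : PrimeSpectrum A, f ∉ q.asIdeal →
      LieAlgebra.IsRegular q.asIdeal.ResidueField ((1 : q.asIdeal.ResidueField) ⊗ₜ[A] a) := by
  obtain ⟨x, hx⟩ := hp
  have hxtop : x ∈ (⊤ : Submodule A L).baseChange p.asIdeal.ResidueField := by
    rw [Submodule.baseChange_top]
    trivial
  obtain ⟨s, hs, a, -, hsa⟩ := exists_smul_eq_tmul p (⊤ : Submodule A L) hxtop
  have hc : algebraMap A p.asIdeal.ResidueField s ≠ 0 := by
    rw [Ne, Ideal.algebraMap_residueField_eq_zero]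
    exact hs
  have hareg : LieAlgebra.IsRegular p.asIdeal.ResidueField
      ((1 : p.asIdeal.ResidueField) ⊗ₜ[A] a) := by
    rw [← hsa]
    exact isRegular_smul hc hx
  have hopen := isOpen_regular_locus hC0 a
  obtain ⟨f, hf, hfq⟩ := exists_basicOpen_subset hopen (p := p) hareg
  exact ⟨f, hf, a, hfq⟩

/-- If `a` is regular on `D(f)`, then `1 ⊗ a` is quasi-regular over any `A`-algebra in which `f`
is invertible. -/
theorem isQuasiRegular_tmul_of_isUnit (A' : Type u) [CommRing A'] [Algebra A A'] (f : A)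
    (hf : IsUnit (algebraMap A A' f)) (a : L)
    (ha : ∀ q : PrimeSpectrum A, f ∉ q.asIdeal →
      LieAlgebra.IsRegular q.asIdeal.ResidueField ((1 : q.asIdeal.ResidueField) ⊗ₜ[A] a)) :
    IsQuasiRegular A' (A' ⊗[A] L) ((1 : A') ⊗ₜ[A] a) := by
  intro p'
  rw [isRegular_fibre_baseChange]
  apply ha
  intro hfq
  have : algebraMap A A' f ∈ p'.asIdeal := hfq
  exact p'.isPrime.ne_top (Ideal.eq_top_of_isUnit_mem _ this hf)

/-- **S8376.** -/
theorem exists_cartan_localization
    (hC2 : ((∀ p : PrimeSpectrum A, ∃ f : A, f ∉ p.asIdeal ∧ ∀ q : PrimeSpectrum A,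
        f ∉ q.asIdeal →
        LieAlgebra.rank q.asIdeal.ResidueField (q.asIdeal.ResidueField ⊗[A] L) =
          LieAlgebra.rank p.asIdeal.ResidueField (p.asIdeal.ResidueField ⊗[A] L)) ∧
      ∀ (A' : Type u) [CommRing A'] [Algebra A A'] (a' : A' ⊗[A] L),
        SGA3t2b.IsQuasiRegular A' (A' ⊗[A] L) a' → SGA3t2b.IsRegularRel A' (A' ⊗[A] L) a'))
    (p : PrimeSpectrum A)
    (hp : ∃ x : p.asIdeal.ResidueField ⊗[A] L, LieAlgebra.IsRegular p.asIdeal.ResidueField x) :
    ∃ f : A, f ∉ p.asIdeal ∧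
      ∃ H : LieSubalgebra (Localization.Away f) (Localization.Away f ⊗[A] L),
        SGA3t2b.IsCartanRel H := by
  obtain ⟨f, hf, a, ha⟩ := exists_regular_section_of_C0 hC2.1 p hp
  refine ⟨f, hf, ?_⟩
  have hqr := isQuasiRegular_tmul_of_isUnit (Localization.Away f) f
    (IsLocalization.Away.algebraMap_isUnit f) a ha
  obtain ⟨-, H, hH, -⟩ := hC2.2 (Localization.Away f) _ hqr
  exact ⟨H, hH⟩

end Groth.Agent.Lib.Helper92.CartanRel
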