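import Groth.Agent.Lib.Helper92.CR12

set_option linter.unusedSectionVars false
set_option linter.unusedSimpArgs false
set_option linter.unusedVariables false
set_option linter.style.haveILetI false

/-!
# Relative Cartan subalgebras, part 13: (C₂) ⟹ (C′₁) when all fibres have regular elements
-/

namespace Groth.Agent.Lib.Helper92.CartanRel

open TensorProduct LieAlgebra LieSubalgebra Module SGA3t2b

universe u

section PiLoc

variable {A : Type u} [CommRing A] (t : Finset A)

/-- The product of the localisations away from the elements of a finite set. -/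
abbrev PiLoc : Type u := Π i : t, Localization.Away (i : A)

instance : Algebra.Etale A (PiLoc t) := inferInstance

theorem piLoc_flat : Module.Flat A (PiLoc t) := by
  classical
  exact Module.Flat.of_linearEquiv
    (DirectSum.linearEquivFunOnFintype A t (fun i => Localization.Away (i : A))).symm

theorem piLoc_comap_surjective (ht : Ideal.span (t : Set A) = ⊤) :
    Function.Surjective (PrimeSpectrum.comap (algebraMap A (PiLoc t))) := by
  intro q
  have hex : ∃ i : t, (i : A) ∉ q.asIdeal := by
    by_contra hcon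
    push Not at hcon
    have : Ideal.span (t : Set A) ≤ q.asIdeal := by
      rw [Ideal.span_le]
      intro x hx
      exact hcon ⟨x, hx⟩
    rw [ht] at this
    exact q.isPrime.ne_top (top_le_iff.mp this)
  obtain ⟨i, hi⟩ := hex
  have hq : q ∈ Set.range (PrimeSpectrum.comap (algebraMap A (Localization.Away (i : A)))) := by
    rw [PrimeSpectrum.localization_away_comap_range (Localization.Away (i : A)) (i : A)]
    exact hi
  obtain ⟨pi, hpi⟩ := hq
  refine ⟨PrimeSpectrum.comap (Pi.evalRingHom (fun j : t => Localization.Away (j : A)) i) pi, ?_⟩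
  rw [← hpi]
  rfl

theorem piLoc_faithfullyFlat (ht : Ideal.span (t : Set A) = ⊤) :
    Module.FaithfullyFlat A (PiLoc t) := by
  haveI := piLoc_flat t
  exact Module.FaithfullyFlat.of_comap_surjective (piLoc_comap_surjective t ht)

end PiLoc

section QR

variable {A : Type u} [CommRing A] {L : Type u} [LieRing L] [LieAlgebra A L]
  [Module.Finite A L] [Module.Projective A L]

open Classical in
theorem isQuasiRegular_piLoc (t : Finset A) (a : t → L)
    (ha : ∀ (i : t) (q : PrimeSpectrum A), (i : A) ∉ q.asIdeal →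
      LieAlgebra.IsRegular q.asIdeal.ResidueField ((1 : q.asIdeal.ResidueField) ⊗ₜ[A] a i)) :
    IsQuasiRegular (PiLoc t) (PiLoc t ⊗[A] L)
      (∑ i : t, (Pi.single i 1 : PiLoc t) ⊗ₜ[A] a i) := by
  classical
  intro p'
  set e : t → PiLoc t := fun i => Pi.single i 1 with he
  have hsum : ∑ i : t, e i = 1 := Finset.univ_sum_single (1 : PiLoc t)
  have hex : ∃ i : t, e i ∉ p'.asIdeal := by
    by_contra hcon
    push Not at hcon
    have : (1 : PiLoc t) ∈ p'.asIdeal := by
      rw [← hsum]
      exact Ideal.sum_mem _ (fun i _ => hcon i)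
    exact p'.isPrime.ne_top ((Ideal.eq_top_iff_one _).mpr this)
  obtain ⟨i, hi⟩ := hex
  have hne : ∀ j : t, j ≠ i → e j ∈ p'.asIdeal := by
    intro j hj
    have h0 : e i * e j = 0 := by
      rw [he]
      ext k
      simp only [Pi.mul_apply, Pi.zero_apply]
      by_cases hk : k = i
      · subst hk
        rw [Pi.single_eq_of_ne (Ne.symm hj), mul_zero]
      · rw [Pi.single_eq_of_ne hk, zero_mul]
    have : e i * e j ∈ p'.asIdeal := by rw [h0]; exact Ideal.zero_mem _
    exact (p'.isPrime.mem_or_mem this).resolve_left hi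
  have hmap0 : ∀ j : t, j ≠ i → algebraMap (PiLoc t) p'.asIdeal.ResidueField (e j) = 0 :=
    fun j hj => Ideal.algebraMap_residueField_eq_zero.mpr (hne j hj)
  have hmap1 : algebraMap (PiLoc t) p'.asIdeal.ResidueField (e i) = 1 := by
    have := congrArg (algebraMap (PiLoc t) p'.asIdeal.ResidueField) hsum
    rw [map_sum, map_one, Finset.sum_eq_single i (fun j _ hj => hmap0 j hj)
      (fun h => absurd (Finset.mem_univ i) h)] at this
    exact this
  have hfi : (i : A) ∉ (PrimeSpectrum.comap (algebraMap A (PiLoc t)) p').asIdeal := by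
    intro hmem
    have hmem' : algebraMap A (PiLoc t) (i : A) ∈ p'.asIdeal := hmem
    apply hi
    have hu : (Pi.single i (IsLocalization.Away.invSelf (S := Localization.Away (i : A)) (i : A)) :
        PiLoc t) * algebraMap A (PiLoc t) (i : A) = e i := by
      rw [he]
      ext k
      simp only [Pi.mul_apply, Pi.algebraMap_apply]
      by_cases hk : k = i
      · subst hk
        rw [Pi.single_eq_same, Pi.single_eq_same, mul_comm]
        exact IsLocalization.Away.mul_invSelf (k : A)
      · rw [Pi.single_eq_of_ne hk, Pi.single_eq_of_ne hk, zero_mul]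
    rw [← hu]
    exact Ideal.mul_mem_left _ _ hmem'
  have hkey : (1 : p'.asIdeal.ResidueField) ⊗ₜ[PiLoc t] (∑ j : t, e j ⊗ₜ[A] a j) =
      (1 : p'.asIdeal.ResidueField) ⊗ₜ[PiLoc t] ((1 : PiLoc t) ⊗ₜ[A] a i) := by
    rw [TensorProduct.tmul_sum]
    have hterm : ∀ j : t, (1 : p'.asIdeal.ResidueField) ⊗ₜ[PiLoc t] (e j ⊗ₜ[A] a j) =
        (algebraMap (PiLoc t) p'.asIdeal.ResidueField (e j)) ⊗ₜ[PiLoc t]
          ((1 : PiLoc t) ⊗ₜ[A] a j) := by
      intro j
      have h1 : e j ⊗ₜ[A] a j = e j • ((1 : PiLoc t) ⊗ₜ[A] a j) := by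
        rw [TensorProduct.smul_tmul', smul_eq_mul, mul_one]
      rw [h1, ← TensorProduct.smul_tmul, Algebra.smul_def, mul_one]
    rw [Finset.sum_congr rfl (fun j _ => hterm j),
      Finset.sum_eq_single i (fun j _ hj => by rw [hmap0 j hj, TensorProduct.zero_tmul])
        (fun h => absurd (Finset.mem_univ i) h), hmap1]
  show LieAlgebra.IsRegular _ _
  rw [hkey, isRegular_fibre_baseChange]
  exact ha i _ hfi

/-- **S8377.** -/
theorem exists_etale_cover_cartan
    (hC2 : ((∀ p : PrimeSpectrum A, ∃ f : A, f ∉ p.asIdeal ∧ ∀ q : PrimeSpectrum A,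
        f ∉ q.asIdeal →
        LieAlgebra.rank q.asIdeal.ResidueField (q.asIdeal.ResidueField ⊗[A] L) =
          LieAlgebra.rank p.asIdeal.ResidueField (p.asIdeal.ResidueField ⊗[A] L)) ∧
      ∀ (A' : Type u) [CommRing A'] [Algebra A A'] (a' : A' ⊗[A] L),
        SGA3t2b.IsQuasiRegular A' (A' ⊗[A] L) a' → SGA3t2b.IsRegularRel A' (A' ⊗[A] L) a'))
    (hreg : ∀ p : PrimeSpectrum A, ∃ x : p.asIdeal.ResidueField ⊗[A] L,
      LieAlgebra.IsRegular p.asIdeal.ResidueField x) :
    ∃ (A' : Type u) (_ : CommRing A') (_ : Algebra A A'), Algebra.Etale A A' ∧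
      Module.FaithfullyFlat A A' ∧
        ∃ H : LieSubalgebra A' (A' ⊗[A] L), SGA3t2b.IsCartanRel H := by
  classical
  choose f hf a ha using fun p => exists_regular_section_of_C0 hC2.1 p (hreg p)
  have hspan : Ideal.span (Set.range f) = ⊤ := by
    by_contra hne
    obtain ⟨m, hm, hle⟩ := Ideal.exists_le_maximal _ hne
    exact hf ⟨m, hm.isPrime⟩ (hle (Ideal.subset_span ⟨⟨m, hm.isPrime⟩, rfl⟩))
  obtain ⟨t, htsub, ht⟩ := (Ideal.span_eq_top_iff_finite _).mp hspan
  have hch : ∀ i : t, ∃ p : PrimeSpectrum A, f p = (i : A) := fun i => htsub i.2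
  choose pt hpt using hch
  refine ⟨PiLoc t, inferInstance, inferInstance, inferInstance, piLoc_faithfullyFlat t ht, ?_⟩
  have hqr := isQuasiRegular_piLoc (L := L) t (fun i => a (pt i)) (by
    intro i q hq
    apply ha (pt i) q
    rw [hpt i]
    exact hq)
  obtain ⟨-, H, hH, -⟩ := hC2.2 (PiLoc t) _ hqr
  exact ⟨H, hH⟩

end QR

end Groth.Agent.Lib.Helper92.CartanRel
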