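import Groth.Agent.Lib.Helper92.CR13

set_option linter.unusedSectionVars false
set_option linter.unusedSimpArgs false
set_option linter.unusedVariables false
set_option linter.style.haveILetI false

/-!
# Relative Cartan subalgebras, part 14: Fitting decomposition over a ring
-/

namespace Groth.Agent.Lib.Helper92.CartanRel

open Module Polynomial

section Fitting

variable {R : Type*} [CommRing R] {V : Type*} [AddCommGroup V] [Module R V]

theorem isCoprime_X_pow_of_isUnit_coeff_zero (Ψ : R[X]) (hΨ : IsUnit (Ψ.coeff 0)) (m : ℕ) :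
    IsCoprime (X ^ m) Ψ := by
  apply IsCoprime.pow_left
  obtain ⟨c, hc⟩ := hΨ
  refine ⟨- C (↑c⁻¹ : R) * divX Ψ, C (↑c⁻¹ : R), ?_⟩
  have h := Polynomial.divX_mul_X_add Ψ
  rw [← hc] at h
  calc - C (↑c⁻¹ : R) * divX Ψ * X + C (↑c⁻¹ : R) * Ψ
      = - C (↑c⁻¹ : R) * divX Ψ * X + C (↑c⁻¹ : R) * (divX Ψ * X + C (c : R)) := by rw [h]
    _ = C ((↑c⁻¹ : R) * (c : R)) := by rw [C_mul]; ring
    _ = 1 := by rw [Units.inv_mul, C_1]

variable (D : Module.End R V) (m : ℕ) (Ψ : R[X])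

theorem fitting_isCompl (hΨ : IsUnit (Ψ.coeff 0)) (h0 : D ^ m * aeval D Ψ = 0) :
    IsCompl (LinearMap.ker (D ^ m)) (LinearMap.ker (aeval D Ψ)) := by
  have hcop := isCoprime_X_pow_of_isUnit_coeff_zero Ψ hΨ m
  have h1 := disjoint_ker_aeval_of_isCoprime D hcop
  have h2 := sup_ker_aeval_eq_ker_aeval_mul_of_coprime D hcop
  rw [aeval_mul, aeval_X_pow, h0, LinearMap.ker_zero] at h2
  rw [aeval_X_pow] at h1
  exact ⟨h1, codisjoint_iff.mpr h2⟩

theorem fitting_pow_eq_zero (hΨ : IsUnit (Ψ.coeff 0)) (h0 : D ^ m * aeval D Ψ = 0) {v : V} {k : ℕ}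
    (hv : (D ^ k) v = 0) : (D ^ m) v = 0 := by
  have hc := fitting_isCompl D m Ψ hΨ h0
  obtain ⟨v₁, hv₁, v₂, hv₂, rfl⟩ := Submodule.mem_sup.mp
    (show v ∈ LinearMap.ker (D ^ m) ⊔ LinearMap.ker (aeval D Ψ) by
      rw [hc.sup_eq_top]; trivial)
  have hv₁' : (D ^ m) v₁ = 0 := hv₁
  have h3 : (D ^ (k + m)) v₁ = 0 := by
    rw [pow_add, Module.End.mul_apply, hv₁', map_zero]
  have h4 : (D ^ (k + m)) (v₁ + v₂) = 0 := by
    rw [add_comm k m, pow_add, Module.End.mul_apply, hv, map_zero]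
  have h5 : (D ^ (k + m)) v₂ = 0 := by
    rw [map_add, h3, zero_add] at h4
    exact h4
  have hcop := isCoprime_X_pow_of_isUnit_coeff_zero Ψ hΨ (k + m)
  have h6 := disjoint_ker_aeval_of_isCoprime D hcop
  rw [aeval_X_pow] at h6
  have h7 : v₂ ∈ LinearMap.ker (D ^ (k + m)) ⊓ LinearMap.ker (aeval D Ψ) := ⟨h5, hv₂⟩
  rw [h6.eq_bot] at h7
  have h8 : v₂ = 0 := h7
  rw [h8, add_zero]
  exact hv₁'

theorem fitting_surj (hΨ : IsUnit (Ψ.coeff 0)) (h0 : D ^ m * aeval D Ψ = 0) (y : V) :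
    ∃ z : V, (D ^ m) (D z - y) = 0 := by
  have hc := fitting_isCompl D m Ψ hΨ h0
  obtain ⟨y₁, hy₁, y₂, hy₂, rfl⟩ := Submodule.mem_sup.mp
    (show y ∈ LinearMap.ker (D ^ m) ⊔ LinearMap.ker (aeval D Ψ) by
      rw [hc.sup_eq_top]; trivial)
  obtain ⟨c, hc'⟩ := hΨ
  have hy₂' : (aeval D Ψ) y₂ = 0 := hy₂
  have h := Polynomial.divX_mul_X_add Ψ
  rw [← hc'] at h
  rw [← h, map_add, map_mul, aeval_X, aeval_C, LinearMap.add_apply, Module.End.mul_apply,
    Module.algebraMap_end_apply] at hy₂'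
  refine ⟨-((↑c⁻¹ : R) • (aeval D (divX Ψ)) y₂), ?_⟩
  have hcomm : D ((aeval D (divX Ψ)) y₂) = (aeval D (divX Ψ)) (D y₂) := by
    rw [← Module.End.mul_apply, ← Module.End.mul_apply]
    congr 1
    have : Commute D (aeval D (divX Ψ)) := by
      have h1 : Commute (X : R[X]) (divX Ψ) := Commute.all _ _
      have := h1.map (aeval D)
      rwa [aeval_X] at this
    exact this.eq
  have h9 : D (-((↑c⁻¹ : R) • (aeval D (divX Ψ)) y₂)) = y₂ := by
    rw [map_neg, map_smul, hcomm]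
    have : (aeval D (divX Ψ)) (D y₂) = -((c : R) • y₂) := eq_neg_of_add_eq_zero_left hy₂'
    rw [this, smul_neg, neg_neg, smul_smul, Units.inv_mul, one_smul]
  rw [h9]
  have : y₂ - (y₁ + y₂) = -y₁ := by abel
  rw [this, map_neg, show (D ^ m) y₁ = 0 from hy₁, neg_zero]

theorem fitting_projective [Module.Projective R V] (hΨ : IsUnit (Ψ.coeff 0))
    (h0 : D ^ m * aeval D Ψ = 0) : Module.Projective R (V ⧸ LinearMap.ker (D ^ m)) := by
  have hc := fitting_isCompl D m Ψ hΨ h0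
  haveI : Module.Projective R (LinearMap.ker (aeval D Ψ)) :=
    Module.Projective.of_split (LinearMap.ker (aeval D Ψ)).subtype
      (Submodule.linearProjOfIsCompl _ _ hc.symm) (by
        apply LinearMap.ext
        intro x
        exact Submodule.linearProjOfIsCompl_apply_left hc.symm x)
  exact Module.Projective.of_equiv (Submodule.quotientEquivOfIsCompl _ _ hc).symm

end Fitting

end Groth.Agent.Lib.Helper92.CartanRel
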