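import Groth.Agent.Lib.Helper92.CR14

set_option linter.unusedSectionVars false
set_option linter.unusedSimpArgs false
set_option linter.unusedVariables false
set_option linter.style.haveILetI false

/-!
# Relative Cartan subalgebras, part 15: the generic characteristic polynomial of `ad` for a
projective Lie algebra, via a presentation as a retract of a free module
-/

namespace Groth.Agent.Lib.Helper92.CartanRel

open TensorProduct LieAlgebra LieSubalgebra Module SGA3t2b Polynomial

section AdFam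

variable {A : Type*} [CommRing A] {L : Type*} [LieRing L] [LieAlgebra A L]
variable {F : Type*} [AddCommGroup F] [Module A F]

/-- The linear family `v ↦ g ∘ ad (f v) ∘ f` of endomorphisms of `F`. -/
def adFam (f : F →ₗ[A] L) (g : L →ₗ[A] F) : F →ₗ[A] Module.End A F where
  toFun v := g ∘ₗ LieAlgebra.ad A L (f v) ∘ₗ f
  map_add' v w := by
    apply LinearMap.ext
    intro x
    simp
  map_smul' c v := by
    apply LinearMap.ext
    intro x
    simp

theorem adFam_apply (f : F →ₗ[A] L) (g : L →ₗ[A] F) (v : F) :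
    adFam f g v = g ∘ₗ LieAlgebra.ad A L (f v) ∘ₗ f := rfl

theorem adFam_baseChange (f : F →ₗ[A] L) (g : L →ₗ[A] F) (B : Type*) [CommRing B] [Algebra A B]
    (w : B ⊗[A] F) :
    (LinearMap.tensorProduct A B F F ∘ₗ (adFam f g).baseChange B) w =
      (g.baseChange B) ∘ₗ LieAlgebra.ad B (B ⊗[A] L) ((f.baseChange B) w) ∘ₗ
        (f.baseChange B) := by
  induction w using TensorProduct.induction_on with
  | zero => simp
  | tmul c v =>
    have h1 : (f.baseChange B) (c ⊗ₜ[A] v) = c • ((1 : B) ⊗ₜ[A] f v) := by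
      rw [LinearMap.baseChange_tmul, TensorProduct.smul_tmul', smul_eq_mul, mul_one]
    rw [h1, map_smul, ad_tmul]
    show (LinearMap.tensorProduct A B F F) (c ⊗ₜ[A] (adFam f g v)) = _
    have h2 : (LinearMap.tensorProduct A B F F) (c ⊗ₜ[A] (adFam f g v)) =
        c • (adFam f g v).baseChange B := by
      simp [LinearMap.tensorProduct]
    rw [h2, adFam_apply, LinearMap.baseChange_comp, LinearMap.baseChange_comp]
    apply LinearMap.ext
    intro x
    simp
  | add w1 w2 h1 h2 =>
    rw [map_add, h1, h2, map_add, map_add]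
    apply LinearMap.ext
    intro x
    simp

variable [Module.Finite A F] [Module.Free A F] {ι : Type*} [Fintype ι] [DecidableEq ι]

theorem charpoly_adFam_baseChange (f : F →ₗ[A] L) (g : L →ₗ[A] F) (b : Basis ι A F)
    (B : Type*) [CommRing B] [Algebra A B] (w : B ⊗[A] F) :
    ((g.baseChange B) ∘ₗ LieAlgebra.ad B (B ⊗[A] L) ((f.baseChange B) w) ∘ₗ
        (f.baseChange B) : Module.End B (B ⊗[A] F)).charpoly =
      ((LinearMap.polyCharpoly (adFam f g) b).map (MvPolynomial.map (algebraMap A B))).map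
        (MvPolynomial.eval ((Algebra.TensorProduct.basis B b).repr w)) := by
  rw [← adFam_baseChange, ← LinearMap.polyCharpoly_baseChange,
    LinearMap.polyCharpoly_map_eq_charpoly]

theorem coeff_charpoly_adFam_baseChange (f : F →ₗ[A] L) (g : L →ₗ[A] F) (b : Basis ι A F)
    (B : Type*) [CommRing B] [Algebra A B] (w : B ⊗[A] F) (i : ℕ) :
    ((g.baseChange B) ∘ₗ LieAlgebra.ad B (B ⊗[A] L) ((f.baseChange B) w) ∘ₗ
        (f.baseChange B) : Module.End B (B ⊗[A] F)).charpoly.coeff i =
      MvPolynomial.eval ((Algebra.TensorProduct.basis B b).repr w)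
        (MvPolynomial.map (algebraMap A B) ((LinearMap.polyCharpoly (adFam f g) b).coeff i)) := by
  rw [charpoly_adFam_baseChange f g b, Polynomial.coeff_map, Polynomial.coeff_map]

/-- Generic vanishing: over an infinite field `Ω` over `A`, the coefficients of the generic
characteristic polynomial below `rank + (n - dim)` vanish. -/
theorem genPoly_coeff_map_eq_zero [Module.Finite A L] (f : F →ₗ[A] L) (g : L →ₗ[A] F)
    (hfg : f ∘ₗ g = LinearMap.id) (b : Basis ι A F)
    (Ω : Type*) [Field Ω] [Infinite Ω] [Algebra A Ω] (i : ℕ)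
    (hi : i < LieAlgebra.rank Ω (Ω ⊗[A] L) + (finrank A F - finrank Ω (Ω ⊗[A] L))) :
    MvPolynomial.map (algebraMap A Ω) ((LinearMap.polyCharpoly (adFam f g) b).coeff i) = 0 := by
  haveI : Nontrivial A := (algebraMap A Ω).domain_nontrivial
  set φΩ := LinearMap.tensorProduct A Ω F F ∘ₗ (adFam f g).baseChange Ω with hφΩ
  have hG : LinearMap.polyCharpoly φΩ (Algebra.TensorProduct.basis Ω b) =
      (LinearMap.polyCharpoly (adFam f g) b).map (MvPolynomial.map (algebraMap A Ω)) :=
    LinearMap.polyCharpoly_baseChange _ _ _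
  obtain ⟨w, hw⟩ := LinearMap.exists_isNilRegular φΩ
  rw [LinearMap.isNilRegular_iff_natTrailingDegree_charpoly_eq_nilRank,
    LinearMap.nilRank_eq_polyCharpoly_natTrailingDegree φΩ (Algebra.TensorProduct.basis Ω b),
    hG] at hw
  have h3 : (f.baseChange Ω) ∘ₗ (g.baseChange Ω) = LinearMap.id := by
    rw [← LinearMap.baseChange_comp, hfg, LinearMap.baseChange_id]
  have h4 := charpoly_comp_retract (f.baseChange Ω) (g.baseChange Ω) h3
    (LieAlgebra.ad Ω (Ω ⊗[A] L) ((f.baseChange Ω) w))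
  rw [← adFam_baseChange] at h4
  have h5 : finrank Ω (Ω ⊗[A] F) = finrank A F := Module.finrank_baseChange
  rw [h5] at h4
  have hne : (LieAlgebra.ad Ω (Ω ⊗[A] L) ((f.baseChange Ω) w)).charpoly ≠ 0 :=
    (LinearMap.charpoly_monic _).ne_zero
  have h6 : (φΩ w).charpoly.natTrailingDegree =
      (LieAlgebra.ad Ω (Ω ⊗[A] L) ((f.baseChange Ω) w)).charpoly.natTrailingDegree +
        (finrank A F - finrank Ω (Ω ⊗[A] L)) := by
    rw [h4, Polynomial.natTrailingDegree_mul_X_pow hne]
  have h7 := LieAlgebra.rank_le_natTrailingDegree_charpoly_ad Ω (x := (f.baseChange Ω) w)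
  have h8 : i < ((LinearMap.polyCharpoly (adFam f g) b).map
      (MvPolynomial.map (algebraMap A Ω))).natTrailingDegree := by
    rw [← hw, h6]
    omega
  have h9 := Polynomial.coeff_eq_zero_of_lt_natTrailingDegree h8
  rwa [Polynomial.coeff_map] at h9

theorem genPoly_coeff_coeff_mem [Module.Finite A L] (f : F →ₗ[A] L) (g : L →ₗ[A] F)
    (hfg : f ∘ₗ g = LinearMap.id) (b : Basis ι A F) (q : PrimeSpectrum A) (i : ℕ)
    (hi : i < LieAlgebra.rank q.asIdeal.ResidueField (q.asIdeal.ResidueField ⊗[A] L) +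
      (finrank A F - finrank q.asIdeal.ResidueField (q.asIdeal.ResidueField ⊗[A] L)))
    (μ : ι →₀ ℕ) :
    ((LinearMap.polyCharpoly (adFam f g) b).coeff i).coeff μ ∈ q.asIdeal := by
  set Ω := AlgebraicClosure q.asIdeal.ResidueField with hΩ
  have h1 : LieAlgebra.rank Ω (Ω ⊗[A] L) =
      LieAlgebra.rank q.asIdeal.ResidueField (q.asIdeal.ResidueField ⊗[A] L) :=
    rank_tensor_field_ext L _ _
  have h2 : finrank Ω (Ω ⊗[A] L) =
      finrank q.asIdeal.ResidueField (q.asIdeal.ResidueField ⊗[A] L) :=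
    finrank_tensor_field_ext L _ _
  have h3 := genPoly_coeff_map_eq_zero f g hfg b Ω i (by rw [h1, h2]; exact hi)
  have h4 := congrArg (MvPolynomial.coeff μ) h3
  rw [MvPolynomial.coeff_map, MvPolynomial.coeff_zero,
    IsScalarTower.algebraMap_apply A q.asIdeal.ResidueField Ω] at h4
  have h5 := (algebraMap q.asIdeal.ResidueField Ω).injective (h4.trans (map_zero _).symm)
  exact Ideal.algebraMap_residueField_eq_zero.mp h5

end AdFam

section Reduced

universe u

variable {A : Type u} [CommRing A] {L : Type u} [LieRing L] [LieAlgebra A L]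
  [Module.Finite A L] [Module.Projective A L]
variable {F : Type u} [AddCommGroup F] [Module A F] [Module.Finite A F] [Module.Free A F]
  {ι : Type*} [Fintype ι] [DecidableEq ι]

theorem exists_smul_genPoly_coeff_eq_zero [IsReduced A]
    (hC0 : ∀ p : PrimeSpectrum A, ∃ f : A, f ∉ p.asIdeal ∧ ∀ q : PrimeSpectrum A,
      f ∉ q.asIdeal →
        LieAlgebra.rank q.asIdeal.ResidueField (q.asIdeal.ResidueField ⊗[A] L) =
          LieAlgebra.rank p.asIdeal.ResidueField (p.asIdeal.ResidueField ⊗[A] L))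
    (f : F →ₗ[A] L) (g : L →ₗ[A] F) (hfg : f ∘ₗ g = LinearMap.id) (b : Basis ι A F)
    (q : PrimeSpectrum A) :
    ∃ g₀ : A, g₀ ∉ q.asIdeal ∧ ∀ i : ℕ,
      i < LieAlgebra.rank q.asIdeal.ResidueField (q.asIdeal.ResidueField ⊗[A] L) +
        (finrank A F - finrank q.asIdeal.ResidueField (q.asIdeal.ResidueField ⊗[A] L)) →
      g₀ • (LinearMap.polyCharpoly (adFam f g) b).coeff i = 0 := by
  obtain ⟨g₁, hg₁, h1⟩ := hC0 q
  obtain ⟨g₂, hg₂, h2⟩ := exists_finrank_eq_near (L := L) q
  refine ⟨g₁ * g₂, fun h => (q.isPrime.mem_or_mem h).elim hg₁ hg₂, fun i hi => ?_⟩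
  ext μ
  rw [MvPolynomial.coeff_smul, MvPolynomial.coeff_zero, smul_eq_mul]
  apply IsReduced.eq_zero
  rw [nilpotent_iff_mem_prime]
  intro J hJ
  by_cases hgJ : g₁ * g₂ ∈ J
  · exact Ideal.mul_mem_right _ _ hgJ
  · apply Ideal.mul_mem_left
    have hJ1 : g₁ ∉ J := fun h => hgJ (Ideal.mul_mem_right _ _ h)
    have hJ2 : g₂ ∉ J := fun h => hgJ (Ideal.mul_mem_left _ _ h)
    apply genPoly_coeff_coeff_mem f g hfg b ⟨J, hJ⟩ i
    rw [h1 ⟨J, hJ⟩ hJ1, h2 ⟨J, hJ⟩ hJ2]
    exact hi

end Reduced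

end Groth.Agent.Lib.Helper92.CartanRel
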