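import Groth.Agent.Lib.Helper92.CR15

set_option linter.unusedSectionVars false
set_option linter.unusedSimpArgs false
set_option linter.unusedVariables false
set_option linter.style.haveILetI false

/-!
# Relative Cartan subalgebras, part 16: over a reduced base, (C₀) ⟹ (C₂)
-/

namespace Groth.Agent.Lib.Helper92.CartanRel

open TensorProduct LieAlgebra LieSubalgebra Module SGA3t2b Polynomial

section Poly

variable {R : Type*} [CommRing R]

theorem coeff_iterate_divX (P : R[X]) (N j : ℕ) : (divX^[N] P).coeff j = P.coeff (j + N) := by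
  induction N generalizing j with
  | zero => simp
  | succ N ih =>
    rw [Function.iterate_succ_apply', coeff_divX, ih]
    congr 1
    omega

theorem X_pow_mul_iterate_divX (P : R[X]) (s : R) (N : ℕ) (h : ∀ i < N, s * P.coeff i = 0) :
    X ^ N * (C s * divX^[N] P) = C s * P := by
  ext k
  rw [coeff_X_pow_mul', coeff_C_mul, coeff_C_mul, coeff_iterate_divX]
  split_ifs with hk
  · rw [Nat.sub_add_cancel hk]
  · exact (h k (not_le.mp hk)).symm

/-- Local-to-global production of a factor with invertible constant term. -/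
theorem exists_dvd_X_pow_mul (P : R[X])
    (h : ∀ p : PrimeSpectrum R, ∃ s : R, s ∉ p.asIdeal ∧ ∃ N : ℕ,
      (∀ i < N, s * P.coeff i = 0) ∧ P.coeff N ∉ p.asIdeal) :
    ∃ (m : ℕ) (Ψ : R[X]), Ψ.coeff 0 = 1 ∧ P ∣ X ^ m * Ψ := by
  let I₀ : Ideal R :=
    { carrier := {c | ∃ (m : ℕ) (Ψ : R[X]), Ψ.coeff 0 = c ∧ P ∣ X ^ m * Ψ}
      zero_mem' := ⟨0, 0, by simp, by simp⟩
      add_mem' := by
        rintro c₁ c₂ ⟨m₁, Ψ₁, h1, d1⟩ ⟨m₂, Ψ₂, h2, d2⟩
        refine ⟨m₁ + m₂, Ψ₁ + Ψ₂, by rw [coeff_add, h1, h2], ?_⟩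
        have : X ^ (m₁ + m₂) * (Ψ₁ + Ψ₂) = X ^ m₂ * (X ^ m₁ * Ψ₁) + X ^ m₁ * (X ^ m₂ * Ψ₂) := by
          ring
        rw [this]
        exact dvd_add (Dvd.dvd.mul_left d1 _) (Dvd.dvd.mul_left d2 _)
      smul_mem' := by
        rintro c x ⟨m, Ψ, h1, d1⟩
        refine ⟨m, C c * Ψ, by rw [coeff_C_mul, h1, smul_eq_mul], ?_⟩
        rw [mul_left_comm]
        exact Dvd.dvd.mul_left d1 _ }
  have htop : I₀ = ⊤ := by
    by_contra hne
    obtain ⟨M, hM, hle⟩ := Ideal.exists_le_maximal _ hne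
    obtain ⟨s, hs, N, hN, hPN⟩ := h ⟨M, hM.isPrime⟩
    have hmem : s * P.coeff N ∈ I₀ := by
      refine ⟨N, C s * divX^[N] P, ?_, ?_⟩
      · rw [coeff_C_mul, coeff_iterate_divX, zero_add]
      · rw [X_pow_mul_iterate_divX P s N hN]
        exact Dvd.intro_left _ rfl
    rcases hM.isPrime.mem_or_mem (hle hmem) with h1 | h1
    · exact hs h1
    · exact hPN h1
  have h1 : (1 : R) ∈ I₀ := by rw [htop]; trivial
  obtain ⟨m, Ψ, hΨ, hd⟩ := h1
  exact ⟨m, Ψ, hΨ, hd⟩

end Poly

section Retract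

variable {R : Type*} [CommRing R] {V F' : Type*} [AddCommGroup V] [Module R V]
  [AddCommGroup F'] [Module R F']

theorem pow_retract (f' : F' →ₗ[R] V) (g' : V →ₗ[R] F') (hfg : f' ∘ₗ g' = LinearMap.id)
    (D : Module.End R V) (k : ℕ) :
    f' ∘ₗ ((g' ∘ₗ D ∘ₗ f' : Module.End R F') ^ k) ∘ₗ g' = D ^ k := by
  have hfga : ∀ v, f' (g' v) = v := fun v => LinearMap.congr_fun hfg v
  induction k with
  | zero =>
    rw [pow_zero, pow_zero]
    apply LinearMap.ext
    intro v
    simp [hfga]
  | succ k ih =>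
    apply LinearMap.ext
    intro v
    rw [pow_succ, pow_succ]
    simp only [LinearMap.comp_apply, Module.End.mul_apply]
    rw [hfga]
    exact LinearMap.congr_fun ih (D v)

theorem aeval_retract (f' : F' →ₗ[R] V) (g' : V →ₗ[R] F') (hfg : f' ∘ₗ g' = LinearMap.id)
    (D : Module.End R V) (q : R[X]) :
    aeval D q = f' ∘ₗ (aeval (g' ∘ₗ D ∘ₗ f' : Module.End R F') q) ∘ₗ g' := by
  induction q using Polynomial.induction_on' with
  | add p q hp hq =>
    rw [map_add, map_add, hp, hq]
    apply LinearMap.ext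
    intro v
    simp
  | monomial n a =>
    rw [aeval_monomial, aeval_monomial, ← pow_retract f' g' hfg D n]
    apply LinearMap.ext
    intro v
    simp

end Retract

section Main

universe u

variable {A : Type u} [CommRing A] {L : Type u} [LieRing L] [LieAlgebra A L]
  [Module.Finite A L] [Module.Projective A L]

/-- Regularity at a prime in terms of a coefficient of a global characteristic polynomial
(presentation by an arbitrary finite free module). -/
theorem isRegular_iff_coeff_notMem' {F : Type u} [AddCommGroup F] [Module A F] [Module.Finite A F]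
    [Module.Free A F] (f : F →ₗ[A] L) (g : L →ₗ[A] F)
    (hfg : f ∘ₗ g = LinearMap.id) (a : L) (q : PrimeSpectrum A) :
    LieAlgebra.IsRegular q.asIdeal.ResidueField ((1 : q.asIdeal.ResidueField) ⊗ₜ[A] a) ↔
      (g ∘ₗ LieAlgebra.ad A L a ∘ₗ f : Module.End A F).charpoly.coeff
        (LieAlgebra.rank q.asIdeal.ResidueField (q.asIdeal.ResidueField ⊗[A] L) +
          (finrank A F - finrank q.asIdeal.ResidueField (q.asIdeal.ResidueField ⊗[A] L))) ∉
        q.asIdeal := by
  haveI : Nontrivial A := by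
    by_contra hA
    rw [not_nontrivial_iff_subsingleton] at hA
    exact q.isPrime.ne_top (Subsingleton.elim _ _)
  set K := q.asIdeal.ResidueField with hK
  set ψ : Module.End A F := g ∘ₗ LieAlgebra.ad A L a ∘ₗ f with hψ
  have h1 : (ψ.baseChange K).charpoly = ψ.charpoly.map (algebraMap A K) :=
    LinearMap.charpoly_baseChange _ _
  have h2 : ψ.baseChange K =
      (g.baseChange K) ∘ₗ (LieAlgebra.ad K (K ⊗[A] L) ((1 : K) ⊗ₜ[A] a)) ∘ₗ (f.baseChange K) := by
    rw [hψ, LinearMap.baseChange_comp, LinearMap.baseChange_comp, ad_tmul]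
  have h3 : (f.baseChange K) ∘ₗ (g.baseChange K) = LinearMap.id := by
    rw [← LinearMap.baseChange_comp, hfg, LinearMap.baseChange_id]
  have h4 := charpoly_comp_retract (f.baseChange K) (g.baseChange K) h3
    (LieAlgebra.ad K (K ⊗[A] L) ((1 : K) ⊗ₜ[A] a))
  have h5 : finrank K (K ⊗[A] F) = finrank A F := Module.finrank_baseChange
  rw [← h2, h1, h5] at h4
  have hmem : ∀ c : A, c ∉ q.asIdeal ↔ algebraMap A K c ≠ 0 := by
    intro c
    exact not_congr Ideal.algebraMap_residueField_eq_zero.symm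
  rw [LieAlgebra.isRegular_def, hmem, ← Polynomial.coeff_map, h4, Polynomial.coeff_mul_X_pow]

theorem mem_engel_of_lie_mem_engel' {x v : L} (h : ⁅x, v⁆ ∈ engel A x) : v ∈ engel A x := by
  rw [mem_engel_iff] at h ⊢
  obtain ⟨n, hn⟩ := h
  refine ⟨n + 1, ?_⟩
  rw [pow_succ, Module.End.mul_apply]
  exact hn

theorem isCartanRel_engel_of_fitting (a : L) (ha : IsQuasiRegular A L a) (m : ℕ) (Ψ : A[X])
    (hΨ : IsUnit (Ψ.coeff 0))
    (h0 : (LieAlgebra.ad A L a) ^ m * aeval (LieAlgebra.ad A L a) Ψ = 0) :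
    IsCartanRel (engel A a) := by
  set D := LieAlgebra.ad A L a with hD
  have hE : (engel A a).toSubmodule = LinearMap.ker (D ^ m) := by
    ext v
    rw [LieSubalgebra.mem_toSubmodule, mem_engel_iff, LinearMap.mem_ker]
    constructor
    · rintro ⟨k, hk⟩
      exact fitting_pow_eq_zero D m Ψ hΨ h0 hk
    · intro hv
      exact ⟨m, hv⟩
  apply isCartanRel_engel a ha
  · haveI := fitting_projective D m Ψ hΨ h0
    exact Module.Projective.of_equiv (Submodule.quotEquivOfEq _ _ hE).symm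
  · intro z hz
    exact mem_engel_of_lie_mem_engel' hz
  · intro y
    obtain ⟨z, hz⟩ := fitting_surj D m Ψ hΨ h0 y
    refine ⟨z, ?_⟩
    rw [← LieSubalgebra.mem_toSubmodule, hE, LinearMap.mem_ker]
    exact hz

/-- Local vanishing of the low coefficients of the characteristic polynomial implies that the
Engel subalgebra of a quasi-regular element is a relative Cartan subalgebra. -/
theorem isCartanRel_engel_of_local_vanishing {F : Type u} [AddCommGroup F] [Module A F]
    [Module.Finite A F] [Module.Free A F] (f : F →ₗ[A] L) (g : L →ₗ[A] F)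
    (hfg : f ∘ₗ g = LinearMap.id) (a : L) (ha : IsQuasiRegular A L a)
    (hloc : ∀ p : PrimeSpectrum A, ∃ s : A, s ∉ p.asIdeal ∧ ∀ i : ℕ,
      i < LieAlgebra.rank p.asIdeal.ResidueField (p.asIdeal.ResidueField ⊗[A] L) +
        (finrank A F - finrank p.asIdeal.ResidueField (p.asIdeal.ResidueField ⊗[A] L)) →
      s * (g ∘ₗ LieAlgebra.ad A L a ∘ₗ f : Module.End A F).charpoly.coeff i = 0) :
    IsCartanRel (engel A a) := by
  set M : Module.End A F := g ∘ₗ LieAlgebra.ad A L a ∘ₗ f with hM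
  obtain ⟨m, Ψ, hΨ, hd⟩ := exists_dvd_X_pow_mul M.charpoly (by
    intro p
    obtain ⟨s, hs, hsi⟩ := hloc p
    exact ⟨s, hs, _, hsi, (isRegular_iff_coeff_notMem' f g hfg a p).mp (ha p)⟩)
  have h1 : aeval (LieAlgebra.ad A L a) M.charpoly = 0 := by
    rw [aeval_retract f g hfg, ← hM, LinearMap.aeval_self_charpoly, LinearMap.zero_comp,
      LinearMap.comp_zero]
  have h2 : aeval (LieAlgebra.ad A L a) (X ^ m * Ψ) = 0 := by
    obtain ⟨S, hS⟩ := hd
    rw [hS, map_mul, h1, zero_mul]
  rw [map_mul, aeval_X_pow] at h2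
  exact isCartanRel_engel_of_fitting a ha m Ψ (by rw [hΨ]; exact isUnit_one) h2

/-- **S8379.** Over a reduced base, (C₀) ⟹ (C₂). -/
theorem isRegularRel_of_reduced_C0 [IsReduced A]
    (hC0 : ∀ p : PrimeSpectrum A, ∃ f : A, f ∉ p.asIdeal ∧ ∀ q : PrimeSpectrum A,
      f ∉ q.asIdeal →
        LieAlgebra.rank q.asIdeal.ResidueField (q.asIdeal.ResidueField ⊗[A] L) =
          LieAlgebra.rank p.asIdeal.ResidueField (p.asIdeal.ResidueField ⊗[A] L))
    (A' : Type u) [CommRing A'] [Algebra A A'] (a' : A' ⊗[A] L)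
    (ha' : SGA3t2b.IsQuasiRegular A' (A' ⊗[A] L) a') :
    SGA3t2b.IsRegularRel A' (A' ⊗[A] L) a' := by
  classical
  obtain ⟨n, f, g, -, -, hfg⟩ := Module.Finite.exists_comp_eq_id_of_projective A L
  set b := Pi.basisFun A (Fin n) with hb
  have hfg' : (f.baseChange A') ∘ₗ (g.baseChange A') = LinearMap.id := by
    rw [← LinearMap.baseChange_comp, hfg, LinearMap.baseChange_id]
  refine ⟨ha', engel A' a', ?_, self_mem_engel A' a'⟩
  apply isCartanRel_engel_of_local_vanishing (f.baseChange A') (g.baseChange A') hfg' a' ha'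
  intro p'
  obtain ⟨g₀, hg₀, hvan⟩ := exists_smul_genPoly_coeff_eq_zero hC0 f g hfg b
    (PrimeSpectrum.comap (algebraMap A A') p')
  refine ⟨algebraMap A A' g₀, hg₀, fun i hi => ?_⟩
  haveI : Nontrivial A' := by
    by_contra hA
    rw [not_nontrivial_iff_subsingleton] at hA
    exact p'.isPrime.ne_top (Subsingleton.elim _ _)
  haveI : Nontrivial A := (algebraMap A A').domain_nontrivial
  have hfr : finrank A' (A' ⊗[A] (Fin n → A)) = finrank A (Fin n → A) :=
    Module.finrank_baseChange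
  rw [rank_fibre_baseChange, finrank_fibre_baseChange, hfr] at hi
  have hw : (f.baseChange A') ((g.baseChange A') a') = a' := LinearMap.congr_fun hfg' a'
  have h1 : ((g.baseChange A') ∘ₗ LieAlgebra.ad A' (A' ⊗[A] L) a' ∘ₗ (f.baseChange A') :
      Module.End A' (A' ⊗[A] (Fin n → A))) =
      (g.baseChange A') ∘ₗ LieAlgebra.ad A' (A' ⊗[A] L)
        ((f.baseChange A') ((g.baseChange A') a')) ∘ₗ (f.baseChange A') := by
    rw [hw]
  rw [h1, coeff_charpoly_adFam_baseChange f g b A' ((g.baseChange A') a') i]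
  have h2 := congrArg (fun c => MvPolynomial.eval
    ((Algebra.TensorProduct.basis A' b).repr ((g.baseChange A') a'))
    (MvPolynomial.map (algebraMap A A') c)) (hvan i hi)
  simp only [MvPolynomial.smul_eq_C_mul, map_mul, MvPolynomial.map_C, MvPolynomial.eval_C,
    map_zero] at h2
  exact h2

end Main

end Groth.Agent.Lib.Helper92.CartanRel
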