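import Mathlib

set_option linter.unusedSectionVars false
set_option linter.unusedSimpArgs false
set_option linter.unusedVariables false
set_option linter.style.haveILetI false

/-!
# Relative Cartan subalgebras, part 2: field-level Lie theory

Rank and regular elements under extension of the base field; the Engel subalgebra of a regular
element is nilpotent (over any field).
-/

namespace Groth.Agent.Lib.Helper92.CartanRel

open TensorProduct LieAlgebra LieSubalgebra Module Polynomial

theorem natTrailingDegree_map_of_injective {R S : Type*} [Semiring R] [Semiring S] (f : R →+* S)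
    (hf : Function.Injective f) (p : R[X]) :
    (p.map f).natTrailingDegree = p.natTrailingDegree := by
  unfold natTrailingDegree trailingDegree
  rw [support_map_of_injective p hf]

section Field

attribute [local instance 100] LieRing.ofAssociativeRing

variable (K : Type*) [Field K] (L : Type*) [LieRing L] [LieAlgebra K L] [Module.Finite K L]
variable (K' : Type*) [Field K'] [Algebra K K']

theorem toEnd_eq_baseChange :
    (LieHom.toLinearMap (LieModule.toEnd K' (K' ⊗[K] L) (K' ⊗[K] L)) :
        (K' ⊗[K] L) →ₗ[K'] Module.End K' (K' ⊗[K] L)) =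
      LinearMap.tensorProduct K K' L L ∘ₗ
        (LieHom.toLinearMap (LieModule.toEnd K L L) : L →ₗ[K] Module.End K L).baseChange K' := by
  apply TensorProduct.AlgebraTensorModule.curry_injective
  ext x : 2
  simp only [TensorProduct.AlgebraTensorModule.curry_apply, LinearMap.restrictScalars_comp,
    TensorProduct.curry_apply, LinearMap.coe_comp, LinearMap.coe_restrictScalars,
    Function.comp_apply, LinearMap.baseChange_tmul, LieHom.coe_toLinearMap]
  rw [LieModule.toEnd_baseChange]
  simp [LinearMap.tensorProduct]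

theorem rank_baseChange : LieAlgebra.rank K' (K' ⊗[K] L) = LieAlgebra.rank K L := by
  classical
  let b := Module.Free.chooseBasis K L
  show LinearMap.nilRank _ = LinearMap.nilRank _
  rw [LinearMap.nilRank_eq_polyCharpoly_natTrailingDegree _ (Algebra.TensorProduct.basis K' b),
    toEnd_eq_baseChange, LinearMap.polyCharpoly_baseChange,
    LinearMap.nilRank_eq_polyCharpoly_natTrailingDegree _ b]
  exact natTrailingDegree_map_of_injective _
    (MvPolynomial.map_injective _ (algebraMap K K').injective) _

variable {L}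

theorem isRegular_baseChange {x : L} (hx : LieAlgebra.IsRegular K x) :
    LieAlgebra.IsRegular K' ((1 : K') ⊗ₜ[K] x) := by
  rw [LieAlgebra.isRegular_iff_natTrailingDegree_charpoly_eq_rank] at hx ⊢
  rw [rank_baseChange, ← hx]
  show (LieModule.toEnd K' (K' ⊗[K] L) (K' ⊗[K] L) (1 ⊗ₜ x)).charpoly.natTrailingDegree = _
  rw [LieModule.toEnd_baseChange, LinearMap.charpoly_baseChange]
  exact natTrailingDegree_map_of_injective _ (algebraMap K K').injective _

theorem isRegular_of_baseChange {x : L} (hx : LieAlgebra.IsRegular K' ((1 : K') ⊗ₜ[K] x)) :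
    LieAlgebra.IsRegular K x := by
  rw [LieAlgebra.isRegular_iff_natTrailingDegree_charpoly_eq_rank] at hx ⊢
  rw [rank_baseChange] at hx
  rw [← hx]
  show _ = (LieModule.toEnd K' (K' ⊗[K] L) (K' ⊗[K] L) (1 ⊗ₜ x)).charpoly.natTrailingDegree
  rw [LieModule.toEnd_baseChange, LinearMap.charpoly_baseChange]
  exact (natTrailingDegree_map_of_injective _ (algebraMap K K').injective _).symm

end Field

section Engel

variable (K : Type*) [Field K] {L : Type*} [LieRing L] [LieAlgebra K L] [Module.Finite K L]
variable (K' : Type*) [Field K'] [Algebra K K']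

theorem ad_tmul_pow (x h : L) (n : ℕ) (c : K') :
    ((LieAlgebra.ad K' (K' ⊗[K] L) ((1 : K') ⊗ₜ[K] x)) ^ n) (c ⊗ₜ[K] h) =
      c ⊗ₜ[K] (((LieAlgebra.ad K L x) ^ n) h) := by
  have h1 : LieAlgebra.ad K' (K' ⊗[K] L) ((1 : K') ⊗ₜ[K] x) =
      (LieAlgebra.ad K L x).baseChange K' := LieModule.toEnd_baseChange (R := K) (A := K') (L := L) (M := L) x
  rw [h1, ← LinearMap.baseChange_pow, LinearMap.baseChange_tmul]

theorem mem_engel_tmul {x h : L} (hh : h ∈ engel K x) :
    (1 : K') ⊗ₜ[K] h ∈ engel K' ((1 : K') ⊗ₜ[K] x) := by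
  rw [mem_engel_iff] at hh ⊢
  obtain ⟨n, hn⟩ := hh
  exact ⟨n, by rw [ad_tmul_pow, hn, tmul_zero]⟩

theorem mem_engel_of_tmul {y h : L}
    (hh : (1 : K') ⊗ₜ[K] h ∈ engel K' ((1 : K') ⊗ₜ[K] y)) : h ∈ engel K y := by
  rw [mem_engel_iff] at hh ⊢
  obtain ⟨n, hn⟩ := hh
  refine ⟨n, ?_⟩
  rw [ad_tmul_pow] at hn
  have hinj := Module.Flat.tensorProduct_mk_injective K L K'
  apply hinj
  rw [map_zero]
  exact hn

open Cardinal in
theorem engel_le_engel_of_isRegular_of_finrank_le_card (h : finrank K L ≤ #K) {x : L}
    (hx : LieAlgebra.IsRegular K x) {y : L} (hy : y ∈ engel K x) : engel K x ≤ engel K y := by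
  set Ex : {engel K z | z ∈ engel K x} := ⟨engel K x, x, self_mem_engel _ _, rfl⟩
  suffices IsBot Ex from @this ⟨engel K y, y, hy, rfl⟩
  apply LieAlgebra.engel_isBot_of_isMin h (engel K x) Ex le_rfl
  rintro ⟨_, y, hy, rfl⟩ hyx
  suffices finrank K (engel K x) ≤ finrank K (engel K y) by
    suffices engel K y = engel K x from this.ge
    apply LieSubalgebra.toSubmodule_injective
    exact Submodule.eq_of_le_of_finrank_le hyx this
  rw [(LieAlgebra.isRegular_iff_finrank_engel_eq_rank K x).mp hx]
  apply LieAlgebra.rank_le_finrank_engel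

open Cardinal in
theorem engel_le_engel_of_isRegular {x : L} (hx : LieAlgebra.IsRegular K x) {y : L}
    (hy : y ∈ engel K x) : engel K x ≤ engel K y := by
  let K' := AlgebraicClosure K
  have hx' := isRegular_baseChange K K' hx
  have hcard : (finrank K' (K' ⊗[K] L) : Cardinal) ≤ #K' :=
    (natCast_le_aleph0).trans (Cardinal.infinite_iff.mp inferInstance)
  have hy' : (1 : K') ⊗ₜ[K] y ∈ engel K' ((1 : K') ⊗ₜ[K] x) := mem_engel_tmul K K' hy
  have hle := engel_le_engel_of_isRegular_of_finrank_le_card K' hcard hx' hy'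
  intro h hh
  exact mem_engel_of_tmul K K' (hle (mem_engel_tmul K K' hh))

/-- **T1**: the Engel subalgebra of a regular element is nilpotent. -/
theorem isNilpotent_engel_of_isRegular {x : L} (hx : LieAlgebra.IsRegular K x) :
    LieRing.IsNilpotent (engel K x) :=
  LieSubalgebra.isNilpotent_of_forall_le_engel (engel K x)
    (fun y hy => engel_le_engel_of_isRegular K hx hy)

end Engel

end Groth.Agent.Lib.Helper92.CartanRel
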