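import Groth.Agent.Lib.Helper92.CR1
import Groth.Agent.Lib.Helper92.CR2
import Groth.Prelude.Def_W4sga3xiixivxvCartan

set_option linter.unusedSectionVars false
set_option linter.unusedSimpArgs false
set_option linter.unusedVariables false
set_option linter.style.haveILetI false

/-!
# Relative Cartan subalgebras, part 3: Engel subalgebras and base change; fibre computations
-/

namespace Groth.Agent.Lib.Helper92.CartanRel

open TensorProduct LieAlgebra LieSubalgebra Module

section General

variable {A : Type*} [CommRing A] {L : Type*} [LieRing L] [LieAlgebra A L]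
variable (K : Type*) [CommRing K] [Algebra A K]

theorem ad_tmul (a : L) :
    LieAlgebra.ad K (K ⊗[A] L) ((1 : K) ⊗ₜ[A] a) = (LieAlgebra.ad A L a).baseChange K :=
  LieModule.toEnd_baseChange (R := A) (A := K) (L := L) (M := L) a

theorem ad_tmul_pow' (a h : L) (n : ℕ) (c : K) :
    ((LieAlgebra.ad K (K ⊗[A] L) ((1 : K) ⊗ₜ[A] a)) ^ n) (c ⊗ₜ[A] h) =
      c ⊗ₜ[A] (((LieAlgebra.ad A L a) ^ n) h) := by
  rw [ad_tmul, ← LinearMap.baseChange_pow, LinearMap.baseChange_tmul]

theorem mem_engel_tmul' {a h : L} (hh : h ∈ engel A a) (c : K) :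
    c ⊗ₜ[A] h ∈ engel K ((1 : K) ⊗ₜ[A] a) := by
  rw [mem_engel_iff] at hh ⊢
  obtain ⟨n, hn⟩ := hh
  exact ⟨n, by rw [ad_tmul_pow', hn, tmul_zero]⟩

theorem baseChange_le_engel {a : L} {H : Submodule A L} (hH : ∀ h ∈ H, h ∈ engel A a) :
    H.baseChange K ≤ (engel K ((1 : K) ⊗ₜ[A] a)).toSubmodule := by
  rw [Submodule.baseChange_eq_span, Submodule.span_le]
  rintro _ ⟨h, hh, rfl⟩
  exact mem_engel_tmul' K (hH h hh) 1

end General

section FieldLemma

variable {K : Type*} [Field K] {V : Type*} [LieRing V] [LieAlgebra K V] [Module.Finite K V]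

theorem mem_engel_of_lie_mem_engel {x v : V} (h : ⁅x, v⁆ ∈ engel K x) : v ∈ engel K x := by
  rw [mem_engel_iff] at h ⊢
  obtain ⟨n, hn⟩ := h
  refine ⟨n + 1, ?_⟩
  rw [pow_succ, Module.End.mul_apply]
  exact hn

/-- `ad x` is surjective modulo the Engel subalgebra of `x`. -/
theorem exists_sub_mem_engel (x w : V) : ∃ v, ⁅x, v⁆ - w ∈ engel K x := by
  set E := (engel K x).toSubmodule with hE
  have hpres : E ≤ E.comap (LieAlgebra.ad K V x) := by
    intro v hv
    exact (engel K x).lie_mem (self_mem_engel K x) hv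
  set T := E.mapQ E (LieAlgebra.ad K V x) hpres with hT
  have hinj : Function.Injective T := by
    rw [injective_iff_map_eq_zero]
    intro z hz
    obtain ⟨v, rfl⟩ := E.mkQ_surjective z
    rw [hT, Submodule.mkQ_apply, Submodule.mapQ_apply, Submodule.Quotient.mk_eq_zero] at hz
    rw [Submodule.mkQ_apply, Submodule.Quotient.mk_eq_zero]
    exact mem_engel_of_lie_mem_engel hz
  have hsurj : Function.Surjective T := LinearMap.injective_iff_surjective.mp hinj
  obtain ⟨z, hz⟩ := hsurj (E.mkQ w)
  obtain ⟨v, rfl⟩ := E.mkQ_surjective z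
  refine ⟨v, ?_⟩
  rw [hT, Submodule.mkQ_apply, Submodule.mapQ_apply, Submodule.mkQ_apply,
    ← sub_eq_zero, ← Submodule.Quotient.mk_sub, Submodule.Quotient.mk_eq_zero] at hz
  exact hz

end FieldLemma

section Retraction

variable {A : Type*} [CommRing A] {L : Type*} [AddCommGroup L] [Module A L]

/-- A submodule with projective quotient is a direct summand. -/
theorem exists_retraction (H : Submodule A L) [Module.Projective A (L ⧸ H)] :
    ∃ r : L →ₗ[A] H, ∀ h : H, r h = h := by
  obtain ⟨s, hs⟩ := Module.projective_lifting_property H.mkQ LinearMap.id H.mkQ_surjective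
  have hmem : ∀ l : L, l - s (H.mkQ l) ∈ H := by
    intro l
    rw [← Submodule.Quotient.mk_eq_zero, Submodule.Quotient.mk_sub, sub_eq_zero]
    have := LinearMap.congr_fun hs (H.mkQ l)
    simp only [LinearMap.comp_apply, LinearMap.id_apply] at this
    exact this.symm
  refine ⟨LinearMap.codRestrict H (LinearMap.id - s ∘ₗ H.mkQ) hmem, fun h => ?_⟩
  apply Subtype.ext
  simp only [LinearMap.codRestrict_apply, LinearMap.sub_apply, LinearMap.id_apply,
    LinearMap.comp_apply]
  have : H.mkQ (h : L) = 0 := by
    rw [Submodule.mkQ_apply, Submodule.Quotient.mk_eq_zero]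
    exact h.2
  rw [this, map_zero, sub_zero]

theorem finite_of_projective_quotient [Module.Finite A L] (H : Submodule A L)
    [Module.Projective A (L ⧸ H)] : Module.Finite A H := by
  obtain ⟨r, hr⟩ := exists_retraction H
  exact Module.Finite.of_surjective r (fun h => ⟨h, hr h⟩)

theorem projective_of_projective_quotient [Module.Projective A L] (H : Submodule A L)
    [Module.Projective A (L ⧸ H)] : Module.Projective A H := by
  obtain ⟨r, hr⟩ := exists_retraction H
  exact Module.Projective.of_split H.subtype r (by ext h; simp [hr])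

theorem baseChange_subtype_injective (K : Type*) [CommRing K] [Algebra A K] (H : Submodule A L)
    [Module.Projective A (L ⧸ H)] : Function.Injective (H.subtype.baseChange K) := by
  obtain ⟨r, hr⟩ := exists_retraction H
  have : (r.baseChange K) ∘ₗ (H.subtype.baseChange K) = LinearMap.id := by
    rw [← LinearMap.baseChange_comp]
    have : r ∘ₗ H.subtype = LinearMap.id := by ext h; simp [hr]
    rw [this, LinearMap.baseChange_id]
  exact LinearMap.injective_of_comp_eq_id _ _ this

/-- Exactness of the base change of `H → L → L/H`. -/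
theorem ker_baseChange_mkQ (K : Type*) [CommRing K] [Algebra A K] (H : Submodule A L) :
    LinearMap.ker (H.mkQ.baseChange K) = H.baseChange K := by
  have hex : Function.Exact H.subtype H.mkQ := by
    intro l
    rw [Submodule.mkQ_apply, Submodule.Quotient.mk_eq_zero]
    constructor
    · intro hl; exact ⟨⟨l, hl⟩, rfl⟩
    · rintro ⟨h, rfl⟩; exact h.2
  have h2 := lTensor_exact K hex H.mkQ_surjective
  ext z
  rw [LinearMap.mem_ker]
  show (H.mkQ.lTensor K) z = 0 ↔ z ∈ LinearMap.range (H.subtype.baseChange K)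
  rw [h2 z]
  rfl

end Retraction

end Groth.Agent.Lib.Helper92.CartanRel
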