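import Groth.Agent.Lib.Helper92.CR3

set_option linter.unusedSectionVars false
set_option linter.unusedSimpArgs false
set_option linter.unusedVariables false
set_option linter.style.haveILetI false

/-!
# Relative Cartan subalgebras, part 4: a relative Cartan subalgebra containing a quasi-regular
element is its Engel subalgebra
-/

namespace Groth.Agent.Lib.Helper92.CartanRel

open TensorProduct LieAlgebra LieSubalgebra Module SGA3t2b

universe u

variable {A : Type u} [CommRing A] {L : Type u} [LieRing L] [LieAlgebra A L]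
  [Module.Finite A L] [Module.Projective A L]

/-- (1a) A relative Cartan subalgebra is contained in the Engel subalgebra of each of its
elements. -/
theorem le_engel_of_isCartanRel {H : LieSubalgebra A L} (hH : IsCartanRel H) {a : L}
    (haH : a ∈ H) : H ≤ engel A a := by
  haveI := hH.1
  haveI : Module.Finite A H.toSubmodule := finite_of_projective_quotient H.toSubmodule
  haveI : Module.Projective A H.toSubmodule := projective_of_projective_quotient H.toSubmodule
  haveI : Module.Finite A H := ‹Module.Finite A H.toSubmodule›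
  haveI : Module.Projective A H := ‹Module.Projective A H.toSubmodule›
  let aH : H := ⟨a, haH⟩
  have hnil : IsNilpotent (LieAlgebra.ad A H aH) := by
    apply isNilpotent_of_forall_baseChange
    intro p
    haveI := (hH.2 p).1
    have h1 := LieModule.isNilpotent_toEnd_of_isNilpotent p.asIdeal.ResidueField
      (L := p.asIdeal.ResidueField ⊗[A] H) (M := p.asIdeal.ResidueField ⊗[A] H)
      ((1 : p.asIdeal.ResidueField) ⊗ₜ[A] aH)
    rw [LieModule.toEnd_baseChange] at h1
    exact h1
  obtain ⟨n, hn⟩ := hnil
  intro h hh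
  rw [mem_engel_iff]
  refine ⟨n, ?_⟩
  have := LieSubalgebra.coe_ad_pow A L H aH ⟨h, hh⟩ n
  rw [hn] at this
  exact this.symm

/-- (F2) The fibre of a relative Cartan subalgebra at a point where `a ∈ H` is regular is the
Engel subalgebra of the image of `a`. -/
theorem fibre_eq_engel {H : LieSubalgebra A L} (hH : IsCartanRel H) {a : L} (haH : a ∈ H)
    (p : PrimeSpectrum A)
    (hreg : LieAlgebra.IsRegular p.asIdeal.ResidueField ((1 : p.asIdeal.ResidueField) ⊗ₜ[A] a)) :
    fibreSubmodule p H =
      (engel p.asIdeal.ResidueField ((1 : p.asIdeal.ResidueField) ⊗ₜ[A] a)).toSubmodule := by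
  have hle : fibreSubmodule p H ≤
      (engel p.asIdeal.ResidueField ((1 : p.asIdeal.ResidueField) ⊗ₜ[A] a)).toSubmodule :=
    baseChange_le_engel _ (fun h hh => le_engel_of_isCartanRel hH haH hh)
  apply Submodule.eq_of_le_of_finrank_eq hle
  rw [(hH.2 p).2.2]
  exact ((LieAlgebra.isRegular_iff_finrank_engel_eq_rank _ _).mp hreg).symm

/-- The endomorphism of `L/H` induced by `ad a`, for `a ∈ H`. -/
noncomputable def quotAd (H : LieSubalgebra A L) {a : L} (haH : a ∈ H) :
    (L ⧸ H.toSubmodule) →ₗ[A] (L ⧸ H.toSubmodule) :=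
  H.toSubmodule.mapQ H.toSubmodule (LieAlgebra.ad A L a) (fun h hh => H.lie_mem haH hh)

theorem quotAd_mk (H : LieSubalgebra A L) {a : L} (haH : a ∈ H) (y : L) :
    quotAd H haH (H.toSubmodule.mkQ y) = H.toSubmodule.mkQ ⁅a, y⁆ := rfl

theorem quotAd_comp_mkQ (H : LieSubalgebra A L) {a : L} (haH : a ∈ H) :
    quotAd H haH ∘ₗ H.toSubmodule.mkQ = H.toSubmodule.mkQ ∘ₗ LieAlgebra.ad A L a := rfl

theorem quotAd_pow_mk (H : LieSubalgebra A L) {a : L} (haH : a ∈ H) (n : ℕ) (y : L) :
    ((quotAd H haH) ^ n) (H.toSubmodule.mkQ y) =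
      H.toSubmodule.mkQ (((LieAlgebra.ad A L a) ^ n) y) := by
  induction n generalizing y with
  | zero => simp
  | succ n ih =>
    rw [pow_succ, Module.End.mul_apply, quotAd_mk, pow_succ, Module.End.mul_apply, ih]
    rfl

/-- Fibrewise surjectivity of `quotAd` at a point where the fibre is the Engel subalgebra. -/
theorem quotAd_baseChange_surjective (H : LieSubalgebra A L) {a : L} (haH : a ∈ H)
    (K : Type u) [Field K] [Algebra A K]
    (hfib : H.toSubmodule.baseChange K = (engel K ((1 : K) ⊗ₜ[A] a)).toSubmodule) :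
    Function.Surjective ((quotAd H haH).baseChange K) := by
  intro z
  have hπ : Function.Surjective (H.toSubmodule.mkQ.baseChange K) :=
    LinearMap.lTensor_surjective _ (Submodule.mkQ_surjective _)
  obtain ⟨w, rfl⟩ := hπ z
  obtain ⟨v, hv⟩ := exists_sub_mem_engel (K := K) ((1 : K) ⊗ₜ[A] a) w
  refine ⟨H.toSubmodule.mkQ.baseChange K v, ?_⟩
  rw [← LinearMap.comp_apply, ← LinearMap.baseChange_comp, quotAd_comp_mkQ,
    LinearMap.baseChange_comp, LinearMap.comp_apply, ← ad_tmul]
  have h1 : (LieAlgebra.ad K (K ⊗[A] L) ((1 : K) ⊗ₜ[A] a)) v - w ∈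
      LinearMap.ker (H.toSubmodule.mkQ.baseChange K) := by
    rw [ker_baseChange_mkQ, hfib]
    exact hv
  rw [LinearMap.mem_ker, map_sub, sub_eq_zero] at h1
  exact h1

/-- For a relative Cartan subalgebra `H ∋ a` with `a` quasi-regular, `ad a` is bijective on
`L/H`. -/
theorem quotAd_bijective {H : LieSubalgebra A L} (hH : IsCartanRel H) {a : L} (haH : a ∈ H)
    (ha : IsQuasiRegular A L a) : Function.Bijective (quotAd H haH) := by
  have hsurj : Function.Surjective (quotAd H haH) := by
    apply surjective_of_fibres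
    intro q
    exact quotAd_baseChange_surjective H haH _ (fibre_eq_engel hH haH q (ha q))
  exact ⟨OrzechProperty.injective_of_surjective_endomorphism _ hsurj, hsurj⟩

/-- If `ad a` is injective on `L/H`, then the Engel subalgebra of `a` lies in `H`. -/
theorem engel_le_of_quotAd_injective (H : LieSubalgebra A L) {a : L} (haH : a ∈ H)
    (hinj : Function.Injective (quotAd H haH)) : engel A a ≤ H := by
  intro y hy
  rw [mem_engel_iff] at hy
  obtain ⟨n, hn⟩ := hy
  have h1 : ((quotAd H haH) ^ n) (H.toSubmodule.mkQ y) = 0 := by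
    rw [quotAd_pow_mk, hn, map_zero]
  have h2 : Function.Injective ((quotAd H haH) ^ n) := by
    rw [Module.End.coe_pow]
    exact hinj.iterate n
  have h3 := h2 (h1.trans (map_zero _).symm)
  rwa [Submodule.mkQ_apply, Submodule.Quotient.mk_eq_zero] at h3

/-- **S8372, part 1.** -/
theorem eq_engel_of_isCartanRel {H : LieSubalgebra A L} (hH : IsCartanRel H) {a : L}
    (haH : a ∈ H) (ha : IsQuasiRegular A L a) : H = engel A a :=
  le_antisymm (le_engel_of_isCartanRel hH haH)
    (engel_le_of_quotAd_injective H haH (quotAd_bijective hH haH ha).1)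

end Groth.Agent.Lib.Helper92.CartanRel
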