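import Groth.Agent.Lib.Helper92.CR4

set_option linter.unusedSectionVars false
set_option linter.unusedSimpArgs false
set_option linter.unusedVariables false
set_option linter.style.haveILetI false

/-!
# Relative Cartan subalgebras, part 5: when the Engel subalgebra of a quasi-regular element is a
relative Cartan subalgebra
-/

namespace Groth.Agent.Lib.Helper92.CartanRel

open TensorProduct LieAlgebra LieSubalgebra Module SGA3t2b

universe u

variable {A : Type u} [CommRing A] {L : Type u} [LieRing L] [LieAlgebra A L]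
  [Module.Finite A L] [Module.Projective A L]

theorem quotAd_engel_bijective (a : L)
    (hinj : ∀ z : L, ⁅a, z⁆ ∈ engel A a → z ∈ engel A a)
    (hsurj : ∀ y : L, ∃ z : L, ⁅a, z⁆ - y ∈ engel A a) :
    Function.Bijective (quotAd (engel A a) (self_mem_engel A a)) := by
  constructor
  · rw [injective_iff_map_eq_zero]
    intro z hz
    obtain ⟨y, rfl⟩ := (engel A a).toSubmodule.mkQ_surjective z
    rw [quotAd_mk, Submodule.mkQ_apply, Submodule.Quotient.mk_eq_zero] at hz
    rw [Submodule.mkQ_apply, Submodule.Quotient.mk_eq_zero]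
    exact hinj y hz
  · intro z
    obtain ⟨y, rfl⟩ := (engel A a).toSubmodule.mkQ_surjective z
    obtain ⟨w, hw⟩ := hsurj y
    refine ⟨(engel A a).toSubmodule.mkQ w, ?_⟩
    rw [quotAd_mk, ← sub_eq_zero, ← map_sub, Submodule.mkQ_apply, Submodule.Quotient.mk_eq_zero]
    exact hw

/-- (G1) the fibre of the Engel subalgebra is the Engel subalgebra of the fibre. -/
theorem fibre_engel_eq (a : L)
    (hbij : Function.Bijective (quotAd (engel A a) (self_mem_engel A a)))
    (K : Type u) [Field K] [Algebra A K] :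
    (engel A a).toSubmodule.baseChange K = (engel K ((1 : K) ⊗ₜ[A] a)).toSubmodule := by
  apply le_antisymm (baseChange_le_engel K (fun h hh => hh))
  intro z hz
  rw [LieSubalgebra.mem_toSubmodule, mem_engel_iff] at hz
  obtain ⟨n, hn⟩ := hz
  set E := (engel A a).toSubmodule with hE
  set φ := quotAd (engel A a) (self_mem_engel A a) with hφ
  let e := LinearEquiv.ofBijective φ hbij
  have hinjK : Function.Injective (φ.baseChange K) := by
    have : (e.symm.toLinearMap.baseChange K) ∘ₗ (φ.baseChange K) = LinearMap.id := by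
      rw [← LinearMap.baseChange_comp]
      have : e.symm.toLinearMap ∘ₗ φ = LinearMap.id := by
        apply LinearMap.ext
        intro y
        exact e.symm_apply_apply y
      rw [this, LinearMap.baseChange_id]
    exact LinearMap.injective_of_comp_eq_id _ _ this
  have hcomm : (φ ^ n) ∘ₗ E.mkQ = E.mkQ ∘ₗ ((LieAlgebra.ad A L a) ^ n) := by
    ext y
    exact quotAd_pow_mk (engel A a) (self_mem_engel A a) n y
  have h1 : ((φ.baseChange K) ^ n) (E.mkQ.baseChange K z) = 0 := by
    rw [← LinearMap.baseChange_pow, ← LinearMap.comp_apply, ← LinearMap.baseChange_comp, hcomm,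
      LinearMap.baseChange_comp, LinearMap.comp_apply, LinearMap.baseChange_pow, ← ad_tmul, hn,
      map_zero]
  have h2 : Function.Injective ((φ.baseChange K) ^ n) := by
    rw [Module.End.coe_pow]
    exact hinjK.iterate n
  have h3 := h2 (h1.trans (map_zero _).symm)
  rw [← LinearMap.mem_ker, ker_baseChange_mkQ] at h3
  exact h3

/-- (G2)(i) nilpotency of the fibre Lie ring. -/
theorem isNilpotent_fibre_of_eq_engel (E : LieSubalgebra A L)
    [Module.Projective A (L ⧸ E.toSubmodule)]
    (K : Type u) [Field K] [Algebra A K] (x : K ⊗[A] L)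
    (hx : LieAlgebra.IsRegular K x)
    (hfib : E.toSubmodule.baseChange K = (engel K x).toSubmodule) :
    LieRing.IsNilpotent (K ⊗[A] E) := by
  haveI : Module.Finite A E.toSubmodule := finite_of_projective_quotient E.toSubmodule
  haveI : Module.Finite A E := ‹Module.Finite A E.toSubmodule›
  haveI := isNilpotent_engel_of_isRegular K hx
  obtain ⟨k, hk⟩ := LieModule.exists_forall_pow_toEnd_eq_zero K (engel K x) (engel K x)
  let ι : K ⊗[A] E →ₗ⁅A⁆ K ⊗[A] L := LieAlgebra.ExtendScalars.map (AlgHom.id A K) E.incl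
  have hι : ∀ z, ι z = (E.toSubmodule.subtype.baseChange K) z := by
    intro z
    induction z using TensorProduct.induction_on with
    | zero => simp
    | tmul c e => rfl
    | add z w hz hw => rw [map_add, map_add, hz, hw]
  have hιinj : Function.Injective ι := by
    intro z w hzw
    rw [hι, hι] at hzw
    exact baseChange_subtype_injective K E.toSubmodule hzw
  have hιmem : ∀ z, ι z ∈ engel K x := by
    intro z
    rw [← LieSubalgebra.mem_toSubmodule, ← hfib, hι]
    exact ⟨z, rfl⟩
  have hpow : ∀ (z w : K ⊗[A] E) (n : ℕ),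
      ι (((LieAlgebra.ad K (K ⊗[A] E) z) ^ n) w) =
        ((LieAlgebra.ad K (K ⊗[A] L) (ι z)) ^ n) (ι w) := by
    intro z w n
    induction n generalizing w with
    | zero => simp
    | succ n ih =>
      rw [pow_succ, Module.End.mul_apply, ih, pow_succ, Module.End.mul_apply]
      congr 1
      exact LieHom.map_lie ι z w
  rw [LieAlgebra.isNilpotent_iff_forall (R := K)]
  intro z
  refine ⟨k, ?_⟩
  apply LinearMap.ext
  intro w
  apply hιinj
  rw [hpow, LinearMap.zero_apply, map_zero]
  have h1 := LieSubalgebra.coe_ad_pow K (K ⊗[A] L) (engel K x) ⟨ι z, hιmem z⟩ ⟨ι w, hιmem w⟩ k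
  rw [← h1]
  have h2 : (LieAlgebra.ad K (engel K x) ⟨ι z, hιmem z⟩) ^ k = 0 := hk _
  rw [h2]
  rfl

/-- **S8372, part 2 (⟸).** -/
theorem isCartanRel_engel (a : L) (ha : IsQuasiRegular A L a)
    (hproj : Module.Projective A (L ⧸ (engel A a).toSubmodule))
    (hinj : ∀ z : L, ⁅a, z⁆ ∈ engel A a → z ∈ engel A a)
    (hsurj : ∀ y : L, ∃ z : L, ⁅a, z⁆ - y ∈ engel A a) :
    IsCartanRel (engel A a) := by
  have hbij := quotAd_engel_bijective a hinj hsurj
  refine ⟨hproj, fun p => ?_⟩
  have hfib : fibreSubmodule p (engel A a) =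
      (engel p.asIdeal.ResidueField ((1 : p.asIdeal.ResidueField) ⊗ₜ[A] a)).toSubmodule :=
    fibre_engel_eq a hbij _
  refine ⟨isNilpotent_fibre_of_eq_engel (engel A a) _ _ (ha p) hfib, ?_, ?_⟩
  · intro y hy
    rw [hfib] at hy ⊢
    rw [LieSubalgebra.mem_toSubmodule, ← normalizer_engel, LieSubalgebra.mem_normalizer_iff]
    intro h hh
    exact hy h hh
  · rw [hfib]
    exact (LieAlgebra.isRegular_iff_finrank_engel_eq_rank _ _).mp (ha p)

end Groth.Agent.Lib.Helper92.CartanRel
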