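import Groth.Agent.Lib.Helper92.CR5

set_option linter.unusedSectionVars false
set_option linter.unusedSimpArgs false
set_option linter.unusedVariables false
set_option linter.style.haveILetI false

/-!
# Relative Cartan subalgebras, part 6: automorphisms
-/

namespace Groth.Agent.Lib.Helper92.CartanRel

open TensorProduct LieAlgebra LieSubalgebra Module SGA3t2b

universe u

variable {A : Type u} [CommRing A] {L : Type u} [LieRing L] [LieAlgebra A L]

theorem ad_pow_map_equiv (u : L ≃ₗ⁅A⁆ L) (a z : L) (n : ℕ) :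
    ((LieAlgebra.ad A L (u a)) ^ n) (u z) = u (((LieAlgebra.ad A L a) ^ n) z) := by
  induction n generalizing z with
  | zero => simp
  | succ n ih =>
    rw [pow_succ, Module.End.mul_apply, pow_succ, Module.End.mul_apply, ← ih]
    congr 1
    exact (LieEquiv.map_lie u a z).symm

theorem engel_map_equiv (u : L ≃ₗ⁅A⁆ L) (a : L) :
    (engel A a).map u.toLieHom = engel A (u a) := by
  ext y
  rw [LieSubalgebra.mem_map]
  constructor
  · rintro ⟨z, hz, rfl⟩
    rw [mem_engel_iff] at hz ⊢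
    obtain ⟨n, hn⟩ := hz
    refine ⟨n, ?_⟩
    show ((LieAlgebra.ad A L (u a)) ^ n) (u z) = 0
    rw [ad_pow_map_equiv, hn, map_zero]
  · intro hy
    rw [mem_engel_iff] at hy
    obtain ⟨n, hn⟩ := hy
    refine ⟨u.symm y, ?_, by simp⟩
    rw [mem_engel_iff]
    refine ⟨n, ?_⟩
    apply u.injective
    show u (((LieAlgebra.ad A L a) ^ n) (u.symm y)) = u 0
    rw [← ad_pow_map_equiv, map_zero]
    simpa using hn

variable [Module.Finite A L] [Module.Projective A L]

theorem isRegular_map_equiv (K : Type u) [Field K] [Algebra A K] (u : L ≃ₗ⁅A⁆ L) (a : L)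
    (h : LieAlgebra.IsRegular K ((1 : K) ⊗ₜ[A] a)) :
    LieAlgebra.IsRegular K ((1 : K) ⊗ₜ[A] (u a)) := by
  let U : (K ⊗[A] L) ≃ₗ[K] (K ⊗[A] L) := LinearEquiv.baseChange A K L L u.toLinearEquiv
  let ι : K ⊗[A] L →ₗ⁅A⁆ K ⊗[A] L := LieAlgebra.ExtendScalars.map (AlgHom.id A K) u.toLieHom
  have hι : ∀ z, ι z = U z := by
    intro z
    induction z using TensorProduct.induction_on with
    | zero => simp
    | tmul c e => rfl
    | add z w hz hw => rw [map_add, map_add, hz, hw]
  have hU : ∀ z w, U ⁅z, w⁆ = ⁅U z, U w⁆ := by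
    intro z w
    rw [← hι, ← hι, ← hι]
    exact LieHom.map_lie ι z w
  have hconj : ∀ x, LieAlgebra.ad K (K ⊗[A] L) (U x) = U.conj (LieAlgebra.ad K (K ⊗[A] L) x) := by
    intro x
    apply LinearMap.ext
    intro w
    rw [LinearEquiv.conj_apply]
    simp only [LinearMap.comp_apply, LinearEquiv.coe_coe, LieAlgebra.ad_apply]
    rw [hU, LinearEquiv.apply_symm_apply]
  have hUa : U ((1 : K) ⊗ₜ[A] a) = (1 : K) ⊗ₜ[A] (u a) := rfl
  rw [LieAlgebra.isRegular_def] at h ⊢
  rw [← hUa, hconj, LinearEquiv.charpoly_conj]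
  exact h

theorem isQuasiRegular_map_equiv (u : L ≃ₗ⁅A⁆ L) {a : L} (ha : IsQuasiRegular A L a) :
    IsQuasiRegular A L (u a) :=
  fun p => isRegular_map_equiv _ u a (ha p)

/-- **S8373.** -/
theorem map_equiv_eq_iff {H : LieSubalgebra A L} (hH : IsCartanRel H) {a : L} (haH : a ∈ H)
    (ha : IsQuasiRegular A L a) (u : L ≃ₗ⁅A⁆ L) :
    H.map u.toLieHom = H ↔ u a ∈ H := by
  constructor
  · intro h
    rw [← h, LieSubalgebra.mem_map]
    exact ⟨a, haH, rfl⟩
  · intro hu
    have h1 := eq_engel_of_isCartanRel hH haH ha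
    have h2 := eq_engel_of_isCartanRel hH hu (isQuasiRegular_map_equiv u ha)
    conv_lhs => rw [h1]
    rw [engel_map_equiv, ← h2]

end Groth.Agent.Lib.Helper92.CartanRel
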