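import Groth.Agent.Lib.Helper92.CR6

set_option linter.unusedSectionVars false
set_option linter.unusedSimpArgs false
set_option linter.unusedVariables false
set_option linter.style.haveILetI false

/-!
# Relative Cartan subalgebras, part 7: openness of the regular locus of a section
-/

namespace Groth.Agent.Lib.Helper92.CartanRel

open TensorProduct LieAlgebra LieSubalgebra Module SGA3t2b Polynomial

section FieldLemma

variable {K : Type*} [Field K] {V W : Type*} [AddCommGroup V] [Module K V] [Module.Finite K V]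
  [AddCommGroup W] [Module K W] [Module.Finite K W]

/-- The characteristic polynomial of `G ∘ T ∘ F` where `F ∘ G = id`. -/
theorem charpoly_comp_retract (F : V →ₗ[K] W) (G : W →ₗ[K] V) (hFG : F ∘ₗ G = LinearMap.id)
    (T : Module.End K W) :
    (G ∘ₗ T ∘ₗ F : Module.End K V).charpoly = T.charpoly * X ^ (finrank K V - finrank K W) := by
  have hFGa : ∀ w, F (G w) = w := fun w => LinearMap.congr_fun hFG w
  let N := LinearMap.ker F
  have hmem : ∀ v, v - G (F v) ∈ N := by
    intro v
    rw [LinearMap.mem_ker, map_sub, hFGa, sub_self]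
  let E : V →ₗ[K] W × N := F.prod (LinearMap.codRestrict N (LinearMap.id - G ∘ₗ F) hmem)
  have hE : ∀ v, E v = (F v, ⟨v - G (F v), hmem v⟩) := fun v => rfl
  have hEinj : Function.Injective E := by
    rw [injective_iff_map_eq_zero]
    intro v hv
    rw [hE, Prod.mk_eq_zero] at hv
    have h2 : v - G (F v) = 0 := congrArg Subtype.val hv.2
    rw [hv.1, map_zero, sub_zero] at h2
    exact h2
  have hEsurj : Function.Surjective E := by
    rintro ⟨w, k⟩
    refine ⟨G w + k, ?_⟩
    rw [hE]
    have hk : F (k : V) = 0 := LinearMap.mem_ker.mp k.2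
    apply Prod.ext
    · show F (G w + k) = w
      rw [map_add, hFGa, hk, add_zero]
    · apply Subtype.ext
      show G w + k - G (F (G w + k)) = k
      rw [map_add, hFGa, hk, add_zero]
      abel
  let e : V ≃ₗ[K] W × N := LinearEquiv.ofBijective E ⟨hEinj, hEsurj⟩
  have he : ∀ v, e v = E v := fun v => rfl
  have hcomm : ∀ v, e ((G ∘ₗ T ∘ₗ F : Module.End K V) v) =
      (T.prodMap (0 : Module.End K N)) (e v) := by
    intro v
    rw [he, he, hE, hE]
    apply Prod.ext
    · show F (G (T (F v))) = T (F v)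
      rw [hFGa]
    · apply Subtype.ext
      show G (T (F v)) - G (F (G (T (F v)))) = ((0 : Module.End K N) ⟨v - G (F v), hmem v⟩ : V)
      rw [hFGa, sub_self]
      rfl
  have hconj : e.conj (G ∘ₗ T ∘ₗ F : Module.End K V) = T.prodMap (0 : Module.End K N) := by
    apply LinearMap.ext
    intro y
    rw [LinearEquiv.conj_apply]
    show e ((G ∘ₗ T ∘ₗ F : Module.End K V) (e.symm y)) = _
    rw [hcomm, LinearEquiv.apply_symm_apply]
  rw [← e.charpoly_conj, hconj, LinearMap.charpoly_prodMap, LinearMap.charpoly_zero]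
  congr 2
  have hsurj : Function.Surjective F := fun w => ⟨G w, hFGa w⟩
  have h1 : finrank K W + finrank K (LinearMap.ker F) = finrank K V := by
    have := LinearMap.finrank_range_add_finrank_ker F
    rwa [LinearMap.range_eq_top.mpr hsurj, finrank_top] at this
  show finrank K (LinearMap.ker F) = finrank K V - finrank K W
  omega

end FieldLemma

universe u

variable {A : Type u} [CommRing A] {L : Type u} [LieRing L] [LieAlgebra A L]
  [Module.Finite A L] [Module.Projective A L]

/-- Regularity at a prime in terms of a coefficient of a global characteristic polynomial. -/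
theorem isRegular_iff_coeff_notMem {n : ℕ} (f : (Fin n → A) →ₗ[A] L) (g : L →ₗ[A] (Fin n → A))
    (hfg : f ∘ₗ g = LinearMap.id) (a : L) (q : PrimeSpectrum A) :
    LieAlgebra.IsRegular q.asIdeal.ResidueField ((1 : q.asIdeal.ResidueField) ⊗ₜ[A] a) ↔
      (g ∘ₗ LieAlgebra.ad A L a ∘ₗ f : Module.End A (Fin n → A)).charpoly.coeff
        (LieAlgebra.rank q.asIdeal.ResidueField (q.asIdeal.ResidueField ⊗[A] L) +
          (n - finrank q.asIdeal.ResidueField (q.asIdeal.ResidueField ⊗[A] L))) ∉ q.asIdeal := by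
  haveI : Nontrivial A := by
    by_contra hA
    rw [not_nontrivial_iff_subsingleton] at hA
    exact q.isPrime.ne_top (Subsingleton.elim _ _)
  set K := q.asIdeal.ResidueField with hK
  set ψ : Module.End A (Fin n → A) := g ∘ₗ LieAlgebra.ad A L a ∘ₗ f with hψ
  have h1 : (ψ.baseChange K).charpoly = ψ.charpoly.map (algebraMap A K) :=
    LinearMap.charpoly_baseChange _ _
  have h2 : ψ.baseChange K =
      (g.baseChange K) ∘ₗ (LieAlgebra.ad K (K ⊗[A] L) ((1 : K) ⊗ₜ[A] a)) ∘ₗ (f.baseChange K) := by
    rw [hψ, LinearMap.baseChange_comp, LinearMap.baseChange_comp, ad_tmul]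
  have h3 : (f.baseChange K) ∘ₗ (g.baseChange K) = LinearMap.id := by
    rw [← LinearMap.baseChange_comp, hfg, LinearMap.baseChange_id]
  have h4 := charpoly_comp_retract (f.baseChange K) (g.baseChange K) h3
    (LieAlgebra.ad K (K ⊗[A] L) ((1 : K) ⊗ₜ[A] a))
  have h5 : finrank K (K ⊗[A] (Fin n → A)) = n := by
    rw [Module.finrank_baseChange, Module.finrank_fin_fun]
  rw [← h2, h1, h5] at h4
  have hmem : ∀ c : A, c ∉ q.asIdeal ↔ algebraMap A K c ≠ 0 := by
    intro c
    have hker := Ideal.ker_algebraMap_residueField q.asIdeal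
    have : c ∈ q.asIdeal ↔ algebraMap A K c = 0 := by
      constructor
      · intro hc
        have : c ∈ RingHom.ker (algebraMap A q.asIdeal.ResidueField) := by
          rw [hker]; exact hc
        exact this
      · intro hc
        have : c ∈ RingHom.ker (algebraMap A q.asIdeal.ResidueField) := hc
        rw [hker] at this
        exact this
    exact not_congr this
  rw [LieAlgebra.isRegular_def, hmem, ← Polynomial.coeff_map, h4, Polynomial.coeff_mul_X_pow]

/-- Every open neighbourhood of a prime contains a basic open neighbourhood. -/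
theorem exists_basicOpen_subset {U : Set (PrimeSpectrum A)} (hU : IsOpen U) {p : PrimeSpectrum A}
    (hp : p ∈ U) : ∃ f : A, f ∉ p.asIdeal ∧ ∀ q : PrimeSpectrum A, f ∉ q.asIdeal → q ∈ U := by
  obtain ⟨v, ⟨f, rfl⟩, hpv, hvU⟩ :=
    PrimeSpectrum.isTopologicalBasis_basic_opens.exists_subset_of_mem_open hp hU
  exact ⟨f, hpv, fun q hq => hvU hq⟩

theorem exists_finrank_eq_near (p : PrimeSpectrum A) :
    ∃ f : A, f ∉ p.asIdeal ∧ ∀ q : PrimeSpectrum A, f ∉ q.asIdeal →
      finrank q.asIdeal.ResidueField (q.asIdeal.ResidueField ⊗[A] L) =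
        finrank p.asIdeal.ResidueField (p.asIdeal.ResidueField ⊗[A] L) := by
  haveI : Module.FinitePresentation A L := Module.finitePresentation_of_projective A L
  have hlc := Module.isLocallyConstant_rankAtStalk (R := A) (M := L)
  have hU := hlc.isOpen_fiber (Module.rankAtStalk L p)
  obtain ⟨f, hf, hfq⟩ := exists_basicOpen_subset hU (show p ∈ _ from rfl)
  refine ⟨f, hf, fun q hq => ?_⟩
  have h1 : Module.rankAtStalk L q = Module.rankAtStalk L p := hfq q hq
  rw [Module.rankAtStalk_eq, Module.rankAtStalk_eq] at h1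
  exact h1

/-- **S8375.** -/
theorem isOpen_regular_locus
    (hC0 : ∀ p : PrimeSpectrum A, ∃ f : A, f ∉ p.asIdeal ∧ ∀ q : PrimeSpectrum A,
      f ∉ q.asIdeal →
        LieAlgebra.rank q.asIdeal.ResidueField (q.asIdeal.ResidueField ⊗[A] L) =
          LieAlgebra.rank p.asIdeal.ResidueField (p.asIdeal.ResidueField ⊗[A] L)) (a : L) :
    IsOpen {p : PrimeSpectrum A |
      LieAlgebra.IsRegular p.asIdeal.ResidueField ((1 : p.asIdeal.ResidueField) ⊗ₜ[A] a)} := by
  obtain ⟨n, f, g, -, -, hfg⟩ := Module.Finite.exists_comp_eq_id_of_projective A L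
  rw [isOpen_iff_forall_mem_open]
  intro p hp
  obtain ⟨f1, hf1, h1⟩ := hC0 p
  obtain ⟨f2, hf2, h2⟩ := exists_finrank_eq_near (L := L) p
  set c := (g ∘ₗ LieAlgebra.ad A L a ∘ₗ f : Module.End A (Fin n → A)).charpoly.coeff
    (LieAlgebra.rank p.asIdeal.ResidueField (p.asIdeal.ResidueField ⊗[A] L) +
      (n - finrank p.asIdeal.ResidueField (p.asIdeal.ResidueField ⊗[A] L))) with hc
  have hcp : c ∉ p.asIdeal := (isRegular_iff_coeff_notMem f g hfg a p).mp hp
  refine ⟨(PrimeSpectrum.basicOpen (f1 * f2 * c) : Set (PrimeSpectrum A)), ?_,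
    (PrimeSpectrum.basicOpen (f1 * f2 * c)).2, ?_⟩
  · intro q hq
    have hq' : f1 * f2 * c ∉ q.asIdeal := hq
    have hq1 : f1 ∉ q.asIdeal := fun h => hq' (Ideal.mul_mem_right _ _ (Ideal.mul_mem_right _ _ h))
    have hq2 : f2 ∉ q.asIdeal := fun h => hq' (Ideal.mul_mem_right _ _ (Ideal.mul_mem_left _ _ h))
    have hq3 : c ∉ q.asIdeal := fun h => hq' (Ideal.mul_mem_left _ _ h)
    show LieAlgebra.IsRegular _ _
    rw [isRegular_iff_coeff_notMem f g hfg a q, h1 q hq1, h2 q hq2]
    exact hq3
  · show f1 * f2 * c ∉ p.asIdeal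
    intro h
    rcases p.isPrime.mem_or_mem h with h | h
    · rcases p.isPrime.mem_or_mem h with h | h
      · exact hf1 h
      · exact hf2 h
    · exact hcp h

end Groth.Agent.Lib.Helper92.CartanRel
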