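import Groth.Agent.Lib.Helper92.CR7

set_option linter.unusedSectionVars false
set_option linter.unusedSimpArgs false
set_option linter.unusedVariables false
set_option linter.style.haveILetI false

/-!
# Relative Cartan subalgebras, part 8: over an infinite field a Cartan subalgebra is the Engel
subalgebra of one of its elements
-/

namespace Groth.Agent.Lib.Helper92.CartanRel

open TensorProduct LieAlgebra LieSubalgebra Module

section FieldLemma

variable {K : Type*} [Field K] {V : Type*} [LieRing V] [LieAlgebra K V] [Module.Finite K V]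

theorem toEnd_subalgebra_pow (U : LieSubalgebra K V) (y : U) (k : ℕ) (x : V) :
    ((LieModule.toEnd K U V y) ^ k) x = ((LieAlgebra.ad K V (y : V)) ^ k) x := by
  induction k generalizing x with
  | zero => simp
  | succ k ih =>
    rw [pow_succ, Module.End.mul_apply, pow_succ, Module.End.mul_apply, ih]
    rfl

theorem le_engel_of_isNilpotent (U : LieSubalgebra K V) [LieRing.IsNilpotent U] {x : V}
    (hx : x ∈ U) : U ≤ engel K x := by
  intro u hu
  rw [mem_engel_iff]
  obtain ⟨k, hk⟩ := LieModule.isNilpotent_toEnd_of_isNilpotent K (L := U) (M := U) ⟨x, hx⟩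
  refine ⟨k, ?_⟩
  have h1 := LieSubalgebra.coe_ad_pow K V U ⟨x, hx⟩ ⟨u, hu⟩ k
  have h2 : (LieAlgebra.ad K U ⟨x, hx⟩) ^ k = 0 := hk
  rw [h2] at h1
  exact h1.symm

open Cardinal in
/-- Over an infinite field, a Cartan subalgebra is the Engel subalgebra of one of its elements. -/
theorem exists_engel_eq_of_isCartanSubalgebra [Infinite K] (U : LieSubalgebra K V)
    [U.IsCartanSubalgebra] : ∃ x ∈ U, engel K x = U := by
  classical
  have hcard : (finrank K V : Cardinal) ≤ #K :=
    (natCast_le_aleph0).trans (Cardinal.infinite_iff.mp inferInstance)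
  -- choose x₀ ∈ U with `engel K x₀` of minimal dimension
  have hex : ∃ n : ℕ, ∃ x ∈ U, finrank K (engel K x) = n := ⟨_, 0, U.zero_mem, rfl⟩
  obtain ⟨x₀, hx₀, hn₀⟩ := Nat.find_spec hex
  have hmin : ∀ y ∈ U, finrank K (engel K x₀) ≤ finrank K (engel K y) := by
    intro y hy
    rw [hn₀]
    exact Nat.find_min' hex ⟨y, hy, rfl⟩
  set Ex : {engel K z | z ∈ U} := ⟨engel K x₀, x₀, hx₀, rfl⟩ with hEx
  have hbot : IsBot Ex := by
    apply LieAlgebra.engel_isBot_of_isMin hcard U Ex (le_engel_of_isNilpotent U hx₀)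
    rintro ⟨_, y, hy, rfl⟩ hyx
    have h1 : finrank K (engel K x₀) ≤ finrank K (engel K y) := hmin y hy
    have h2 : engel K y = engel K x₀ := by
      apply LieSubalgebra.toSubmodule_injective
      exact Submodule.eq_of_le_of_finrank_le hyx h1
    exact h2.ge
  refine ⟨x₀, hx₀, le_antisymm ?_ (le_engel_of_isNilpotent U hx₀)⟩
  have hz := LieAlgebra.zeroRootSubalgebra_eq_of_is_cartan K V U
  intro e he
  rw [← hz, LieAlgebra.mem_zeroRootSubalgebra]
  intro y
  have h1 : engel K x₀ ≤ engel K (y : V) := @hbot ⟨engel K (y : V), y, y.2, rfl⟩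
  have h2 := h1 he
  rw [mem_engel_iff] at h2
  obtain ⟨k, hk⟩ := h2
  exact ⟨k, by rw [toEnd_subalgebra_pow, hk]⟩

theorem engel_smul {c : K} (hc : c ≠ 0) (x : V) : engel K (c • x) = engel K x := by
  ext y
  rw [mem_engel_iff, mem_engel_iff]
  have h1 : ∀ n : ℕ, ((LieAlgebra.ad K V (c • x)) ^ n) y = c ^ n • ((LieAlgebra.ad K V x) ^ n) y := by
    intro n
    rw [map_smul, smul_pow, LinearMap.smul_apply]
  constructor
  · rintro ⟨n, hn⟩
    refine ⟨n, ?_⟩
    rw [h1] at hn
    exact (smul_eq_zero.mp hn).resolve_left (pow_ne_zero n hc)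
  · rintro ⟨n, hn⟩
    exact ⟨n, by rw [h1, hn, smul_zero]⟩

theorem isRegular_smul {c : K} (hc : c ≠ 0) {x : V} (hx : LieAlgebra.IsRegular K x) :
    LieAlgebra.IsRegular K (c • x) := by
  rw [LieAlgebra.isRegular_iff_finrank_engel_eq_rank] at hx ⊢
  rw [engel_smul hc]
  exact hx

end FieldLemma

end Groth.Agent.Lib.Helper92.CartanRel
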