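import Groth.Agent.Lib.Helper92.CR8

set_option linter.unusedSectionVars false
set_option linter.unusedSimpArgs false
set_option linter.unusedVariables false
set_option linter.style.haveILetI false

/-!
# Relative Cartan subalgebras, part 9: near a point with infinite residue field a relative Cartan
subalgebra is the Engel subalgebra of a regular section
-/

namespace Groth.Agent.Lib.Helper92.CartanRel

open TensorProduct LieAlgebra LieSubalgebra Module SGA3t2b

universe u

section FibreLie

variable {A : Type u} [CommRing A] {L : Type u} [LieRing L] [LieAlgebra A L]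

/-- The fibre inclusion `K ⊗ H → K ⊗ L` as a morphism of Lie algebras over `K`. -/
noncomputable def fibreIncl (K : Type u) [CommRing K] [Algebra A K] (H : LieSubalgebra A L) :
    K ⊗[A] H →ₗ⁅K⁆ K ⊗[A] L :=
  { H.toSubmodule.subtype.baseChange K with
    map_lie' := by
      intro x y
      have h1 : ∀ z : K ⊗[A] H, (H.toSubmodule.subtype.baseChange K) z =
          LieAlgebra.ExtendScalars.map (AlgHom.id A K) H.incl z := by
        intro z
        induction z using TensorProduct.induction_on with
        | zero => simp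
        | tmul c h => rfl
        | add z w hz hw => rw [map_add, map_add, hz, hw]
      simp only [AddHom.toFun_eq_coe, LinearMap.coe_toAddHom]
      rw [h1, h1, h1, LieHom.map_lie] }

theorem fibreIncl_apply (K : Type u) [CommRing K] [Algebra A K] (H : LieSubalgebra A L)
    (z : K ⊗[A] H) : fibreIncl K H z = (H.toSubmodule.subtype.baseChange K) z := rfl

/-- The fibre of a Lie subalgebra as a Lie subalgebra of the fibre. -/
noncomputable def fibreLie (K : Type u) [CommRing K] [Algebra A K] (H : LieSubalgebra A L) :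
    LieSubalgebra K (K ⊗[A] L) := (fibreIncl K H).range

theorem mem_fibreLie (K : Type u) [CommRing K] [Algebra A K] (H : LieSubalgebra A L)
    (z : K ⊗[A] L) : z ∈ fibreLie K H ↔ z ∈ H.toSubmodule.baseChange K := by
  rw [fibreLie, LieHom.mem_range]
  rfl

theorem fibreLie_toSubmodule (K : Type u) [CommRing K] [Algebra A K] (H : LieSubalgebra A L) :
    (fibreLie K H).toSubmodule = H.toSubmodule.baseChange K := by
  ext z
  rw [LieSubalgebra.mem_toSubmodule, mem_fibreLie]

end FibreLie

section Lift

variable {A : Type u} [CommRing A] {L : Type u} [AddCommGroup L] [Module A L]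

theorem exists_mul_algebraMap_eq (p : PrimeSpectrum A) (c : p.asIdeal.ResidueField) :
    ∃ r s : A, s ∉ p.asIdeal ∧
      c * algebraMap A p.asIdeal.ResidueField s = algebraMap A p.asIdeal.ResidueField r := by
  obtain ⟨x, rfl⟩ := IsLocalRing.residue_surjective (R := Localization.AtPrime p.asIdeal) c
  obtain ⟨⟨r, s⟩, hrs⟩ := IsLocalization.surj p.asIdeal.primeCompl x
  refine ⟨r, s, s.2, ?_⟩
  have := congrArg (IsLocalRing.residue (Localization.AtPrime p.asIdeal)) hrs
  rw [map_mul] at this
  exact this

/-- Elements of the fibre of a submodule are, up to a unit of the residue field coming from the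
base, images of elements of the submodule. -/
theorem exists_smul_eq_tmul (p : PrimeSpectrum A) (H : Submodule A L)
    {z : p.asIdeal.ResidueField ⊗[A] L} (hz : z ∈ H.baseChange p.asIdeal.ResidueField) :
    ∃ s : A, s ∉ p.asIdeal ∧ ∃ a ∈ H,
      (algebraMap A p.asIdeal.ResidueField s) • z = (1 : p.asIdeal.ResidueField) ⊗ₜ[A] a := by
  obtain ⟨w, rfl⟩ := hz
  induction w using TensorProduct.induction_on with
  | zero => exact ⟨1, p.asIdeal.ne_top_iff_one.mp p.isPrime.ne_top, 0, H.zero_mem, by simp⟩
  | tmul c h =>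
    obtain ⟨r, s, hs, hrs⟩ := exists_mul_algebraMap_eq p c
    refine ⟨s, hs, r • (h : L), H.smul_mem _ h.2, ?_⟩
    rw [LinearMap.baseChange_tmul, TensorProduct.smul_tmul', smul_eq_mul, mul_comm, hrs,
      Algebra.algebraMap_eq_smul_one, TensorProduct.smul_tmul]
    rfl
  | add z w hz hw =>
    obtain ⟨s1, hs1, a1, ha1, h1⟩ := hz
    obtain ⟨s2, hs2, a2, ha2, h2⟩ := hw
    refine ⟨s1 * s2, fun h => (p.isPrime.mem_or_mem h).elim hs1 hs2, s2 • a1 + s1 • a2,
      H.add_mem (H.smul_mem _ ha1) (H.smul_mem _ ha2), ?_⟩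
    rw [map_add, smul_add, map_mul]
    conv_lhs => 
      rw [mul_comm, mul_smul, h1, mul_comm, mul_smul, h2]
    rw [TensorProduct.tmul_add, TensorProduct.tmul_smul, TensorProduct.tmul_smul,
      algebraMap_smul, algebraMap_smul]

end Lift

section Torsion

variable {A : Type u} [CommRing A] {Q : Type u} [AddCommGroup Q] [Module A Q] [Module.Finite A Q]

theorem localizedModule_map_pow (S : Submonoid A) (φ : Q →ₗ[A] Q) (k : ℕ) (z : Q) (s : S) :
    ((LocalizedModule.map S φ) ^ k) (LocalizedModule.mk z s) =
      LocalizedModule.mk ((φ ^ k) z) s := by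
  induction k generalizing z with
  | zero => simp
  | succ k ih =>
    rw [pow_succ, Module.End.mul_apply, LocalizedModule.map_mk, ih, pow_succ,
      Module.End.mul_apply]

/-- If the cokernel of an endomorphism `φ` of a finite module is killed by a power of `f`, then
the generalised kernel of `φ` is `f`-power torsion. -/
theorem exists_pow_smul_eq_zero_of_pow_apply_eq_zero (f : A) (φ : Q →ₗ[A] Q) {m : ℕ}
    (hm : ∀ y : Q, f ^ m • y ∈ LinearMap.range φ) {z : Q} {k : ℕ} (hz : (φ ^ k) z = 0) :
    ∃ n : ℕ, f ^ n • z = 0 := by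
  set S := Submonoid.powers f with hS
  have hsurj : Function.Surjective (LocalizedModule.map S φ) := by
    intro x
    induction x using LocalizedModule.induction_on with
    | h q s =>
      obtain ⟨q', hq'⟩ := hm q
      refine ⟨LocalizedModule.mk q' (s * ⟨f ^ m, m, rfl⟩), ?_⟩
      rw [LocalizedModule.map_mk, hq', LocalizedModule.mk_eq]
      refine ⟨1, ?_⟩
      rw [one_smul, one_smul, mul_smul]
      rfl
  have hinj : Function.Injective (LocalizedModule.map S φ) :=
    OrzechProperty.injective_of_surjective_endomorphism _ hsurj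
  have hinjk : Function.Injective ((LocalizedModule.map S φ) ^ k) := by
    rw [Module.End.coe_pow]
    exact hinj.iterate k
  have h0 : LocalizedModule.mk z (1 : S) = 0 := by
    apply hinjk
    rw [localizedModule_map_pow, hz, map_zero, LocalizedModule.zero_mk]
  have h1 : LocalizedModule.mkLinearMap S Q z = 0 := h0
  rw [IsLocalizedModule.eq_zero_iff S] at h1
  obtain ⟨⟨_, n, rfl⟩, hn⟩ := h1
  exact ⟨n, hn⟩

end Torsion

section Cartan

variable {A : Type u} [CommRing A] {L : Type u} [LieRing L] [LieAlgebra A L]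
  [Module.Finite A L] [Module.Projective A L]

theorem fibreLie_isCartanSubalgebra {H : LieSubalgebra A L} (hH : IsCartanRel H)
    (p : PrimeSpectrum A) : (fibreLie p.asIdeal.ResidueField H).IsCartanSubalgebra := by
  constructor
  · haveI := (hH.2 p).1
    exact LieHom.isNilpotent_range (fibreIncl p.asIdeal.ResidueField H)
  · apply le_antisymm
    · intro x hx
      rw [LieSubalgebra.mem_normalizer_iff] at hx
      rw [mem_fibreLie]
      apply (hH.2 p).2.1 x
      intro y hy
      have := hx y ((mem_fibreLie _ H y).mpr hy)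
      exact (mem_fibreLie _ H _).mp this
    · exact LieSubalgebra.le_normalizer _

/-- At a point with infinite residue field, the fibre of a relative Cartan subalgebra contains a
regular element. -/
theorem exists_isRegular_mem_fibre {H : LieSubalgebra A L} (hH : IsCartanRel H)
    (p : PrimeSpectrum A) [Infinite p.asIdeal.ResidueField] :
    ∃ x ∈ H.toSubmodule.baseChange p.asIdeal.ResidueField,
      LieAlgebra.IsRegular p.asIdeal.ResidueField x := by
  haveI := fibreLie_isCartanSubalgebra hH p
  obtain ⟨x, hx, hE⟩ := exists_engel_eq_of_isCartanSubalgebra (fibreLie p.asIdeal.ResidueField H)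
  refine ⟨x, (mem_fibreLie _ H x).mp hx, ?_⟩
  rw [LieAlgebra.isRegular_iff_finrank_engel_eq_rank, hE, ← (hH.2 p).2.2]
  have : (fibreLie p.asIdeal.ResidueField H).toSubmodule = fibreSubmodule p H :=
    fibreLie_toSubmodule _ H
  exact LinearEquiv.finrank_eq (LinearEquiv.ofEq _ _ this)

theorem exists_finrank_eq_near' (M : Type u) [AddCommGroup M] [Module A M] [Module.Finite A M]
    [Module.Projective A M] (p : PrimeSpectrum A) :
    ∃ f : A, f ∉ p.asIdeal ∧ ∀ q : PrimeSpectrum A, f ∉ q.asIdeal →
      finrank q.asIdeal.ResidueField (q.asIdeal.ResidueField ⊗[A] M) =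
        finrank p.asIdeal.ResidueField (p.asIdeal.ResidueField ⊗[A] M) := by
  haveI : Module.FinitePresentation A M := Module.finitePresentation_of_projective A M
  have hlc := Module.isLocallyConstant_rankAtStalk (R := A) (M := M)
  have hU := hlc.isOpen_fiber (Module.rankAtStalk M p)
  obtain ⟨f, hf, hfq⟩ := exists_basicOpen_subset hU (show p ∈ _ from rfl)
  refine ⟨f, hf, fun q hq => ?_⟩
  have h1 : Module.rankAtStalk M q = Module.rankAtStalk M p := hfq q hq
  rw [Module.rankAtStalk_eq, Module.rankAtStalk_eq] at h1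
  exact h1

theorem rank_eq_finrank_fibre {H : LieSubalgebra A L} (hH : IsCartanRel H)
    (q : PrimeSpectrum A) :
    LieAlgebra.rank q.asIdeal.ResidueField (q.asIdeal.ResidueField ⊗[A] L) =
      finrank q.asIdeal.ResidueField (q.asIdeal.ResidueField ⊗[A] H.toSubmodule) := by
  haveI := hH.1
  rw [← (hH.2 q).2.2]
  exact (LinearEquiv.finrank_eq (LinearEquiv.ofInjective
    (H.toSubmodule.subtype.baseChange q.asIdeal.ResidueField)
    (baseChange_subtype_injective _ H.toSubmodule))).symm

/-- (C0) holds as soon as a relative Cartan subalgebra exists. -/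
theorem rank_locally_constant_of_isCartanRel {H : LieSubalgebra A L} (hH : IsCartanRel H)
    (p : PrimeSpectrum A) :
    ∃ f : A, f ∉ p.asIdeal ∧ ∀ q : PrimeSpectrum A, f ∉ q.asIdeal →
      LieAlgebra.rank q.asIdeal.ResidueField (q.asIdeal.ResidueField ⊗[A] L) =
        LieAlgebra.rank p.asIdeal.ResidueField (p.asIdeal.ResidueField ⊗[A] L) := by
  haveI := hH.1
  haveI : Module.Finite A H.toSubmodule := finite_of_projective_quotient H.toSubmodule
  haveI : Module.Projective A H.toSubmodule := projective_of_projective_quotient H.toSubmodule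
  obtain ⟨f, hf, hfq⟩ := exists_finrank_eq_near' (A := A) H.toSubmodule p
  refine ⟨f, hf, fun q hq => ?_⟩
  rw [rank_eq_finrank_fibre hH q, rank_eq_finrank_fibre hH p]
  exact hfq q hq

/-- **S8374.** -/
theorem exists_regular_section_near {H : LieSubalgebra A L} (hH : IsCartanRel H)
    (p : PrimeSpectrum A) (hp : Infinite p.asIdeal.ResidueField) :
    ∃ f : A, f ∉ p.asIdeal ∧ ∃ a : L, a ∈ H ∧
      (∀ q : PrimeSpectrum A, f ∉ q.asIdeal →
        LieAlgebra.IsRegular q.asIdeal.ResidueField ((1 : q.asIdeal.ResidueField) ⊗ₜ[A] a)) ∧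
      H ≤ LieSubalgebra.engel A a ∧
      ∀ y : L, y ∈ LieSubalgebra.engel A a → ∃ n : ℕ, f ^ n • y ∈ H := by
  obtain ⟨x, hxH, hxreg⟩ := exists_isRegular_mem_fibre hH p
  obtain ⟨s, hs, a, haH, hsa⟩ := exists_smul_eq_tmul p H.toSubmodule hxH
  have hc : algebraMap A p.asIdeal.ResidueField s ≠ 0 := by
    rw [Ne, Ideal.algebraMap_residueField_eq_zero]
    exact hs
  have hareg : LieAlgebra.IsRegular p.asIdeal.ResidueField
      ((1 : p.asIdeal.ResidueField) ⊗ₜ[A] a) := by
    rw [← hsa]
    exact isRegular_smul hc hxreg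
  have hC0 := rank_locally_constant_of_isCartanRel hH
  have hopen := isOpen_regular_locus hC0 a
  obtain ⟨f, hf, hfq⟩ := exists_basicOpen_subset hopen (p := p) hareg
  refine ⟨f, hf, a, haH, hfq, le_engel_of_isCartanRel hH haH, ?_⟩
  intro y hy
  rw [mem_engel_iff] at hy
  obtain ⟨k, hk⟩ := hy
  obtain ⟨m, hm⟩ := exists_pow_smul_mem_range_of_fibres f (quotAd H haH)
    (fun q hq => quotAd_baseChange_surjective H haH _ (fibre_eq_engel hH haH q (hfq q hq)))
  have hz : ((quotAd H haH) ^ k) (H.toSubmodule.mkQ y) = 0 := by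
    rw [quotAd_pow_mk, hk, map_zero]
  obtain ⟨n, hn⟩ := exists_pow_smul_eq_zero_of_pow_apply_eq_zero f (quotAd H haH) hm hz
  refine ⟨n, ?_⟩
  rw [← map_smul, Submodule.mkQ_apply, Submodule.Quotient.mk_eq_zero] at hn
  exact hn

end Cartan

end Groth.Agent.Lib.Helper92.CartanRel
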