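import Mathlib

/-!
# Restriction of forms to lines, Taylor expansions of quadrics and cubics (helper92)

`dd v g = ∑ i, C (v i) * pderiv i g` is the derivative of `g` in the direction `v`, and
`lineP g x v` is the one-variable polynomial `t ↦ g (x + t v)`.  For a homogeneous `g` of degree
`d`, `lineP g x v = reflect d (lineP g v x)`, which gives the two-point Taylor expansions
of quadrics and cubics used for cubic surfaces.
-/

set_option autoImplicit false

namespace Groth.Agent.Lib.Helper92.Cubic

open MvPolynomial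

variable {n : ℕ}

/-- derivative in the direction `v` -/
noncomputable def dd (v : Fin n → ℂ) (g : MvPolynomial (Fin n) ℂ) : MvPolynomial (Fin n) ℂ :=
  ∑ i, C (v i) * pderiv i g

/-- the one-variable polynomial `t ↦ g (x + t v)` -/
noncomputable def lineP (g : MvPolynomial (Fin n) ℂ) (x v : Fin n → ℂ) : Polynomial ℂ :=
  aeval (fun i => Polynomial.C (x i) + Polynomial.C (v i) * Polynomial.X) g

theorem eval_dd (v x : Fin n → ℂ) (g : MvPolynomial (Fin n) ℂ) :
    eval x (dd v g) = ∑ i, v i * eval x (pderiv i g) := by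
  simp [dd]

theorem dd_add_left (v w : Fin n → ℂ) (g : MvPolynomial (Fin n) ℂ) :
    dd (v + w) g = dd v g + dd w g := by
  simp [dd, add_mul, Finset.sum_add_distrib]

theorem dd_smul_left (a : ℂ) (v : Fin n → ℂ) (g : MvPolynomial (Fin n) ℂ) :
    dd (a • v) g = C a * dd v g := by
  simp [dd, Finset.mul_sum, mul_assoc]

theorem eval_dd_add (v w x : Fin n → ℂ) (g : MvPolynomial (Fin n) ℂ) :
    eval x (dd (v + w) g) = eval x (dd v g) + eval x (dd w g) := by
  rw [dd_add_left, map_add]

theorem eval_dd_smul (a : ℂ) (v x : Fin n → ℂ) (g : MvPolynomial (Fin n) ℂ) :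
    eval x (dd (a • v) g) = a * eval x (dd v g) := by
  rw [dd_smul_left, map_mul, eval_C]

theorem eval_dd_sub (v w x : Fin n → ℂ) (g : MvPolynomial (Fin n) ℂ) :
    eval x (dd (v - w) g) = eval x (dd v g) - eval x (dd w g) := by
  rw [sub_eq_add_neg, eval_dd_add, show -w = (-1 : ℂ) • w by simp, eval_dd_smul]
  ring

theorem eval_dd_zero (x : Fin n → ℂ) (g : MvPolynomial (Fin n) ℂ) :
    eval x (dd 0 g) = 0 := by
  simp [dd]

theorem dd_single (i : Fin n) (g : MvPolynomial (Fin n) ℂ) :
    dd (Pi.single i 1) g = pderiv i g := by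
  rw [dd, Finset.sum_eq_single i]
  · simp
  · intro j _ hj
    simp [Pi.single_eq_of_ne hj]
  · intro h
    exact absurd (Finset.mem_univ i) h

theorem dd_isHomogeneous {g : MvPolynomial (Fin n) ℂ} {d : ℕ} (hg : g.IsHomogeneous d)
    (v : Fin n → ℂ) : (dd v g).IsHomogeneous (d - 1) := by
  apply IsHomogeneous.sum
  intro i _
  have := (isHomogeneous_C (Fin n) (v i)).mul (hg.pderiv (i := i))
  simpa using this

theorem eval_lineP (g : MvPolynomial (Fin n) ℂ) (x v : Fin n → ℂ) (s : ℂ) :
    Polynomial.eval s (lineP g x v) = eval (x + s • v) g := by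
  rw [lineP]
  induction g using MvPolynomial.induction_on with
  | C a => simp
  | add p q hp hq => simp [hp, hq]
  | mul_X p i hp =>
    rw [map_mul, Polynomial.eval_mul, hp, map_mul, aeval_X, eval_X]
    congr 1
    simp only [Polynomial.eval_add, Polynomial.eval_C, Polynomial.eval_mul, Polynomial.eval_X,
      Pi.add_apply, Pi.smul_apply, smul_eq_mul]
    ring

theorem derivative_lineP (g : MvPolynomial (Fin n) ℂ) (x v : Fin n → ℂ) :
    Polynomial.derivative (lineP g x v) = lineP (dd v g) x v := by
  have key : Polynomial.derivative (lineP g x v) =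
      ∑ j, Polynomial.C (v j) * lineP (pderiv j g) x v := by
    simp only [lineP]
    generalize hA : (aeval (fun i => Polynomial.C (x i) + Polynomial.C (v i) * Polynomial.X) :
      MvPolynomial (Fin n) ℂ →ₐ[ℂ] Polynomial ℂ) = A
    have hAX : ∀ i, A (X i) = Polynomial.C (x i) + Polynomial.C (v i) * Polynomial.X := by
      intro i
      rw [← hA, aeval_X]
    have hAC : ∀ a, A (C a) = Polynomial.C a := by
      intro a
      rw [← hA, aeval_C]
      rfl
    induction g using MvPolynomial.induction_on with
    | C a => simp [hAC]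
    | add p q hp hq =>
      simp only [map_add, mul_add, Finset.sum_add_distrib]
      rw [hp, hq]
    | mul_X p i hp =>
      have h1 : ∀ j, pderiv j (p * X i) = pderiv j p * X i + p * (if j = i then 1 else 0) := by
        intro j
        rw [Derivation.leibniz, pderiv_X, smul_eq_mul, smul_eq_mul, Pi.single_apply]
        by_cases h : j = i
        · subst h; simp; ring
        · rw [if_neg h, if_neg (fun h' => h h'.symm)]; ring
      have h2 : ∀ j, Polynomial.C (v j) * A (pderiv j (p * X i)) =
          Polynomial.C (v j) * A (pderiv j p) * A (X i) +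
            (if j = i then Polynomial.C (v j) * A p else 0) := by
        intro j
        rw [h1, map_add, map_mul, map_mul]
        by_cases h : j = i
        · rw [if_pos h, if_pos h, map_one]; ring
        · rw [if_neg h, if_neg h, map_zero]; ring
      rw [map_mul, Polynomial.derivative_mul, hp, Finset.sum_congr rfl (fun j _ => h2 j),
        Finset.sum_add_distrib, Finset.sum_mul, Finset.sum_ite_eq' Finset.univ i,
        if_pos (Finset.mem_univ i), hAX]
      congr 1
      simp
      ring
  rw [key]
  simp only [lineP, dd, map_sum, map_mul, aeval_C]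
  rfl

theorem eval_smul_of_isHomogeneous {g : MvPolynomial (Fin n) ℂ} {d : ℕ} (hg : g.IsHomogeneous d)
    (s : ℂ) (y : Fin n → ℂ) : eval (s • y) g = s ^ d * eval y g := by
  rw [eval_eq', eval_eq', Finset.mul_sum]
  apply Finset.sum_congr rfl
  intro α hα
  have hd : ∑ i, α i = d := by
    have h1 : Finsupp.weight (1 : Fin n → ℕ) α = d := hg (mem_support_iff.1 hα)
    have h2 : Finsupp.degree α = Finsupp.weight (fun _ : Fin n => 1) α := by
      rw [Finsupp.degree_eq_weight_one]
    rw [← Finsupp.degree_eq_sum, h2]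
    exact h1
  simp only [Pi.smul_apply, smul_eq_mul, mul_pow, Finset.prod_mul_distrib,
    Finset.prod_pow_eq_pow_sum, hd]
  ring

theorem eval_reflect (Q : Polynomial ℂ) (d : ℕ) (hQ : Q.natDegree ≤ d) (s : ℂ) (hs : s ≠ 0) :
    Polynomial.eval s (Polynomial.reflect d Q) = s ^ d * Polynomial.eval s⁻¹ Q := by
  have : Invertible s⁻¹ := invertibleOfNonzero (inv_ne_zero hs)
  have h := Polynomial.eval₂_reflect_mul_pow (RingHom.id ℂ) s⁻¹ d Q hQ
  rw [invOf_eq_inv, inv_inv] at h
  simp only [Polynomial.eval₂_id] at h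
  rw [← h, inv_pow]
  field_simp

theorem natDegree_lineP_le {g : MvPolynomial (Fin n) ℂ} {d : ℕ} (hg : g.IsHomogeneous d)
    (x v : Fin n → ℂ) : (lineP g x v).natDegree ≤ d := by
  have := MvPolynomial.aeval_natDegree_le (m := d) (n := 1) g hg.totalDegree_le
    (fun i => Polynomial.C (x i) + Polynomial.C (v i) * Polynomial.X) (fun i => by
      refine (Polynomial.natDegree_add_le _ _).trans ?_
      rw [Polynomial.natDegree_C]
      refine max_le (Nat.zero_le _) ?_
      exact (Polynomial.natDegree_C_mul_le _ _).trans Polynomial.natDegree_X_le)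
  simpa [lineP] using this

theorem lineP_eq_reflect {g : MvPolynomial (Fin n) ℂ} {d : ℕ} (hg : g.IsHomogeneous d)
    (x v : Fin n → ℂ) : lineP g x v = Polynomial.reflect d (lineP g v x) := by
  apply Polynomial.eq_of_infinite_eval_eq
  apply Set.Infinite.mono (s := {s : ℂ | s ≠ 0})
  · intro s hs
    have hs' : s ≠ 0 := hs
    show Polynomial.eval s _ = Polynomial.eval s _
    rw [eval_reflect _ d (natDegree_lineP_le hg v x) s hs', eval_lineP, eval_lineP,
      ← eval_smul_of_isHomogeneous hg]
    have e1 : x + s • v = s • (v + s⁻¹ • x) := by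
      rw [smul_add, smul_smul, mul_inv_cancel₀ hs', one_smul, add_comm]
    rw [e1]
  · exact (Set.finite_singleton (0 : ℂ)).infinite_compl

theorem coeff_zero_lineP (g : MvPolynomial (Fin n) ℂ) (x v : Fin n → ℂ) :
    (lineP g x v).coeff 0 = eval x g := by
  rw [Polynomial.coeff_zero_eq_eval_zero, eval_lineP, zero_smul, add_zero]

theorem coeff_one_lineP (g : MvPolynomial (Fin n) ℂ) (x v : Fin n → ℂ) :
    (lineP g x v).coeff 1 = eval x (dd v g) := by
  have h := Polynomial.coeff_derivative (lineP g x v) 0
  rw [derivative_lineP, coeff_zero_lineP] at h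
  rw [h]
  simp

theorem coeff_top_lineP {g : MvPolynomial (Fin n) ℂ} {d : ℕ} (hg : g.IsHomogeneous d)
    (x v : Fin n → ℂ) : (lineP g x v).coeff d = eval v g := by
  rw [lineP_eq_reflect hg, Polynomial.coeff_reflect, Polynomial.revAt_le le_rfl, Nat.sub_self,
    coeff_zero_lineP]

theorem coeff_pred_lineP {g : MvPolynomial (Fin n) ℂ} {d : ℕ} (hg : g.IsHomogeneous d) (hd : 1 ≤ d)
    (x v : Fin n → ℂ) : (lineP g x v).coeff (d - 1) = eval v (dd x g) := by
  rw [lineP_eq_reflect hg, Polynomial.coeff_reflect, Polynomial.revAt_le (Nat.sub_le _ _),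
    Nat.sub_sub_self hd, coeff_one_lineP]

/-- two-point expansion of a cubic form -/
theorem cubic_expand {g : MvPolynomial (Fin n) ℂ} (hg : g.IsHomogeneous 3) (x v : Fin n → ℂ) (s : ℂ) :
    eval (x + s • v) g =
      eval x g + s * eval x (dd v g) + s ^ 2 * eval v (dd x g) + s ^ 3 * eval v g := by
  rw [← eval_lineP, Polynomial.eval_eq_sum_range' (n := 4)
    (lt_of_le_of_lt (natDegree_lineP_le hg x v) (by norm_num))]
  simp only [Finset.sum_range_succ, Finset.sum_range_zero, zero_add]
  rw [coeff_zero_lineP, coeff_one_lineP, coeff_top_lineP hg,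
    show (2 : ℕ) = 3 - 1 by norm_num, coeff_pred_lineP hg (by norm_num)]
  ring

/-- expansion of a quadratic form -/
theorem quadric_expand {g : MvPolynomial (Fin n) ℂ} (hg : g.IsHomogeneous 2) (x v : Fin n → ℂ) (s : ℂ) :
    eval (x + s • v) g = eval x g + s * eval x (dd v g) + s ^ 2 * eval v g := by
  rw [← eval_lineP, Polynomial.eval_eq_sum_range' (n := 3)
    (lt_of_le_of_lt (natDegree_lineP_le hg x v) (by norm_num))]
  simp only [Finset.sum_range_succ, Finset.sum_range_zero, zero_add]
  rw [coeff_zero_lineP, coeff_one_lineP, coeff_top_lineP hg]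
  ring

theorem quadric_polar_symm {g : MvPolynomial (Fin n) ℂ} (hg : g.IsHomogeneous 2) (x v : Fin n → ℂ) :
    eval x (dd v g) = eval v (dd x g) := by
  rw [← coeff_one_lineP, show (1 : ℕ) = 2 - 1 by norm_num, coeff_pred_lineP hg (by norm_num)]

/-- expansion of a linear form -/
theorem linear_expand {g : MvPolynomial (Fin n) ℂ} (hg : g.IsHomogeneous 1) (x v : Fin n → ℂ) (s : ℂ) :
    eval (x + s • v) g = eval x g + s * eval v g := by
  rw [← eval_lineP, Polynomial.eval_eq_sum_range' (n := 2)
    (lt_of_le_of_lt (natDegree_lineP_le hg x v) (by norm_num))]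
  simp only [Finset.sum_range_succ, Finset.sum_range_zero, zero_add]
  rw [coeff_zero_lineP, coeff_top_lineP hg]
  ring

/-- Euler's identity at a point -/
theorem euler_eval {g : MvPolynomial (Fin n) ℂ} {d : ℕ} (hg : g.IsHomogeneous d) (v : Fin n → ℂ) :
    eval v (dd v g) = d * eval v g := by
  have h := congrArg (eval v) hg.sum_X_mul_pderiv
  rw [eval_dd]
  simpa using h

/-- if all directional derivatives vanish at `v`, all partial derivatives do -/
theorem pderiv_eq_zero_of_dd {g : MvPolynomial (Fin n) ℂ} {v : Fin n → ℂ}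
    (h : ∀ w : Fin n → ℂ, eval v (dd w g) = 0) (i : Fin n) : eval v (pderiv i g) = 0 := by
  rw [← dd_single]
  exact h _

end Groth.Agent.Lib.Helper92.Cubic
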