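import Mathlib
import Groth.Agent.Lib.Helper92.CubicForm

/-!
# Smooth cubic surfaces: reflections and Eckardt points (helper92)
-/

set_option autoImplicit false
set_option linter.unusedSectionVars false

namespace Groth.Agent.Lib.Helper92.Cubic

open MvPolynomial

section surface

variable {f : MvPolynomial (Fin 4) ℂ}

/-- the directional derivative through values of the cubic -/
theorem dd_eq_values (hf : f.IsHomogeneous 3) (v y : Fin 4 → ℂ) :
    eval v (dd y f) = (eval (v + y) f - eval (v - y) f) / 2 - eval y f := by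
  have h1 := cubic_expand hf v y 1
  have h2 := cubic_expand hf v y (-1)
  simp only [one_smul, neg_smul, one_pow, one_mul] at h1 h2
  rw [← sub_eq_add_neg] at h2
  rw [h1, h2]
  ring

theorem not_singular
    (hsm : ∀ v : Fin 4 → ℂ, v ≠ 0 → eval v f = 0 → ∃ i : Fin 4, eval v (pderiv i f) ≠ 0)
    {v : Fin 4 → ℂ} (hv : v ≠ 0) (hFv : eval v f = 0) (h : ∀ w, eval v (dd w f) = 0) : False := by
  obtain ⟨i, hi⟩ := hsm v hv hFv
  exact hi (pderiv_eq_zero_of_dd h i)

/-- decomposition with respect to a reflection -/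
theorem reflection_decomp (σ : (Fin 4 → ℂ) →ₗ[ℂ] (Fin 4 → ℂ)) (p : Fin 4 → ℂ) (hp : p ≠ 0)
    (hσp : σ p = -p)
    (hH : Module.finrank ℂ ↥(LinearMap.ker (σ - LinearMap.id)) = 3) (v : Fin 4 → ℂ) :
    ∃ (h : Fin 4 → ℂ) (t : ℂ), σ h = h ∧ v = h + t • p := by
  set g : (Fin 4 → ℂ) →ₗ[ℂ] (Fin 4 → ℂ) := σ - LinearMap.id with hg
  have hrk : Module.finrank ℂ ↥(LinearMap.range g) = 1 := by
    have := LinearMap.finrank_range_add_finrank_ker g
    rw [hH, Module.finrank_fin_fun] at this
    omega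
  have hgp : g p = (-2 : ℂ) • p := by
    rw [hg, LinearMap.sub_apply, hσp, LinearMap.id_apply]
    ext i
    simp
    ring
  have hgp0 : g p ≠ 0 := by
    rw [hgp]
    exact smul_ne_zero (by norm_num) hp
  have h1 := (finrank_eq_one_iff_of_nonzero' (⟨g p, LinearMap.mem_range_self g p⟩ : LinearMap.range g)
    (by
      intro h
      exact hgp0 (congrArg Subtype.val h))).1 hrk
  obtain ⟨c, hc⟩ := h1 ⟨g v, LinearMap.mem_range_self g v⟩
  have hc' : c • g p = g v := congrArg Subtype.val hc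
  have hσv : σ v = v + g v := by
    rw [hg, LinearMap.sub_apply, LinearMap.id_apply]
    abel
  refine ⟨v - c • p, c, ?_, ?_⟩
  · rw [map_sub, map_smul, hσp, hσv, ← hc', hgp]
    ext i
    simp
    ring
  · ext i
    simp

/-- evaluating a linear substitution -/
theorem eval_aeval_linear (A : Matrix (Fin 4) (Fin 4) ℂ) (v : Fin 4 → ℂ)
    (g : MvPolynomial (Fin 4) ℂ) :
    eval v (aeval (fun i : Fin 4 => ∑ j : Fin 4, C (A i j) * X j) g) =
      eval (Matrix.toLin' A v) g := by
  have h := eval₂Hom_bind₁ (RingHom.id ℂ) v (fun i : Fin 4 => ∑ j : Fin 4, C (A i j) * X j) g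
  have h2 : (fun i => eval₂Hom (RingHom.id ℂ) v (∑ j : Fin 4, C (A i j) * X j)) =
      Matrix.toLin' A v := by
    funext i
    rw [Matrix.toLin'_apply, Matrix.mulVec, dotProduct, map_sum]
    apply Finset.sum_congr rfl
    intro j _
    rw [map_mul]
    simp
  rw [h2] at h
  exact h

end surface

section reflection

variable {f : MvPolynomial (Fin 4) ℂ} (hf : f.IsHomogeneous 3)
  (hsm : ∀ v : Fin 4 → ℂ, v ≠ 0 → eval v f = 0 → ∃ i : Fin 4, eval v (pderiv i f) ≠ 0)
  (σ : (Fin 4 → ℂ) →ₗ[ℂ] (Fin 4 → ℂ)) (p : Fin 4 → ℂ) (hp : p ≠ 0) (hFp : eval p f = 0)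
  (hσp : σ p = -p)
  (hH : Module.finrank ℂ ↥(LinearMap.ker (σ - LinearMap.id)) = 3)
  (c : ℂ) (hc : ∀ v, eval (σ v) f = c * eval v f)

include hf hFp in
/-- expansion along the line through a fixed vector in the direction of the centre -/
theorem refl_expand (h : Fin 4 → ℂ) (t : ℂ) :
    eval (h + t • p) f = eval h f + t * eval h (dd p f) + t ^ 2 * eval p (dd h f) := by
  rw [cubic_expand hf h p t, hFp]
  ring

include hf hFp hσp hc in
theorem refl_coeffs (h : Fin 4 → ℂ) (hh : σ h = h) :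
    (1 - c) * eval h f = 0 ∧ (1 + c) * eval h (dd p f) = 0 ∧ (1 - c) * eval p (dd h f) = 0 := by
  have key : ∀ t : ℂ, eval (h + (-t) • p) f = c * eval (h + t • p) f := by
    intro t
    rw [← hc, map_add, map_smul, hh, hσp, smul_neg, neg_smul]
  have k0 := key 0
  have k1 := key 1
  have k2 := key (-1)
  rw [refl_expand hf p hFp, refl_expand hf p hFp] at k0 k1 k2
  refine ⟨?_, ?_, ?_⟩
  · linear_combination k0
  · linear_combination (1 / 2 : ℂ) * k2 - (1 / 2 : ℂ) * k1
  · linear_combination (1 / 2 : ℂ) * k1 + (1 / 2 : ℂ) * k2 - k0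

include hH in
/-- two independent fixed vectors -/
theorem exists_pair_fixed :
    ∃ h₁ h₂ : Fin 4 → ℂ, σ h₁ = h₁ ∧ σ h₂ = h₂ ∧
      ∀ s t : ℂ, s • h₁ + t • h₂ = 0 → s = 0 ∧ t = 0 := by
  have hpos : 0 < Module.finrank ℂ ↥(LinearMap.ker (σ - LinearMap.id)) := by omega
  obtain ⟨x, hx⟩ := Module.finrank_pos_iff_exists_ne_zero.1 hpos
  obtain ⟨y, hxy⟩ := exists_linearIndependent_pair_of_one_lt_finrank
    (show 1 < Module.finrank ℂ ↥(LinearMap.ker (σ - LinearMap.id)) by omega) hx
  have hfix : ∀ z : ↥(LinearMap.ker (σ - LinearMap.id)), σ z.1 = z.1 := by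
    intro z
    have := LinearMap.mem_ker.1 z.2
    rw [LinearMap.sub_apply, LinearMap.id_apply, sub_eq_zero] at this
    exact this
  refine ⟨x.1, y.1, hfix x, hfix y, ?_⟩
  intro s t hst
  apply LinearIndependent.pair_iff.1 hxy s t
  apply Subtype.ext
  simpa using hst

include hf hsm hp hFp hσp hH hc in
/-- the multiplier of a reflection preserving a smooth cubic surface is `1` -/
theorem refl_multiplier : c = 1 := by
  by_contra hc1
  have hc1' : (1 - c) ≠ 0 := sub_ne_zero.2 (Ne.symm hc1)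
  have hF0 : ∀ h, σ h = h → eval h f = 0 := fun h hh =>
    (mul_eq_zero.1 (refl_coeffs hf σ p hFp hσp c hc h hh).1).resolve_left hc1'
  obtain ⟨h₁, h₂, hh₁, hh₂, hind⟩ := exists_pair_fixed σ hH
  -- a nontrivial zero of the quadric `a`
  have hg2 : (dd p f).IsHomogeneous 2 := dd_isHomogeneous hf p
  obtain ⟨h, hh, hh0, hah⟩ : ∃ h, σ h = h ∧ h ≠ 0 ∧ eval h (dd p f) = 0 := by
    by_cases ha2 : eval h₂ (dd p f) = 0
    · refine ⟨h₂, hh₂, ?_, ha2⟩
      intro h0
      have := (hind 0 1 (by rw [h0]; simp)).2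
      exact one_ne_zero this
    · obtain ⟨z, hz⟩ := IsAlgClosed.exists_pow_nat_eq
        (discrim (eval h₂ (dd p f)) (eval h₁ (dd h₂ (dd p f))) (eval h₁ (dd p f))) (n := 2) (by norm_num)
      obtain ⟨s, hs⟩ := exists_quadratic_eq_zero ha2 ⟨z, by rw [← hz]; ring⟩
      refine ⟨h₁ + s • h₂, by rw [map_add, map_smul, hh₁, hh₂], ?_, ?_⟩
      · intro h0
        have := (hind 1 s (by rw [one_smul]; exact h0)).1
        exact one_ne_zero this
      · rw [quadric_expand hg2]
        linear_combination hs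
  apply not_singular hsm hh0 (hF0 h hh)
  intro w
  obtain ⟨h', t, hh', rfl⟩ := reflection_decomp σ p hp hσp hH w
  rw [eval_dd_add, eval_dd_smul, hah, mul_zero, add_zero, dd_eq_values hf,
    hF0 _ (by rw [map_add, hh, hh']), hF0 _ (by rw [map_sub, hh, hh']), hF0 _ hh']
  ring

end reflection

section reflection1

variable {f : MvPolynomial (Fin 4) ℂ} (hf : f.IsHomogeneous 3)
  (hsm : ∀ v : Fin 4 → ℂ, v ≠ 0 → eval v f = 0 → ∃ i : Fin 4, eval v (pderiv i f) ≠ 0)
  (σ : (Fin 4 → ℂ) →ₗ[ℂ] (Fin 4 → ℂ)) (p : Fin 4 → ℂ) (hp : p ≠ 0) (hFp : eval p f = 0)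
  (hσp : σ p = -p)
  (hH : Module.finrank ℂ ↥(LinearMap.ker (σ - LinearMap.id)) = 3)
  (hc : ∀ v, eval (σ v) f = eval v f)

include hf hFp hσp hc in
theorem refl1_a_zero (h : Fin 4 → ℂ) (hh : σ h = h) : eval h (dd p f) = 0 := by
  have := (refl_coeffs hf σ p hFp hσp 1 (fun v => by rw [hc, one_mul]) h hh).2.1
  have h2 : (1 + 1 : ℂ) ≠ 0 := by norm_num
  exact (mul_eq_zero.1 this).resolve_left h2

include hf hFp hσp hc in
theorem refl1_expand (h : Fin 4 → ℂ) (hh : σ h = h) (t : ℂ) :
    eval (h + t • p) f = eval h f + t ^ 2 * eval p (dd h f) := by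
  rw [refl_expand hf p hFp, refl1_a_zero hf σ p hFp hσp hc h hh]
  ring

include hf hsm hp hFp hσp hH hc in
theorem refl1_exists_n : ∃ n : Fin 4 → ℂ, σ n = n ∧ eval p (dd n f) = 1 := by
  by_contra hcon
  push Not at hcon
  have hl0 : ∀ h, σ h = h → eval p (dd h f) = 0 := by
    intro h hh
    by_contra hne
    apply hcon ((eval p (dd h f))⁻¹ • h) (by rw [map_smul, hh])
    rw [eval_dd_smul, inv_mul_cancel₀ hne]
  apply not_singular hsm hp hFp
  intro w
  obtain ⟨h', t, hh', rfl⟩ := reflection_decomp σ p hp hσp hH w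
  rw [eval_dd_add, eval_dd_smul, hl0 h' hh', euler_eval hf, hFp]
  ring

include hf hFp hσp hc in
theorem refl1_dd_fixed (h y : Fin 4 → ℂ) (hh : σ h = h) (hy : σ y = y) (t : ℂ) :
    eval (h + t • p) (dd y f) = eval h (dd y f) + t ^ 2 * eval p (dd y f) := by
  have e1 : h + t • p + y = (h + y) + t • p := by abel
  have e2 : h + t • p - y = (h - y) + t • p := by abel
  rw [dd_eq_values hf, e1, e2, refl1_expand hf σ p hFp hσp hc (h + y) (by rw [map_add, hh, hy]),
    refl1_expand hf σ p hFp hσp hc (h - y) (by rw [map_sub, hh, hy]), eval_dd_add, eval_dd_sub,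
    dd_eq_values hf h y]
  ring

include hf hFp hσp hc in
theorem refl1_dd_p (h : Fin 4 → ℂ) (hh : σ h = h) (t : ℂ) :
    eval (h + t • p) (dd p f) = 2 * t * eval p (dd h f) := by
  have e1 : h + t • p + p = h + (t + 1) • p := by rw [add_smul, one_smul]; abel
  have e2 : h + t • p - p = h + (t - 1) • p := by rw [sub_smul, one_smul]; abel
  rw [dd_eq_values hf, e1, e2, refl1_expand hf σ p hFp hσp hc h hh,
    refl1_expand hf σ p hFp hσp hc h hh, hFp]
  ring

include hf hsm hp hFp hσp hH hc in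
/-- no double zero of the cubic on the plane `W = {h fixed, λ h = 0}` -/
theorem refl1_no_double_zero (h : Fin 4 → ℂ) (hh : σ h = h) (hlh : eval p (dd h f) = 0)
    (hh0 : h ≠ 0) (hFh : eval h f = 0)
    (hD : ∀ w, σ w = w → eval p (dd w f) = 0 → eval h (dd w f) = 0) : False := by
  obtain ⟨n, hn, hln⟩ := refl1_exists_n hf hsm σ p hp hFp hσp hH hc
  obtain ⟨t, ht⟩ := IsAlgClosed.exists_pow_nat_eq (-(eval h (dd n f))) (n := 2) (by norm_num)
  have hv0 : h + t • p ≠ 0 := by
    intro h0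
    have h1 := congrArg σ h0
    rw [map_add, map_smul, hh, hσp, map_zero, smul_neg] at h1
    have : (2 : ℂ) • h = 0 := by
      rw [two_smul]
      have := congrArg₂ (· + ·) h0 h1
      simp only [add_zero] at this
      rw [← this]
      abel
    exact hh0 ((smul_eq_zero.1 this).resolve_left (by norm_num))
  apply not_singular hsm hv0
  · rw [refl1_expand hf σ p hFp hσp hc h hh, hFh, hlh]
    ring
  · intro u
    obtain ⟨u', s, hu', rfl⟩ := reflection_decomp σ p hp hσp hH u
    have hw : u' = (u' - eval p (dd u' f) • n) + eval p (dd u' f) • n := by abel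
    rw [eval_dd_add, eval_dd_smul, refl1_dd_p hf σ p hFp hσp hc h hh, hlh, hw, eval_dd_add,
      eval_dd_smul, refl1_dd_fixed hf σ p hFp hσp hc h _ hh (by rw [map_sub, map_smul, hu', hn]),
      refl1_dd_fixed hf σ p hFp hσp hc h n hh hn, hln,
      hD _ (by rw [map_sub, map_smul, hu', hn]) (by rw [eval_dd_sub, eval_dd_smul, hln]; ring)]
    have e3 : eval p (dd (u' - eval p (dd u' f) • n) f) = 0 := by
      rw [eval_dd_sub, eval_dd_smul, hln]
      ring
    rw [e3]
    linear_combination (eval p (dd u' f)) * ht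

include hf hsm hp hFp hσp hH hc in
/-- a basis `w₁, w₂` of the plane `W = {h fixed, λ h = 0}` with `F w₂ ≠ 0` -/
theorem refl1_exists_W_basis :
    ∃ w₁ w₂ : Fin 4 → ℂ, σ w₁ = w₁ ∧ σ w₂ = w₂ ∧ eval p (dd w₁ f) = 0 ∧ eval p (dd w₂ f) = 0 ∧
      eval w₂ f ≠ 0 ∧ (∀ a b : ℂ, a • w₁ + b • w₂ = 0 → a = 0 ∧ b = 0) ∧
      ∀ w, σ w = w → eval p (dd w f) = 0 → ∃ a b : ℂ, w = a • w₁ + b • w₂ := by
  obtain ⟨n, hn, hln⟩ := refl1_exists_n hf hsm σ p hp hFp hσp hH hc
  -- the functional λ
  let Λ : (Fin 4 → ℂ) →ₗ[ℂ] ℂ :=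
    { toFun := fun y => eval p (dd y f)
      map_add' := fun y z => eval_dd_add y z p f
      map_smul' := fun a y => by
        rw [eval_dd_smul]
        rfl }
  let ΛH : ↥(LinearMap.ker (σ - LinearMap.id)) →ₗ[ℂ] ℂ := Λ.comp (Submodule.subtype _)
  have hfixmem : ∀ y, σ y = y → y ∈ LinearMap.ker (σ - LinearMap.id) := by
    intro y hy
    rw [LinearMap.mem_ker, LinearMap.sub_apply, LinearMap.id_apply, hy, sub_self]
  have hfix : ∀ z : ↥(LinearMap.ker (σ - LinearMap.id)), σ z.1 = z.1 := by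
    intro z
    have := LinearMap.mem_ker.1 z.2
    rw [LinearMap.sub_apply, LinearMap.id_apply, sub_eq_zero] at this
    exact this
  have hsurj : Function.Surjective ΛH := by
    intro a
    refine ⟨a • ⟨n, hfixmem n hn⟩, ?_⟩
    rw [map_smul]
    show a • eval p (dd n f) = a
    rw [hln, smul_eq_mul, mul_one]
  have hrk : Module.finrank ℂ ↥(LinearMap.ker ΛH) = 2 := by
    have h1 := LinearMap.finrank_range_add_finrank_ker ΛH
    rw [LinearMap.range_eq_top.2 hsurj, finrank_top, Module.finrank_self, hH] at h1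
    omega
  have hF00 : eval (0 : Fin 4 → ℂ) f = 0 := by
    have := eval_smul_of_isHomogeneous hf 0 (0 : Fin 4 → ℂ)
    rw [zero_smul] at this
    rw [this]
    ring
  -- a vector with F ≠ 0
  obtain ⟨w₂, hw₂, hlw₂, hFw₂⟩ : ∃ w₂, σ w₂ = w₂ ∧ eval p (dd w₂ f) = 0 ∧ eval w₂ f ≠ 0 := by
    by_contra hcon
    push Not at hcon
    have hpos : 0 < Module.finrank ℂ ↥(LinearMap.ker ΛH) := by omega
    obtain ⟨x, hx⟩ := (Module.finrank_pos_iff_exists_ne_zero (R := ℂ)
      (M := ↥(LinearMap.ker ΛH))).1 hpos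
    have hx1 : σ x.1.1 = x.1.1 := hfix x.1
    have hx2 : eval p (dd x.1.1 f) = 0 := LinearMap.mem_ker.1 x.2
    apply refl1_no_double_zero hf hsm σ p hp hFp hσp hH hc x.1.1 hx1 hx2
    · intro h0
      apply hx
      apply Subtype.ext
      apply Subtype.ext
      exact h0
    · exact hcon _ hx1 hx2
    · intro w hw hlw
      rw [dd_eq_values hf, hcon _ (by rw [map_add, hx1, hw]) (by rw [eval_dd_add, hx2, hlw, add_zero]),
        hcon _ (by rw [map_sub, hx1, hw]) (by rw [eval_dd_sub, hx2, hlw, sub_zero]), hcon _ hw hlw]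
      ring
  have hw₂0 : w₂ ≠ 0 := by
    intro h0
    rw [h0] at hFw₂
    exact hFw₂ hF00
  let x : ↥(LinearMap.ker ΛH) := ⟨⟨w₂, hfixmem w₂ hw₂⟩, LinearMap.mem_ker.2 hlw₂⟩
  have hx0 : x ≠ 0 := by
    intro h0
    apply hw₂0
    exact congrArg (fun z : ↥(LinearMap.ker ΛH) => z.1.1) h0
  obtain ⟨y, hxy⟩ := exists_linearIndependent_pair_of_one_lt_finrank (R := ℂ)
    (M := ↥(LinearMap.ker ΛH))
    (show 1 < Module.finrank ℂ ↥(LinearMap.ker ΛH) by omega) hx0
  have hcard : Fintype.card (Fin 2) = Module.finrank ℂ ↥(LinearMap.ker ΛH) := by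
    rw [hrk]
    rfl
  let B := basisOfLinearIndependentOfCardEqFinrank hxy hcard
  have hB : ∀ i, B i = ![x, y] i := by
    intro i
    rw [coe_basisOfLinearIndependentOfCardEqFinrank]
  refine ⟨y.1.1, w₂, hfix y.1, hw₂, LinearMap.mem_ker.1 y.2, hlw₂, hFw₂, ?_, ?_⟩
  · intro a b hab
    have := LinearIndependent.pair_iff.1 hxy b a (by
      apply Subtype.ext
      apply Subtype.ext
      show b • w₂ + a • y.1.1 = 0
      rw [add_comm]
      exact hab)
    exact ⟨this.2, this.1⟩
  · intro w hw hlw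
    let z : ↥(LinearMap.ker ΛH) := ⟨⟨w, hfixmem w hw⟩, LinearMap.mem_ker.2 hlw⟩
    have := B.sum_repr z
    rw [Fin.sum_univ_two, hB, hB] at this
    refine ⟨B.repr z 1, B.repr z 0, ?_⟩
    have h2 := congrArg (fun z : ↥(LinearMap.ker ΛH) => z.1.1) this
    simp only [Matrix.cons_val_zero, Matrix.cons_val_one] at h2
    rw [add_comm]
    exact h2.symm

include hf hFp hσp hc in
/-- the cubic vanishes on the plane spanned by the centre and a fixed zero with `λ = 0` -/
theorem refl1_line (h : Fin 4 → ℂ) (hh : σ h = h) (hlh : eval p (dd h f) = 0)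
    (hFh : eval h f = 0) (a b : ℂ) : eval (a • h + b • p) f = 0 := by
  rw [refl1_expand hf σ p hFp hσp hc (a • h) (by rw [map_smul, hh]) b,
    eval_smul_of_isHomogeneous hf, hFh, eval_dd_smul, hlh]
  ring

include hf hsm hp hFp hσp hH hc in
/-- the centre of a reflection preserving a smooth cubic surface is an Eckardt point -/
theorem refl1_eckardt :
    ∃ U : Fin 3 → Submodule ℂ (Fin 4 → ℂ), Function.Injective U ∧
        ∀ i : Fin 3, Module.finrank ℂ ↥(U i) = 2 ∧ p ∈ U i ∧ ∀ u ∈ U i, eval u f = 0 := by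
  obtain ⟨w₁, w₂, hw₁, hw₂, hl₁, hl₂, hFw₂, hind, hspan⟩ :=
    refl1_exists_W_basis hf hsm σ p hp hFp hσp hH hc
  set G : Polynomial ℂ := lineP f w₁ w₂ with hG
  have hGdeg : G.natDegree = 3 := by
    apply le_antisymm (natDegree_lineP_le hf w₁ w₂)
    apply Polynomial.le_natDegree_of_ne_zero
    show (lineP f w₁ w₂).coeff 3 ≠ 0
    rw [coeff_top_lineP hf]
    exact hFw₂
  have hG0 : G ≠ 0 := by
    intro h0
    rw [h0] at hGdeg
    simp at hGdeg
  -- the vectors `w₁ + s w₂`
  have hfixs : ∀ s : ℂ, σ (w₁ + s • w₂) = w₁ + s • w₂ := by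
    intro s
    rw [map_add, map_smul, hw₁, hw₂]
  have hls : ∀ s : ℂ, eval p (dd (w₁ + s • w₂) f) = 0 := by
    intro s
    rw [eval_dd_add, eval_dd_smul, hl₁, hl₂]
    ring
  have hne : ∀ s : ℂ, w₁ + s • w₂ ≠ 0 := by
    intro s h0
    have := (hind 1 s (by rw [one_smul]; exact h0)).1
    exact one_ne_zero this
  have hnodup : G.roots.Nodup := by
    rw [Multiset.nodup_iff_count_le_one]
    intro s₀
    rw [Polynomial.count_roots]
    by_contra hcon
    push Not at hcon
    obtain ⟨hr1, hr2⟩ := (Polynomial.one_lt_rootMultiplicity_iff_isRoot hG0).1 hcon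
    rw [Polynomial.IsRoot.def, hG, eval_lineP] at hr1
    rw [Polynomial.IsRoot.def, hG, derivative_lineP, eval_lineP] at hr2
    have he := euler_eval hf (w₁ + s₀ • w₂)
    rw [hr1, mul_zero] at he
    have hd1 : eval (w₁ + s₀ • w₂) (dd w₁ f) = 0 := by
      have : w₁ = (w₁ + s₀ • w₂) - s₀ • w₂ := by abel
      rw [this, eval_dd_sub, eval_dd_smul, ← this, he, hr2]
      ring
    apply refl1_no_double_zero hf hsm σ p hp hFp hσp hH hc (w₁ + s₀ • w₂) (hfixs s₀) (hls s₀)
      (hne s₀) hr1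
    intro w hw hlw
    obtain ⟨a, b, rfl⟩ := hspan w hw hlw
    rw [eval_dd_add, eval_dd_smul, eval_dd_smul, hd1, hr2]
    ring
  have hcard : G.roots.card = 3 := by
    rw [← hGdeg]
    exact Polynomial.splits_iff_card_roots.1 (IsAlgClosed.splits G)
  obtain ⟨x, y, z, hxyz⟩ := Multiset.card_eq_three.1 hcard
  rw [hxyz] at hnodup
  have hxy : x ≠ y := by
    intro h
    rw [h] at hnodup
    simp at hnodup
  have hxz : x ≠ z := by
    intro h
    rw [h] at hnodup
    simp at hnodup
  have hyz : y ≠ z := by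
    intro h
    rw [h] at hnodup
    simp at hnodup
  have hroot : ∀ s ∈ ({x, y, z} : Multiset ℂ), eval (w₁ + s • w₂) f = 0 := by
    intro s hs
    rw [← hxyz, Polynomial.mem_roots hG0, Polynomial.IsRoot.def, hG, eval_lineP] at hs
    exact hs
  obtain ⟨r, hr0, hr1, hr2⟩ : ∃ r : Fin 3 → ℂ, r 0 = x ∧ r 1 = y ∧ r 2 = z :=
    ⟨![x, y, z], rfl, rfl, rfl⟩
  have hrinj : Function.Injective r := by
    intro i j hij
    fin_cases i <;> fin_cases j
    · rfl
    · exact absurd (hr0.symm.trans (hij.trans hr1)) hxy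
    · exact absurd (hr0.symm.trans (hij.trans hr2)) hxz
    · exact absurd (hr0.symm.trans (hij.symm.trans hr1)) hxy
    · rfl
    · exact absurd (hr1.symm.trans (hij.trans hr2)) hyz
    · exact absurd (hr0.symm.trans (hij.symm.trans hr2)) hxz
    · exact absurd (hr1.symm.trans (hij.symm.trans hr2)) hyz
    · rfl
  have hrroot : ∀ i, eval (w₁ + r i • w₂) f = 0 := by
    intro i
    apply hroot
    fin_cases i
    · show r 0 ∈ _
      rw [hr0]
      simp
    · show r 1 ∈ _
      rw [hr1]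
      simp
    · show r 2 ∈ _
      rw [hr2]
      simp
  refine ⟨fun i => Submodule.span ℂ {w₁ + r i • w₂, p}, ?_, ?_⟩
  · intro i j hij
    apply hrinj
    have hmem : w₁ + r i • w₂ ∈ Submodule.span ℂ {w₁ + r j • w₂, p} := by
      rw [← show Submodule.span ℂ {w₁ + r i • w₂, p} = Submodule.span ℂ {w₁ + r j • w₂, p} from hij]
      exact Submodule.subset_span (by simp)
    obtain ⟨a, b, hab⟩ := Submodule.mem_span_pair.1 hmem
    have hab' := congrArg σ hab
    rw [map_add, map_smul, map_smul, hfixs, hfixs, hσp] at hab'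
    have hb : b = 0 := by
      have h2 : (2 * b) • p = 0 := by
        have := congrArg₂ (· - ·) hab hab'
        simp only [sub_self] at this
        rw [← this, mul_smul, two_smul, smul_neg]
        abel
      have := (smul_eq_zero.1 h2).resolve_right hp
      have h2' : (2 : ℂ) ≠ 0 := by norm_num
      exact (mul_eq_zero.1 this).resolve_left h2'
    rw [hb, zero_smul, add_zero] at hab
    have h3 : (a - 1) • w₁ + (a * r j - r i) • w₂ = 0 := by
      rw [sub_smul, sub_smul, one_smul, mul_smul]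
      rw [smul_add] at hab
      have := sub_eq_zero.2 hab
      rw [← this]
      abel
    obtain ⟨ha, hb'⟩ := hind _ _ h3
    have ha1 : a = 1 := sub_eq_zero.1 ha
    rw [ha1, one_mul] at hb'
    exact (sub_eq_zero.1 hb').symm
  · intro i
    refine ⟨?_, Submodule.subset_span (by simp), ?_⟩
    · have hli : LinearIndependent ℂ ![w₁ + r i • w₂, p] := by
        rw [LinearIndependent.pair_iff]
        intro a b hab
        have hab' := congrArg σ hab
        rw [map_add, map_smul, map_smul, hfixs, hσp, map_zero] at hab'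
        have ha : a = 0 := by
          have h2 : (2 * a) • (w₁ + r i • w₂) = 0 := by
            have := congrArg₂ (· + ·) hab hab'
            simp only [add_zero] at this
            rw [← this, mul_smul, two_smul, smul_neg]
            abel
          have := (smul_eq_zero.1 h2).resolve_right (hne _)
          have h2' : (2 : ℂ) ≠ 0 := by norm_num
          exact (mul_eq_zero.1 this).resolve_left h2'
        rw [ha, zero_smul, zero_add] at hab
        exact ⟨ha, (smul_eq_zero.1 hab).resolve_right hp⟩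
      have := finrank_span_eq_card hli
      rw [Matrix.range_cons_cons_empty] at this
      rw [this]
      rfl
    · intro u hu
      obtain ⟨a, b, rfl⟩ := Submodule.mem_span_pair.1 hu
      exact refl1_line hf σ p hFp hσp hc _ (hfixs _) (hls _) (hrroot i) a b

end reflection1

end Groth.Agent.Lib.Helper92.Cubic
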