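import Mathlib
import Groth.Agent.Lib.Helper92.CubicSurface

/-!
# Eckardt points and their involutions on smooth cubic surfaces (helper92)
-/

set_option autoImplicit false
set_option linter.unusedSectionVars false

namespace Groth.Agent.Lib.Helper92.Cubic

open MvPolynomial

section general

variable {n : ℕ}

theorem pderiv_comm (i j : Fin n) (g : MvPolynomial (Fin n) ℂ) :
    pderiv i (pderiv j g) = pderiv j (pderiv i g) := by
  have h : ⁅(pderiv i : Derivation ℂ (MvPolynomial (Fin n) ℂ) (MvPolynomial (Fin n) ℂ)),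
      (pderiv j : Derivation ℂ (MvPolynomial (Fin n) ℂ) (MvPolynomial (Fin n) ℂ))⁆ = 0 := by
    refine MvPolynomial.derivation_ext (R := ℂ) (σ := Fin n) (A := MvPolynomial (Fin n) ℂ) ?_
    intro k
    rw [Derivation.commutator_apply, pderiv_X, pderiv_X]
    by_cases h1 : k = j
    · by_cases h2 : k = i
      · subst h1
        subst h2
        simp
      · subst h1
        simp [Pi.single_apply, h2, pderiv_one]
    · by_cases h2 : k = i
      · subst h2
        simp [Pi.single_apply, h1, pderiv_one]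
      · simp [Pi.single_apply, h1, h2]
  have h2 := congrArg (fun D : Derivation ℂ (MvPolynomial (Fin n) ℂ) (MvPolynomial (Fin n) ℂ) => D g) h
  simp only [Derivation.commutator_apply] at h2
  exact sub_eq_zero.1 h2

theorem dd_comm (v w : Fin n → ℂ) (g : MvPolynomial (Fin n) ℂ) :
    dd v (dd w g) = dd w (dd v g) := by
  simp only [dd, map_sum, Derivation.leibniz, pderiv_C, smul_eq_mul,
    Finset.mul_sum]
  rw [Finset.sum_comm]
  apply Finset.sum_congr rfl
  intro i _
  apply Finset.sum_congr rfl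
  intro j _
  rw [pderiv_comm]
  ring

/-- the mixed second derivative of a cubic is symmetric -/
theorem mixed_symm {g : MvPolynomial (Fin n) ℂ} (hg : g.IsHomogeneous 3) (x y z : Fin n → ℂ) :
    eval x (dd y (dd z g)) = eval z (dd y (dd x g)) := by
  rw [quadric_polar_symm (dd_isHomogeneous hg z) x y, dd_comm,
    ← quadric_polar_symm (dd_isHomogeneous hg x) z y]

end general

/-- the linear functional `y ↦ D_y g (e)` -/
noncomputable def lam {n : ℕ} (g : MvPolynomial (Fin n) ℂ) (e : Fin n → ℂ) :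
    (Fin n → ℂ) →ₗ[ℂ] ℂ where
  toFun y := eval e (dd y g)
  map_add' y z := eval_dd_add y z e g
  map_smul' a y := by
    rw [eval_dd_smul]
    rfl

@[simp] theorem lam_apply {n : ℕ} (g : MvPolynomial (Fin n) ℂ) (e y : Fin n → ℂ) :
    lam g e y = eval e (dd y g) := rfl

section forms

variable {f : MvPolynomial (Fin 4) ℂ}

/-- `ℓ` is an Eckardt form at `e`: the polar quadric of `e` is `λ_e · ℓ` and `ℓ e = 2` -/
def IsEckardtForm (f : MvPolynomial (Fin 4) ℂ) (e : Fin 4 → ℂ)
    (l : (Fin 4 → ℂ) →ₗ[ℂ] ℂ) : Prop :=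
  l e = 2 ∧ ∀ v, eval v (dd e f) = eval e (dd v f) * l v

/-- the reflection associated to a form -/
noncomputable def reflOf (e : Fin 4 → ℂ) (l : (Fin 4 → ℂ) →ₗ[ℂ] ℂ) :
    (Fin 4 → ℂ) →ₗ[ℂ] (Fin 4 → ℂ) :=
  LinearMap.id - l.smulRight e

theorem reflOf_apply (e : Fin 4 → ℂ) (l : (Fin 4 → ℂ) →ₗ[ℂ] ℂ) (v : Fin 4 → ℂ) :
    reflOf e l v = v - l v • e := by
  simp [reflOf]

variable (hf : f.IsHomogeneous 3)
  (hsm : ∀ v : Fin 4 → ℂ, v ≠ 0 → eval v f = 0 → ∃ i : Fin 4, eval v (pderiv i f) ≠ 0)
  (e : Fin 4 → ℂ) (he : e ≠ 0) (hFe : eval e f = 0)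

include hsm he hFe in
theorem exists_lam_one : ∃ n : Fin 4 → ℂ, eval e (dd n f) = 1 := by
  by_contra hcon
  push Not at hcon
  apply not_singular hsm he hFe
  intro w
  by_contra hne
  apply hcon ((eval e (dd w f))⁻¹ • w)
  rw [eval_dd_smul, inv_mul_cancel₀ hne]

include hf hFe in
theorem lam_self : eval e (dd e f) = 0 := by
  rw [euler_eval hf, hFe, mul_zero]

include hf hFe in
theorem q_translate (k : Fin 4 → ℂ) (t : ℂ) :
    eval (k + t • e) (dd e f) = eval k (dd e f) + 2 * t * eval e (dd k f) := by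
  have e1 : k + t • e + e = k + (t + 1) • e := by rw [add_smul, one_smul]; abel
  have e2 : k + t • e - e = k + (t - 1) • e := by rw [sub_smul, one_smul]; abel
  rw [dd_eq_values hf, e1, e2, refl_expand hf e hFe, refl_expand hf e hFe, hFe]
  ring

include hf hFe in
theorem dd_e_q (k : Fin 4 → ℂ) : eval k (dd e (dd e f)) = 2 * eval e (dd k f) := by
  have h1 := q_translate hf e hFe k 1
  have h2 := quadric_expand (dd_isHomogeneous hf e) k e 1
  rw [lam_self hf e hFe] at h2
  rw [h2] at h1
  linear_combination h1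

include hf hsm he hFe in
theorem form_unique (l₁ l₂ : (Fin 4 → ℂ) →ₗ[ℂ] ℂ) (h₁ : IsEckardtForm f e l₁)
    (h₂ : IsEckardtForm f e l₂) : l₁ = l₂ := by
  obtain ⟨n, hn⟩ := exists_lam_one hsm e he hFe
  have key : ∀ v, eval e (dd v f) ≠ 0 → l₁ v = l₂ v := by
    intro v hv
    have := (h₁.2 v).symm.trans (h₂.2 v)
    exact mul_left_cancel₀ hv this
  apply LinearMap.ext
  intro v
  by_cases hv : eval e (dd v f) = 0
  · have h1 := key n (by rw [hn]; exact one_ne_zero)
    have h2 := key (v + n) (by rw [eval_dd_add, hv, hn, zero_add]; exact one_ne_zero)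
    rw [map_add, map_add, h1] at h2
    exact add_right_cancel h2
  · exact key v hv

include hf hFe in
theorem reflOf_preserves (l : (Fin 4 → ℂ) →ₗ[ℂ] ℂ) (hl : IsEckardtForm f e l) (v : Fin 4 → ℂ) :
    eval (reflOf e l v) f = eval v f := by
  rw [reflOf_apply, sub_eq_add_neg, ← neg_smul, refl_expand hf e hFe, hl.2 v]
  ring

theorem reflOf_center (l : (Fin 4 → ℂ) →ₗ[ℂ] ℂ) (hl : l e = 2) : reflOf e l e = -e := by
  rw [reflOf_apply, hl, two_smul]
  abel

theorem reflOf_invol (l : (Fin 4 → ℂ) →ₗ[ℂ] ℂ) (hl : l e = 2) (v : Fin 4 → ℂ) :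
    reflOf e l (reflOf e l v) = v := by
  rw [reflOf_apply, reflOf_apply, map_sub, map_smul, hl, smul_eq_mul]
  module

include he in
theorem reflOf_finrank (l : (Fin 4 → ℂ) →ₗ[ℂ] ℂ) (hl : l e = 2) :
    Module.finrank ℂ ↥(LinearMap.ker (reflOf e l - LinearMap.id)) = 3 := by
  have hker : LinearMap.ker (reflOf e l - LinearMap.id) = LinearMap.ker l := by
    ext v
    rw [LinearMap.mem_ker, LinearMap.mem_ker, LinearMap.sub_apply, LinearMap.id_apply,
      reflOf_apply]
    constructor
    · intro h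
      have : l v • e = 0 := by
        rw [← neg_eq_zero, ← h]
        abel
      exact (smul_eq_zero.1 this).resolve_right he
    · intro h
      rw [h, zero_smul]
      abel
  rw [hker]
  have hsurj : Function.Surjective l := by
    intro a
    refine ⟨(a / 2) • e, ?_⟩
    rw [map_smul, hl, smul_eq_mul]
    ring
  have h1 := LinearMap.finrank_range_add_finrank_ker l
  rw [LinearMap.range_eq_top.2 hsurj, finrank_top, Module.finrank_self, Module.finrank_fin_fun] at h1
  omega

end forms

section eckardt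

variable {f : MvPolynomial (Fin 4) ℂ} (hf : f.IsHomogeneous 3)
  (hsm : ∀ v : Fin 4 → ℂ, v ≠ 0 → eval v f = 0 → ∃ i : Fin 4, eval v (pderiv i f) ≠ 0)
  (e : Fin 4 → ℂ) (he : e ≠ 0)

/-- the Eckardt condition -/
def IsEckardt (f : MvPolynomial (Fin 4) ℂ) (e : Fin 4 → ℂ) : Prop :=
  ∃ U : Fin 3 → Submodule ℂ (Fin 4 → ℂ), Function.Injective U ∧
    ∀ i : Fin 3, Module.finrank ℂ ↥(U i) = 2 ∧ e ∈ U i ∧ ∀ u ∈ U i, eval u f = 0

theorem IsEckardt.eval_eq_zero (hE : IsEckardt f e) : eval e f = 0 := by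
  obtain ⟨U, _, hU⟩ := hE
  exact (hU 0).2.2 e (hU 0).2.1

include hf hsm he in
/-- the polar quadric of an Eckardt point vanishes on the tangent plane -/
theorem eckardt_quadric_vanish (hE : IsEckardt f e) (k : Fin 4 → ℂ)
    (hk : eval e (dd k f) = 0) : eval k (dd e f) = 0 := by
  have hFe : eval e f = 0 := hE.eval_eq_zero e
  obtain ⟨U, hUinj, hU⟩ := hE
  obtain ⟨n, hn⟩ := exists_lam_one hsm e he hFe
  have hq : (dd e f).IsHomogeneous 2 := dd_isHomogeneous hf e
  -- points on the lines
  have hline : ∀ i, ∀ u ∈ U i, eval u (dd e f) = 0 ∧ eval e (dd u f) = 0 := by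
    intro i u hu
    have h0 := (hU i).2.2 u hu
    have h1 := (hU i).2.2 (u + (1 : ℂ) • e) (add_mem hu (Submodule.smul_mem _ _ (hU i).2.1))
    have h2 := (hU i).2.2 (u + (-1 : ℂ) • e) (add_mem hu (Submodule.smul_mem _ _ (hU i).2.1))
    rw [refl_expand hf e hFe] at h1 h2
    constructor
    · linear_combination (1 / 2 : ℂ) * h1 - (1 / 2 : ℂ) * h2
    · linear_combination (1 / 2 : ℂ) * h1 + (1 / 2 : ℂ) * h2 - h0
  -- choose a second vector on each line
  have hex : ∀ i, ∃ u ∈ U i, ∀ a b : ℂ, a • e + b • u = 0 → a = 0 ∧ b = 0 := by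
    intro i
    obtain ⟨y, hy⟩ := exists_linearIndependent_pair_of_one_lt_finrank (R := ℂ) (M := ↥(U i))
      (by rw [(hU i).1]; norm_num) (x := ⟨e, (hU i).2.1⟩)
      (by intro h; exact he (congrArg Subtype.val h))
    refine ⟨y.1, y.2, ?_⟩
    intro a b hab
    apply LinearIndependent.pair_iff.1 hy a b
    apply Subtype.ext
    simpa using hab
  choose u hu hui using hex
  have hspan : ∀ i, Submodule.span ℂ {e, u i} = U i := by
    intro i
    apply Submodule.eq_of_le_of_finrank_eq
    · rw [Submodule.span_le]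
      intro x hx
      rcases hx with rfl | hx
      · exact (hU i).2.1
      · rw [Set.mem_singleton_iff] at hx
        rw [hx]
        exact hu i
    · rw [(hU i).1]
      have hli : LinearIndependent ℂ ![e, u i] := LinearIndependent.pair_iff.2 (hui i)
      have := finrank_span_eq_card hli
      rw [Matrix.range_cons_cons_empty] at this
      rw [this]
      rfl
  have hnot : ∀ i j, i ≠ j → u j ∉ U i := by
    intro i j hij hmem
    apply hij
    apply hUinj
    symm
    apply Submodule.eq_of_le_of_finrank_eq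
    · rw [← hspan j, Submodule.span_le]
      intro x hx
      rcases hx with rfl | hx
      · exact (hU i).2.1
      · rw [Set.mem_singleton_iff] at hx
        rw [hx]
        exact hmem
    · rw [(hU i).1, (hU j).1]
  have hmem2 : ∀ i (a b : ℂ), a • e + b • u i ∈ U i := fun i a b =>
    add_mem (Submodule.smul_mem _ _ (hU i).2.1) (Submodule.smul_mem _ _ (hu i))
  -- independence of `e, u 0, u 1`
  have hind3 : ∀ a b c : ℂ, a • e + b • u 0 + c • u 1 = 0 → a = 0 ∧ b = 0 ∧ c = 0 := by
    intro a b c habc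
    have hc : c = 0 := by
      by_contra hc
      apply hnot 0 1 (by decide)
      have : u 1 = (-(a / c)) • e + (-(b / c)) • u 0 := by
        have h1 : c • u 1 = -(a • e + b • u 0) := by
          rw [← sub_eq_zero, ← habc]
          abel
        have h2 : u 1 = c⁻¹ • (c • u 1) := by
          rw [smul_smul, inv_mul_cancel₀ hc, one_smul]
        rw [h2, h1]
        rw [smul_neg, smul_add, smul_smul, smul_smul, neg_smul, neg_smul]
        rw [neg_add]
        congr 3 <;> field_simp
      rw [this]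
      exact hmem2 0 _ _
    rw [hc, zero_smul, add_zero] at habc
    obtain ⟨ha, hb⟩ := hui 0 a b habc
    exact ⟨ha, hb, hc⟩
  have hle : eval e (dd e f) = 0 := lam_self hf e hFe
  -- the basis `e, u 0, u 1, n`
  have hli4 : LinearIndependent ℂ ![e, u 0, u 1, n] := by
    rw [Fintype.linearIndependent_iff]
    intro g hg
    rw [Fin.sum_univ_four] at hg
    simp only [Matrix.cons_val_zero, Matrix.cons_val_one, Matrix.cons_val] at hg
    have h3 : g 3 = 0 := by
      have := congrArg (lam f e) hg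
      simp only [map_add, map_smul, lam_apply, smul_eq_mul, hle, (hline 0 _ (hu 0)).2,
        (hline 1 _ (hu 1)).2, hn, map_zero] at this
      linear_combination this
    rw [h3, zero_smul, add_zero] at hg
    obtain ⟨h0, h1, h2⟩ := hind3 _ _ _ hg
    intro i
    fin_cases i
    · exact h0
    · exact h1
    · exact h2
    · exact h3
  have hcard : Fintype.card (Fin 4) = Module.finrank ℂ (Fin 4 → ℂ) := by
    rw [Module.finrank_fin_fun]
    rfl
  have hdecomp : ∀ k : Fin 4 → ℂ, eval e (dd k f) = 0 →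
      ∃ a b c : ℂ, k = a • e + b • u 0 + c • u 1 := by
    intro k hk
    let B := basisOfLinearIndependentOfCardEqFinrank hli4 hcard
    have hB : ∀ i, B i = ![e, u 0, u 1, n] i := by
      intro i
      rw [coe_basisOfLinearIndependentOfCardEqFinrank]
    have hsum := B.sum_repr k
    rw [Fin.sum_univ_four, hB, hB, hB, hB] at hsum
    simp only [Matrix.cons_val_zero, Matrix.cons_val_one, Matrix.cons_val] at hsum
    have h3 : B.repr k 3 = 0 := by
      have := congrArg (lam f e) hsum
      simp only [map_add, map_smul, lam_apply, smul_eq_mul, hle, (hline 0 _ (hu 0)).2,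
        (hline 1 _ (hu 1)).2, hn, hk] at this
      linear_combination this
    rw [h3, zero_smul, add_zero] at hsum
    exact ⟨_, _, _, hsum.symm⟩
  -- the value of the quadric on the tangent plane
  have hqval : ∀ a b c : ℂ, eval (a • e + b • u 0 + c • u 1) (dd e f) =
      b * c * eval (u 0) (dd (u 1) (dd e f)) := by
    intro a b c
    have e1 : a • e + b • u 0 + c • u 1 = (b • u 0 + c • u 1) + a • e := by abel
    have hl1 : eval e (dd (b • u 0 + c • u 1) f) = 0 := by
      rw [eval_dd_add, eval_dd_smul, eval_dd_smul, (hline 0 _ (hu 0)).2, (hline 1 _ (hu 1)).2]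
      ring
    rw [e1, q_translate hf e hFe, hl1, quadric_expand hq,
      eval_smul_of_isHomogeneous hq, (hline 0 _ (hu 0)).1, (hline 1 _ (hu 1)).1,
      eval_smul_of_isHomogeneous (dd_isHomogeneous hq (u 1))]
    ring
  obtain ⟨α, β, γ, h2⟩ := hdecomp (u 2) (hline 2 _ (hu 2)).2
  have hβ : β ≠ 0 := by
    intro h0
    apply hnot 1 2 (by decide)
    rw [h2, h0, zero_smul, add_zero]
    exact hmem2 1 _ _
  have hγ : γ ≠ 0 := by
    intro h0
    apply hnot 0 2 (by decide)
    rw [h2, h0, zero_smul, add_zero]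
    exact hmem2 0 _ _
  have hB0 : eval (u 0) (dd (u 1) (dd e f)) = 0 := by
    have h3 := (hline 2 _ (hu 2)).1
    rw [h2, hqval] at h3
    rcases mul_eq_zero.1 h3 with h4 | h4
    · rcases mul_eq_zero.1 h4 with h5 | h5
      · exact absurd h5 hβ
      · exact absurd h5 hγ
    · exact h4
  obtain ⟨a, b, c, rfl⟩ := hdecomp k hk
  rw [hqval, hB0, mul_zero]

include hf hsm he in
/-- an Eckardt point has an Eckardt form -/
theorem form_of_eckardt (hE : IsEckardt f e) :
    ∃ l : (Fin 4 → ℂ) →ₗ[ℂ] ℂ, IsEckardtForm f e l := by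
  have hFe : eval e f = 0 := hE.eval_eq_zero e
  obtain ⟨n, hn⟩ := exists_lam_one hsm e he hFe
  have hq : (dd e f).IsHomogeneous 2 := dd_isHomogeneous hf e
  refine ⟨lam (dd e f) n - (eval n (dd e f)) • lam f e, ?_, ?_⟩
  · rw [LinearMap.sub_apply, LinearMap.smul_apply, lam_apply, lam_apply, lam_self hf e hFe,
      dd_e_q hf e hFe, hn]
    simp
  · intro v
    have hk : eval e (dd (v - eval e (dd v f) • n) f) = 0 := by
      rw [eval_dd_sub, eval_dd_smul, hn]
      ring
    have hqk := eckardt_quadric_vanish hf hsm e he hE _ hk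
    have hv : v = (v - eval e (dd v f) • n) + eval e (dd v f) • n := by abel
    have h1 := quadric_expand hq (v - eval e (dd v f) • n) n (eval e (dd v f))
    rw [← hv, hqk, quadric_polar_symm hq, eval_dd_sub, eval_dd_smul, euler_eval hq] at h1
    rw [h1, LinearMap.sub_apply, LinearMap.smul_apply, lam_apply, lam_apply, smul_eq_mul]
    push_cast
    ring

end eckardt

section reflform

variable {f : MvPolynomial (Fin 4) ℂ} (hf : f.IsHomogeneous 3)
  (hsm : ∀ v : Fin 4 → ℂ, v ≠ 0 → eval v f = 0 → ∃ i : Fin 4, eval v (pderiv i f) ≠ 0)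
  (σ : (Fin 4 → ℂ) →ₗ[ℂ] (Fin 4 → ℂ)) (p : Fin 4 → ℂ) (hp : p ≠ 0) (hFp : eval p f = 0)
  (hσp : σ p = -p)
  (hH : Module.finrank ℂ ↥(LinearMap.ker (σ - LinearMap.id)) = 3)
  (hc : ∀ v, eval (σ v) f = eval v f)

include hf hp hFp hσp hH hc in
/-- a reflection preserving the cubic comes from an Eckardt form -/
theorem form_of_refl :
    ∃ l : (Fin 4 → ℂ) →ₗ[ℂ] ℂ, IsEckardtForm f p l ∧ ∀ v, σ v = v - l v • p := by
  obtain ⟨i, hi⟩ : ∃ i, p i ≠ 0 := by
    by_contra h
    push Not at h
    exact hp (funext h)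
  obtain ⟨φ, hφ⟩ : ∃ φ : (Fin 4 → ℂ) →ₗ[ℂ] ℂ, φ p = 1 :=
    ⟨(p i)⁻¹ • LinearMap.proj i, by simp [hi]⟩
  obtain ⟨l, hl⟩ : ∃ l : (Fin 4 → ℂ) →ₗ[ℂ] ℂ, ∀ v, l v = -(φ (σ v - v)) :=
    ⟨-(φ.comp (σ - LinearMap.id)), fun v => by simp⟩
  have hform : ∀ v, σ v = v - l v • p := by
    intro v
    obtain ⟨h, t, hh, rfl⟩ := reflection_decomp σ p hp hσp hH v
    have h1 : l (h + t • p) = 2 * t := by
      rw [hl, map_add, map_smul, hh, hσp]
      have h2 : h + t • -p - (h + t • p) = (-2 * t) • p := by module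
      rw [h2, map_smul, hφ]
      simp
    rw [h1, map_add, map_smul, hh, hσp]
    module
  refine ⟨l, ⟨?_, ?_⟩, hform⟩
  · rw [hl, hσp]
    have h2 : -p - p = (-2 : ℂ) • p := by module
    rw [h2, map_smul, hφ]
    simp
  · intro v
    by_cases hv : l v = 0
    · have hfix : σ v = v := by rw [hform, hv, zero_smul, sub_zero]
      rw [hv, mul_zero]
      exact refl1_a_zero hf σ p hFp hσp hc v hfix
    · have h1 := hc v
      rw [hform v, sub_eq_add_neg, ← neg_smul, refl_expand hf p hFp] at h1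
      have h2 : l v * (eval p (dd v f) * l v - eval v (dd p f)) = 0 := by linear_combination h1
      have := (mul_eq_zero.1 h2).resolve_left hv
      linear_combination -this

end reflform

section matrices

variable {f : MvPolynomial (Fin 4) ℂ} (hf : f.IsHomogeneous 3)
  (hsm : ∀ v : Fin 4 → ℂ, v ≠ 0 → eval v f = 0 → ∃ i : Fin 4, eval v (pderiv i f) ≠ 0)
  (e : Fin 4 → ℂ) (he : e ≠ 0) (hFe : eval e f = 0)

/-- the hypotheses on an Eckardt involution matrix -/
def IsEckardtMatrix (f : MvPolynomial (Fin 4) ℂ) (e : Fin 4 → ℂ)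
    (A : Matrix (Fin 4) (Fin 4) ℂ) : Prop :=
  A * A = 1 ∧ Module.finrank ℂ ↥(LinearMap.ker (Matrix.toLin' A - LinearMap.id)) = 3 ∧
    A.mulVec e = -e ∧ ∃ c : ℂ, aeval (fun i : Fin 4 => ∑ j : Fin 4, C (A i j) * X j) f = C c * f

include hf hsm he hFe in
theorem form_of_matrix (A : Matrix (Fin 4) (Fin 4) ℂ) (hA : IsEckardtMatrix f e A) :
    ∃ l : (Fin 4 → ℂ) →ₗ[ℂ] ℂ, IsEckardtForm f e l ∧ ∀ v, A.mulVec v = v - l v • e := by
  obtain ⟨_, hH, hAp, c, hcA⟩ := hA
  have hσp : Matrix.toLin' A e = -e := by rw [Matrix.toLin'_apply]; exact hAp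
  have hc : ∀ v, eval (Matrix.toLin' A v) f = c * eval v f := by
    intro v
    rw [← eval_aeval_linear, hcA, map_mul, eval_C]
  have hc1 : c = 1 := refl_multiplier hf hsm _ e he hFe hσp hH c hc
  obtain ⟨l, hl, hform⟩ := form_of_refl hf (Matrix.toLin' A) e he hFe hσp hH
    (fun v => by rw [hc v, hc1, one_mul])
  refine ⟨l, hl, fun v => ?_⟩
  rw [← Matrix.toLin'_apply, hform]

include hf he hFe in
theorem matrix_of_form (l : (Fin 4 → ℂ) →ₗ[ℂ] ℂ) (hl : IsEckardtForm f e l) :
    IsEckardtMatrix f e (LinearMap.toMatrix' (reflOf e l)) ∧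
      ∀ v, (LinearMap.toMatrix' (reflOf e l)).mulVec v = v - l v • e := by
  have hmv : ∀ v, (LinearMap.toMatrix' (reflOf e l)).mulVec v = reflOf e l v := by
    intro v
    rw [← Matrix.toLin'_apply, Matrix.toLin'_toMatrix']
  refine ⟨⟨?_, ?_, ?_, 1, ?_⟩, fun v => by rw [hmv, reflOf_apply]⟩
  · rw [← LinearMap.toMatrix'_comp, ← LinearMap.toMatrix'_id]
    congr 1
    apply LinearMap.ext
    intro v
    rw [LinearMap.comp_apply, reflOf_invol e l hl.1, LinearMap.id_apply]
  · rw [Matrix.toLin'_toMatrix']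
    exact reflOf_finrank e he l hl.1
  · rw [hmv, reflOf_center e l hl.1]
  · apply MvPolynomial.funext
    intro v
    rw [eval_aeval_linear, Matrix.toLin'_toMatrix', reflOf_preserves hf e hFe l hl, map_mul,
      eval_C, one_mul]

end matrices

section pair

variable {f : MvPolynomial (Fin 4) ℂ} (hf : f.IsHomogeneous 3)
  (hsm : ∀ v : Fin 4 → ℂ, v ≠ 0 → eval v f = 0 → ∃ i : Fin 4, eval v (pderiv i f) ≠ 0)
  (e e' : Fin 4 → ℂ) (he : e ≠ 0) (hFe : eval e f = 0) (hFe' : eval e' f = 0)
  (l l' : (Fin 4 → ℂ) →ₗ[ℂ] ℂ) (hl : IsEckardtForm f e l) (hl' : IsEckardtForm f e' l')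

include hf hFe hl in
/-- translation invariance along an Eckardt point inside its tangent plane -/
theorem form_translate (k : Fin 4 → ℂ) (hk : eval e (dd k f) = 0) (t : ℂ) :
    eval (k + t • e) f = eval k f := by
  rw [refl_expand hf e hFe, hl.2 k, hk]
  ring

include hf hl in
/-- the mixed derivative through the form -/
theorem form_mixed (x v : Fin 4 → ℂ) (hx : eval e (dd x f) = 0) :
    eval x (dd v (dd e f)) = eval e (dd v f) * l x := by
  have h1 := quadric_expand (dd_isHomogeneous hf e) x v 1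
  rw [one_smul, hl.2 (x + v), hl.2 x, hl.2 v, eval_dd_add, map_add, hx] at h1
  linear_combination -h1

include hf hsm he hFe hFe' hl hl' in
/-- if the line through two Eckardt points lies on the surface, each lies on the
fixed plane of the other's involution -/
theorem form_line_vanish (hind : ∀ c : ℂ, e' ≠ c • e)
    (hL : ∀ a b : ℂ, eval (a • e + b • e') f = 0) : l e' = 0 := by
  by_contra ha
  -- `e'` is in the tangent plane at `e` and conversely
  have h1 := hL 1 1
  have h2 := hL (-1) 1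
  simp only [one_smul] at h1 h2
  rw [add_comm] at h1 h2
  have h1' := refl_expand hf e hFe e' 1
  have h2' := refl_expand hf e hFe e' (-1)
  rw [one_smul] at h1'
  rw [h1, hFe'] at h1'
  rw [h2, hFe'] at h2'
  have hq' : eval e' (dd e f) = 0 := by linear_combination (-1 / 2 : ℂ) * h1' + (1 / 2 : ℂ) * h2'
  have hlam' : eval e (dd e' f) = 0 := by linear_combination (-1 / 2 : ℂ) * h1' - (1 / 2 : ℂ) * h2'
  -- the symmetric identity
  have hstar : ∀ v, eval e (dd v f) * l e' = eval e' (dd v f) * l' e := by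
    intro v
    rw [← form_mixed hf e l hl e' v hlam', ← form_mixed hf e' l' hl' e v hq', mixed_symm hf]
  obtain ⟨n, hn⟩ := exists_lam_one hsm e he hFe
  have hb : l' e ≠ 0 := by
    intro hb
    have := hstar n
    rw [hn, hb, mul_zero, one_mul] at this
    exact ha this
  have hker : ∀ v, eval e (dd v f) = 0 → eval e' (dd v f) = 0 := by
    intro v hv
    have := hstar v
    rw [hv, zero_mul] at this
    exact (mul_eq_zero.1 this.symm).resolve_right hb
  have hle : eval e (dd e f) = 0 := lam_self hf e hFe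
  -- the double zero
  have hw0 : e' - (l e' / 2) • e ≠ 0 := by
    intro h0
    exact hind (l e' / 2) (sub_eq_zero.1 h0)
  have hlw : l (e' - (l e' / 2) • e) = 0 := by
    rw [map_sub, map_smul, hl.1, smul_eq_mul]
    ring
  have hlamw : eval e (dd (e' - (l e' / 2) • e) f) = 0 := by
    rw [eval_dd_sub, eval_dd_smul, hlam', hle]
    ring
  apply refl1_no_double_zero hf hsm (reflOf e l) e he hFe (reflOf_center e l hl.1)
    (reflOf_finrank e he l hl.1) (reflOf_preserves hf e hFe l hl) (e' - (l e' / 2) • e)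
    (by rw [reflOf_apply, hlw, zero_smul, sub_zero]) hlamw hw0
  · have := hL (-(l e' / 2)) 1
    rw [one_smul] at this
    rw [← this]
    congr 1
    rw [neg_smul]
    abel_nf
  · intro w' _ hw'
    have hFneg : eval (-w') f = -eval w' f := by
      have := eval_smul_of_isHomogeneous hf (-1) w'
      rw [neg_one_smul] at this
      rw [this]
      ring
    have e1 : e' - (l e' / 2) • e + w' = ((w' + (1 : ℂ) • e') + (-(l e' / 2)) • e) := by
      rw [one_smul, neg_smul]
      abel
    have e2 : e' - (l e' / 2) • e - w' = ((-w' + (1 : ℂ) • e') + (-(l e' / 2)) • e) := by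
      rw [one_smul, neg_smul]
      abel
    have hnw' : eval e (dd (-w') f) = 0 := by
      rw [show -w' = (-1 : ℂ) • w' by simp, eval_dd_smul, hw', mul_zero]
    rw [dd_eq_values hf, e1, e2,
      form_translate hf e hFe l hl _ (by rw [eval_dd_add, eval_dd_smul, hw', hlam']; ring),
      form_translate hf e hFe l hl _ (by rw [eval_dd_add, eval_dd_smul, hnw', hlam']; ring),
      form_translate hf e' hFe' l' hl' _ (hker _ hw'),
      form_translate hf e' hFe' l' hl' _ (hker _ hnw'), hFneg]
    ring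

end pair

end Groth.Agent.Lib.Helper92.Cubic
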