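import Mathlib
import Groth.Agent.Lib.Helper95.CubicTangent
import Groth.Agent.Lib.Helper95.CubicTriple

/-!
# T-points of cubic surfaces (helper92)

Function-level characterisation of T-points and the rank criterion in a basis of the tangent plane.
-/

namespace Groth.Agent.Lib.Helper92.TPoints
set_option linter.unusedSectionVars false
open MvPolynomial Module Groth.Agent.Lib.Helper95

section basic
variable {K : Type*} [Field K] [CharZero K] {F : MvPolynomial (Fin 4) K}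

/-- Function-level T-point. -/
def IsT (F : MvPolynomial (Fin 4) K) (b : Fin 4 → K) : Prop :=
  b ≠ 0 ∧ phi F b b b = 0 ∧ (∃ x, phi F b b x ≠ 0) ∧
    ∃ m₁ m₂ m₃ : (Fin 4 → K) →ₗ[K] K, ∀ x, phi F b b x = 0 → eval x F = m₁ x * m₂ x * m₃ x

/-- The T-point formula of the statements. -/
def TP (F : MvPolynomial (Fin 4) K) (b : Fin 4 → K) : Prop :=
  b ≠ 0 ∧ eval b F = 0 ∧ (∃ i : Fin 4, eval b (pderiv i F) ≠ 0) ∧
    ∃ L₁ L₂ L₃ : MvPolynomial (Fin 4) K, L₁.IsHomogeneous 1 ∧ L₂.IsHomogeneous 1 ∧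
      L₃.IsHomogeneous 1 ∧
      F - L₁ * L₂ * L₃ ∈ Ideal.span {∑ i : Fin 4, C (eval b (pderiv i F)) * X i}

lemma eval_tangentForm (hF : F.IsHomogeneous 3) (b x : Fin 4 → K) :
    eval x (∑ i : Fin 4, C (eval b (pderiv i F)) * X i) = 3 * phi F b b x := by
  rw [map_sum]
  simp only [map_mul, eval_C, eval_X]
  rw [show phi F b b x = phiL F b b x from rfl, lin_sum (phiL F b b) x, Finset.mul_sum]
  refine Finset.sum_congr rfl fun i _ => ?_
  rw [eval_pderiv_eq_phi hF, phiL_apply]; ring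

lemma smooth_iff (hF : F.IsHomogeneous 3) (b : Fin 4 → K) :
    (∃ i : Fin 4, eval b (pderiv i F) ≠ 0) ↔ ∃ x, phi F b b x ≠ 0 := by
  constructor
  · exact exists_phi_ne_zero hF
  · rintro ⟨x, hx⟩
    by_contra hcon
    push Not at hcon
    apply hx
    rw [show phi F b b x = phiL F b b x from rfl, lin_sum (phiL F b b) x]
    apply Finset.sum_eq_zero
    intro i _
    have := hcon i
    rw [eval_pderiv_eq_phi hF] at this
    have h3 : (3 : K) ≠ 0 := by norm_num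
    rw [phiL_apply, (mul_eq_zero.mp this).resolve_left h3, mul_zero]

theorem TP_iff_isT [Infinite K] (hF : F.IsHomogeneous 3) (b : Fin 4 → K) : TP F b ↔ IsT F b := by
  have h3 : (3 : K) ≠ 0 := by norm_num
  constructor
  · rintro ⟨hb, hFb, hsm, L₁, L₂, L₃, h1, h2, h3', hmem⟩
    refine ⟨hb, by rw [← eval_eq_phi hF]; exact hFb, (smooth_iff hF b).mp hsm, ?_⟩
    obtain ⟨m₁, hm₁⟩ := exists_linear_of_homogeneous_one h1
    obtain ⟨m₂, hm₂⟩ := exists_linear_of_homogeneous_one h2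
    obtain ⟨m₃, hm₃⟩ := exists_linear_of_homogeneous_one h3'
    refine ⟨m₁, m₂, m₃, fun x hx => ?_⟩
    obtain ⟨G, hG⟩ := Ideal.mem_span_singleton.mp hmem
    have := congrArg (eval x) hG
    rw [map_sub, map_mul, map_mul, map_mul, eval_tangentForm hF, hx, mul_zero, zero_mul] at this
    rw [hm₁, hm₂, hm₃]
    exact sub_eq_zero.mp this
  · rintro ⟨hb, hFb, hsm, m₁, m₂, m₃, hm⟩
    have hsm' := (smooth_iff hF b).mpr hsm
    refine ⟨hb, by rw [eval_eq_phi hF]; exact hFb, hsm', ?_⟩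
    let L : ((Fin 4 → K) →ₗ[K] K) → MvPolynomial (Fin 4) K :=
      fun m => ∑ j, C (m (Pi.single j 1)) * X j
    have hLhom : ∀ m, (L m).IsHomogeneous 1 := fun m =>
      IsHomogeneous.sum _ _ _ fun j _ => isHomogeneous_C_mul_X _ _
    have hLev : ∀ m x, eval x (L m) = m x := by
      intro m x
      simp only [L, map_sum, map_mul, eval_C, eval_X]
      rw [lin_sum m x]
      exact Finset.sum_congr rfl fun i _ => mul_comm _ _
    refine ⟨L m₁, L m₂, L m₃, hLhom _, hLhom _, hLhom _, ?_⟩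
    obtain ⟨j, hj⟩ := hsm'
    apply mem_span_of_vanish_on_hyperplane (fun i => eval b (pderiv i F)) j hj
    intro x hx
    have hx' : phi F b b x = 0 := by
      have := eval_tangentForm hF b x
      rw [map_sum] at this
      simp only [map_mul, eval_C, eval_X] at this
      rw [hx] at this
      exact (mul_eq_zero.mp this.symm).resolve_left h3
    rw [map_sub, map_mul, map_mul, hLev, hLev, hLev, hm x hx', sub_self]

lemma IsT.of_smul {b : Fin 4 → K} {c : K} (hc : c ≠ 0) (h : IsT F (c • b)) : IsT F b := by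
  obtain ⟨hb, hFb, ⟨x, hx⟩, m₁, m₂, m₃, hm⟩ := h
  refine ⟨fun h0 => hb (by rw [h0, smul_zero]), ?_, ⟨x, ?_⟩, m₁, m₂, m₃, fun y hy => hm y ?_⟩
  · simp only [phi_smul_left, phi_smul_mid, phi_smul_right] at hFb
    have : c * (c * (c * phi F b b b)) = 0 := hFb
    simpa [hc] using this
  · intro h0; apply hx
    rw [phi_smul_left, phi_smul_mid, h0]; ring
  · rw [phi_smul_left, phi_smul_mid, hy]; ring

end basic

section algebra
variable {K : Type*} [Field K] [CharZero K]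

/-- The ternary cubic `x q₂(y,z) + q₃(y,z)` is a product of three linear forms. -/
def TernFactor (α₀ α₁ α₂ γ₀ γ₁ γ₂ γ₃ : K) : Prop :=
  ∃ u₁ p₁ r₁ u₂ p₂ r₂ u₃ p₃ r₃ : K, ∀ x y z : K,
    x * (α₀ * y ^ 2 + α₁ * y * z + α₂ * z ^ 2)
        + (γ₀ * y ^ 3 + γ₁ * y ^ 2 * z + γ₂ * y * z ^ 2 + γ₃ * z ^ 3)
      = (u₁ * x + p₁ * y + r₁ * z) * (u₂ * x + p₂ * y + r₂ * z) * (u₃ * x + p₃ * y + r₃ * z)

/-- The binary cubics `y q₂`, `z q₂`, `q₃` are linearly dependent. -/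
def RowsDep (α₀ α₁ α₂ γ₀ γ₁ γ₂ γ₃ : K) : Prop :=
  ∃ l₀ l₁ l₂ : K, ¬(l₀ = 0 ∧ l₁ = 0 ∧ l₂ = 0) ∧ l₀ * α₀ + l₂ * γ₀ = 0 ∧
    l₀ * α₁ + l₁ * α₀ + l₂ * γ₁ = 0 ∧ l₀ * α₂ + l₁ * α₁ + l₂ * γ₂ = 0 ∧ l₁ * α₂ + l₂ * γ₃ = 0

lemma binary_cubic_zero (c₀ c₁ c₂ c₃ : K)
    (h : ∀ y z : K, c₀ * y ^ 3 + c₁ * y ^ 2 * z + c₂ * y * z ^ 2 + c₃ * z ^ 3 = 0) :
    c₀ = 0 ∧ c₁ = 0 ∧ c₂ = 0 ∧ c₃ = 0 := by
  have h10 := h 1 0
  have h01 := h 0 1
  have h11 := h 1 1
  have h1m := h 1 (-1)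
  have e0 : c₀ = 0 := by linear_combination h10
  have e3 : c₃ = 0 := by linear_combination h01
  have h2 : (2 : K) ≠ 0 := by norm_num
  have e2 : c₂ = 0 := by
    have : 2 * c₂ = 0 := by linear_combination h11 + h1m - 2 * h10
    exact (mul_eq_zero.mp this).resolve_left h2
  have e1 : c₁ = 0 := by
    have : 2 * c₁ = 0 := by linear_combination h11 - h1m - 2 * h01
    exact (mul_eq_zero.mp this).resolve_left h2
  exact ⟨e0, e1, e2, e3⟩

lemma binary_quadratic_zero (c₀ c₁ c₂ : K)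
    (h : ∀ y z : K, c₀ * y ^ 2 + c₁ * y * z + c₂ * z ^ 2 = 0) :
    c₀ = 0 ∧ c₁ = 0 ∧ c₂ = 0 := by
  have h10 := h 1 0
  have h01 := h 0 1
  have h11 := h 1 1
  have e0 : c₀ = 0 := by linear_combination h10
  have e2 : c₂ = 0 := by linear_combination h01
  have e1 : c₁ = 0 := by linear_combination h11 - h10 - h01
  exact ⟨e0, e1, e2⟩

/-- Coefficient comparison in `x` for the factorisation identity. -/
lemma coeffs_of_factor {q₂ q₃ u₁ l₁ u₂ l₂ u₃ l₃ : K}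
    (h : ∀ x : K, x * q₂ + q₃ = (u₁ * x + l₁) * (u₂ * x + l₂) * (u₃ * x + l₃)) :
    q₃ = l₁ * l₂ * l₃ ∧ q₂ = u₁ * l₂ * l₃ + u₂ * l₁ * l₃ + u₃ * l₁ * l₂ ∧
      u₁ * u₂ * l₃ + u₁ * u₃ * l₂ + u₂ * u₃ * l₁ = 0 ∧ u₁ * u₂ * u₃ = 0 := by
  have h0 := h 0
  have h1 := h 1
  have hm := h (-1)
  have h2 := h 2
  have h2' : (2 : K) ≠ 0 := by norm_num
  have h6 : (6 : K) ≠ 0 := by norm_num
  have e0 : q₃ = l₁ * l₂ * l₃ := by linear_combination h0
  have e2 : u₁ * u₂ * l₃ + u₁ * u₃ * l₂ + u₂ * u₃ * l₁ = 0 := by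
    have : 2 * (u₁ * u₂ * l₃ + u₁ * u₃ * l₂ + u₂ * u₃ * l₁) = 0 := by
      linear_combination (-1 : K) * h1 - hm + 2 * h0
    exact (mul_eq_zero.mp this).resolve_left h2'
  have e3 : u₁ * u₂ * u₃ = 0 := by
    have : 6 * (u₁ * u₂ * u₃) = 0 := by
      linear_combination (-1 : K) * h2 + 2 * h1 - h0 - 2 * e2
    exact (mul_eq_zero.mp this).resolve_left h6
  have e1 : q₂ = u₁ * l₂ * l₃ + u₂ * l₁ * l₃ + u₃ * l₁ * l₂ := by
    linear_combination h1 - h0 + e2 + e3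
  exact ⟨e0, e1, e2, e3⟩

lemma rowsDep_of_alpha_zero {α₀ α₁ α₂ : K} (γ₀ γ₁ γ₂ γ₃ : K) (h0 : α₀ = 0) (h1 : α₁ = 0)
    (h2 : α₂ = 0) : RowsDep α₀ α₁ α₂ γ₀ γ₁ γ₂ γ₃ :=
  ⟨1, 0, 0, by simp, by rw [h0]; ring, by rw [h1]; ring, by rw [h2]; ring, by ring⟩

/-- First two linear factors do not involve `x`. -/
lemma rowsDep_of_two_zero {α₀ α₁ α₂ γ₀ γ₁ γ₂ γ₃ p₁ r₁ p₂ r₂ u₃ p₃ r₃ : K}
    (h : ∀ x y z : K, x * (α₀ * y ^ 2 + α₁ * y * z + α₂ * z ^ 2)
        + (γ₀ * y ^ 3 + γ₁ * y ^ 2 * z + γ₂ * y * z ^ 2 + γ₃ * z ^ 3)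
      = (0 * x + p₁ * y + r₁ * z) * (0 * x + p₂ * y + r₂ * z) * (u₃ * x + p₃ * y + r₃ * z)) :
    RowsDep α₀ α₁ α₂ γ₀ γ₁ γ₂ γ₃ := by
  have key : ∀ y z : K, (p₃ * α₀ - u₃ * γ₀) * y ^ 3 + (p₃ * α₁ + r₃ * α₀ - u₃ * γ₁) * y ^ 2 * z
      + (p₃ * α₂ + r₃ * α₁ - u₃ * γ₂) * y * z ^ 2 + (r₃ * α₂ - u₃ * γ₃) * z ^ 3 = 0 := by
    intro y z
    obtain ⟨e0, e1, -, -⟩ := coeffs_of_factor (q₂ := α₀ * y ^ 2 + α₁ * y * z + α₂ * z ^ 2)
      (q₃ := γ₀ * y ^ 3 + γ₁ * y ^ 2 * z + γ₂ * y * z ^ 2 + γ₃ * z ^ 3)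
      (u₁ := 0) (l₁ := p₁ * y + r₁ * z) (u₂ := 0) (l₂ := p₂ * y + r₂ * z) (u₃ := u₃)
      (l₃ := p₃ * y + r₃ * z) (fun x => by rw [h x y z]; ring)
    linear_combination (p₃ * y + r₃ * z) * e1 - u₃ * e0
  obtain ⟨c0, c1, c2, c3⟩ := binary_cubic_zero _ _ _ _ key
  by_cases hz : p₃ = 0 ∧ r₃ = 0 ∧ u₃ = 0
  · obtain ⟨hp, hr, hu⟩ := hz
    have hq : ∀ y z : K, α₀ * y ^ 2 + α₁ * y * z + α₂ * z ^ 2 = 0 := by
      intro y z
      have h1 := h 1 y z
      have h0 := h 0 y z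
      rw [hp, hr, hu] at h1 h0
      linear_combination h1 - h0
    obtain ⟨a0, a1, a2⟩ := binary_quadratic_zero _ _ _ hq
    exact rowsDep_of_alpha_zero _ _ _ _ a0 a1 a2
  · refine ⟨p₃, r₃, -u₃, ?_, ?_, ?_, ?_, ?_⟩
    · rintro ⟨h1, h2, h3⟩
      exact hz ⟨h1, h2, neg_eq_zero.mp h3⟩
    · linear_combination c0
    · linear_combination c1
    · linear_combination c2
    · linear_combination c3

/-- First linear factor does not involve `x`. -/
lemma rowsDep_of_one_zero {α₀ α₁ α₂ γ₀ γ₁ γ₂ γ₃ p₁ r₁ u₂ p₂ r₂ u₃ p₃ r₃ : K}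
    (h : ∀ x y z : K, x * (α₀ * y ^ 2 + α₁ * y * z + α₂ * z ^ 2)
        + (γ₀ * y ^ 3 + γ₁ * y ^ 2 * z + γ₂ * y * z ^ 2 + γ₃ * z ^ 3)
      = (0 * x + p₁ * y + r₁ * z) * (u₂ * x + p₂ * y + r₂ * z) * (u₃ * x + p₃ * y + r₃ * z)) :
    RowsDep α₀ α₁ α₂ γ₀ γ₁ γ₂ γ₃ := by
  have e2 : ∀ y z : K, u₂ * u₃ * (p₁ * y + r₁ * z) = 0 := by
    intro y z
    obtain ⟨-, -, e2, -⟩ := coeffs_of_factor (q₂ := α₀ * y ^ 2 + α₁ * y * z + α₂ * z ^ 2)
      (q₃ := γ₀ * y ^ 3 + γ₁ * y ^ 2 * z + γ₂ * y * z ^ 2 + γ₃ * z ^ 3)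
      (u₁ := 0) (l₁ := p₁ * y + r₁ * z) (u₂ := u₂) (l₂ := p₂ * y + r₂ * z) (u₃ := u₃)
      (l₃ := p₃ * y + r₃ * z) (fun x => by rw [h x y z]; ring)
    linear_combination e2
  by_cases hL : p₁ = 0 ∧ r₁ = 0
  · obtain ⟨hp, hr⟩ := hL
    have hq : ∀ y z : K, α₀ * y ^ 2 + α₁ * y * z + α₂ * z ^ 2 = 0 := by
      intro y z
      have h1 := h 1 y z
      have h0 := h 0 y z
      rw [hp, hr] at h1 h0
      linear_combination h1 - h0
    obtain ⟨a0, a1, a2⟩ := binary_quadratic_zero _ _ _ hq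
    exact rowsDep_of_alpha_zero _ _ _ _ a0 a1 a2
  · have hu : u₂ * u₃ = 0 := by
      by_contra hne
      apply hL
      have h10 := e2 1 0
      have h01 := e2 0 1
      constructor
      · have : u₂ * u₃ * p₁ = 0 := by linear_combination h10
        exact (mul_eq_zero.mp this).resolve_left hne
      · have : u₂ * u₃ * r₁ = 0 := by linear_combination h01
        exact (mul_eq_zero.mp this).resolve_left hne
    rcases mul_eq_zero.mp hu with h2 | h3
    · subst h2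
      exact rowsDep_of_two_zero h
    · subst h3
      exact rowsDep_of_two_zero (p₁ := p₁) (r₁ := r₁) (p₂ := p₃) (r₂ := r₃) (u₃ := u₂) (p₃ := p₂)
        (r₃ := r₂) (fun x y z => by rw [h x y z]; ring)

theorem rowsDep_of_ternFactor {α₀ α₁ α₂ γ₀ γ₁ γ₂ γ₃ : K}
    (h : TernFactor α₀ α₁ α₂ γ₀ γ₁ γ₂ γ₃) : RowsDep α₀ α₁ α₂ γ₀ γ₁ γ₂ γ₃ := by
  obtain ⟨u₁, p₁, r₁, u₂, p₂, r₂, u₃, p₃, r₃, h⟩ := h
  have e3 : u₁ * u₂ * u₃ = 0 := by
    obtain ⟨-, -, -, e3⟩ := coeffs_of_factor (q₂ := α₀ * 0 ^ 2 + α₁ * 0 * 0 + α₂ * 0 ^ 2)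
      (q₃ := γ₀ * 0 ^ 3 + γ₁ * 0 ^ 2 * 0 + γ₂ * 0 * 0 ^ 2 + γ₃ * 0 ^ 3)
      (u₁ := u₁) (l₁ := p₁ * 0 + r₁ * 0) (u₂ := u₂) (l₂ := p₂ * 0 + r₂ * 0) (u₃ := u₃)
      (l₃ := p₃ * 0 + r₃ * 0) (fun x => by rw [h x 0 0]; ring)
    exact e3
  rcases mul_eq_zero.mp e3 with h12 | h3
  · rcases mul_eq_zero.mp h12 with h1 | h2
    · subst h1
      exact rowsDep_of_one_zero h
    · subst h2
      exact rowsDep_of_one_zero (p₁ := p₂) (r₁ := r₂) (u₂ := u₁) (p₂ := p₁) (r₂ := r₁) (u₃ := u₃)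
        (p₃ := p₃) (r₃ := r₃) (fun x y z => by rw [h x y z]; ring)
  · subst h3
    exact rowsDep_of_one_zero (p₁ := p₃) (r₁ := r₃) (u₂ := u₁) (p₂ := p₁) (r₂ := r₁) (u₃ := u₂)
      (p₃ := p₂) (r₃ := r₂) (fun x y z => by rw [h x y z]; ring)

theorem ternFactor_of_rowsDep [IsAlgClosed K] {α₀ α₁ α₂ γ₀ γ₁ γ₂ γ₃ : K}
    (h : RowsDep α₀ α₁ α₂ γ₀ γ₁ γ₂ γ₃) : TernFactor α₀ α₁ α₂ γ₀ γ₁ γ₂ γ₃ := by
  obtain ⟨l₀, l₁, l₂, hne, c0, c1, c2, c3⟩ := h
  by_cases hl2 : l₂ = 0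
  · subst hl2
    have hα : α₀ = 0 ∧ α₁ = 0 ∧ α₂ = 0 := by
      by_cases hl0 : l₀ = 0
      · subst hl0
        have hl1 : l₁ ≠ 0 := fun h1 => hne ⟨rfl, h1, rfl⟩
        have a2 : α₂ = 0 := by
          have : l₁ * α₂ = 0 := by linear_combination c3
          exact (mul_eq_zero.mp this).resolve_left hl1
        have a1 : α₁ = 0 := by
          have : l₁ * α₁ = 0 := by linear_combination c2
          exact (mul_eq_zero.mp this).resolve_left hl1
        have a0 : α₀ = 0 := by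
          have : l₁ * α₀ = 0 := by linear_combination c1
          exact (mul_eq_zero.mp this).resolve_left hl1
        exact ⟨a0, a1, a2⟩
      · have a0 : α₀ = 0 := by
          have : l₀ * α₀ = 0 := by linear_combination c0
          exact (mul_eq_zero.mp this).resolve_left hl0
        have a1 : α₁ = 0 := by
          have : l₀ * α₁ = 0 := by linear_combination c1 - l₁ * a0
          exact (mul_eq_zero.mp this).resolve_left hl0
        have a2 : α₂ = 0 := by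
          have : l₀ * α₂ = 0 := by linear_combination c2 - l₁ * a1
          exact (mul_eq_zero.mp this).resolve_left hl0
        exact ⟨a0, a1, a2⟩
    obtain ⟨a0, a1, a2⟩ := hα
    obtain ⟨p₁, r₁, p₂, r₂, p₃, r₃, hfac⟩ := binary_cubic_factor γ₀ γ₁ γ₂ γ₃
    refine ⟨0, p₁, r₁, 0, p₂, r₂, 0, p₃, r₃, fun x y z => ?_⟩
    rw [a0, a1, a2]
    linear_combination hfac y z
  · obtain ⟨p₁, r₁, p₂, r₂, hfac⟩ := binary_quadratic_factor α₀ α₁ α₂
    refine ⟨1, -l₀ / l₂, -l₁ / l₂, 0, p₁, r₁, 0, p₂, r₂, fun x y z => ?_⟩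
    have hf := hfac y z
    have e0 : γ₀ = -l₀ / l₂ * α₀ := by field_simp; linear_combination c0
    have e1 : γ₁ = -l₀ / l₂ * α₁ + -l₁ / l₂ * α₀ := by field_simp; linear_combination c1
    have e2 : γ₂ = -l₀ / l₂ * α₂ + -l₁ / l₂ * α₁ := by field_simp; linear_combination c2
    have e3 : γ₃ = -l₁ / l₂ * α₂ := by field_simp; linear_combination c3
    rw [e0, e1, e2, e3]
    linear_combination (1 * x + -l₀ / l₂ * y + -l₁ / l₂ * z) * hf

end algebra

section polyfun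
variable {K : Type*} [Field K]

/-- Polynomial functions `K → K`. -/
def IsPolyFun (h : K → K) : Prop := ∃ P : Polynomial K, ∀ t, h t = P.eval t

lemma IsPolyFun.const (c : K) : IsPolyFun (fun _ : K => c) := ⟨Polynomial.C c, fun t => by simp⟩

lemma IsPolyFun.id : IsPolyFun (fun t : K => t) := ⟨Polynomial.X, fun t => by simp⟩

lemma IsPolyFun.evalP (P : Polynomial K) : IsPolyFun (fun t : K => P.eval t) := ⟨P, fun _ => rfl⟩

lemma IsPolyFun.add {f g : K → K} (hf : IsPolyFun f) (hg : IsPolyFun g) :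
    IsPolyFun (fun t => f t + g t) := by
  obtain ⟨P, hP⟩ := hf
  obtain ⟨Q, hQ⟩ := hg
  exact ⟨P + Q, fun t => by show f t + g t = _; rw [Polynomial.eval_add, hP, hQ]⟩

lemma IsPolyFun.mul {f g : K → K} (hf : IsPolyFun f) (hg : IsPolyFun g) :
    IsPolyFun (fun t => f t * g t) := by
  obtain ⟨P, hP⟩ := hf
  obtain ⟨Q, hQ⟩ := hg
  exact ⟨P * Q, fun t => by show f t * g t = _; rw [Polynomial.eval_mul, hP, hQ]⟩

lemma IsPolyFun.neg {f : K → K} (hf : IsPolyFun f) : IsPolyFun (fun t => - f t) := by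
  obtain ⟨P, hP⟩ := hf
  exact ⟨-P, fun t => by show - f t = _; rw [Polynomial.eval_neg, hP]⟩

lemma IsPolyFun.sub {f g : K → K} (hf : IsPolyFun f) (hg : IsPolyFun g) :
    IsPolyFun (fun t => f t - g t) := by
  obtain ⟨P, hP⟩ := hf
  obtain ⟨Q, hQ⟩ := hg
  exact ⟨P - Q, fun t => by show f t - g t = _; rw [Polynomial.eval_sub, hP, hQ]⟩

lemma IsPolyFun.sum {ι : Type*} (s : Finset ι) {f : ι → K → K} (hf : ∀ i ∈ s, IsPolyFun (f i)) :
    IsPolyFun (fun t => ∑ i ∈ s, f i t) := by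
  classical
  induction s using Finset.induction_on with
  | empty => simpa using IsPolyFun.const (0 : K)
  | insert i s hi ih =>
    have h1 := hf i (Finset.mem_insert_self i s)
    have h2 := ih (fun j hj => hf j (Finset.mem_insert_of_mem hj))
    simp only [Finset.sum_insert hi]
    exact h1.add h2

lemma IsPolyFun.finite_zeros {h : K → K} (hh : IsPolyFun h) {t₁ : K} (h1 : h t₁ ≠ 0) :
    {t | h t = 0}.Finite := by
  obtain ⟨P, hP⟩ := hh
  have hP0 : P ≠ 0 := by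
    rintro rfl
    apply h1
    rw [hP]; simp
  refine (Polynomial.finite_setOfPred_isRoot hP0).subset fun t ht => ?_
  show P.eval t = 0
  rw [← hP]; exact ht

lemma IsPolyFun.det {n : Type*} [Fintype n] [DecidableEq n] {M : K → Matrix n n K}
    (hM : ∀ i j, IsPolyFun (fun t => M t i j)) : IsPolyFun (fun t => (M t).det) := by
  choose P hP using hM
  refine ⟨(Matrix.of P).det, fun t => ?_⟩
  have := (Polynomial.evalRingHom t).map_det (Matrix.of P)
  rw [Polynomial.coe_evalRingHom] at this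
  rw [this]
  show (M t).det = _
  congr 1
  ext i j
  simp [hP]

/-- Vectors with polynomial coordinates. -/
def IsPolyVec (v : K → Fin 4 → K) : Prop := ∀ i, IsPolyFun (fun t => v t i)

lemma IsPolyVec.const (c : Fin 4 → K) : IsPolyVec (fun _ : K => c) := fun _ => IsPolyFun.const _

lemma IsPolyVec.add {v w : K → Fin 4 → K} (hv : IsPolyVec v) (hw : IsPolyVec w) :
    IsPolyVec (fun t => v t + w t) := fun i => (hv i).add (hw i)

lemma IsPolyVec.sub {v w : K → Fin 4 → K} (hv : IsPolyVec v) (hw : IsPolyVec w) :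
    IsPolyVec (fun t => v t - w t) := fun i => (hv i).sub (hw i)

lemma IsPolyVec.smul {f : K → K} {v : K → Fin 4 → K} (hf : IsPolyFun f) (hv : IsPolyVec v) :
    IsPolyVec (fun t => f t • v t) := fun i => hf.mul (hv i)

lemma IsPolyFun.phi [CharZero K] (F : MvPolynomial (Fin 4) K) {x y z : K → Fin 4 → K}
    (hx : IsPolyVec x) (hy : IsPolyVec y) (hz : IsPolyVec z) :
    IsPolyFun (fun t => phi F (x t) (y t) (z t)) := by
  unfold Groth.Agent.Lib.Helper95.phi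
  refine (IsPolyFun.const _).mul ?_
  refine IsPolyFun.sum _ fun k _ => IsPolyFun.sum _ fun j _ => IsPolyFun.sum _ fun i _ => ?_
  exact (((IsPolyFun.const _).mul (hx i)).mul (hy j)).mul (hz k)

/-- Rank semicontinuity: a polynomial family of three vectors of `K⁴` that is independent at one
parameter is independent at all but finitely many. -/
lemma polyRank {R : K → Fin 3 → Fin 4 → K} (hR : ∀ i j, IsPolyFun (fun t => R t i j)) {t₁ : K}
    (h1 : LinearIndependent K (R t₁)) : {t | ¬ LinearIndependent K (R t)}.Finite := by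
  obtain ⟨w, hw⟩ := exists_linearIndependent_cons_of_lt_finrank h1
    (by rw [Module.finrank_fintype_fun_eq_card, Fintype.card_fin]; norm_num)
  let M : K → Matrix (Fin 4) (Fin 4) K := fun t => Matrix.of (Fin.cons w (R t))
  have hM : ∀ i j, IsPolyFun (fun t => M t i j) := by
    intro i j
    refine Fin.cases ?_ (fun i' => ?_) i
    · exact IsPolyFun.const _
    · exact hR i' j
  have hdet := IsPolyFun.det hM
  have hne : (M t₁).det ≠ 0 := by
    have : LinearIndependent K (M t₁).row := hw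
    rw [Matrix.linearIndependent_rows_iff_isUnit, Matrix.isUnit_iff_isUnit_det] at this
    exact this.ne_zero
  refine (hdet.finite_zeros hne).subset fun t ht => ?_
  by_contra hdne
  apply ht
  have hu : IsUnit (M t) := (Matrix.isUnit_iff_isUnit_det _).mpr (Ne.isUnit hdne)
  have hrows : LinearIndependent K (M t).row := Matrix.linearIndependent_rows_iff_isUnit.mpr hu
  have h2 : LinearIndependent K (Fin.cons w (R t) : Fin 4 → Fin 4 → K) := hrows
  exact (linearIndependent_finCons.mp h2).1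

end polyfun

section criterion
variable {K : Type*} [Field K] [CharZero K] (F : MvPolynomial (Fin 4) K)

/-- coefficients of the quadratic and cubic parts of `F` on the plane spanned by `b, u₁, u₂`. -/
noncomputable def al0 (b u₁ : Fin 4 → K) : K := 3 * phi F b u₁ u₁
noncomputable def al1 (b u₁ u₂ : Fin 4 → K) : K := 6 * phi F b u₁ u₂
noncomputable def al2 (b u₂ : Fin 4 → K) : K := 3 * phi F b u₂ u₂
noncomputable def ga0 (u₁ : Fin 4 → K) : K := phi F u₁ u₁ u₁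
noncomputable def ga1 (u₁ u₂ : Fin 4 → K) : K := 3 * phi F u₂ u₁ u₁
noncomputable def ga2 (u₁ u₂ : Fin 4 → K) : K := 3 * phi F u₂ u₂ u₁
noncomputable def ga3 (u₂ : Fin 4 → K) : K := phi F u₂ u₂ u₂

variable {F}

lemma plane_expand (hF : F.IsHomogeneous 3) {b u₁ u₂ : Fin 4 → K} (hb : phi F b b b = 0)
    (h1 : phi F b b u₁ = 0) (h2 : phi F b b u₂ = 0) (x y z : K) :
    eval (x • b + y • u₁ + z • u₂) F
      = x * (al0 F b u₁ * y ^ 2 + al1 F b u₁ u₂ * y * z + al2 F b u₂ * z ^ 2)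
        + (ga0 F u₁ * y ^ 3 + ga1 F u₁ u₂ * y ^ 2 * z + ga2 F u₁ u₂ * y * z ^ 2
            + ga3 F u₂ * z ^ 3) := by
  have e : x • b + y • u₁ + z • u₂ = (y • u₁ + z • u₂) + x • b := by abel
  rw [e, eval_add_smul hF, eval_add_smul hF (y • u₁) u₂ z, eval_eq_phi hF (y • u₁),
    eval_eq_phi hF b, eval_eq_phi hF u₂]
  have c1 : phi F b u₂ u₁ = phi F b u₁ u₂ := phi_comm23 ..
  simp only [phi_add_mid, phi_add_right, phi_smul_left, phi_smul_mid, phi_smul_right, hb, h1, h2,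
    c1, al0, al1, al2, ga0, ga1, ga2, ga3]
  ring

/-- Coordinates on the tangent plane with respect to a given basis. -/
lemma exists_coords {b u₁ u₂ : Fin 4 → K} (hsm : ∃ x, phi F b b x ≠ 0) (hb : phi F b b b = 0)
    (h1 : phi F b b u₁ = 0) (h2 : phi F b b u₂ = 0) (hli : LinearIndependent K ![b, u₁, u₂]) :
    ∃ c₀ c₁ c₂ : (Fin 4 → K) →ₗ[K] K,
      ∀ x, phi F b b x = 0 → x = c₀ x • b + c₁ x • u₁ + c₂ x • u₂ := by
  obtain ⟨w, hw⟩ := hsm
  have h4 : LinearIndependent K ![w, b, u₁, u₂] := by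
    rw [show (![w, b, u₁, u₂] : Fin 4 → (Fin 4 → K)) = Fin.cons w ![b, u₁, u₂] from rfl,
      linearIndependent_finCons]
    refine ⟨hli, fun hmem => ?_⟩
    have hle : Submodule.span K (Set.range ![b, u₁, u₂]) ≤ LinearMap.ker (phiL F b b) := by
      rw [Submodule.span_le]
      rintro x ⟨i, rfl⟩
      fin_cases i
      · exact hb
      · exact h1
      · exact h2
    exact hw (hle hmem)
  let B := basisOfLinearIndependentOfCardEqFinrank h4
    (by rw [Module.finrank_fintype_fun_eq_card])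
  have hB : ⇑B = ![w, b, u₁, u₂] := coe_basisOfLinearIndependentOfCardEqFinrank _ _
  have hdec : ∀ x, x = B.coord 0 x • w + B.coord 1 x • b + B.coord 2 x • u₁
      + B.coord 3 x • u₂ := by
    intro x
    conv_lhs => rw [← B.sum_repr x, Fin.sum_univ_four]
    rw [hB]; rfl
  refine ⟨B.coord 1, B.coord 2, B.coord 3, fun x hx => ?_⟩
  have h0 : B.coord 0 x = 0 := by
    have := congrArg (phi F b b) (hdec x)
    rw [hx] at this
    simp only [phi_add_right, phi_smul_right, hb, h1, h2, mul_zero, add_zero] at this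
    exact (mul_eq_zero.mp this.symm).resolve_right hw
  conv_lhs => rw [hdec x, h0]
  rw [zero_smul, zero_add]

/-- The rank criterion for T-points in a basis of the tangent plane. -/
theorem isT_iff_rowsDep [IsAlgClosed K] (hF : F.IsHomogeneous 3) {b u₁ u₂ : Fin 4 → K}
    (hsm : ∃ x, phi F b b x ≠ 0) (hb : phi F b b b = 0)
    (h1 : phi F b b u₁ = 0) (h2 : phi F b b u₂ = 0) (hli : LinearIndependent K ![b, u₁, u₂]) :
    IsT F b ↔ RowsDep (al0 F b u₁) (al1 F b u₁ u₂) (al2 F b u₂) (ga0 F u₁) (ga1 F u₁ u₂)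
      (ga2 F u₁ u₂) (ga3 F u₂) := by
  have hb0 : b ≠ 0 := by
    have := hli.ne_zero 0
    simpa using this
  constructor
  · rintro ⟨-, -, -, m₁, m₂, m₃, hm⟩
    apply rowsDep_of_ternFactor
    refine ⟨m₁ b, m₁ u₁, m₁ u₂, m₂ b, m₂ u₁, m₂ u₂, m₃ b, m₃ u₁, m₃ u₂, fun x y z => ?_⟩
    rw [← plane_expand hF hb h1 h2, hm]
    · simp only [map_add, map_smul, smul_eq_mul]; ring
    · simp only [phi_add_right, phi_smul_right, hb, h1, h2, mul_zero, add_zero]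
  · intro hdep
    obtain ⟨v₁, p₁, r₁, v₂, p₂, r₂, v₃, p₃, r₃, hfac⟩ := ternFactor_of_rowsDep hdep
    obtain ⟨c₀, c₁, c₂, hc⟩ := exists_coords hsm hb h1 h2 hli
    refine ⟨hb0, hb, hsm, v₁ • c₀ + p₁ • c₁ + r₁ • c₂, v₂ • c₀ + p₂ • c₁ + r₂ • c₂,
      v₃ • c₀ + p₃ • c₁ + r₃ • c₂, fun x hx => ?_⟩
    conv_lhs => rw [hc x hx]
    rw [plane_expand hF hb h1 h2, hfac]
    simp only [LinearMap.add_apply, LinearMap.smul_apply, smul_eq_mul]

end criterion

section curve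
variable {K : Type*} [Field K] [CharZero K] {F : MvPolynomial (Fin 4) K}

lemma li4 {v₀ v₁ v₂ v₃ : Fin 4 → K} (h : LinearIndependent K ![v₀, v₁, v₂, v₃]) {c₀ c₁ c₂ c₃ : K}
    (hc : c₀ • v₀ + c₁ • v₁ + c₂ • v₂ + c₃ • v₃ = 0) : c₀ = 0 ∧ c₁ = 0 ∧ c₂ = 0 ∧ c₃ = 0 := by
  have := Fintype.linearIndependent_iff.mp h ![c₀, c₁, c₂, c₃]
    (by simpa [Fin.sum_univ_four] using hc)
  exact ⟨this 0, this 1, this 2, this 3⟩

lemma rowsDep_iff_not_li (α₀ α₁ α₂ γ₀ γ₁ γ₂ γ₃ : K) :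
    RowsDep α₀ α₁ α₂ γ₀ γ₁ γ₂ γ₃ ↔
      ¬ LinearIndependent K ![![α₀, α₁, α₂, 0], ![0, α₀, α₁, α₂], ![γ₀, γ₁, γ₂, γ₃]] := by
  rw [Fintype.not_linearIndependent_iff]
  constructor
  · rintro ⟨l₀, l₁, l₂, hne, c0, c1, c2, c3⟩
    refine ⟨![l₀, l₁, l₂], ?_, ?_⟩
    · rw [Fin.sum_univ_three]
      ext j
      fin_cases j
      · simpa using c0
      · simpa using c1
      · simpa using c2
      · simpa using c3
    · by_contra hcon
      push Not at hcon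
      exact hne ⟨hcon 0, hcon 1, hcon 2⟩
  · rintro ⟨g, hg, i, hi⟩
    rw [Fin.sum_univ_three] at hg
    refine ⟨g 0, g 1, g 2, ?_, ?_, ?_, ?_, ?_⟩
    · rintro ⟨h0, h1, h2⟩
      fin_cases i
      · exact hi h0
      · exact hi h1
      · exact hi h2
    · simpa using congrFun hg 0
    · simpa using congrFun hg 1
    · simpa using congrFun hg 2
    · simpa using congrFun hg 3

/-- A polynomial curve on the tangent-plane section through (a multiple of) the non-T-point `a`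
carries only finitely many T-points. -/
theorem curve_lemma [IsAlgClosed K] (hF : F.IsHomogeneous 3) {a e₁ e₂ e₃ : Fin 4 → K}
    (hli : LinearIndependent K ![a, e₁, e₂, e₃]) (h3 : phi F a a e₃ ≠ 0)
    {ψ₀ ψ₁ ψ₂ : K → K} (hψ₀ : IsPolyFun ψ₀) (hψ₁ : IsPolyFun ψ₁) (hψ₂ : IsPolyFun ψ₂)
    (hon : ∀ t, eval (ψ₀ t • a + ψ₁ t • e₁ + ψ₂ t • e₂) F = 0)
    {t₁ : K} (h0 : ψ₀ t₁ ≠ 0) (h11 : ψ₁ t₁ = 0) (h12 : ψ₂ t₁ = 0)
    (hnT : ¬ IsT F a) :
    {t | IsT F (ψ₀ t • a + ψ₁ t • e₁ + ψ₂ t • e₂)}.Finite := by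
  set β : K → Fin 4 → K := fun t => ψ₀ t • a + ψ₁ t • e₁ + ψ₂ t • e₂ with hβ
  have hβv : IsPolyVec β :=
    ((IsPolyVec.smul hψ₀ (IsPolyVec.const a)).add (IsPolyVec.smul hψ₁ (IsPolyVec.const e₁))).add
      (IsPolyVec.smul hψ₂ (IsPolyVec.const e₂))
  set g₁ : K → K := fun t => phi F (β t) (β t) e₁ with hg₁d
  set g₂ : K → K := fun t => phi F (β t) (β t) e₂ with hg₂d
  set g₃ : K → K := fun t => phi F (β t) (β t) e₃ with hg₃d
  have hg₁ : IsPolyFun g₁ := IsPolyFun.phi F hβv hβv (IsPolyVec.const e₁)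
  have hg₂ : IsPolyFun g₂ := IsPolyFun.phi F hβv hβv (IsPolyVec.const e₂)
  have hg₃ : IsPolyFun g₃ := IsPolyFun.phi F hβv hβv (IsPolyVec.const e₃)
  set u₁ : K → Fin 4 → K := fun t => g₃ t • e₁ - g₁ t • e₃ with hu₁d
  set u₂ : K → Fin 4 → K := fun t => g₃ t • e₂ - g₂ t • e₃ with hu₂d
  have hu₁v : IsPolyVec u₁ :=
    (IsPolyVec.smul hg₃ (IsPolyVec.const e₁)).sub (IsPolyVec.smul hg₁ (IsPolyVec.const e₃))
  have hu₂v : IsPolyVec u₂ :=
    (IsPolyVec.smul hg₃ (IsPolyVec.const e₂)).sub (IsPolyVec.smul hg₂ (IsPolyVec.const e₃))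
  have hb : ∀ t, phi F (β t) (β t) (β t) = 0 := fun t => by
    rw [← eval_eq_phi hF]; exact hon t
  have hu1 : ∀ t, phi F (β t) (β t) (u₁ t) = 0 := fun t => by
    show phi F (β t) (β t) (g₃ t • e₁ - g₁ t • e₃) = 0
    rw [phi_sub_right, phi_smul_right, phi_smul_right]
    show g₃ t * g₁ t - g₁ t * g₃ t = 0
    ring
  have hu2 : ∀ t, phi F (β t) (β t) (u₂ t) = 0 := fun t => by
    show phi F (β t) (β t) (g₃ t • e₂ - g₂ t • e₃) = 0
    rw [phi_sub_right, phi_smul_right, phi_smul_right]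
    show g₃ t * g₂ t - g₂ t * g₃ t = 0
    ring
  have hA0 : IsPolyFun (fun t => al0 F (β t) (u₁ t)) :=
    (IsPolyFun.const 3).mul (IsPolyFun.phi F hβv hu₁v hu₁v)
  have hA1 : IsPolyFun (fun t => al1 F (β t) (u₁ t) (u₂ t)) :=
    (IsPolyFun.const 6).mul (IsPolyFun.phi F hβv hu₁v hu₂v)
  have hA2 : IsPolyFun (fun t => al2 F (β t) (u₂ t)) :=
    (IsPolyFun.const 3).mul (IsPolyFun.phi F hβv hu₂v hu₂v)
  have hG0 : IsPolyFun (fun t => ga0 F (u₁ t)) := IsPolyFun.phi F hu₁v hu₁v hu₁v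
  have hG1 : IsPolyFun (fun t => ga1 F (u₁ t) (u₂ t)) :=
    (IsPolyFun.const 3).mul (IsPolyFun.phi F hu₂v hu₁v hu₁v)
  have hG2 : IsPolyFun (fun t => ga2 F (u₁ t) (u₂ t)) :=
    (IsPolyFun.const 3).mul (IsPolyFun.phi F hu₂v hu₂v hu₁v)
  have hG3 : IsPolyFun (fun t => ga3 F (u₂ t)) := IsPolyFun.phi F hu₂v hu₂v hu₂v
  set R : K → Fin 3 → Fin 4 → K := fun t =>
    ![![al0 F (β t) (u₁ t), al1 F (β t) (u₁ t) (u₂ t), al2 F (β t) (u₂ t), 0],
      ![0, al0 F (β t) (u₁ t), al1 F (β t) (u₁ t) (u₂ t), al2 F (β t) (u₂ t)],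
      ![ga0 F (u₁ t), ga1 F (u₁ t) (u₂ t), ga2 F (u₁ t) (u₂ t), ga3 F (u₂ t)]] with hRd
  have hR : ∀ i j, IsPolyFun (fun t => R t i j) := by
    intro i j
    fin_cases i <;> fin_cases j
    exacts [hA0, hA1, hA2, IsPolyFun.const 0, IsPolyFun.const 0, hA0, hA1, hA2, hG0, hG1, hG2, hG3]
  have hgood : ∀ t, ψ₀ t ≠ 0 → g₃ t ≠ 0 → (IsT F (β t) ↔ ¬ LinearIndependent K (R t)) := by
    intro t hp hg
    have hLI : LinearIndependent K ![β t, u₁ t, u₂ t] := by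
      rw [Fintype.linearIndependent_iff]
      intro c hc
      rw [Fin.sum_univ_three] at hc
      have key : (c 0 * ψ₀ t) • a + (c 0 * ψ₁ t + c 1 * g₃ t) • e₁
          + (c 0 * ψ₂ t + c 2 * g₃ t) • e₂ + (-(c 1 * g₁ t) - c 2 * g₂ t) • e₃ = 0 := by
        rw [← hc]
        show _ = c 0 • (ψ₀ t • a + ψ₁ t • e₁ + ψ₂ t • e₂) + c 1 • (g₃ t • e₁ - g₁ t • e₃)
          + c 2 • (g₃ t • e₂ - g₂ t • e₃)
        simp only [smul_add, smul_sub, smul_smul, add_smul, sub_smul, neg_smul]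
        abel
      obtain ⟨k0, k1, k2, -⟩ := li4 hli key
      have c0 : c 0 = 0 := (mul_eq_zero.mp k0).resolve_right hp
      have c1 : c 1 = 0 := by
        rw [c0, zero_mul, zero_add] at k1
        exact (mul_eq_zero.mp k1).resolve_right hg
      have c2 : c 2 = 0 := by
        rw [c0, zero_mul, zero_add] at k2
        exact (mul_eq_zero.mp k2).resolve_right hg
      intro i
      fin_cases i
      · exact c0
      · exact c1
      · exact c2
    rw [isT_iff_rowsDep hF ⟨e₃, hg⟩ (hb t) (hu1 t) (hu2 t) hLI, rowsDep_iff_not_li]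
  have hβ1 : β t₁ = ψ₀ t₁ • a := by
    show ψ₀ t₁ • a + ψ₁ t₁ • e₁ + ψ₂ t₁ • e₂ = _
    rw [h11, h12, zero_smul, zero_smul, add_zero, add_zero]
  have hg31 : g₃ t₁ ≠ 0 := by
    show phi F (β t₁) (β t₁) e₃ ≠ 0
    rw [hβ1, phi_smul_left, phi_smul_mid]
    exact mul_ne_zero h0 (mul_ne_zero h0 h3)
  have hLI1 : LinearIndependent K (R t₁) := by
    by_contra hcon
    have := (hgood t₁ h0 hg31).mpr hcon
    rw [hβ1] at this
    exact hnT (IsT.of_smul h0 this)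
  have hfin := polyRank hR hLI1
  refine ((hψ₀.finite_zeros h0).union ((hg₃.finite_zeros hg31).union hfin)).subset fun t ht => ?_
  by_cases hp : ψ₀ t = 0
  · left; exact hp
  by_cases hg : g₃ t = 0
  · right; left; exact hg
  right; right
  exact (hgood t hp hg).mp ht

end curve

section classify
variable {K : Type*} [Field K] [CharZero K]
open Polynomial in
/-- Classification of the points of the plane cubic `x q₂(y,z) + q₃(y,z) = 0`. -/
lemma classify {α₀ α₁ α₂ γ₀ γ₁ γ₂ γ₃ : K} (hα₀ : α₀ ≠ 0) {d P' Q' : Polynomial K}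
    (hP : ∀ t, α₀ * t ^ 2 + α₁ * t + α₂ = d.eval t * P'.eval t)
    (hQ : ∀ t, γ₀ * t ^ 3 + γ₁ * t ^ 2 + γ₂ * t + γ₃ = d.eval t * Q'.eval t)
    (hcop : ∀ t, P'.eval t = 0 → Q'.eval t ≠ 0)
    {x y z : K} (hne : ¬ (x = 0 ∧ y = 0 ∧ z = 0))
    (h : x * (α₀ * y ^ 2 + α₁ * y * z + α₂ * z ^ 2)
      + (γ₀ * y ^ 3 + γ₁ * y ^ 2 * z + γ₂ * y * z ^ 2 + γ₃ * z ^ 3) = 0) :
    ∃ c : K, c ≠ 0 ∧ ((c * x = 1 ∧ c * y = 0 ∧ c * z = 0) ∨
      (c * x = -γ₀ ∧ c * y = α₀ ∧ c * z = 0) ∨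
      (∃ r, d.eval r = 0 ∧ c * x = 0 ∧ c * y = r ∧ c * z = 1) ∨
      (∃ t, c * x = -Q'.eval t ∧ c * y = t * P'.eval t ∧ c * z = P'.eval t) ∨
      (∃ r s, d.eval r = 0 ∧ c * x = 1 ∧ c * y = s * r ∧ c * z = s)) := by
  by_cases hz : z = 0
  · subst hz
    have h' : y ^ 2 * (α₀ * x + γ₀ * y) = 0 := by linear_combination h
    by_cases hy : y = 0
    · subst hy
      have hx : x ≠ 0 := fun hx => hne ⟨hx, rfl, rfl⟩
      exact ⟨x⁻¹, inv_ne_zero hx, Or.inl ⟨inv_mul_cancel₀ hx, mul_zero _, mul_zero _⟩⟩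
    · have h2 : α₀ * x + γ₀ * y = 0 := (mul_eq_zero.mp h').resolve_left (pow_ne_zero 2 hy)
      refine ⟨α₀ / y, div_ne_zero hα₀ hy, Or.inr (Or.inl ⟨?_, ?_, mul_zero _⟩)⟩
      · field_simp
        linear_combination h2
      · field_simp
  · set t := y / z with ht
    have hyt : y = t * z := by rw [ht]; field_simp
    have h' : z ^ 3 * (d.eval t * (x / z * P'.eval t + Q'.eval t)) = 0 := by
      have e1 := hP t
      have e2 := hQ t
      have : z ^ 3 * (d.eval t * (x / z * P'.eval t + Q'.eval t))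
          = x * z ^ 2 * (d.eval t * P'.eval t) + z ^ 3 * (d.eval t * Q'.eval t) := by
        field_simp
      rw [this, ← e1, ← e2, ← h, hyt]
      ring
    have h2 : d.eval t * (x / z * P'.eval t + Q'.eval t) = 0 :=
      (mul_eq_zero.mp h').resolve_left (pow_ne_zero 3 hz)
    by_cases hd : d.eval t = 0
    · by_cases hx : x = 0
      · refine ⟨z⁻¹, inv_ne_zero hz, Or.inr (Or.inr (Or.inl ⟨t, hd, ?_, ?_, inv_mul_cancel₀ hz⟩))⟩
        · rw [hx, mul_zero]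
        · rw [ht]; field_simp
      · refine ⟨x⁻¹, inv_ne_zero hx,
          Or.inr (Or.inr (Or.inr (Or.inr ⟨t, z / x, hd, inv_mul_cancel₀ hx, ?_, ?_⟩)))⟩
        · rw [ht]; field_simp
        · field_simp
    · have h3 : x / z * P'.eval t + Q'.eval t = 0 := (mul_eq_zero.mp h2).resolve_left hd
      have hPt : P'.eval t ≠ 0 := by
        intro h0
        apply hcop t h0
        rw [h0, mul_zero, zero_add] at h3
        exact h3
      refine ⟨P'.eval t / z, div_ne_zero hPt hz,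
        Or.inr (Or.inr (Or.inr (Or.inl ⟨t, ?_, ?_, ?_⟩)))⟩
      · linear_combination h3
      · rw [ht]; field_simp
      · field_simp

end classify

section decomp
variable {K : Type*} [Field K] [CharZero K]
open Polynomial
local notation "CC" => (Polynomial.C : K →+* Polynomial K)
local notation "XX" => (Polynomial.X : Polynomial K)

lemma cubic_fun_zero (c₀ c₁ c₂ c₃ : K)
    (h : ∀ t : K, c₀ * t ^ 3 + c₁ * t ^ 2 + c₂ * t + c₃ = 0) :
    c₀ = 0 ∧ c₁ = 0 ∧ c₂ = 0 ∧ c₃ = 0 := by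
  have h0 := h 0
  have h1 := h 1
  have hm := h (-1)
  have h2 := h 2
  have h2' : (2 : K) ≠ 0 := by norm_num
  have h6 : (6 : K) ≠ 0 := by norm_num
  have e3 : c₃ = 0 := by linear_combination h0
  have e1 : c₁ = 0 := by
    have : 2 * c₁ = 0 := by linear_combination h1 + hm - 2 * h0
    exact (mul_eq_zero.mp this).resolve_left h2'
  have e0 : c₀ = 0 := by
    have : 6 * c₀ = 0 := by linear_combination h2 - 2 * h1 - 2 * e1 + e3
    exact (mul_eq_zero.mp this).resolve_left h6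
  have e2 : c₂ = 0 := by linear_combination h1 - e0 - e1 - e3
  exact ⟨e0, e1, e2, e3⟩

lemma exists_gcd_decomp (P Q : K[X]) (hP : P ≠ 0) :
    ∃ d P' Q' A B : K[X], P = d * P' ∧ Q = d * Q' ∧ P' * A + Q' * B = 1 := by
  classical
  obtain ⟨P', hP'⟩ := EuclideanDomain.gcd_dvd_left P Q
  obtain ⟨Q', hQ'⟩ := EuclideanDomain.gcd_dvd_right P Q
  have hd : EuclideanDomain.gcd P Q ≠ 0 := by
    intro h0
    apply hP
    rw [hP', h0, zero_mul]
  refine ⟨EuclideanDomain.gcd P Q, P', Q', EuclideanDomain.gcdA P Q, EuclideanDomain.gcdB P Q,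
    hP', hQ', ?_⟩
  apply mul_left_cancel₀ hd
  have hb := EuclideanDomain.gcd_eq_gcd_ab P Q
  calc EuclideanDomain.gcd P Q * (P' * EuclideanDomain.gcdA P Q + Q' * EuclideanDomain.gcdB P Q)
      = (EuclideanDomain.gcd P Q * P') * EuclideanDomain.gcdA P Q
        + (EuclideanDomain.gcd P Q * Q') * EuclideanDomain.gcdB P Q := by ring
    _ = P * EuclideanDomain.gcdA P Q + Q * EuclideanDomain.gcdB P Q := by rw [← hP', ← hQ']
    _ = EuclideanDomain.gcd P Q * 1 := by rw [← hb, mul_one]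

/-- If the reduced quadratic part has no root, the rows are dependent. -/
lemma exists_root_of_not_rowsDep [IsAlgClosed K] {α₀ α₁ α₂ γ₀ γ₁ γ₂ γ₃ : K} (hα₀ : α₀ ≠ 0)
    (hnR : ¬ RowsDep α₀ α₁ α₂ γ₀ γ₁ γ₂ γ₃) {d P' Q' : K[X]}
    (hP : CC α₀ * XX ^ 2 + CC α₁ * XX + CC α₂ = d * P')
    (hQ : CC γ₀ * XX ^ 3 + CC γ₁ * XX ^ 2 + CC γ₂ * XX + CC γ₃ = d * Q') :
    ∃ t₁, P'.eval t₁ = 0 := by
  by_contra hno
  push Not at hno
  have hdeg : P'.degree = 0 := by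
    by_contra hdeg
    obtain ⟨x, hx⟩ := IsAlgClosed.exists_root P' hdeg
    exact hno x hx
  have hPC := eq_C_of_degree_eq_zero hdeg
  set c := P'.coeff 0 with hc
  have hQ2 : (CC α₀ * XX ^ 2 + CC α₁ * XX + CC α₂ : K[X]) ≠ 0 := by
    intro h0
    have := natDegree_quadratic (b := α₁) (c := α₂) hα₀
    rw [h0, natDegree_zero] at this
    exact absurd this (by norm_num)
  have hc0 : c ≠ 0 := by
    intro h0
    apply hQ2
    rw [hP, hPC, h0, Polynomial.C_0, mul_zero]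
  set M : K[X] := CC c⁻¹ * Q' with hM
  have hQM : CC γ₀ * XX ^ 3 + CC γ₁ * XX ^ 2 + CC γ₂ * XX + CC γ₃
      = (CC α₀ * XX ^ 2 + CC α₁ * XX + CC α₂) * M := by
    rw [hQ, hP, hPC, hM]
    have : (CC c * CC c⁻¹ : K[X]) = 1 := by rw [← Polynomial.C_mul, mul_inv_cancel₀ hc0, Polynomial.C_1]
    calc d * Q' = d * (CC c * CC c⁻¹) * Q' := by rw [this, mul_one]
      _ = d * CC c * (CC c⁻¹ * Q') := by ring
  have hMdeg : M.natDegree ≤ 1 := by
    by_cases hM0 : M = 0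
    · rw [hM0, natDegree_zero]; exact Nat.zero_le _
    · have h1 := natDegree_mul hQ2 hM0
      rw [← hQM, natDegree_quadratic hα₀] at h1
      have h2 := natDegree_cubic_le (a := γ₀) (b := γ₁) (c := γ₂) (d := γ₃)
      omega
  have hMlin := eq_X_add_C_of_natDegree_le_one hMdeg
  set m := M.coeff 1
  set n := M.coeff 0
  have hfun : ∀ t : K, (γ₀ - α₀ * m) * t ^ 3 + (γ₁ - (α₁ * m + α₀ * n)) * t ^ 2
      + (γ₂ - (α₂ * m + α₁ * n)) * t + (γ₃ - α₂ * n) = 0 := by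
    intro t
    have := congrArg (eval t) hQM
    rw [hMlin] at this
    simp only [Polynomial.eval_add, Polynomial.eval_mul, Polynomial.eval_C, Polynomial.eval_X,
      Polynomial.eval_pow] at this
    linear_combination this
  obtain ⟨e0, e1, e2, e3⟩ := cubic_fun_zero _ _ _ _ hfun
  apply hnR
  refine ⟨m, n, -1, ?_, ?_, ?_, ?_, ?_⟩
  · rintro ⟨-, -, h⟩
    exact one_ne_zero (neg_eq_zero.mp h)
  · linear_combination (-1 : K) * e0
  · linear_combination (-1 : K) * e1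
  · linear_combination (-1 : K) * e2
  · linear_combination (-1 : K) * e3

end decomp

section main
variable {K : Type*} [Field K] [CharZero K] {F : MvPolynomial (Fin 4) K}
local notation "CC" => (Polynomial.C : K →+* Polynomial K)
local notation "XX" => (Polynomial.X : Polynomial K)

lemma li3_of_li4 {v₀ v₁ v₂ v₃ : Fin 4 → K} (h : LinearIndependent K ![v₀, v₁, v₂, v₃]) :
    LinearIndependent K ![v₀, v₁, v₂] := by
  have := h.comp (Fin.castSucc : Fin 3 → Fin 4) (Fin.castSucc_injective 3)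
  have e : (![v₀, v₁, v₂, v₃] ∘ (Fin.castSucc : Fin 3 → Fin 4)) = ![v₀, v₁, v₂] := by
    funext i; fin_cases i <;> rfl
  rwa [e] at this

lemma exists_good_basis [IsAlgClosed K] (hF : F.IsHomogeneous 3) {a : Fin 4 → K}
    (haa : phi F a a a = 0) (hsm : ∃ x, phi F a a x ≠ 0) (hnT : ¬ IsT F a) :
    ∃ e₁ e₂ e₃ : Fin 4 → K, LinearIndependent K ![a, e₁, e₂, e₃] ∧ phi F a a e₁ = 0 ∧
      phi F a a e₂ = 0 ∧ phi F a a e₃ ≠ 0 ∧ phi F a e₁ e₁ ≠ 0 := by
  obtain ⟨w, hw⟩ := hsm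
  have ha : a ≠ 0 := by
    rintro rfl
    apply hw
    have := phi_smul_left F (0 : K) (0 : Fin 4 → K) 0 w
    rw [zero_smul, zero_mul] at this
    exact this
  have hlam : phiL F a a ≠ 0 := fun h => hw (by rw [← phiL_apply, h]; rfl)
  obtain ⟨b, hb0, hb1, hb2, hb3⟩ := exists_adapted_basis (phiL F a a) hlam ha haa
  have hli : LinearIndependent K ![a, b 1, b 3, b 0] := by
    have := b.linearIndependent.comp (![2, 1, 3, 0] : Fin 4 → Fin 4) (by decide)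
    have e : (⇑b ∘ ![2, 1, 3, 0]) = ![a, b 1, b 3, b 0] := by
      funext i; fin_cases i
      · exact hb2
      · rfl
      · rfl
      · rfl
    rwa [e] at this
  have h3 : phi F a a (b 0) ≠ 0 := by
    have : phi F a a (b 0) = 1 := hb0
    rw [this]; exact one_ne_zero
  have h1 : phi F a a (b 1) = 0 := hb1
  have h2 : phi F a a (b 3) = 0 := hb3
  by_cases c1 : phi F a (b 1) (b 1) ≠ 0
  · exact ⟨b 1, b 3, b 0, hli, h1, h2, h3, c1⟩
  push Not at c1
  by_cases c2 : phi F a (b 3) (b 3) ≠ 0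
  · refine ⟨b 3, b 1, b 0, ?_, h2, h1, h3, c2⟩
    have := hli.comp (![0, 2, 1, 3] : Fin 4 → Fin 4) (by decide)
    have e : (![a, b 1, b 3, b 0] ∘ ![0, 2, 1, 3]) = ![a, b 3, b 1, b 0] := by
      funext i; fin_cases i <;> rfl
    rwa [e] at this
  push Not at c2
  by_cases c3 : phi F a (b 1) (b 3) ≠ 0
  · refine ⟨b 1 + b 3, b 3, b 0, ?_, ?_, h2, h3, ?_⟩
    · rw [Fintype.linearIndependent_iff]
      intro c hc
      rw [Fin.sum_univ_four] at hc
      have key : c 0 • a + c 1 • b 1 + (c 1 + c 2) • b 3 + c 3 • b 0 = 0 := by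
        rw [← hc]
        show _ = c 0 • a + c 1 • (b 1 + b 3) + c 2 • b 3 + c 3 • b 0
        simp only [smul_add, add_smul]; abel
      obtain ⟨k0, k1, k2, k3⟩ := li4 hli key
      intro i; fin_cases i
      · exact k0
      · exact k1
      · show c 2 = 0
        rw [k1, zero_add] at k2; exact k2
      · exact k3
    · rw [phi_add_right, h1, h2, add_zero]
    · rw [phi_add_mid, phi_add_right, phi_add_right, c1, c2, phi_comm23 F a (b 3) (b 1)]
      have : (0 : K) + phi F a (b 1) (b 3) + (phi F a (b 1) (b 3) + 0)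
          = 2 * phi F a (b 1) (b 3) := by ring
      rw [this]; exact mul_ne_zero two_ne_zero c3
  push Not at c3
  exfalso
  apply hnT
  rw [isT_iff_rowsDep hF ⟨w, hw⟩ haa h1 h2 (li3_of_li4 hli)]
  exact rowsDep_of_alpha_zero _ _ _ _ (by rw [al0, c1, mul_zero]) (by rw [al1, c3, mul_zero])
    (by rw [al2, c2, mul_zero])

/-- Main finiteness theorem at function level. -/
theorem finite_T_lines [IsAlgClosed K] (hF : F.IsHomogeneous 3) {a : Fin 4 → K}
    (haa : phi F a a a = 0) (hsm : ∃ x, phi F a a x ≠ 0) (hnT : ¬ IsT F a) :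
    {U : Submodule K (Fin 4 → K) | Module.finrank K ↥U = 1 ∧ (∀ x ∈ U, phi F a a x = 0) ∧
      ∀ b ∈ U, b ≠ 0 → IsT F b}.Finite := by
  obtain ⟨e₁, e₂, e₃, hli, h1, h2, h3, hα₀'⟩ := exists_good_basis hF haa hsm hnT
  have hli3 := li3_of_li4 hli
  set α₀ := al0 F a e₁ with hα₀d
  set α₁ := al1 F a e₁ e₂ with hα₁d
  set α₂ := al2 F a e₂ with hα₂d
  set γ₀ := ga0 F e₁ with hγ₀d
  set γ₁ := ga1 F e₁ e₂ with hγ₁d
  set γ₂ := ga2 F e₁ e₂ with hγ₂d
  set γ₃ := ga3 F e₂ with hγ₃d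
  have hα₀ : α₀ ≠ 0 := mul_ne_zero (by norm_num) hα₀'
  have hnR : ¬ RowsDep α₀ α₁ α₂ γ₀ γ₁ γ₂ γ₃ := fun h =>
    hnT ((isT_iff_rowsDep hF hsm haa h1 h2 hli3).mpr h)
  have hQ2 : (CC α₀ * XX ^ 2 + CC α₁ * XX + CC α₂ : Polynomial K) ≠ 0 := by
    intro h0
    have := Polynomial.natDegree_quadratic (b := α₁) (c := α₂) hα₀
    rw [h0, Polynomial.natDegree_zero] at this
    exact absurd this (by norm_num)
  obtain ⟨d, P', Q', A, B, hP, hQ, hAB⟩ := exists_gcd_decomp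
    (CC α₀ * XX ^ 2 + CC α₁ * XX + CC α₂) (CC γ₀ * XX ^ 3 + CC γ₁ * XX ^ 2 + CC γ₂ * XX + CC γ₃) hQ2
  obtain ⟨t₁, ht₁⟩ := exists_root_of_not_rowsDep hα₀ hnR hP hQ
  have hPf : ∀ t, α₀ * t ^ 2 + α₁ * t + α₂ = d.eval t * P'.eval t := by
    intro t
    have := congrArg (Polynomial.eval t) hP
    simpa only [Polynomial.eval_add, Polynomial.eval_mul, Polynomial.eval_C, Polynomial.eval_X,
      Polynomial.eval_pow] using this
  have hQf : ∀ t, γ₀ * t ^ 3 + γ₁ * t ^ 2 + γ₂ * t + γ₃ = d.eval t * Q'.eval t := by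
    intro t
    have := congrArg (Polynomial.eval t) hQ
    simpa only [Polynomial.eval_add, Polynomial.eval_mul, Polynomial.eval_C, Polynomial.eval_X,
      Polynomial.eval_pow] using this
  have hcop : ∀ t, P'.eval t = 0 → Q'.eval t ≠ 0 := by
    intro t hp hq
    have := congrArg (Polynomial.eval t) hAB
    simp only [Polynomial.eval_add, Polynomial.eval_mul, Polynomial.eval_one, hp, hq, zero_mul,
      add_zero] at this
    exact zero_ne_one this
  have hd0 : d ≠ 0 := by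
    rintro rfl
    exact hQ2 (by rw [hP, zero_mul])
  have hdfin : {r | d.eval r = 0}.Finite := Polynomial.finite_setOfPred_isRoot hd0
  have hexp : ∀ x y z : K, eval (x • a + y • e₁ + z • e₂) F
      = x * (α₀ * y ^ 2 + α₁ * y * z + α₂ * z ^ 2)
        + (γ₀ * y ^ 3 + γ₁ * y ^ 2 * z + γ₂ * y * z ^ 2 + γ₃ * z ^ 3) :=
    plane_expand hF haa h1 h2
  -- family A
  have hA : {t | IsT F ((-Q'.eval t) • a + (t * P'.eval t) • e₁ + (P'.eval t) • e₂)}.Finite := by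
    refine curve_lemma hF hli h3 (ψ₀ := fun t => -Q'.eval t) (ψ₁ := fun t => t * P'.eval t)
      (ψ₂ := fun t => P'.eval t) (IsPolyFun.evalP Q').neg (IsPolyFun.id.mul (IsPolyFun.evalP P'))
      (IsPolyFun.evalP P') ?_ (t₁ := t₁) ?_ ?_ ht₁ hnT
    · intro t
      rw [hexp]
      linear_combination (-(Q'.eval t) * (P'.eval t) ^ 2) * hPf t + (P'.eval t) ^ 3 * hQf t
    · exact neg_ne_zero.mpr (hcop t₁ ht₁)
    · show t₁ * P'.eval t₁ = 0
      rw [ht₁, mul_zero]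
  -- family B
  have hB : ∀ r, d.eval r = 0 → {s : K | IsT F ((1 : K) • a + (s * r) • e₁ + s • e₂)}.Finite := by
    intro r hr
    refine curve_lemma hF hli h3 (ψ₀ := fun _ => (1 : K)) (ψ₁ := fun s => s * r) (ψ₂ := fun s => s)
      (IsPolyFun.const 1) (IsPolyFun.id.mul (IsPolyFun.const r)) IsPolyFun.id ?_ (t₁ := 0)
      one_ne_zero (zero_mul r) rfl hnT
    intro s
    rw [hexp]
    have e1 := hPf r
    have e2 := hQf r
    rw [hr, zero_mul] at e1 e2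
    linear_combination s ^ 2 * e1 + s ^ 3 * e2
  set sp : (Fin 4 → K) → Submodule K (Fin 4 → K) := fun v => Submodule.span K {v} with hsp
  let S₁ : Set (Submodule K (Fin 4 → K)) := {sp ((1 : K) • a + (0 : K) • e₁ + (0 : K) • e₂)}
  let S₂ : Set (Submodule K (Fin 4 → K)) := {sp ((-γ₀) • a + α₀ • e₁ + (0 : K) • e₂)}
  let S₃ : Set (Submodule K (Fin 4 → K)) :=
    (fun r => sp ((0 : K) • a + r • e₁ + (1 : K) • e₂)) '' {r | d.eval r = 0}
  let S₄ : Set (Submodule K (Fin 4 → K)) :=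
    (fun t => sp ((-Q'.eval t) • a + (t * P'.eval t) • e₁ + (P'.eval t) • e₂)) ''
      {t | IsT F ((-Q'.eval t) • a + (t * P'.eval t) • e₁ + (P'.eval t) • e₂)}
  let S₅ : Set (Submodule K (Fin 4 → K)) :=
    ⋃ r ∈ {r | d.eval r = 0}, (fun s => sp ((1 : K) • a + (s * r) • e₁ + s • e₂)) ''
      {s | IsT F ((1 : K) • a + (s * r) • e₁ + s • e₂)}
  have hfinite : ((((S₁ ∪ S₂) ∪ S₃) ∪ S₄) ∪ S₅).Finite := by
    refine Set.Finite.union (Set.Finite.union (Set.Finite.union (Set.Finite.union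
      (Set.finite_singleton _) (Set.finite_singleton _)) (hdfin.image _)) (hA.image _)) ?_
    exact Set.Finite.biUnion hdfin fun r hr => (hB r hr).image _
  refine hfinite.subset ?_
  rintro U ⟨hU1, hUH, hUT⟩
  obtain ⟨v, hv0, hv⟩ := finrank_eq_one_iff'.mp hU1
  have hbU : (v : Fin 4 → K) ∈ U := v.2
  have hb0 : (v : Fin 4 → K) ≠ 0 := fun h => hv0 (Subtype.ext h)
  have hUb : ∀ c : K, c ≠ 0 → U = sp (c • (v : Fin 4 → K)) := by
    intro c hc
    apply le_antisymm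
    · intro w hw
      obtain ⟨k, hk⟩ := hv ⟨w, hw⟩
      have hwk : w = k • (v : Fin 4 → K) := by
        have := congrArg Subtype.val hk
        simpa using this.symm
      rw [hwk]
      apply Submodule.mem_span_singleton.mpr
      exact ⟨k / c, by rw [smul_smul, div_mul_cancel₀ _ hc]⟩
    · rw [hsp]
      show Submodule.span K {c • (v : Fin 4 → K)} ≤ U
      rw [Submodule.span_singleton_le_iff_mem]
      exact U.smul_mem c hbU
  have hbT := hUT _ hbU hb0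
  have hbH := hUH _ hbU
  obtain ⟨c₀, c₁, c₂, hc⟩ := exists_coords hsm haa h1 h2 hli3
  have hb := hc _ hbH
  set x := c₀ (v : Fin 4 → K) with hx
  set y := c₁ (v : Fin 4 → K) with hy
  set z := c₂ (v : Fin 4 → K) with hz
  have hxyz : ¬ (x = 0 ∧ y = 0 ∧ z = 0) := by
    rintro ⟨hx0, hy0, hz0⟩
    apply hb0
    rw [hb, hx0, hy0, hz0]
    simp
  have hFb : eval (v : Fin 4 → K) F = 0 := by rw [eval_eq_phi hF]; exact hbT.2.1
  have hcub := hexp x y z
  rw [← hb, hFb] at hcub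
  obtain ⟨c, hc0, hcases⟩ := classify hα₀ hPf hQf hcop hxyz hcub.symm
  have hcb : c • (v : Fin 4 → K) = (c * x) • a + (c * y) • e₁ + (c * z) • e₂ := by
    conv_lhs => rw [hb]
    simp only [smul_add, smul_smul]
  have hU := hUb c hc0
  have hcT : IsT F (c • (v : Fin 4 → K)) := hUT _ (U.smul_mem c hbU) (smul_ne_zero hc0 hb0)
  rw [hcb] at hU hcT
  rcases hcases with ⟨e1, e2, e3⟩ | ⟨e1, e2, e3⟩ | ⟨r, hr, e1, e2, e3⟩ | ⟨t, e1, e2, e3⟩ |
    ⟨r, s, hr, e1, e2, e3⟩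
  · rw [e1, e2, e3] at hU
    exact Or.inl (Or.inl (Or.inl (Or.inl hU)))
  · rw [e1, e2, e3] at hU
    exact Or.inl (Or.inl (Or.inl (Or.inr hU)))
  · rw [e1, e2, e3] at hU
    exact Or.inl (Or.inl (Or.inr ⟨r, hr, hU.symm⟩))
  · rw [e1, e2, e3] at hU hcT
    exact Or.inl (Or.inr ⟨t, hcT, hU.symm⟩)
  · rw [e1, e2, e3] at hU hcT
    exact Or.inr (Set.mem_biUnion hr ⟨s, hcT, hU.symm⟩)

end main

end Groth.Agent.Lib.Helper92.TPoints
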