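import Mathlib
import Groth.Agent.Lib.Helper92.TPoints

/-!
# Five rational points in general position on a cubic surface (helper92)
-/

namespace Groth.Agent.Lib.Helper92.FivePts
set_option linter.unusedSectionVars false
open MvPolynomial Module Groth.Agent.Lib.Helper95 Groth.Agent.Lib.Helper92.TPoints

section basechange
variable {k K : Type*} [Field k] [CharZero k] [Field K] [CharZero K] (ι : k →+* K)
  (F : MvPolynomial (Fin 4) k)

/-- coordinatewise image of a vector. -/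
def mv (v : Fin 4 → k) : Fin 4 → K := fun i => ι (v i)

lemma mv_add (v w : Fin 4 → k) : mv ι (v + w) = mv ι v + mv ι w := by
  ext i; simp [mv]

lemma mv_smul (c : k) (v : Fin 4 → k) : mv ι (c • v) = ι c • mv ι v := by
  ext i; simp [mv]

lemma mv_injective : Function.Injective (mv ι : (Fin 4 → k) → (Fin 4 → K)) := by
  intro v w h
  ext i
  exact ι.injective (congrFun h i)

lemma mv_zero : mv ι (0 : Fin 4 → k) = 0 := by
  ext i; simp [mv]

lemma cubCoeff_map (i j l : Fin 4) :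
    cubCoeff (map ι F) i j l = ι (cubCoeff F i j l) := by
  unfold cubCoeff
  rw [pderiv_map, pderiv_map, pderiv_map, coeff_map]

lemma phi_map (x y z : Fin 4 → k) :
    phi (map ι F) (mv ι x) (mv ι y) (mv ι z) = ι (phi F x y z) := by
  unfold phi
  simp only [cubCoeff_map, mv, map_mul, map_sum, map_div₀, map_one, map_ofNat]

lemma eval_map_mv (x : Fin 4 → k) (G : MvPolynomial (Fin 4) k) :
    eval (mv ι x) (map ι G) = ι (eval x G) := by
  rw [eval_map, eval₂_comp]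
  rfl

lemma li_map {v : Fin 4 → (Fin 4 → k)} (h : LinearIndependent k v) :
    LinearIndependent K (fun i => mv ι (v i)) := by
  have h1 : LinearIndependent k (Matrix.of v).row := h
  rw [Matrix.linearIndependent_rows_iff_isUnit, Matrix.isUnit_iff_isUnit_det] at h1
  have h2 : IsUnit ((Matrix.of v).map ι).det := by
    have := ι.map_det (Matrix.of v)
    rw [RingHom.mapMatrix_apply] at this
    rw [← this]
    exact h1.map ι
  rw [← Matrix.isUnit_iff_isUnit_det, ← Matrix.linearIndependent_rows_iff_isUnit] at h2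
  exact h2

lemma li_of_map {n : ℕ} {v : Fin n → (Fin 4 → k)}
    (h : LinearIndependent K (fun i => mv ι (v i))) : LinearIndependent k v := by
  rw [Fintype.linearIndependent_iff] at h ⊢
  intro g hg i
  have := h (fun i => ι (g i)) (by
    have := congrArg (mv ι) hg
    rw [mv_zero] at this
    rw [← this]
    ext j
    simp [mv, Finset.sum_apply]) i
  exact (map_eq_zero ι).mp this

end basechange

section thirdpt
variable {K : Type*} [Field K] [CharZero K] (F : MvPolynomial (Fin 4) K)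

/-- The residual intersection point of the line through `b` in the tangent direction `u`. -/
noncomputable def thirdPt (b u : Fin 4 → K) : Fin 4 → K :=
  (-(eval u F)) • b + (3 * phi F b u u) • u

variable {F}

lemma thirdPt_on (hF : F.IsHomogeneous 3) {b u : Fin 4 → K} (hb : phi F b b b = 0)
    (hu : phi F b b u = 0) : eval (thirdPt F b u) F = 0 := by
  unfold thirdPt
  rw [eval_eq_phi hF, eval_eq_phi hF u]
  have c1 : phi F b u b = 0 := by rw [phi_comm23]; exact hu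
  have c2 : phi F u b b = 0 := by rw [phi_comm13]; exact hu
  have c3 : phi F u b u = phi F b u u := by rw [phi_comm12]
  have c4 : phi F u u b = phi F b u u := by rw [phi_comm13]
  simp only [phi_add_left, phi_add_mid, phi_add_right, phi_smul_left, phi_smul_mid, phi_smul_right,
    hb, hu, c1, c2, c3, c4]
  ring

lemma thirdPt_tangent {b u : Fin 4 → K} (hb : phi F b b b = 0) (hu : phi F b b u = 0) :
    phi F (thirdPt F b u) (thirdPt F b u) b = 9 * phi F b u u ^ 3 := by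
  unfold thirdPt
  have c1 : phi F b u b = 0 := by rw [phi_comm23]; exact hu
  have c2 : phi F u b b = 0 := by rw [phi_comm13]; exact hu
  have c4 : phi F u u b = phi F b u u := by rw [phi_comm13]
  simp only [phi_add_left, phi_add_mid, phi_smul_left, phi_smul_mid, hb, c1, c2, c4]
  ring

/-- `thirdPt` stays in the tangent plane of `a` when `b` and `u` do. -/
lemma phi_thirdPt_right (a : Fin 4 → K) {b u : Fin 4 → K} (h1 : phi F a a b = 0)
    (h2 : phi F a a u = 0) : phi F a a (thirdPt F b u) = 0 := by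
  unfold thirdPt
  rw [phi_add_right, phi_smul_right, phi_smul_right, h1, h2]; ring

/-- Coordinates of the third point in a basis of the tangent plane. -/
lemma thirdPt_param (hF : F.IsHomogeneous 3) {b u₁ u₂ : Fin 4 → K} (hb : phi F b b b = 0)
    (h1 : phi F b b u₁ = 0) (h2 : phi F b b u₂ = 0) (t : K) :
    thirdPt F b (t • u₁ + u₂)
      = (-(ga0 F u₁ * t ^ 3 + ga1 F u₁ u₂ * t ^ 2 + ga2 F u₁ u₂ * t + ga3 F u₂)) • b
        + (al0 F b u₁ * t ^ 2 + al1 F b u₁ u₂ * t + al2 F b u₂) • (t • u₁ + u₂) := by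
  unfold thirdPt
  have e1 : eval (t • u₁ + u₂) F
      = ga0 F u₁ * t ^ 3 + ga1 F u₁ u₂ * t ^ 2 + ga2 F u₁ u₂ * t + ga3 F u₂ := by
    have := plane_expand hF hb h1 h2 0 t 1
    rw [zero_smul, zero_add, one_smul] at this
    rw [this]; ring
  have e2 : 3 * phi F b (t • u₁ + u₂) (t • u₁ + u₂)
      = al0 F b u₁ * t ^ 2 + al1 F b u₁ u₂ * t + al2 F b u₂ := by
    have c : phi F b u₂ u₁ = phi F b u₁ u₂ := phi_comm23 ..
    simp only [phi_add_mid, phi_add_right, phi_smul_mid, phi_smul_right, c, al0, al1, al2]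
    ring
  rw [e1, e2]

end thirdpt

section thirdptmap
variable {k K : Type*} [Field k] [CharZero k] [Field K] [CharZero K] (ι : k →+* K)
  (F : MvPolynomial (Fin 4) k)

lemma thirdPt_map (b u : Fin 4 → k) :
    thirdPt (map ι F) (mv ι b) (mv ι u) = mv ι (thirdPt F b u) := by
  unfold thirdPt
  rw [mv_add, mv_smul, mv_smul, eval_map_mv, phi_map]
  simp only [map_neg, map_mul, map_ofNat]

end thirdptmap

section avoid
variable {k : Type*} [Field k] [CharZero k] {F : MvPolynomial (Fin 4) k}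

/-- A frame adapted to the tangent plane at a smooth rational point `b` of the surface. -/
structure TanBasis (F : MvPolynomial (Fin 4) k) (b u₁ u₂ e : Fin 4 → k) : Prop where
  li : LinearIndependent k ![b, u₁, u₂, e]
  hb : phi F b b b = 0
  h1 : phi F b b u₁ = 0
  h2 : phi F b b u₂ = 0
  h3 : phi F b b e ≠ 0

/-- `b` is not a T-point over the algebraic closure. -/
def NT (F : MvPolynomial (Fin 4) k) (b : Fin 4 → k) : Prop :=
  ¬ IsT (map (algebraMap k (AlgebraicClosure k)) F) (mv (algebraMap k (AlgebraicClosure k)) b)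

lemma not_rowsDep_of_NT (hF : F.IsHomogeneous 3) {b u₁ u₂ e : Fin 4 → k} (hB : TanBasis F b u₁ u₂ e)
    (hNT : NT F b) :
    ¬ RowsDep (al0 F b u₁) (al1 F b u₁ u₂) (al2 F b u₂) (ga0 F u₁) (ga1 F u₁ u₂)
      (ga2 F u₁ u₂) (ga3 F u₂) := by
  intro hR
  apply hNT
  set ι := algebraMap k (AlgebraicClosure k) with hι
  have hli4 : LinearIndependent (AlgebraicClosure k) ![mv ι b, mv ι u₁, mv ι u₂, mv ι e] := by
    have := li_map ι hB.li
    have e : (fun i => mv ι (![b, u₁, u₂, e] i)) = ![mv ι b, mv ι u₁, mv ι u₂, mv ι e] := by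
      funext i; fin_cases i <;> rfl
    rwa [e] at this
  have hsm : ∃ x, phi (map ι F) (mv ι b) (mv ι b) x ≠ 0 :=
    ⟨mv ι e, by rw [phi_map]; exact (map_ne_zero ι).mpr hB.h3⟩
  have hb' : phi (map ι F) (mv ι b) (mv ι b) (mv ι b) = 0 := by rw [phi_map, hB.hb, map_zero]
  have h1' : phi (map ι F) (mv ι b) (mv ι b) (mv ι u₁) = 0 := by rw [phi_map, hB.h1, map_zero]
  have h2' : phi (map ι F) (mv ι b) (mv ι b) (mv ι u₂) = 0 := by rw [phi_map, hB.h2, map_zero]
  rw [isT_iff_rowsDep (hF.map ι) hsm hb' h1' h2' (li3_of_li4 hli4)]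
  obtain ⟨l₀, l₁, l₂, hne, c0, c1, c2, c3⟩ := hR
  have ea0 : al0 (map ι F) (mv ι b) (mv ι u₁) = ι (al0 F b u₁) := by
    unfold al0; rw [phi_map, map_mul, map_ofNat]
  have ea1 : al1 (map ι F) (mv ι b) (mv ι u₁) (mv ι u₂) = ι (al1 F b u₁ u₂) := by
    unfold al1; rw [phi_map, map_mul, map_ofNat]
  have ea2 : al2 (map ι F) (mv ι b) (mv ι u₂) = ι (al2 F b u₂) := by
    unfold al2; rw [phi_map, map_mul, map_ofNat]
  have eg0 : ga0 (map ι F) (mv ι u₁) = ι (ga0 F u₁) := by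
    unfold ga0; rw [phi_map]
  have eg1 : ga1 (map ι F) (mv ι u₁) (mv ι u₂) = ι (ga1 F u₁ u₂) := by
    unfold ga1; rw [phi_map, map_mul, map_ofNat]
  have eg2 : ga2 (map ι F) (mv ι u₁) (mv ι u₂) = ι (ga2 F u₁ u₂) := by
    unfold ga2; rw [phi_map, map_mul, map_ofNat]
  have eg3 : ga3 (map ι F) (mv ι u₂) = ι (ga3 F u₂) := by
    unfold ga3; rw [phi_map]
  rw [ea0, ea1, ea2, eg0, eg1, eg2, eg3]
  refine ⟨ι l₀, ι l₁, ι l₂, ?_, ?_, ?_, ?_, ?_⟩
  · rintro ⟨h0, h1, h2⟩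
    exact hne ⟨(map_eq_zero ι).mp h0, (map_eq_zero ι).mp h1, (map_eq_zero ι).mp h2⟩
  · have := congrArg ι c0
    simpa only [map_add, map_mul, map_zero] using this
  · have := congrArg ι c1
    simpa only [map_add, map_mul, map_zero] using this
  · have := congrArg ι c2
    simpa only [map_add, map_mul, map_zero] using this
  · have := congrArg ι c3
    simpa only [map_add, map_mul, map_zero] using this

/-- **Avoidance**: the residual curve in the tangent plane at a non-T-point meets any plane other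
than the tangent plane in finitely many parameter values. -/
theorem avoid (hF : F.IsHomogeneous 3) {b u₁ u₂ e : Fin 4 → k} (hB : TanBasis F b u₁ u₂ e)
    (hNT : NT F b) (Λ : (Fin 4 → k) →ₗ[k] k) (hΛ : ¬ (Λ b = 0 ∧ Λ u₁ = 0 ∧ Λ u₂ = 0)) :
    {t : k | Λ (thirdPt F b (t • u₁ + u₂)) = 0}.Finite := by
  have hnR := not_rowsDep_of_NT hF hB hNT
  set α₀ := al0 F b u₁
  set α₁ := al1 F b u₁ u₂
  set α₂ := al2 F b u₂
  set γ₀ := ga0 F u₁
  set γ₁ := ga1 F u₁ u₂
  set γ₂ := ga2 F u₁ u₂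
  set γ₃ := ga3 F u₂
  set P : Polynomial k := Polynomial.C (Λ u₁ * α₀ - Λ b * γ₀) * Polynomial.X ^ 3
    + Polynomial.C (Λ u₁ * α₁ + Λ u₂ * α₀ - Λ b * γ₁) * Polynomial.X ^ 2
    + Polynomial.C (Λ u₁ * α₂ + Λ u₂ * α₁ - Λ b * γ₂) * Polynomial.X
    + Polynomial.C (Λ u₂ * α₂ - Λ b * γ₃) with hP
  have hP0 : P ≠ 0 := by
    intro h0
    have hc : ∀ n, P.coeff n = 0 := fun n => by rw [h0, Polynomial.coeff_zero]
    have c3 := hc 3
    have c2 := hc 2
    have c1 := hc 1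
    have c0 := hc 0
    simp only [hP, Polynomial.coeff_add, Polynomial.coeff_C_mul, Polynomial.coeff_X_pow,
      Polynomial.coeff_X, Polynomial.coeff_C] at c3 c2 c1 c0
    norm_num at c3 c2 c1 c0
    apply hnR
    refine ⟨Λ u₁, Λ u₂, -Λ b, ?_, ?_, ?_, ?_, ?_⟩
    · rintro ⟨h1, h2, h3⟩
      exact hΛ ⟨neg_eq_zero.mp h3, h1, h2⟩
    · linear_combination c3
    · linear_combination c2
    · linear_combination c1
    · linear_combination c0
  refine (Polynomial.finite_setOfPred_isRoot hP0).subset fun t ht => ?_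
  show P.eval t = 0
  have ht' : Λ (thirdPt F b (t • u₁ + u₂)) = 0 := ht
  rw [thirdPt_param hF hB.hb hB.h1 hB.h2] at ht'
  simp only [map_add, map_smul, smul_eq_mul] at ht'
  simp only [hP, Polynomial.eval_add, Polynomial.eval_mul, Polynomial.eval_C, Polynomial.eval_X,
    Polynomial.eval_pow]
  linear_combination ht'

end avoid

section generic
variable {K : Type*} [Field K] [CharZero K] {F : MvPolynomial (Fin 4) K}
local notation "CC" => (Polynomial.C : K →+* Polynomial K)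
local notation "XX" => (Polynomial.X : Polynomial K)

/-- Along the residual curve in the tangent plane at a non-T-point only finitely many points are
T-points (algebraically closed field). -/
theorem finite_isT_thirdPt [IsAlgClosed K] (hF : F.IsHomogeneous 3) {a e₁ e₂ e₃ : Fin 4 → K}
    (hli : LinearIndependent K ![a, e₁, e₂, e₃]) (haa : phi F a a a = 0) (h1 : phi F a a e₁ = 0)
    (h2 : phi F a a e₂ = 0) (h3 : phi F a a e₃ ≠ 0) (hα₀' : phi F a e₁ e₁ ≠ 0)
    (hnT : ¬ IsT F a) :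
    {t : K | IsT F (thirdPt F a (t • e₁ + e₂))}.Finite := by
  have hli3 := li3_of_li4 hli
  have hsm : ∃ x, phi F a a x ≠ 0 := ⟨e₃, h3⟩
  set α₀ := al0 F a e₁ with hα₀d
  set α₁ := al1 F a e₁ e₂ with hα₁d
  set α₂ := al2 F a e₂ with hα₂d
  set γ₀ := ga0 F e₁ with hγ₀d
  set γ₁ := ga1 F e₁ e₂ with hγ₁d
  set γ₂ := ga2 F e₁ e₂ with hγ₂d
  set γ₃ := ga3 F e₂ with hγ₃d
  have hα₀ : α₀ ≠ 0 := mul_ne_zero (by norm_num) hα₀'
  have hnR : ¬ RowsDep α₀ α₁ α₂ γ₀ γ₁ γ₂ γ₃ := fun h =>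
    hnT ((isT_iff_rowsDep hF hsm haa h1 h2 hli3).mpr h)
  have hQ2 : (CC α₀ * XX ^ 2 + CC α₁ * XX + CC α₂ : Polynomial K) ≠ 0 := by
    intro h0
    have := Polynomial.natDegree_quadratic (b := α₁) (c := α₂) hα₀
    rw [h0, Polynomial.natDegree_zero] at this
    exact absurd this (by norm_num)
  obtain ⟨d, P', Q', A, B, hP, hQ, hAB⟩ := exists_gcd_decomp
    (CC α₀ * XX ^ 2 + CC α₁ * XX + CC α₂) (CC γ₀ * XX ^ 3 + CC γ₁ * XX ^ 2 + CC γ₂ * XX + CC γ₃) hQ2
  obtain ⟨t₁, ht₁⟩ := exists_root_of_not_rowsDep hα₀ hnR hP hQ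
  have hPf : ∀ t, α₀ * t ^ 2 + α₁ * t + α₂ = d.eval t * P'.eval t := by
    intro t
    have := congrArg (Polynomial.eval t) hP
    simpa only [Polynomial.eval_add, Polynomial.eval_mul, Polynomial.eval_C, Polynomial.eval_X,
      Polynomial.eval_pow] using this
  have hQf : ∀ t, γ₀ * t ^ 3 + γ₁ * t ^ 2 + γ₂ * t + γ₃ = d.eval t * Q'.eval t := by
    intro t
    have := congrArg (Polynomial.eval t) hQ
    simpa only [Polynomial.eval_add, Polynomial.eval_mul, Polynomial.eval_C, Polynomial.eval_X,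
      Polynomial.eval_pow] using this
  have hcop : ∀ t, P'.eval t = 0 → Q'.eval t ≠ 0 := by
    intro t hp hq
    have := congrArg (Polynomial.eval t) hAB
    simp only [Polynomial.eval_add, Polynomial.eval_mul, Polynomial.eval_one, hp, hq, zero_mul,
      add_zero] at this
    exact zero_ne_one this
  have hd0 : d ≠ 0 := by
    rintro rfl
    exact hQ2 (by rw [hP, zero_mul])
  have hdfin : {r | d.eval r = 0}.Finite := Polynomial.finite_setOfPred_isRoot hd0
  have hexp : ∀ x y z : K, eval (x • a + y • e₁ + z • e₂) F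
      = x * (α₀ * y ^ 2 + α₁ * y * z + α₂ * z ^ 2)
        + (γ₀ * y ^ 3 + γ₁ * y ^ 2 * z + γ₂ * y * z ^ 2 + γ₃ * z ^ 3) :=
    plane_expand hF haa h1 h2
  have hA : {t | IsT F ((-Q'.eval t) • a + (t * P'.eval t) • e₁ + (P'.eval t) • e₂)}.Finite := by
    refine curve_lemma hF hli h3 (ψ₀ := fun t => -Q'.eval t) (ψ₁ := fun t => t * P'.eval t)
      (ψ₂ := fun t => P'.eval t) (IsPolyFun.evalP Q').neg (IsPolyFun.id.mul (IsPolyFun.evalP P'))
      (IsPolyFun.evalP P') ?_ (t₁ := t₁) ?_ ?_ ht₁ hnT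
    · intro t
      rw [hexp]
      linear_combination (-(Q'.eval t) * (P'.eval t) ^ 2) * hPf t + (P'.eval t) ^ 3 * hQf t
    · exact neg_ne_zero.mpr (hcop t₁ ht₁)
    · show t₁ * P'.eval t₁ = 0
      rw [ht₁, mul_zero]
  refine (hdfin.union hA).subset fun t ht => ?_
  by_cases hdt : d.eval t = 0
  · left; exact hdt
  right
  have ht' : IsT F (thirdPt F a (t • e₁ + e₂)) := ht
  rw [thirdPt_param hF haa h1 h2] at ht'
  have e : (-(γ₀ * t ^ 3 + γ₁ * t ^ 2 + γ₂ * t + γ₃)) • a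
      + (α₀ * t ^ 2 + α₁ * t + α₂) • (t • e₁ + e₂)
      = d.eval t • ((-Q'.eval t) • a + (t * P'.eval t) • e₁ + (P'.eval t) • e₂) := by
    rw [hPf, hQf]
    ext i
    simp only [Pi.add_apply, Pi.smul_apply, smul_eq_mul]
    ring
  rw [e] at ht'
  exact IsT.of_smul hdt ht'

end generic

section ratlevel
variable {k : Type*} [Field k] [CharZero k] {F : MvPolynomial (Fin 4) k}

theorem finite_not_NT (hF : F.IsHomogeneous 3) {a e₁ e₂ e₃ : Fin 4 → k}
    (hB : TanBasis F a e₁ e₂ e₃) (hα₀ : phi F a e₁ e₁ ≠ 0) (hNT : NT F a) :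
    {t : k | ¬ NT F (thirdPt F a (t • e₁ + e₂))}.Finite := by
  set ι := algebraMap k (AlgebraicClosure k) with hι
  have hli4 : LinearIndependent (AlgebraicClosure k) ![mv ι a, mv ι e₁, mv ι e₂, mv ι e₃] := by
    have := li_map ι hB.li
    have e : (fun i => mv ι (![a, e₁, e₂, e₃] i)) = ![mv ι a, mv ι e₁, mv ι e₂, mv ι e₃] := by
      funext i; fin_cases i <;> rfl
    rwa [e] at this
  have hfin := finite_isT_thirdPt (hF.map ι) hli4
    (by rw [phi_map, hB.hb, map_zero]) (by rw [phi_map, hB.h1, map_zero])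
    (by rw [phi_map, hB.h2, map_zero]) (by rw [phi_map]; exact (map_ne_zero ι).mpr hB.h3)
    (by rw [phi_map]; exact (map_ne_zero ι).mpr hα₀) hNT
  refine (hfin.preimage (f := ι) (ι.injective.injOn)).subset fun t ht => ?_
  have ht' : ¬ NT F (thirdPt F a (t • e₁ + e₂)) := ht
  unfold NT at ht'
  rw [not_not, ← thirdPt_map, mv_add, mv_smul] at ht'
  exact ht'

/-- A rational frame at a smooth rational point. -/
lemma exists_tanBasis {b : Fin 4 → k} (hb : phi F b b b = 0) (hsm : ∃ x, phi F b b x ≠ 0) :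
    ∃ u₁ u₂ e : Fin 4 → k, TanBasis F b u₁ u₂ e := by
  obtain ⟨w, hw⟩ := hsm
  have hb0 : b ≠ 0 := by
    rintro rfl
    apply hw
    have := phi_smul_left F (0 : k) (0 : Fin 4 → k) 0 w
    rw [zero_smul, zero_mul] at this
    exact this
  have hlam : phiL F b b ≠ 0 := fun h => hw (by rw [← phiL_apply, h]; rfl)
  obtain ⟨B, hB0, hB1, hB2, hB3⟩ := exists_adapted_basis (phiL F b b) hlam hb0 hb
  refine ⟨B 1, B 3, B 0, ?_, hb, hB1, hB3, ?_⟩
  · have := B.linearIndependent.comp (![2, 1, 3, 0] : Fin 4 → Fin 4) (by decide)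
    have e : (⇑B ∘ ![2, 1, 3, 0]) = ![b, B 1, B 3, B 0] := by
      funext i; fin_cases i
      · exact hB2
      · rfl
      · rfl
      · rfl
    rwa [e] at this
  · have : phi F b b (B 0) = 1 := hB0
    rw [this]; exact one_ne_zero

/-- Decomposition in a frame. -/
lemma frame_decomp {v₀ v₁ v₂ v₃ : Fin 4 → k} (hli : LinearIndependent k ![v₀, v₁, v₂, v₃]) :
    ∃ c₀ c₁ c₂ c₃ : (Fin 4 → k) →ₗ[k] k,
      (∀ x, x = c₀ x • v₀ + c₁ x • v₁ + c₂ x • v₂ + c₃ x • v₃) ∧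
      (c₀ v₀ = 1 ∧ c₀ v₁ = 0 ∧ c₀ v₂ = 0 ∧ c₀ v₃ = 0) ∧
      (c₁ v₀ = 0 ∧ c₁ v₁ = 1 ∧ c₁ v₂ = 0 ∧ c₁ v₃ = 0) ∧
      (c₂ v₀ = 0 ∧ c₂ v₁ = 0 ∧ c₂ v₂ = 1 ∧ c₂ v₃ = 0) ∧
      (c₃ v₀ = 0 ∧ c₃ v₁ = 0 ∧ c₃ v₂ = 0 ∧ c₃ v₃ = 1) := by
  let B := basisOfLinearIndependentOfCardEqFinrank hli
    (by rw [Module.finrank_fintype_fun_eq_card])
  have hB : ⇑B = ![v₀, v₁, v₂, v₃] := coe_basisOfLinearIndependentOfCardEqFinrank _ _
  have hdec : ∀ x, x = B.coord 0 x • v₀ + B.coord 1 x • v₁ + B.coord 2 x • v₂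
      + B.coord 3 x • v₃ := by
    intro x
    conv_lhs => rw [← B.sum_repr x, Fin.sum_univ_four]
    rw [hB]; rfl
  have hcoord : ∀ i j, B.coord i (B j) = if j = i then 1 else 0 := by
    intro i j
    simp [Basis.coord_apply, Finsupp.single_apply]
  have e0 : v₀ = B 0 := by rw [hB]; rfl
  have e1 : v₁ = B 1 := by rw [hB]; rfl
  have e2 : v₂ = B 2 := by rw [hB]; rfl
  have e3 : v₃ = B 3 := by rw [hB]; rfl
  refine ⟨B.coord 0, B.coord 1, B.coord 2, B.coord 3, hdec, ?_, ?_, ?_, ?_⟩ <;>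
    (rw [e0, e1, e2, e3]; simp [hcoord])

/-- A linear form cutting out the plane spanned by the first three vectors of a frame. -/
lemma planeForm {v₀ v₁ v₂ v₃ : Fin 4 → k} (hli : LinearIndependent k ![v₀, v₁, v₂, v₃]) :
    ∃ Λ : (Fin 4 → k) →ₗ[k] k, Λ v₀ = 0 ∧ Λ v₁ = 0 ∧ Λ v₂ = 0 ∧ Λ v₃ = 1 := by
  obtain ⟨-, -, -, c₃, -, -, -, -, h⟩ := frame_decomp hli
  exact ⟨c₃, h⟩

lemma li_of_form {v₀ v₁ v₂ x : Fin 4 → k} (hli : LinearIndependent k ![v₀, v₁, v₂])
    (Λ : (Fin 4 → k) →ₗ[k] k) (h0 : Λ v₀ = 0) (h1 : Λ v₁ = 0) (h2 : Λ v₂ = 0) (hx : Λ x ≠ 0) :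
    LinearIndependent k ![v₀, v₁, v₂, x] := by
  rw [Fintype.linearIndependent_iff] at hli ⊢
  intro g hg
  rw [Fin.sum_univ_four] at hg
  have hg' : g 0 • v₀ + g 1 • v₁ + g 2 • v₂ + g 3 • x = 0 := hg
  have h3 : g 3 = 0 := by
    have := congrArg Λ hg'
    simp only [map_add, map_smul, smul_eq_mul, h0, h1, h2, mul_zero, zero_add, map_zero] at this
    exact (mul_eq_zero.mp this).resolve_right hx
  rw [h3, zero_smul, add_zero] at hg'
  have := hli ![g 0, g 1, g 2] (by rw [Fin.sum_univ_three]; exact hg')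
  intro i
  fin_cases i
  · exact this 0
  · exact this 1
  · exact this 2
  · exact h3

/-- A nonzero form vanishing at a vector off the tangent plane cannot vanish on the plane. -/
lemma nonvanish {b u₁ u₂ e : Fin 4 → k} (hB : TanBasis F b u₁ u₂ e) (Λ : (Fin 4 → k) →ₗ[k] k)
    (hΛ : ∃ x, Λ x ≠ 0) {v : Fin 4 → k} (hv : Λ v = 0) (hvb : phi F b b v ≠ 0) :
    ¬ (Λ b = 0 ∧ Λ u₁ = 0 ∧ Λ u₂ = 0) := by
  rintro ⟨h0, h1, h2⟩
  obtain ⟨c₀, c₁, c₂, c₃, hdec, -, -, -, -⟩ := frame_decomp hB.li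
  have key : ∀ x, Λ x = c₃ x * Λ e := by
    intro x
    conv_lhs => rw [hdec x]
    simp only [map_add, map_smul, smul_eq_mul, h0, h1, h2, mul_zero, zero_add]
  have key2 : ∀ x, phi F b b x = c₃ x * phi F b b e := by
    intro x
    conv_lhs => rw [hdec x]
    simp only [phi_add_right, phi_smul_right, hB.hb, hB.h1, hB.h2, mul_zero, zero_add]
  have hc : c₃ v ≠ 0 := by
    intro h
    apply hvb
    rw [key2, h, zero_mul]
  have hΛe : Λ e = 0 := by
    have := key v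
    rw [hv] at this
    exact (mul_eq_zero.mp this.symm).resolve_left hc
  obtain ⟨x, hx⟩ := hΛ
  apply hx
  rw [key, hΛe, mul_zero]

end ratlevel

section smoothcase
variable {k : Type*} [Field k] [CharZero k] {F : MvPolynomial (Fin 4) k}

lemma exists_good_tanBasis (hF : F.IsHomogeneous 3) {a : Fin 4 → k} (haa : phi F a a a = 0)
    (hsm : ∃ x, phi F a a x ≠ 0) (hNT : NT F a) :
    ∃ e₁ e₂ e₃ : Fin 4 → k, TanBasis F a e₁ e₂ e₃ ∧ phi F a e₁ e₁ ≠ 0 := by
  obtain ⟨f₁, f₂, e₃, hB⟩ := exists_tanBasis haa hsm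
  by_cases c1 : phi F a f₁ f₁ ≠ 0
  · exact ⟨f₁, f₂, e₃, hB, c1⟩
  push Not at c1
  by_cases c2 : phi F a f₂ f₂ ≠ 0
  · refine ⟨f₂, f₁, e₃, ⟨?_, haa, hB.h2, hB.h1, hB.h3⟩, c2⟩
    have := hB.li.comp (![0, 2, 1, 3] : Fin 4 → Fin 4) (by decide)
    have e : (![a, f₁, f₂, e₃] ∘ ![0, 2, 1, 3]) = ![a, f₂, f₁, e₃] := by
      funext i; fin_cases i <;> rfl
    rwa [e] at this
  push Not at c2
  by_cases c3 : phi F a f₁ f₂ ≠ 0
  · refine ⟨f₁ + f₂, f₂, e₃, ⟨?_, haa, ?_, hB.h2, hB.h3⟩, ?_⟩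
    · rw [Fintype.linearIndependent_iff]
      intro c hc
      rw [Fin.sum_univ_four] at hc
      have key : c 0 • a + c 1 • f₁ + (c 1 + c 2) • f₂ + c 3 • e₃ = 0 := by
        rw [← hc]
        show _ = c 0 • a + c 1 • (f₁ + f₂) + c 2 • f₂ + c 3 • e₃
        simp only [smul_add, add_smul]; abel
      obtain ⟨k0, k1, k2, k3⟩ := li4 hB.li key
      intro i; fin_cases i
      · exact k0
      · exact k1
      · show c 2 = 0
        rw [k1, zero_add] at k2; exact k2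
      · exact k3
    · rw [phi_add_right, hB.h1, hB.h2, add_zero]
    · rw [phi_add_mid, phi_add_right, phi_add_right, c1, c2, phi_comm23 F a f₂ f₁]
      have : (0 : k) + phi F a f₁ f₂ + (phi F a f₁ f₂ + 0) = 2 * phi F a f₁ f₂ := by ring
      rw [this]; exact mul_ne_zero two_ne_zero c3
  push Not at c3
  exfalso
  apply not_rowsDep_of_NT hF hB hNT
  exact rowsDep_of_alpha_zero _ _ _ _ (by rw [al0, c1, mul_zero]) (by rw [al1, c3, mul_zero])
    (by rw [al2, c2, mul_zero])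

/-- Smooth case: four further rational points in general position with `a`. -/
theorem five_points_smooth (hF : F.IsHomogeneous 3) {a : Fin 4 → k} (haa : phi F a a a = 0)
    (hsm : ∃ x, phi F a a x ≠ 0) (hNT : NT F a) :
    ∃ b₁ b₂ c₁ c₂ : Fin 4 → k, eval b₁ F = 0 ∧ eval b₂ F = 0 ∧ eval c₁ F = 0 ∧ eval c₂ F = 0 ∧
      LinearIndependent k ![b₁, b₂, c₁, c₂] ∧ LinearIndependent k ![a, b₂, c₁, c₂] ∧
      LinearIndependent k ![a, b₁, c₁, c₂] ∧ LinearIndependent k ![a, b₁, b₂, c₂] ∧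
      LinearIndependent k ![a, b₁, b₂, c₁] := by
  obtain ⟨e₁, e₂, e₃, hBa, hα₀⟩ := exists_good_tanBasis hF haa hsm hNT
  set β : k → Fin 4 → k := fun t => thirdPt F a (t • e₁ + e₂) with hβ
  have hu : ∀ t : k, phi F a a (t • e₁ + e₂) = 0 := by
    intro t
    rw [phi_add_right, phi_smul_right, hBa.h1, hBa.h2]; ring
  have hβon : ∀ t, eval (β t) F = 0 := fun t => thirdPt_on hF haa (hu t)
  have hβTa : ∀ t, phi F a a (β t) = 0 := fun t => phi_thirdPt_right a haa (hu t)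
  set Q₂ : k → k := fun t => phi F a (t • e₁ + e₂) (t • e₁ + e₂) with hQ₂
  have hQ₂fin : {t | Q₂ t = 0}.Finite := by
    set P : Polynomial k := Polynomial.C (phi F a e₁ e₁) * Polynomial.X ^ 2
      + Polynomial.C (2 * phi F a e₁ e₂) * Polynomial.X + Polynomial.C (phi F a e₂ e₂) with hP
    have hP0 : P ≠ 0 := by
      intro h0
      have := Polynomial.natDegree_quadratic (b := 2 * phi F a e₁ e₂) (c := phi F a e₂ e₂) hα₀
      rw [← hP, h0, Polynomial.natDegree_zero] at this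
      exact absurd this (by norm_num)
    refine (Polynomial.finite_setOfPred_isRoot hP0).subset fun t ht => ?_
    show P.eval t = 0
    have ht' : phi F a (t • e₁ + e₂) (t • e₁ + e₂) = 0 := ht
    have c : phi F a e₂ e₁ = phi F a e₁ e₂ := phi_comm23 ..
    simp only [phi_add_mid, phi_add_right, phi_smul_mid, phi_smul_right, c] at ht'
    simp only [hP, Polynomial.eval_add, Polynomial.eval_mul, Polynomial.eval_C, Polynomial.eval_X,
      Polynomial.eval_pow]
    linear_combination ht'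
  have hβa : ∀ t, phi F (β t) (β t) a = 9 * Q₂ t ^ 3 := fun t => thirdPt_tangent haa (hu t)
  have hbad := finite_not_NT hF hBa hα₀ hNT
  -- first point
  obtain ⟨t₁, ht₁⟩ := (hbad.union hQ₂fin).exists_notMem
  have hNT₁ : NT F (β t₁) := by
    by_contra h; exact ht₁ (Or.inl h)
  have hq₁ : Q₂ t₁ ≠ 0 := fun h => ht₁ (Or.inr h)
  set b₁ := β t₁ with hb₁d
  have hb₁a : phi F b₁ b₁ a ≠ 0 := by
    rw [hβa]; exact mul_ne_zero (by norm_num) (pow_ne_zero 3 hq₁)
  have hb₁ : phi F b₁ b₁ b₁ = 0 := by rw [← eval_eq_phi hF]; exact hβon t₁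
  obtain ⟨u₁, u₂, e, hB₁⟩ := exists_tanBasis hb₁ ⟨a, hb₁a⟩
  -- second point
  have hS₂ : ((({t | ¬ NT F (β t)} ∪ {t | Q₂ t = 0}) ∪ {t₁}) ∪
      {t | phiL F b₁ b₁ (thirdPt F a (t • e₁ + e₂)) = 0}).Finite :=
    ((hbad.union hQ₂fin).union (Set.finite_singleton t₁)).union
      (avoid hF hBa hNT (phiL F b₁ b₁) (fun h => hb₁a h.1))
  obtain ⟨t₂, ht₂⟩ := hS₂.exists_notMem
  have hNT₂ : NT F (β t₂) := by
    by_contra h; exact ht₂ (Or.inl (Or.inl (Or.inl h)))
  have hq₂ : Q₂ t₂ ≠ 0 := fun h => ht₂ (Or.inl (Or.inl (Or.inr h)))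
  have ht₁₂ : t₂ ≠ t₁ := fun h => ht₂ (Or.inl (Or.inr h))
  set b₂ := β t₂ with hb₂d
  have hb₁b₂ : phi F b₁ b₁ b₂ ≠ 0 := fun h => ht₂ (Or.inr h)
  have hb₂a : phi F b₂ b₂ a ≠ 0 := by
    rw [hβa]; exact mul_ne_zero (by norm_num) (pow_ne_zero 3 hq₂)
  have hb₂ : phi F b₂ b₂ b₂ = 0 := by rw [← eval_eq_phi hF]; exact hβon t₂
  obtain ⟨u₁', u₂', e', hB₂⟩ := exists_tanBasis hb₂ ⟨a, hb₂a⟩
  -- independence of a, b₁, b₂
  have hLI3 : LinearIndependent k ![a, b₁, b₂] := by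
    rw [Fintype.linearIndependent_iff]
    intro g hg
    rw [Fin.sum_univ_three] at hg
    have key : (g 0 + g 1 * (-(eval (t₁ • e₁ + e₂) F)) + g 2 * (-(eval (t₂ • e₁ + e₂) F))) • a
        + (g 1 * (3 * Q₂ t₁) * t₁ + g 2 * (3 * Q₂ t₂) * t₂) • e₁
        + (g 1 * (3 * Q₂ t₁) + g 2 * (3 * Q₂ t₂)) • e₂ + (0 : k) • e₃ = 0 := by
      rw [← hg]
      show _ = g 0 • a + g 1 • thirdPt F a (t₁ • e₁ + e₂) + g 2 • thirdPt F a (t₂ • e₁ + e₂)
      unfold thirdPt
      ext i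
      simp only [Pi.add_apply, Pi.smul_apply, smul_eq_mul, hQ₂]
      ring
    obtain ⟨k0, k1, k2, -⟩ := li4 hBa.li key
    have g2 : g 2 = 0 := by
      have h : g 2 * (3 * Q₂ t₂) * (t₂ - t₁) = 0 := by linear_combination k1 - t₁ * k2
      have h3 : (3 : k) ≠ 0 := by norm_num
      rcases mul_eq_zero.mp h with h | h
      · rcases mul_eq_zero.mp h with h | h
        · exact h
        · exact absurd h (mul_ne_zero h3 hq₂)
      · exact absurd (sub_eq_zero.mp h) ht₁₂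
    have g1 : g 1 = 0 := by
      rw [g2, zero_mul, add_zero] at k2
      have h3 : (3 : k) ≠ 0 := by norm_num
      exact (mul_eq_zero.mp k2).resolve_right (mul_ne_zero h3 hq₁)
    have g0 : g 0 = 0 := by
      rw [g1, g2, zero_mul, zero_mul, add_zero, add_zero] at k0
      exact k0
    intro i; fin_cases i
    · exact g0
    · exact g1
    · exact g2
  -- third point
  have htan₁ : ∀ s : k, phi F b₁ b₁ (s • u₁ + u₂) = 0 := by
    intro s
    rw [phi_add_right, phi_smul_right, hB₁.h1, hB₁.h2]; ring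
  have hS₃ : ({s | phiL F a a (thirdPt F b₁ (s • u₁ + u₂)) = 0} ∪
      {s | phiL F b₂ b₂ (thirdPt F b₁ (s • u₁ + u₂)) = 0}).Finite :=
    (avoid hF hB₁ hNT₁ (phiL F a a)
        (nonvanish hB₁ (phiL F a a) ⟨e₃, hBa.h3⟩ (v := a) haa hb₁a)).union
      (avoid hF hB₁ hNT₁ (phiL F b₂ b₂)
        (nonvanish hB₁ (phiL F b₂ b₂) ⟨a, hb₂a⟩ (v := b₂) hb₂ hb₁b₂))
  obtain ⟨s₁, hs₁⟩ := hS₃.exists_notMem
  set c₁ := thirdPt F b₁ (s₁ • u₁ + u₂) with hc₁d
  have hc₁a : phi F a a c₁ ≠ 0 := fun h => hs₁ (Or.inl h)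
  have hc₁b₂ : phi F b₂ b₂ c₁ ≠ 0 := fun h => hs₁ (Or.inr h)
  have hc₁on : eval c₁ F = 0 := thirdPt_on hF hb₁ (htan₁ s₁)
  have hL4 : LinearIndependent k ![a, b₁, b₂, c₁] :=
    li_of_form hLI3 (phiL F a a) haa (hβTa t₁) (hβTa t₂) hc₁a
  have hL4a : LinearIndependent k ![a, b₁, c₁, b₂] := by
    have := hL4.comp (![0, 1, 3, 2] : Fin 4 → Fin 4) (by decide)
    have e : (![a, b₁, b₂, c₁] ∘ ![0, 1, 3, 2]) = ![a, b₁, c₁, b₂] := by
      funext i; fin_cases i <;> rfl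
    rwa [e] at this
  have hL4b : LinearIndependent k ![a, b₂, c₁, b₁] := by
    have := hL4.comp (![0, 2, 3, 1] : Fin 4 → Fin 4) (by decide)
    have e : (![a, b₁, b₂, c₁] ∘ ![0, 2, 3, 1]) = ![a, b₂, c₁, b₁] := by
      funext i; fin_cases i <;> rfl
    rwa [e] at this
  have hL4c : LinearIndependent k ![b₁, b₂, c₁, a] := by
    have := hL4.comp (![1, 2, 3, 0] : Fin 4 → Fin 4) (by decide)
    have e : (![a, b₁, b₂, c₁] ∘ ![1, 2, 3, 0]) = ![b₁, b₂, c₁, a] := by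
      funext i; fin_cases i <;> rfl
    rwa [e] at this
  obtain ⟨Λ₄, h40, h41, h42, h43⟩ := planeForm hL4a
  obtain ⟨Λ₅, h50, h51, h52, h53⟩ := planeForm hL4b
  obtain ⟨Λ₆, h60, h61, h62, h63⟩ := planeForm hL4c
  -- fourth point
  have htan₂ : ∀ s : k, phi F b₂ b₂ (s • u₁' + u₂') = 0 := by
    intro s
    rw [phi_add_right, phi_smul_right, hB₂.h1, hB₂.h2]; ring
  have hS₄ : ((({s | phiL F a a (thirdPt F b₂ (s • u₁' + u₂')) = 0} ∪
      {s | Λ₄ (thirdPt F b₂ (s • u₁' + u₂')) = 0}) ∪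
      {s | Λ₅ (thirdPt F b₂ (s • u₁' + u₂')) = 0}) ∪
      {s | Λ₆ (thirdPt F b₂ (s • u₁' + u₂')) = 0}).Finite :=
    (((avoid hF hB₂ hNT₂ (phiL F a a)
        (nonvanish hB₂ (phiL F a a) ⟨e₃, hBa.h3⟩ (v := a) haa hb₂a)).union
      (avoid hF hB₂ hNT₂ Λ₄
        (nonvanish hB₂ Λ₄ ⟨b₂, by rw [h43]; exact one_ne_zero⟩ (v := a) h40 hb₂a))).union
      (avoid hF hB₂ hNT₂ Λ₅
        (nonvanish hB₂ Λ₅ ⟨b₁, by rw [h53]; exact one_ne_zero⟩ (v := a) h50 hb₂a))).union
      (avoid hF hB₂ hNT₂ Λ₆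
        (nonvanish hB₂ Λ₆ ⟨a, by rw [h63]; exact one_ne_zero⟩ (v := c₁) h62 hc₁b₂))
  obtain ⟨s₂, hs₂⟩ := hS₄.exists_notMem
  set c₂ := thirdPt F b₂ (s₂ • u₁' + u₂') with hc₂d
  have hc₂a : phi F a a c₂ ≠ 0 := fun h => hs₂ (Or.inl (Or.inl (Or.inl h)))
  have hc₂4 : Λ₄ c₂ ≠ 0 := fun h => hs₂ (Or.inl (Or.inl (Or.inr h)))
  have hc₂5 : Λ₅ c₂ ≠ 0 := fun h => hs₂ (Or.inl (Or.inr h))
  have hc₂6 : Λ₆ c₂ ≠ 0 := fun h => hs₂ (Or.inr h)
  have hc₂on : eval c₂ F = 0 := thirdPt_on hF hb₂ (htan₂ s₂)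
  refine ⟨b₁, b₂, c₁, c₂, hβon t₁, hβon t₂, hc₁on, hc₂on, ?_, ?_, ?_, ?_, hL4⟩
  · exact li_of_form (li3_of_li4 hL4c) Λ₆ h60 h61 h62 hc₂6
  · exact li_of_form (li3_of_li4 hL4b) Λ₅ h50 h51 h52 hc₂5
  · exact li_of_form (li3_of_li4 hL4a) Λ₄ h40 h41 h42 hc₂4
  · exact li_of_form hLI3 (phiL F a a) haa (hβTa t₁) (hβTa t₂) hc₂a

end smoothcase

section singularcase
variable {k : Type*} [Field k] [CharZero k] {F : MvPolynomial (Fin 4) k}

lemma IsPolyFun.lin {v : k → Fin 4 → k} (hv : IsPolyVec v) (Λ : (Fin 4 → k) →ₗ[k] k) :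
    IsPolyFun (fun t => Λ (v t)) := by
  have : (fun t => Λ (v t)) = fun t => ∑ i, v t i * Λ (Pi.single i 1) := by
    funext t; exact lin_sum Λ (v t)
  rw [this]
  exact IsPolyFun.sum _ fun i _ => (hv i).mul (IsPolyFun.const _)

/-- If the cubic is not (quadric)·(linear form), then `F - q̃ · L` is not identically zero. -/
lemma exists_ne_of_not_factor
    (hirr : ¬ ∃ Q L : MvPolynomial (Fin 4) k, Q.IsHomogeneous 2 ∧ L.IsHomogeneous 1 ∧ F = Q * L)
    (a : Fin 4 → k) (L : (Fin 4 → k) →ₗ[k] k) :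
    ∃ v, eval v F - phi F a v v * L v ≠ 0 := by
  by_contra hcon
  push Not at hcon
  apply hirr
  refine ⟨∑ i, ∑ j, C (phi F a (Pi.single i 1) (Pi.single j 1)) * (X i * X j),
    ∑ i, C (L (Pi.single i 1)) * X i, ?_, ?_, ?_⟩
  · refine IsHomogeneous.sum _ _ _ fun i _ => IsHomogeneous.sum _ _ _ fun j _ => ?_
    have : (C (phi F a (Pi.single i 1) (Pi.single j 1)) * (X i * X j) :
        MvPolynomial (Fin 4) k).IsHomogeneous (0 + (1 + 1)) :=
      (isHomogeneous_C _ _).mul ((isHomogeneous_X _ i).mul (isHomogeneous_X _ j))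
    exact this
  · exact IsHomogeneous.sum _ _ _ fun i _ => isHomogeneous_C_mul_X _ _
  · apply MvPolynomial.funext
    intro v
    have h := hcon v
    rw [sub_eq_zero] at h
    rw [h, map_mul, map_sum, map_sum]
    congr 1
    · have e1 : phi F a v v = phiL F a v v := rfl
      rw [e1, lin_sum (phiL F a v) v]
      refine Finset.sum_congr rfl fun i _ => ?_
      rw [map_sum, phiL_apply, phi_comm23, show phi F a (Pi.single i 1) v
        = phiL F a (Pi.single i 1) v from rfl, lin_sum (phiL F a (Pi.single i 1)) v,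
        Finset.mul_sum]
      refine Finset.sum_congr rfl fun j _ => ?_
      simp only [map_mul, eval_C, eval_X, phiL_apply]
      ring
    · rw [lin_sum L v]
      refine Finset.sum_congr rfl fun i _ => ?_
      simp only [map_mul, eval_C, eval_X]
      ring

lemma finite_zeros_quadratic_phi (a w z : Fin 4 → k) (hz : phi F a z z ≠ 0) :
    {t : k | phi F a (w + t • z) (w + t • z) = 0}.Finite := by
  set P : Polynomial k := Polynomial.C (phi F a z z) * Polynomial.X ^ 2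
    + Polynomial.C (2 * phi F a w z) * Polynomial.X + Polynomial.C (phi F a w w) with hP
  have hP0 : P ≠ 0 := by
    intro h0
    have := Polynomial.natDegree_quadratic (b := 2 * phi F a w z) (c := phi F a w w) hz
    rw [← hP, h0, Polynomial.natDegree_zero] at this
    exact absurd this (by norm_num)
  refine (Polynomial.finite_setOfPred_isRoot hP0).subset fun t ht => ?_
  show P.eval t = 0
  have ht' : phi F a (w + t • z) (w + t • z) = 0 := ht
  have c : phi F a z w = phi F a w z := phi_comm23 ..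
  simp only [phi_add_mid, phi_add_right, phi_smul_mid, phi_smul_right, c] at ht'
  simp only [hP, Polynomial.eval_add, Polynomial.eval_mul, Polynomial.eval_C, Polynomial.eval_X,
    Polynomial.eval_pow]
  linear_combination ht'

/-- Singular case: four further rational points in general position with `a`. -/
theorem five_points_singular (hF : F.IsHomogeneous 3) {a : Fin 4 → k} (ha : a ≠ 0)
    (hsing : ∀ x, phi F a a x = 0) (hz : ∃ z, phi F a z z ≠ 0)
    (hirr : ¬ ∃ Q L : MvPolynomial (Fin 4) k, Q.IsHomogeneous 2 ∧ L.IsHomogeneous 1 ∧ F = Q * L) :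
    ∃ b₁ b₂ c₁ c₂ : Fin 4 → k, eval b₁ F = 0 ∧ eval b₂ F = 0 ∧ eval c₁ F = 0 ∧ eval c₂ F = 0 ∧
      LinearIndependent k ![b₁, b₂, c₁, c₂] ∧ LinearIndependent k ![a, b₂, c₁, c₂] ∧
      LinearIndependent k ![a, b₁, c₁, c₂] ∧ LinearIndependent k ![a, b₁, b₂, c₂] ∧
      LinearIndependent k ![a, b₁, b₂, c₁] := by
  have haa : phi F a a a = 0 := hsing a
  obtain ⟨z, hz⟩ := hz
  have hpair : LinearIndependent k ![a, z] := by
    rw [LinearIndependent.pair_iff]
    intro s t hst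
    by_cases ht : t = 0
    · subst ht
      rw [zero_smul, add_zero] at hst
      exact ⟨(smul_eq_zero.mp hst).resolve_right ha, rfl⟩
    · exfalso
      apply hz
      have hzz : z = (-(s / t)) • a := by
        have h1 : t • z = (-s) • a := by
          rw [neg_smul]; exact eq_neg_of_add_eq_zero_right hst
        have h2 : z = t⁻¹ • (t • z) := by rw [smul_smul, inv_mul_cancel₀ ht, one_smul]
        rw [h2, h1, smul_smul]
        congr 1
        field_simp
      rw [hzz, phi_smul_mid, phi_smul_right, haa]; ring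
  obtain ⟨y₁, h3⟩ := exists_linearIndependent_cons_of_lt_finrank hpair
    (by rw [Module.finrank_fintype_fun_eq_card, Fintype.card_fin]; norm_num)
  obtain ⟨y₂, h4⟩ := exists_linearIndependent_cons_of_lt_finrank h3
    (by rw [Module.finrank_fintype_fun_eq_card, Fintype.card_fin]; norm_num)
  have hli0 : LinearIndependent k ![a, z, y₁, y₂] := by
    have := h4.comp (![2, 3, 1, 0] : Fin 4 → Fin 4) (by decide)
    have e : ((Fin.cons y₂ (Fin.cons y₁ ![a, z]) : Fin 4 → Fin 4 → k) ∘ ![2, 3, 1, 0])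
        = ![a, z, y₁, y₂] := by
      funext i; fin_cases i <;> rfl
    rwa [e] at this
  obtain ⟨t₂, ht₂⟩ := (finite_zeros_quadratic_phi a y₁ z hz).exists_notMem
  obtain ⟨t₃, ht₃⟩ := (finite_zeros_quadratic_phi a y₂ z hz).exists_notMem
  set u₁ := z with hu₁
  set u₂ := y₁ + t₂ • z with hu₂
  set u₃ := y₂ + t₃ • z with hu₃
  have hq₁ : phi F a u₁ u₁ ≠ 0 := hz
  have hq₂ : phi F a u₂ u₂ ≠ 0 := ht₂
  have hq₃ : phi F a u₃ u₃ ≠ 0 := ht₃
  have hli : LinearIndependent k ![a, u₁, u₂, u₃] := by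
    rw [Fintype.linearIndependent_iff]
    intro g hg
    rw [Fin.sum_univ_four] at hg
    have key : g 0 • a + (g 1 + g 2 * t₂ + g 3 * t₃) • z + g 2 • y₁ + g 3 • y₂ = 0 := by
      rw [← hg]
      show _ = g 0 • a + g 1 • z + g 2 • (y₁ + t₂ • z) + g 3 • (y₂ + t₃ • z)
      ext i
      simp only [Pi.add_apply, Pi.smul_apply, smul_eq_mul]
      ring
    obtain ⟨k0, k1, k2, k3⟩ := li4 hli0 key
    have g1 : g 1 = 0 := by rw [k2, k3] at k1; simpa using k1
    intro i; fin_cases i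
    · exact k0
    · exact g1
    · exact k2
    · exact k3
  obtain ⟨c₀, c₁, c₂, c₃, hdec, ⟨-, -, -, -⟩, ⟨d10, d11, d12, d13⟩, ⟨d20, d21, d22, d23⟩,
    ⟨d30, d31, d32, d33⟩⟩ := frame_decomp hli
  set q₁ := phi F a u₁ u₁ with hq₁d
  set q₂ := phi F a u₂ u₂ with hq₂d
  set q₃ := phi F a u₃ u₃ with hq₃d
  set r₁ := eval u₁ F / q₁ with hr₁
  set r₂ := eval u₂ F / q₂ with hr₂
  set r₃ := eval u₃ F / q₃ with hr₃
  have hF₁ : eval u₁ F = r₁ * q₁ := by rw [hr₁]; field_simp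
  have hF₂ : eval u₂ F = r₂ * q₂ := by rw [hr₂]; field_simp
  have hF₃ : eval u₃ F = r₃ * q₃ := by rw [hr₃]; field_simp
  set L : (Fin 4 → k) →ₗ[k] k := (3 : k) • c₀ + r₁ • c₁ + r₂ • c₂ + r₃ • c₃ with hL
  obtain ⟨vs, hvs⟩ := exists_ne_of_not_factor hirr a L
  -- the interpolation curve
  set v : k → Fin 4 → k := fun t => ((t - 1) * (t - 2) * (1 / 2)) • (u₁ + u₂ + u₃)
    + (t * (2 - t)) • u₁ + (t * (t - 1) * (1 / 2)) • vs with hv
  have hvP : IsPolyVec v := by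
    have h0 : IsPolyFun (fun t : k => (t - 1) * (t - 2) * (1 / 2)) :=
      ((IsPolyFun.id.sub (IsPolyFun.const 1)).mul (IsPolyFun.id.sub (IsPolyFun.const 2))).mul
        (IsPolyFun.const _)
    have h1 : IsPolyFun (fun t : k => t * (2 - t)) :=
      IsPolyFun.id.mul ((IsPolyFun.const 2).sub IsPolyFun.id)
    have h2 : IsPolyFun (fun t : k => t * (t - 1) * (1 / 2)) :=
      (IsPolyFun.id.mul (IsPolyFun.id.sub (IsPolyFun.const 1))).mul (IsPolyFun.const _)
    exact ((IsPolyVec.smul h0 (IsPolyVec.const _)).add (IsPolyVec.smul h1 (IsPolyVec.const _))).add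
      (IsPolyVec.smul h2 (IsPolyVec.const _))
  have hv0 : v 0 = u₁ + u₂ + u₃ := by
    show ((0 - 1) * (0 - 2) * (1 / 2) : k) • (u₁ + u₂ + u₃) + ((0 : k) * (2 - 0)) • u₁
      + ((0 : k) * (0 - 1) * (1 / 2)) • vs = _
    norm_num
  have hv1 : v 1 = u₁ := by
    show ((1 - 1) * (1 - 2) * (1 / 2) : k) • (u₁ + u₂ + u₃) + ((1 : k) * (2 - 1)) • u₁
      + ((1 : k) * (1 - 1) * (1 / 2)) • vs = _
    norm_num
  have hv2 : v 2 = vs := by
    show ((2 - 1) * (2 - 2) * (1 / 2) : k) • (u₁ + u₂ + u₃) + ((2 : k) * (2 - 2)) • u₁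
      + ((2 : k) * (2 - 1) * (1 / 2)) • vs = _
    norm_num
  have hf₁ : IsPolyFun (fun t => c₁ (v t) * c₂ (v t) * c₃ (v t)) :=
    ((IsPolyFun.lin hvP c₁).mul (IsPolyFun.lin hvP c₂)).mul (IsPolyFun.lin hvP c₃)
  have hf₂ : IsPolyFun (fun t => phi F a (v t) (v t)) :=
    IsPolyFun.phi F (IsPolyVec.const a) hvP hvP
  have hf₃ : IsPolyFun (fun t => phi F (v t) (v t) (v t) - phi F a (v t) (v t) * L (v t)) :=
    (IsPolyFun.phi F hvP hvP hvP).sub (hf₂.mul (IsPolyFun.lin hvP L))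
  have hz₁ := hf₁.finite_zeros (t₁ := 0) (by
    show c₁ (v 0) * c₂ (v 0) * c₃ (v 0) ≠ 0
    rw [hv0]
    simp only [map_add, d11, d12, d13, d21, d22, d23, d31, d32, d33]
    norm_num)
  have hz₂ := hf₂.finite_zeros (t₁ := 1) (by
    show phi F a (v 1) (v 1) ≠ 0
    rw [hv1]; exact hq₁)
  have hz₃ := hf₃.finite_zeros (t₁ := 2) (by
    show phi F (v 2) (v 2) (v 2) - phi F a (v 2) (v 2) * L (v 2) ≠ 0
    rw [hv2, ← eval_eq_phi hF]; exact hvs)
  obtain ⟨ts, hts⟩ := ((hz₁.union hz₂).union hz₃).exists_notMem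
  set u₄ := v ts with hu₄
  have hx : c₁ u₄ * c₂ u₄ * c₃ u₄ ≠ 0 := fun h => hts (Or.inl (Or.inl h))
  have hq₄ : phi F a u₄ u₄ ≠ 0 := fun h => hts (Or.inl (Or.inr h))
  have hG : eval u₄ F - phi F a u₄ u₄ * L u₄ ≠ 0 := by
    rw [eval_eq_phi hF]; exact fun h => hts (Or.inr h)
  have hx₁ : c₁ u₄ ≠ 0 := fun h => hx (by rw [h]; ring)
  have hx₂ : c₂ u₄ ≠ 0 := fun h => hx (by rw [h]; ring)
  have hx₃ : c₃ u₄ ≠ 0 := fun h => hx (by rw [h]; ring)
  set x₀ := c₀ u₄ with hx₀d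
  set x₁ := c₁ u₄ with hx₁d
  set x₂ := c₂ u₄ with hx₂d
  set x₃ := c₃ u₄ with hx₃d
  set q₄ := phi F a u₄ u₄ with hq₄d
  set F₄ := eval u₄ F with hF₄d
  have hLu₄ : L u₄ = 3 * x₀ + r₁ * x₁ + r₂ * x₂ + r₃ * x₃ := by
    rw [hL]
    simp only [LinearMap.add_apply, LinearMap.smul_apply, smul_eq_mul]
    rfl
  have hu₄dec : u₄ = x₀ • a + x₁ • u₁ + x₂ • u₂ + x₃ • u₃ := hdec u₄
  have hp₁ : thirdPt F a u₁ = (-(r₁ * q₁)) • a + (3 * q₁) • u₁ := by
    unfold thirdPt; rw [hF₁]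
  have hp₂ : thirdPt F a u₂ = (-(r₂ * q₂)) • a + (3 * q₂) • u₂ := by
    unfold thirdPt; rw [hF₂]
  have hp₃ : thirdPt F a u₃ = (-(r₃ * q₃)) • a + (3 * q₃) • u₃ := by
    unfold thirdPt; rw [hF₃]
  have hp₄ : thirdPt F a u₄ = (-F₄ + 3 * q₄ * x₀) • a + (3 * q₄ * x₁) • u₁ + (3 * q₄ * x₂) • u₂
      + (3 * q₄ * x₃) • u₃ := by
    have : thirdPt F a u₄ = (-F₄) • a + (3 * q₄) • (x₀ • a + x₁ • u₁ + x₂ • u₂ + x₃ • u₃) := by
      rw [← hu₄dec]; rfl
    rw [this]
    ext i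
    simp only [Pi.add_apply, Pi.smul_apply, smul_eq_mul]
    ring
  have h3 : (3 : k) ≠ 0 := by norm_num
  have hon : ∀ u, eval (thirdPt F a u) F = 0 := fun u => thirdPt_on hF haa (hsing u)
  refine ⟨thirdPt F a u₁, thirdPt F a u₂, thirdPt F a u₃, thirdPt F a u₄, hon _, hon _, hon _, hon _,
    ?_, ?_, ?_, ?_, ?_⟩
  · -- p₁ p₂ p₃ p₄
    rw [Fintype.linearIndependent_iff]
    intro g hg
    rw [Fin.sum_univ_four] at hg
    have hg' : g 0 • thirdPt F a u₁ + g 1 • thirdPt F a u₂ + g 2 • thirdPt F a u₃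
        + g 3 • thirdPt F a u₄ = 0 := hg
    rw [hp₁, hp₂, hp₃, hp₄] at hg'
    have key : (-(g 0 * (r₁ * q₁)) - g 1 * (r₂ * q₂) - g 2 * (r₃ * q₃)
          + g 3 * (-F₄ + 3 * q₄ * x₀)) • a
        + (g 0 * (3 * q₁) + g 3 * (3 * q₄ * x₁)) • u₁
        + (g 1 * (3 * q₂) + g 3 * (3 * q₄ * x₂)) • u₂
        + (g 2 * (3 * q₃) + g 3 * (3 * q₄ * x₃)) • u₃ = 0 := by
      rw [← hg']
      ext i
      simp only [Pi.add_apply, Pi.smul_apply, smul_eq_mul]
      ring
    obtain ⟨k0, k1, k2, k3⟩ := li4 hli key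
    have g3 : g 3 = 0 := by
      have : g 3 * (F₄ - q₄ * L u₄) = 0 := by
        rw [hLu₄]
        linear_combination (-1 : k) * k0 - (r₁ / 3) * k1 - (r₂ / 3) * k2 - (r₃ / 3) * k3
      exact (mul_eq_zero.mp this).resolve_right hG
    rw [g3, zero_mul, add_zero] at k1 k2 k3
    have g0 : g 0 = 0 := (mul_eq_zero.mp k1).resolve_right (mul_ne_zero h3 hq₁)
    have g1 : g 1 = 0 := (mul_eq_zero.mp k2).resolve_right (mul_ne_zero h3 hq₂)
    have g2 : g 2 = 0 := (mul_eq_zero.mp k3).resolve_right (mul_ne_zero h3 hq₃)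
    intro i; fin_cases i
    · exact g0
    · exact g1
    · exact g2
    · exact g3
  · -- a p₂ p₃ p₄
    rw [Fintype.linearIndependent_iff]
    intro g hg
    rw [Fin.sum_univ_four] at hg
    have hg' : g 0 • a + g 1 • thirdPt F a u₂ + g 2 • thirdPt F a u₃
        + g 3 • thirdPt F a u₄ = 0 := hg
    rw [hp₂, hp₃, hp₄] at hg'
    have key : (g 0 - g 1 * (r₂ * q₂) - g 2 * (r₃ * q₃) + g 3 * (-F₄ + 3 * q₄ * x₀)) • a
        + (g 3 * (3 * q₄ * x₁)) • u₁
        + (g 1 * (3 * q₂) + g 3 * (3 * q₄ * x₂)) • u₂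
        + (g 2 * (3 * q₃) + g 3 * (3 * q₄ * x₃)) • u₃ = 0 := by
      rw [← hg']
      ext i
      simp only [Pi.add_apply, Pi.smul_apply, smul_eq_mul]
      ring
    obtain ⟨k0, k1, k2, k3⟩ := li4 hli key
    have g3 : g 3 = 0 :=
      (mul_eq_zero.mp k1).resolve_right (mul_ne_zero (mul_ne_zero h3 hq₄) hx₁)
    rw [g3, zero_mul, add_zero] at k2 k3
    have g1 : g 1 = 0 := (mul_eq_zero.mp k2).resolve_right (mul_ne_zero h3 hq₂)
    have g2 : g 2 = 0 := (mul_eq_zero.mp k3).resolve_right (mul_ne_zero h3 hq₃)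
    have g0 : g 0 = 0 := by
      rw [g1, g2, g3] at k0; simpa using k0
    intro i; fin_cases i
    · exact g0
    · exact g1
    · exact g2
    · exact g3
  · -- a p₁ p₃ p₄
    rw [Fintype.linearIndependent_iff]
    intro g hg
    rw [Fin.sum_univ_four] at hg
    have hg' : g 0 • a + g 1 • thirdPt F a u₁ + g 2 • thirdPt F a u₃
        + g 3 • thirdPt F a u₄ = 0 := hg
    rw [hp₁, hp₃, hp₄] at hg'
    have key : (g 0 - g 1 * (r₁ * q₁) - g 2 * (r₃ * q₃) + g 3 * (-F₄ + 3 * q₄ * x₀)) • a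
        + (g 1 * (3 * q₁) + g 3 * (3 * q₄ * x₁)) • u₁
        + (g 3 * (3 * q₄ * x₂)) • u₂
        + (g 2 * (3 * q₃) + g 3 * (3 * q₄ * x₃)) • u₃ = 0 := by
      rw [← hg']
      ext i
      simp only [Pi.add_apply, Pi.smul_apply, smul_eq_mul]
      ring
    obtain ⟨k0, k1, k2, k3⟩ := li4 hli key
    have g3 : g 3 = 0 :=
      (mul_eq_zero.mp k2).resolve_right (mul_ne_zero (mul_ne_zero h3 hq₄) hx₂)
    rw [g3, zero_mul, add_zero] at k1 k3
    have g1 : g 1 = 0 := (mul_eq_zero.mp k1).resolve_right (mul_ne_zero h3 hq₁)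
    have g2 : g 2 = 0 := (mul_eq_zero.mp k3).resolve_right (mul_ne_zero h3 hq₃)
    have g0 : g 0 = 0 := by
      rw [g1, g2, g3] at k0; simpa using k0
    intro i; fin_cases i
    · exact g0
    · exact g1
    · exact g2
    · exact g3
  · -- a p₁ p₂ p₄
    rw [Fintype.linearIndependent_iff]
    intro g hg
    rw [Fin.sum_univ_four] at hg
    have hg' : g 0 • a + g 1 • thirdPt F a u₁ + g 2 • thirdPt F a u₂
        + g 3 • thirdPt F a u₄ = 0 := hg
    rw [hp₁, hp₂, hp₄] at hg'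
    have key : (g 0 - g 1 * (r₁ * q₁) - g 2 * (r₂ * q₂) + g 3 * (-F₄ + 3 * q₄ * x₀)) • a
        + (g 1 * (3 * q₁) + g 3 * (3 * q₄ * x₁)) • u₁
        + (g 2 * (3 * q₂) + g 3 * (3 * q₄ * x₂)) • u₂
        + (g 3 * (3 * q₄ * x₃)) • u₃ = 0 := by
      rw [← hg']
      ext i
      simp only [Pi.add_apply, Pi.smul_apply, smul_eq_mul]
      ring
    obtain ⟨k0, k1, k2, k3⟩ := li4 hli key
    have g3 : g 3 = 0 :=
      (mul_eq_zero.mp k3).resolve_right (mul_ne_zero (mul_ne_zero h3 hq₄) hx₃)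
    rw [g3, zero_mul, add_zero] at k1 k2
    have g1 : g 1 = 0 := (mul_eq_zero.mp k1).resolve_right (mul_ne_zero h3 hq₁)
    have g2 : g 2 = 0 := (mul_eq_zero.mp k2).resolve_right (mul_ne_zero h3 hq₂)
    have g0 : g 0 = 0 := by
      rw [g1, g2, g3] at k0; simpa using k0
    intro i; fin_cases i
    · exact g0
    · exact g1
    · exact g2
    · exact g3
  · -- a p₁ p₂ p₃
    rw [Fintype.linearIndependent_iff]
    intro g hg
    rw [Fin.sum_univ_four] at hg
    have hg' : g 0 • a + g 1 • thirdPt F a u₁ + g 2 • thirdPt F a u₂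
        + g 3 • thirdPt F a u₃ = 0 := hg
    rw [hp₁, hp₂, hp₃] at hg'
    have key : (g 0 - g 1 * (r₁ * q₁) - g 2 * (r₂ * q₂) - g 3 * (r₃ * q₃)) • a
        + (g 1 * (3 * q₁)) • u₁ + (g 2 * (3 * q₂)) • u₂ + (g 3 * (3 * q₃)) • u₃ = 0 := by
      rw [← hg']
      ext i
      simp only [Pi.add_apply, Pi.smul_apply, smul_eq_mul]
      ring
    obtain ⟨k0, k1, k2, k3⟩ := li4 hli key
    have g1 : g 1 = 0 := (mul_eq_zero.mp k1).resolve_right (mul_ne_zero h3 hq₁)
    have g2 : g 2 = 0 := (mul_eq_zero.mp k2).resolve_right (mul_ne_zero h3 hq₂)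
    have g3 : g 3 = 0 := (mul_eq_zero.mp k3).resolve_right (mul_ne_zero h3 hq₃)
    have g0 : g 0 = 0 := by
      rw [g1, g2, g3] at k0; simpa using k0
    intro i; fin_cases i
    · exact g0
    · exact g1
    · exact g2
    · exact g3

end singularcase

section mainthm
variable {k : Type*} [Field k] [CharZero k] {F : MvPolynomial (Fin 4) k}

lemma not_isUnit_of_homogeneous {R : Type*} [CommRing R] [Nontrivial R]
    {P : MvPolynomial (Fin 4) R} {n : ℕ} (hP : P.IsHomogeneous n) (hn : n ≠ 0) : ¬ IsUnit P := by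
  intro h
  have h1 := (MvPolynomial.isUnit_iff.mp h).1
  rw [hP.coeff_eq_zero (d := 0) (by simpa using hn.symm)] at h1
  exact not_isUnit_zero h1

/-- Five rational points in general position on a geometrically irreducible cubic surface that is
not a cone, through a given rational point which is not a T-point. -/
theorem five_points_main (hF : F.IsHomogeneous 3)
    (hirr : Irreducible (map (algebraMap k (AlgebraicClosure k)) F))
    (hcone : ¬ ∃ v : Fin 4 → k, v ≠ 0 ∧ ∑ i : Fin 4, v i • pderiv i F = 0)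
    {a : Fin 4 → k} (ha : a ≠ 0) (hFa : eval a F = 0)
    (hT : ¬ TP (map (algebraMap k (AlgebraicClosure k)) F) (mv (algebraMap k (AlgebraicClosure k)) a)) :
    ∃ b₁ b₂ c₁ c₂ : Fin 4 → k, eval b₁ F = 0 ∧ eval b₂ F = 0 ∧ eval c₁ F = 0 ∧ eval c₂ F = 0 ∧
      LinearIndependent k ![b₁, b₂, c₁, c₂] ∧ LinearIndependent k ![a, b₂, c₁, c₂] ∧
      LinearIndependent k ![a, b₁, c₁, c₂] ∧ LinearIndependent k ![a, b₁, b₂, c₂] ∧
      LinearIndependent k ![a, b₁, b₂, c₁] := by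
  have haa : phi F a a a = 0 := by rw [← eval_eq_phi hF]; exact hFa
  by_cases hsm : ∃ x, phi F a a x ≠ 0
  · have hNT : NT F a := by
      intro hIsT
      exact hT ((TP_iff_isT (hF.map _) _).mpr hIsT)
    exact five_points_smooth hF haa hsm hNT
  · push Not at hsm
    have hz : ∃ z, phi F a z z ≠ 0 := by
      by_contra hcon
      push Not at hcon
      apply hcone
      refine ⟨a, ha, ?_⟩
      apply MvPolynomial.funext
      intro x
      rw [map_sum, map_zero]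
      have h3 : ∀ i : Fin 4, eval x (a i • pderiv i F) = 3 * (a i * phi F x x (Pi.single i 1)) := by
        intro i
        rw [smul_eval, eval_pderiv_eq_phi hF]; ring
      rw [Finset.sum_congr rfl fun i _ => h3 i, ← Finset.mul_sum]
      have e : ∑ i, a i * phi F x x (Pi.single i 1) = phi F x x a := by
        have := lin_sum (phiL F x x) a
        rw [phiL_apply] at this
        rw [this]; rfl
      have hpol : phi F a x x = 0 := hcon x
      rw [e, phi_comm13, hpol, mul_zero]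
    have hirr' : ¬ ∃ Q L : MvPolynomial (Fin 4) k, Q.IsHomogeneous 2 ∧ L.IsHomogeneous 1 ∧
        F = Q * L := by
      rintro ⟨Q, L, hQ, hL, hFQL⟩
      have hmap : map (algebraMap k (AlgebraicClosure k)) F
          = map (algebraMap k (AlgebraicClosure k)) Q * map (algebraMap k (AlgebraicClosure k)) L := by
        rw [hFQL, map_mul]
      rcases hirr.isUnit_or_isUnit hmap with h | h
      · exact not_isUnit_of_homogeneous (hQ.map _) (by norm_num) h
      · exact not_isUnit_of_homogeneous (hL.map _) (by norm_num) h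
    exact five_points_singular hF ha hsm hz hirr'

end mainthm

end Groth.Agent.Lib.Helper92.FivePts
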