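import Mathlib
import Groth.Agent.Lib.Helper92.FivePts

/-!
# Existence of a smooth non-T-point on an irreducible cubic surface that is not a cone (part 1)

Frames, trilinear expansion, generalities.
-/

namespace Groth.Agent.Lib.Helper92.CubicNT
set_option linter.unusedSectionVars false
set_option linter.unusedVariables false
open MvPolynomial Module Groth.Agent.Lib.Helper95 Groth.Agent.Lib.Helper92.TPoints
  Groth.Agent.Lib.Helper92.FivePts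

section frame
variable {K : Type*} [Field K] [CharZero K] {F : MvPolynomial (Fin 4) K}

/-- The vector with given coordinates in a frame. -/
def V (P₀ P₁ P₂ P₃ : Fin 4 → K) (a0 a1 a2 a3 : K) : Fin 4 → K :=
  a0 • P₀ + a1 • P₁ + a2 • P₂ + a3 • P₃

variable (F) in
/-- Trilinear expansion in a frame. -/
theorem phi_V (P₀ P₁ P₂ P₃ : Fin 4 → K) (a0 a1 a2 a3 b0 b1 b2 b3 c0 c1 c2 c3 : K) :
    phi F (V P₀ P₁ P₂ P₃ a0 a1 a2 a3) (V P₀ P₁ P₂ P₃ b0 b1 b2 b3) (V P₀ P₁ P₂ P₃ c0 c1 c2 c3)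
      = phi F P₀ P₀ P₀ * (a0 * b0 * c0)
      + phi F P₀ P₀ P₁ * (a0 * b0 * c1 + a0 * b1 * c0 + a1 * b0 * c0)
      + phi F P₀ P₀ P₂ * (a0 * b0 * c2 + a0 * b2 * c0 + a2 * b0 * c0)
      + phi F P₀ P₀ P₃ * (a0 * b0 * c3 + a0 * b3 * c0 + a3 * b0 * c0)
      + phi F P₀ P₁ P₁ * (a0 * b1 * c1 + a1 * b0 * c1 + a1 * b1 * c0)
      + phi F P₀ P₁ P₂ * (a0 * b1 * c2 + a0 * b2 * c1 + a1 * b0 * c2 + a1 * b2 * c0 + a2 * b0 * c1 + a2 * b1 * c0)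
      + phi F P₀ P₁ P₃ * (a0 * b1 * c3 + a0 * b3 * c1 + a1 * b0 * c3 + a1 * b3 * c0 + a3 * b0 * c1 + a3 * b1 * c0)
      + phi F P₀ P₂ P₂ * (a0 * b2 * c2 + a2 * b0 * c2 + a2 * b2 * c0)
      + phi F P₀ P₂ P₃ * (a0 * b2 * c3 + a0 * b3 * c2 + a2 * b0 * c3 + a2 * b3 * c0 + a3 * b0 * c2 + a3 * b2 * c0)
      + phi F P₀ P₃ P₃ * (a0 * b3 * c3 + a3 * b0 * c3 + a3 * b3 * c0)
      + phi F P₁ P₁ P₁ * (a1 * b1 * c1)
      + phi F P₁ P₁ P₂ * (a1 * b1 * c2 + a1 * b2 * c1 + a2 * b1 * c1)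
      + phi F P₁ P₁ P₃ * (a1 * b1 * c3 + a1 * b3 * c1 + a3 * b1 * c1)
      + phi F P₁ P₂ P₂ * (a1 * b2 * c2 + a2 * b1 * c2 + a2 * b2 * c1)
      + phi F P₁ P₂ P₃ * (a1 * b2 * c3 + a1 * b3 * c2 + a2 * b1 * c3 + a2 * b3 * c1 + a3 * b1 * c2 + a3 * b2 * c1)
      + phi F P₁ P₃ P₃ * (a1 * b3 * c3 + a3 * b1 * c3 + a3 * b3 * c1)
      + phi F P₂ P₂ P₂ * (a2 * b2 * c2)
      + phi F P₂ P₂ P₃ * (a2 * b2 * c3 + a2 * b3 * c2 + a3 * b2 * c2)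
      + phi F P₂ P₃ P₃ * (a2 * b3 * c3 + a3 * b2 * c3 + a3 * b3 * c2)
      + phi F P₃ P₃ P₃ * (a3 * b3 * c3) := by
  have h010 : phi F P₀ P₁ P₀ = phi F P₀ P₀ P₁ := phi_comm23 F P₀ P₁ P₀
  have h020 : phi F P₀ P₂ P₀ = phi F P₀ P₀ P₂ := phi_comm23 F P₀ P₂ P₀
  have h021 : phi F P₀ P₂ P₁ = phi F P₀ P₁ P₂ := phi_comm23 F P₀ P₂ P₁
  have h030 : phi F P₀ P₃ P₀ = phi F P₀ P₀ P₃ := phi_comm23 F P₀ P₃ P₀
  have h031 : phi F P₀ P₃ P₁ = phi F P₀ P₁ P₃ := phi_comm23 F P₀ P₃ P₁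
  have h032 : phi F P₀ P₃ P₂ = phi F P₀ P₂ P₃ := phi_comm23 F P₀ P₃ P₂
  have h100 : phi F P₁ P₀ P₀ = phi F P₀ P₀ P₁ := phi_comm13 F P₁ P₀ P₀
  have h101 : phi F P₁ P₀ P₁ = phi F P₀ P₁ P₁ := phi_comm12 F P₁ P₀ P₁
  have h102 : phi F P₁ P₀ P₂ = phi F P₀ P₁ P₂ := phi_comm12 F P₁ P₀ P₂
  have h103 : phi F P₁ P₀ P₃ = phi F P₀ P₁ P₃ := phi_comm12 F P₁ P₀ P₃
  have h110 : phi F P₁ P₁ P₀ = phi F P₀ P₁ P₁ := phi_comm13 F P₁ P₁ P₀
  have h120 : phi F P₁ P₂ P₀ = phi F P₀ P₁ P₂ := (phi_comm12 F P₁ P₂ P₀).trans (phi_comm13 F P₂ P₁ P₀)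
  have h121 : phi F P₁ P₂ P₁ = phi F P₁ P₁ P₂ := phi_comm23 F P₁ P₂ P₁
  have h130 : phi F P₁ P₃ P₀ = phi F P₀ P₁ P₃ := (phi_comm12 F P₁ P₃ P₀).trans (phi_comm13 F P₃ P₁ P₀)
  have h131 : phi F P₁ P₃ P₁ = phi F P₁ P₁ P₃ := phi_comm23 F P₁ P₃ P₁
  have h132 : phi F P₁ P₃ P₂ = phi F P₁ P₂ P₃ := phi_comm23 F P₁ P₃ P₂
  have h200 : phi F P₂ P₀ P₀ = phi F P₀ P₀ P₂ := phi_comm13 F P₂ P₀ P₀
  have h201 : phi F P₂ P₀ P₁ = phi F P₀ P₁ P₂ := (phi_comm12 F P₂ P₀ P₁).trans (phi_comm23 F P₀ P₂ P₁)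
  have h202 : phi F P₂ P₀ P₂ = phi F P₀ P₂ P₂ := phi_comm12 F P₂ P₀ P₂
  have h203 : phi F P₂ P₀ P₃ = phi F P₀ P₂ P₃ := phi_comm12 F P₂ P₀ P₃
  have h210 : phi F P₂ P₁ P₀ = phi F P₀ P₁ P₂ := phi_comm13 F P₂ P₁ P₀
  have h211 : phi F P₂ P₁ P₁ = phi F P₁ P₁ P₂ := phi_comm13 F P₂ P₁ P₁
  have h212 : phi F P₂ P₁ P₂ = phi F P₁ P₂ P₂ := phi_comm12 F P₂ P₁ P₂
  have h213 : phi F P₂ P₁ P₃ = phi F P₁ P₂ P₃ := phi_comm12 F P₂ P₁ P₃
  have h220 : phi F P₂ P₂ P₀ = phi F P₀ P₂ P₂ := phi_comm13 F P₂ P₂ P₀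
  have h221 : phi F P₂ P₂ P₁ = phi F P₁ P₂ P₂ := phi_comm13 F P₂ P₂ P₁
  have h230 : phi F P₂ P₃ P₀ = phi F P₀ P₂ P₃ := (phi_comm12 F P₂ P₃ P₀).trans (phi_comm13 F P₃ P₂ P₀)
  have h231 : phi F P₂ P₃ P₁ = phi F P₁ P₂ P₃ := (phi_comm12 F P₂ P₃ P₁).trans (phi_comm13 F P₃ P₂ P₁)
  have h232 : phi F P₂ P₃ P₂ = phi F P₂ P₂ P₃ := phi_comm23 F P₂ P₃ P₂
  have h300 : phi F P₃ P₀ P₀ = phi F P₀ P₀ P₃ := phi_comm13 F P₃ P₀ P₀
  have h301 : phi F P₃ P₀ P₁ = phi F P₀ P₁ P₃ := (phi_comm12 F P₃ P₀ P₁).trans (phi_comm23 F P₀ P₃ P₁)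
  have h302 : phi F P₃ P₀ P₂ = phi F P₀ P₂ P₃ := (phi_comm12 F P₃ P₀ P₂).trans (phi_comm23 F P₀ P₃ P₂)
  have h303 : phi F P₃ P₀ P₃ = phi F P₀ P₃ P₃ := phi_comm12 F P₃ P₀ P₃
  have h310 : phi F P₃ P₁ P₀ = phi F P₀ P₁ P₃ := phi_comm13 F P₃ P₁ P₀
  have h311 : phi F P₃ P₁ P₁ = phi F P₁ P₁ P₃ := phi_comm13 F P₃ P₁ P₁
  have h312 : phi F P₃ P₁ P₂ = phi F P₁ P₂ P₃ := (phi_comm12 F P₃ P₁ P₂).trans (phi_comm23 F P₁ P₃ P₂)
  have h313 : phi F P₃ P₁ P₃ = phi F P₁ P₃ P₃ := phi_comm12 F P₃ P₁ P₃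
  have h320 : phi F P₃ P₂ P₀ = phi F P₀ P₂ P₃ := phi_comm13 F P₃ P₂ P₀
  have h321 : phi F P₃ P₂ P₁ = phi F P₁ P₂ P₃ := phi_comm13 F P₃ P₂ P₁
  have h322 : phi F P₃ P₂ P₂ = phi F P₂ P₂ P₃ := phi_comm13 F P₃ P₂ P₂
  have h323 : phi F P₃ P₂ P₃ = phi F P₂ P₃ P₃ := phi_comm12 F P₃ P₂ P₃
  have h330 : phi F P₃ P₃ P₀ = phi F P₀ P₃ P₃ := phi_comm13 F P₃ P₃ P₀
  have h331 : phi F P₃ P₃ P₁ = phi F P₁ P₃ P₃ := phi_comm13 F P₃ P₃ P₁
  have h332 : phi F P₃ P₃ P₂ = phi F P₂ P₃ P₃ := phi_comm13 F P₃ P₃ P₂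
  unfold V
  simp only [phi_add_left, phi_add_mid, phi_add_right, phi_smul_left, phi_smul_mid, phi_smul_right,
    h010, h020, h021, h030, h031, h032, h100, h101, h102, h103, h110, h120, h121, h130, h131, h132, h200, h201, h202, h203, h210, h211, h212, h213, h220, h221, h230, h231, h232, h300, h301, h302, h303, h310, h311, h312, h313, h320, h321, h322, h323, h330, h331, h332]
  ring

lemma V_e0 (P₀ P₁ P₂ P₃ : Fin 4 → K) : V P₀ P₁ P₂ P₃ 1 0 0 0 = P₀ := by simp [V]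
lemma V_e1 (P₀ P₁ P₂ P₃ : Fin 4 → K) : V P₀ P₁ P₂ P₃ 0 1 0 0 = P₁ := by simp [V]
lemma V_e2 (P₀ P₁ P₂ P₃ : Fin 4 → K) : V P₀ P₁ P₂ P₃ 0 0 1 0 = P₂ := by simp [V]
lemma V_e3 (P₀ P₁ P₂ P₃ : Fin 4 → K) : V P₀ P₁ P₂ P₃ 0 0 0 1 = P₃ := by simp [V]

lemma V_eq_zero {P₀ P₁ P₂ P₃ : Fin 4 → K} (hli : LinearIndependent K ![P₀, P₁, P₂, P₃])
    {a0 a1 a2 a3 : K} (h : V P₀ P₁ P₂ P₃ a0 a1 a2 a3 = 0) : a0 = 0 ∧ a1 = 0 ∧ a2 = 0 ∧ a3 = 0 :=
  li4 hli h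

lemma li_V3 {P₀ P₁ P₂ P₃ : Fin 4 → K} (hli : LinearIndependent K ![P₀, P₁, P₂, P₃])
    {a0 a1 a2 a3 b0 b1 b2 b3 c0 c1 c2 c3 : K}
    (h : ∀ x y z : K, x * a0 + y * b0 + z * c0 = 0 → x * a1 + y * b1 + z * c1 = 0 →
      x * a2 + y * b2 + z * c2 = 0 → x * a3 + y * b3 + z * c3 = 0 → x = 0 ∧ y = 0 ∧ z = 0) :
    LinearIndependent K ![V P₀ P₁ P₂ P₃ a0 a1 a2 a3, V P₀ P₁ P₂ P₃ b0 b1 b2 b3,
      V P₀ P₁ P₂ P₃ c0 c1 c2 c3] := by
  rw [Fintype.linearIndependent_iff]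
  intro g hg
  rw [Fin.sum_univ_three] at hg
  have hg' : g 0 • V P₀ P₁ P₂ P₃ a0 a1 a2 a3 + g 1 • V P₀ P₁ P₂ P₃ b0 b1 b2 b3
      + g 2 • V P₀ P₁ P₂ P₃ c0 c1 c2 c3 = 0 := hg
  have key : V P₀ P₁ P₂ P₃ (g 0 * a0 + g 1 * b0 + g 2 * c0) (g 0 * a1 + g 1 * b1 + g 2 * c1)
      (g 0 * a2 + g 1 * b2 + g 2 * c2) (g 0 * a3 + g 1 * b3 + g 2 * c3) = 0 := by
    rw [← hg']
    unfold V
    simp only [smul_add, add_smul, mul_smul]
    abel
  obtain ⟨k0, k1, k2, k3⟩ := V_eq_zero hli key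
  obtain ⟨e0, e1, e2⟩ := h (g 0) (g 1) (g 2) k0 k1 k2 k3
  intro i; fin_cases i
  · exact e0
  · exact e1
  · exact e2

lemma li_V4 {P₀ P₁ P₂ P₃ : Fin 4 → K} (hli : LinearIndependent K ![P₀, P₁, P₂, P₃])
    {a0 a1 a2 a3 b0 b1 b2 b3 c0 c1 c2 c3 d0 d1 d2 d3 : K}
    (h : ∀ x y z w : K, x * a0 + y * b0 + z * c0 + w * d0 = 0 →
      x * a1 + y * b1 + z * c1 + w * d1 = 0 →
      x * a2 + y * b2 + z * c2 + w * d2 = 0 → x * a3 + y * b3 + z * c3 + w * d3 = 0 →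
      x = 0 ∧ y = 0 ∧ z = 0 ∧ w = 0) :
    LinearIndependent K ![V P₀ P₁ P₂ P₃ a0 a1 a2 a3, V P₀ P₁ P₂ P₃ b0 b1 b2 b3,
      V P₀ P₁ P₂ P₃ c0 c1 c2 c3, V P₀ P₁ P₂ P₃ d0 d1 d2 d3] := by
  rw [Fintype.linearIndependent_iff]
  intro g hg
  rw [Fin.sum_univ_four] at hg
  have hg' : g 0 • V P₀ P₁ P₂ P₃ a0 a1 a2 a3 + g 1 • V P₀ P₁ P₂ P₃ b0 b1 b2 b3
      + g 2 • V P₀ P₁ P₂ P₃ c0 c1 c2 c3 + g 3 • V P₀ P₁ P₂ P₃ d0 d1 d2 d3 = 0 := hg
  have key : V P₀ P₁ P₂ P₃ (g 0 * a0 + g 1 * b0 + g 2 * c0 + g 3 * d0)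
      (g 0 * a1 + g 1 * b1 + g 2 * c1 + g 3 * d1)
      (g 0 * a2 + g 1 * b2 + g 2 * c2 + g 3 * d2) (g 0 * a3 + g 1 * b3 + g 2 * c3 + g 3 * d3) = 0 := by
    rw [← hg']
    unfold V
    simp only [smul_add, add_smul, mul_smul]
    abel
  obtain ⟨k0, k1, k2, k3⟩ := V_eq_zero hli key
  obtain ⟨e0, e1, e2, e3⟩ := h (g 0) (g 1) (g 2) (g 3) k0 k1 k2 k3
  intro i; fin_cases i
  · exact e0
  · exact e1
  · exact e2
  · exact e3

/-- Coordinates in a frame. -/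
lemma exists_V {P₀ P₁ P₂ P₃ : Fin 4 → K} (hli : LinearIndependent K ![P₀, P₁, P₂, P₃])
    (x : Fin 4 → K) : ∃ x0 x1 x2 x3 : K, x = V P₀ P₁ P₂ P₃ x0 x1 x2 x3 := by
  obtain ⟨c₀, c₁, c₂, c₃, hdec, -⟩ := frame_decomp hli
  exact ⟨c₀ x, c₁ x, c₂ x, c₃ x, hdec x⟩

/-- For a point on a line of the surface, the T-condition is the degeneracy of the residual
conic. -/
lemma D_of_rowsDep {α₁ α₂ γ₁ γ₂ γ₃ : K} (h : RowsDep 0 α₁ α₂ 0 γ₁ γ₂ γ₃) :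
    α₁ ^ 2 * γ₃ - α₁ * α₂ * γ₂ + α₂ ^ 2 * γ₁ = 0 := by
  obtain ⟨l₀, l₁, l₂, hne, -, e1, e2, e3⟩ := h
  set D := α₁ ^ 2 * γ₃ - α₁ * α₂ * γ₂ + α₂ ^ 2 * γ₁ with hD
  have d0 : D * l₀ = 0 := by
    rw [hD]
    linear_combination (α₁ * γ₃ - α₂ * γ₂) * e1 + (γ₁ * α₂) * e2 - (γ₁ * α₁) * e3
  have d1 : D * l₁ = 0 := by
    rw [hD]
    linear_combination (-(α₂ * γ₃)) * e1 + (α₁ * γ₃) * e2 + (γ₁ * α₂ - α₁ * γ₂) * e3
  have d2 : D * l₂ = 0 := by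
    rw [hD]
    linear_combination (α₂ ^ 2) * e1 - (α₁ * α₂) * e2 + (α₁ ^ 2) * e3
  by_contra hD0
  exact hne ⟨(mul_eq_zero.mp d0).resolve_left hD0, (mul_eq_zero.mp d1).resolve_left hD0,
    (mul_eq_zero.mp d2).resolve_left hD0⟩

/-- An irreducible cubic cannot vanish on a plane. -/
lemma false_of_vanish_on_plane (hF : F.IsHomogeneous 3) (hirr : Irreducible F)
    (ℓ : (Fin 4 → K) →ₗ[K] K) (hℓ : ℓ ≠ 0) (h : ∀ x, ℓ x = 0 → eval x F = 0) : False := by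
  set c : Fin 4 → K := fun i => ℓ (Pi.single i 1) with hc
  have hsum : ∀ x, ℓ x = ∑ i, c i * x i := by
    intro x
    rw [lin_sum ℓ x]
    exact Finset.sum_congr rfl fun i _ => mul_comm _ _
  obtain ⟨j, hj⟩ : ∃ j, c j ≠ 0 := by
    by_contra hcon
    push Not at hcon
    apply hℓ
    apply LinearMap.ext
    intro x
    rw [hsum]
    simp [hcon]
  have hmem := mem_span_of_vanish_on_hyperplane c j hj F
    (fun x hx => h x (by rw [hsum]; exact hx))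
  obtain ⟨Q, hQ⟩ := Ideal.mem_span_singleton.mp hmem
  have hL : (∑ i, C (c i) * X i : MvPolynomial (Fin 4) K).IsHomogeneous 1 :=
    IsHomogeneous.sum _ _ _ fun i _ => isHomogeneous_C_mul_X _ _
  rcases hirr.isUnit_or_isUnit hQ with hu | hu
  · exact not_isUnit_of_homogeneous hL one_ne_zero hu
  · obtain ⟨q, hq, rfl⟩ := MvPolynomial.isUnit_iff_eq_C_of_isReduced.mp hu
    have h1 : F.IsHomogeneous 1 := by
      rw [hQ]
      have := hL.mul (isHomogeneous_C (Fin 4) q)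
      rwa [add_zero] at this
    exact absurd (IsHomogeneous.inj_right hF h1 hirr.ne_zero) (by norm_num)

lemma phi_line (u o y : Fin 4 → K) (t : K) :
    phi F (u + t • o) (u + t • o) y = phi F u u y + 2 * t * phi F u o y + t ^ 2 * phi F o o y := by
  have h1 : phi F o u y = phi F u o y := phi_comm12 ..
  simp only [phi_add_left, phi_add_mid, phi_smul_left, phi_smul_mid, h1]
  ring

lemma phi_line3 (u o : Fin 4 → K) (t : K) :
    phi F (u + t • o) (u + t • o) (u + t • o)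
      = phi F u u u + 3 * t * phi F u u o + 3 * t ^ 2 * phi F u o o + t ^ 3 * phi F o o o := by
  rw [phi_line, phi_add_right, phi_add_right, phi_add_right, phi_smul_right, phi_smul_right,
    phi_smul_right]
  have h1 : phi F u o u = phi F u u o := phi_comm23 ..
  have h2 : phi F o o u = phi F u o o := phi_comm13 ..
  rw [h1, h2]
  ring

/-- An irreducible cubic surface over an algebraically closed field has a smooth point. -/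
lemma exists_smooth [IsAlgClosed K] (hF : F.IsHomogeneous 3) (hirr : Irreducible F) :
    ∃ a, phi F a a a = 0 ∧ ∃ x, phi F a a x ≠ 0 := by
  by_contra hcon
  push Not at hcon
  obtain ⟨o, ho⟩ : ∃ o, eval o F ≠ 0 := by
    by_contra h0
    push Not at h0
    apply hirr.ne_zero
    apply MvPolynomial.funext
    intro x
    rw [h0 x, map_zero]
  rw [eval_eq_phi hF] at ho
  set B := phi F o o o with hB
  apply false_of_vanish_on_plane hF hirr (phiL F o o)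
  · intro h0
    apply ho
    have := congrArg (fun l => l o) h0
    simpa using this
  intro u hu
  have hu' : phi F o o u = 0 := hu
  have huoo : phi F u o o = 0 := by rw [phi_comm13]; exact hu'
  rw [eval_eq_phi hF]
  set A := phi F u u o with hA
  set Fu := phi F u u u with hFu
  have hdeg : (Polynomial.C B * Polynomial.X ^ 3 + Polynomial.C 0 * Polynomial.X ^ 2
      + Polynomial.C (3 * A) * Polynomial.X + Polynomial.C Fu).degree ≠ 0 := by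
    rw [Polynomial.degree_cubic ho]; norm_num
  obtain ⟨t, ht⟩ := IsAlgClosed.exists_root _ hdeg
  simp only [Polynomial.IsRoot.def, Polynomial.eval_add, Polynomial.eval_mul, Polynomial.eval_C,
    Polynomial.eval_pow, Polynomial.eval_X] at ht
  have hx : phi F (u + t • o) (u + t • o) (u + t • o) = 0 := by
    rw [phi_line3, huoo]
    linear_combination ht
  have E1 := hcon _ hx o
  have E2 := hcon _ hx u
  rw [phi_line] at E1 E2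
  have huou : phi F u o u = A := phi_comm23 ..
  rw [huoo] at E1
  rw [huou, hu'] at E2
  have hx1 : phi F (u + (-2 * t) • o) (u + (-2 * t) • o) (u + (-2 * t) • o) = 0 := by
    rw [phi_line3, huoo]
    linear_combination (1 : K) * E2 + (-8 * t) * E1
  have E3 := hcon _ hx1 o
  rw [phi_line, huoo] at E3
  have ht0 : t = 0 := by
    have : 3 * t ^ 2 * B = 0 := by linear_combination E3 - E1
    have h3 : (3 : K) ≠ 0 := by norm_num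
    have : t ^ 2 = 0 := by
      rcases mul_eq_zero.mp this with h | h
      · exact (mul_eq_zero.mp h).resolve_left h3
      · exact absurd h ho
    exact pow_eq_zero_iff (two_ne_zero) |>.mp this
  rw [ht0] at E2
  linear_combination E2

/-- Change of basis in the tangent plane. -/
lemma tanBasis_change {a u₁ u₂ e : Fin 4 → K} (hB : TanBasis F a u₁ u₂ e) (m p q n r s : K)
    (hdet : p * s - q * r ≠ 0) :
    TanBasis F a (m • a + p • u₁ + q • u₂) (n • a + r • u₁ + s • u₂) e := by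
  refine ⟨?_, hB.hb, ?_, ?_, hB.h3⟩
  · have := li_V4 hB.li (a0 := 1) (a1 := 0) (a2 := 0) (a3 := 0) (b0 := m) (b1 := p) (b2 := q)
      (b3 := 0) (c0 := n) (c1 := r) (c2 := s) (c3 := 0) (d0 := 0) (d1 := 0) (d2 := 0) (d3 := 1) ?_
    · have e1 : V a u₁ u₂ e 1 0 0 0 = a := V_e0 ..
      have e2 : V a u₁ u₂ e m p q 0 = m • a + p • u₁ + q • u₂ := by simp [V]
      have e3 : V a u₁ u₂ e n r s 0 = n • a + r • u₁ + s • u₂ := by simp [V]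
      have e4 : V a u₁ u₂ e 0 0 0 1 = e := V_e3 ..
      rwa [e1, e2, e3, e4] at this
    · intro x y z w h0 h1 h2 h3
      have hw : w = 0 := by linear_combination h3
      have hy : y * (p * s - q * r) = 0 := by linear_combination s * h1 - r * h2
      have hz : z * (p * s - q * r) = 0 := by linear_combination p * h2 - q * h1
      have hy0 := (mul_eq_zero.mp hy).resolve_right hdet
      have hz0 := (mul_eq_zero.mp hz).resolve_right hdet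
      refine ⟨?_, hy0, hz0, hw⟩
      rw [hy0, hz0] at h0
      linear_combination h0
  · simp only [phi_add_right, phi_smul_right, hB.hb, hB.h1, hB.h2, mul_zero, add_zero]
  · simp only [phi_add_right, phi_smul_right, hB.hb, hB.h1, hB.h2, mul_zero, add_zero]

lemma tanBasis_phi {a u₁ u₂ e : Fin 4 → K} (hB : TanBasis F a u₁ u₂ e) (m p q n r s : K) :
    phi F a (m • a + p • u₁ + q • u₂) (n • a + r • u₁ + s • u₂)
      = p * r * phi F a u₁ u₁ + (p * s + q * r) * phi F a u₁ u₂ + q * s * phi F a u₂ u₂ := by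
  have h1 : phi F a a a = 0 := hB.hb
  have h2 : phi F a a u₁ = 0 := hB.h1
  have h3 : phi F a a u₂ = 0 := hB.h2
  have h4 : phi F a u₁ a = 0 := by rw [phi_comm23]; exact h2
  have h5 : phi F a u₂ a = 0 := by rw [phi_comm23]; exact h3
  have h6 : phi F a u₂ u₁ = phi F a u₁ u₂ := phi_comm23 ..
  simp only [phi_add_mid, phi_add_right, phi_smul_mid, phi_smul_right, h1, h2, h3, h4, h5, h6]
  ring

/-- Normal forms of the second fundamental form at a smooth point. -/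
lemma exists_diag [IsAlgClosed K] {a u₁ u₂ e : Fin 4 → K} (hB : TanBasis F a u₁ u₂ e) :
    (∃ w₁ w₂, TanBasis F a w₁ w₂ e ∧ phi F a w₁ w₁ = 0 ∧ phi F a w₂ w₂ = 0 ∧
        phi F a w₁ w₂ ≠ 0) ∨
    (∃ v₁ v₂, TanBasis F a v₁ v₂ e ∧ phi F a v₁ v₁ ≠ 0 ∧ phi F a v₁ v₂ = 0 ∧
        phi F a v₂ v₂ = 0) ∨
    (phi F a u₁ u₁ = 0 ∧ phi F a u₁ u₂ = 0 ∧ phi F a u₂ u₂ = 0) := by
  -- Step 1: a basis whose first vector is anisotropic
  by_cases hall : phi F a u₁ u₁ = 0 ∧ phi F a u₁ u₂ = 0 ∧ phi F a u₂ u₂ = 0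
  · exact Or.inr (Or.inr hall)
  have step1 : ∃ v u, TanBasis F a v u e ∧ phi F a v v ≠ 0 := by
    by_cases c1 : phi F a u₁ u₁ ≠ 0
    · exact ⟨u₁, u₂, hB, c1⟩
    push Not at c1
    by_cases c2 : phi F a u₂ u₂ ≠ 0
    · have := tanBasis_change hB 0 0 1 0 1 0 (by norm_num)
      simp only [zero_smul, one_smul, zero_add, add_zero] at this
      exact ⟨u₂, u₁, this, c2⟩
    push Not at c2
    have c3 : phi F a u₁ u₂ ≠ 0 := fun h => hall ⟨c1, h, c2⟩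
    have := tanBasis_change hB 0 1 1 0 0 1 (by norm_num)
    have hp := tanBasis_phi hB 0 1 1 0 1 1
    simp only [zero_smul, one_smul, zero_add] at this hp
    refine ⟨u₁ + u₂, u₂, this, ?_⟩
    rw [hp, c1, c2]
    have : (1 : K) * 1 * 0 + (1 * 1 + 1 * 1) * phi F a u₁ u₂ + 1 * 1 * 0 = 2 * phi F a u₁ u₂ := by
      ring
    rw [this]
    exact mul_ne_zero two_ne_zero c3
  obtain ⟨v, u, hB1, hα⟩ := step1
  set α := phi F a v v with hαd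
  set c := phi F a v u / α with hcd
  -- Step 2: orthogonalise
  have hB2 := tanBasis_change hB1 0 1 0 0 (-c) 1 (by norm_num)
  have h12 := tanBasis_phi hB1 0 1 0 0 (-c) 1
  have h22 := tanBasis_phi hB1 0 (-c) 1 0 (-c) 1
  simp only [zero_smul, one_smul, zero_add, add_zero] at hB2 h12 h22
  set v₂ := -c • v + u with hv₂
  have h12' : phi F a v v₂ = 0 := by
    rw [h12, ← hαd, hcd]
    field_simp
    ring
  by_cases hβ : phi F a v₂ v₂ = 0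
  · exact Or.inr (Or.inl ⟨v, v₂, hB2, hα, h12', hβ⟩)
  set β := phi F a v₂ v₂ with hβd
  obtain ⟨s, hs⟩ := IsAlgClosed.exists_eq_mul_self (-α / β)
  have hs0 : s ≠ 0 := by
    rintro rfl
    rw [mul_zero] at hs
    have : -α = 0 := by
      have := div_eq_zero_iff.mp hs
      rcases this with h | h
      · exact h
      · exact absurd h hβ
    exact hα (neg_eq_zero.mp this)
  have hsβ : s * s * β = -α := by
    rw [← hs]; field_simp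
  have hB3 := tanBasis_change hB2 0 1 s 0 1 (-s) (by
    intro h
    have : -2 * s = 0 := by linear_combination h
    rcases mul_eq_zero.mp this with h | h
    · norm_num at h
    · exact hs0 h)
  have g11 := tanBasis_phi hB2 0 1 s 0 1 s
  have g22 := tanBasis_phi hB2 0 1 (-s) 0 1 (-s)
  have g12 := tanBasis_phi hB2 0 1 s 0 1 (-s)
  simp only [zero_smul, one_smul, zero_add] at hB3 g11 g22 g12
  refine Or.inl ⟨v + s • v₂, v + -s • v₂, hB3, ?_, ?_, ?_⟩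
  · rw [g11, h12', ← hαd, ← hβd]
    linear_combination hsβ
  · rw [g22, h12', ← hαd, ← hβd]
    linear_combination hsβ
  · rw [g12, h12', ← hαd, ← hβd]
    have : 1 * 1 * α + (1 * -s + s * 1) * 0 + s * -s * β = 2 * α := by linear_combination -hsβ
    rw [this]
    exact mul_ne_zero two_ne_zero hα

/-- The polar quadric at `a` is nondegenerate. -/
def NonDeg (F : MvPolynomial (Fin 4) K) (a : Fin 4 → K) : Prop :=
  ∀ w, (∀ y, phi F a w y = 0) → w = 0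

/-- The second fundamental form at `a` vanishes. -/
def Flat (F : MvPolynomial (Fin 4) K) (a : Fin 4 → K) : Prop :=
  ∀ v w, phi F a a v = 0 → phi F a a w = 0 → phi F a v w = 0

lemma not_nonDeg_of_kernel {a v₁ v₂ e : Fin 4 → K} (hB : TanBasis F a v₁ v₂ e)
    (h12 : phi F a v₁ v₂ = 0) (h22 : phi F a v₂ v₂ = 0) : ¬ NonDeg F a := by
  intro hN
  set c := phi F a v₂ e / phi F a a e with hc
  have hw := hN (V a v₁ v₂ e (-c) 0 1 0) ?_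
  · obtain ⟨-, -, h, -⟩ := V_eq_zero hB.li hw
    exact one_ne_zero h
  intro y
  obtain ⟨y0, y1, y2, y3, rfl⟩ := exists_V hB.li y
  have := phi_V F a v₁ v₂ e 1 0 0 0 (-c) 0 1 0 y0 y1 y2 y3
  rw [V_e0] at this
  rw [this, hB.hb, hB.h1, hB.h2, h12, h22, hc]
  have h3 := hB.h3
  field_simp
  ring

lemma flat_of_zero {a u₁ u₂ e : Fin 4 → K} (hB : TanBasis F a u₁ u₂ e)
    (h11 : phi F a u₁ u₁ = 0) (h12 : phi F a u₁ u₂ = 0) (h22 : phi F a u₂ u₂ = 0) :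
    Flat F a := by
  intro v w hv hw
  obtain ⟨v0, v1, v2, v3, rfl⟩ := exists_V hB.li v
  obtain ⟨w0, w1, w2, w3, rfl⟩ := exists_V hB.li w
  have ev := phi_V F a u₁ u₂ e 1 0 0 0 1 0 0 0 v0 v1 v2 v3
  have ew := phi_V F a u₁ u₂ e 1 0 0 0 1 0 0 0 w0 w1 w2 w3
  rw [V_e0] at ev ew
  rw [ev, hB.hb, hB.h1, hB.h2] at hv
  rw [ew, hB.hb, hB.h1, hB.h2] at hw
  have hv3 : v3 = 0 := by
    have : phi F a a e * v3 = 0 := by linear_combination hv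
    exact (mul_eq_zero.mp this).resolve_left hB.h3
  have hw3 : w3 = 0 := by
    have : phi F a a e * w3 = 0 := by linear_combination hw
    exact (mul_eq_zero.mp this).resolve_left hB.h3
  have := phi_V F a u₁ u₂ e 1 0 0 0 v0 v1 v2 v3 w0 w1 w2 w3
  rw [V_e0] at this
  rw [this, hB.hb, hB.h1, hB.h2, h11, h12, h22, hv3, hw3]
  ring

/-- A frame in which the tangent plane section at `P₀` is the triangle `y₀ y₁ y₂ = 0`. -/
structure TriFrame (F : MvPolynomial (Fin 4) K) (P₀ P₁ P₂ P₃ : Fin 4 → K) : Prop where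
  li : LinearIndependent K ![P₀, P₁, P₂, P₃]
  h000 : phi F P₀ P₀ P₀ = 0
  h001 : phi F P₀ P₀ P₁ = 0
  h002 : phi F P₀ P₀ P₂ = 0
  h011 : phi F P₀ P₁ P₁ = 0
  h022 : phi F P₀ P₂ P₂ = 0
  h111 : phi F P₁ P₁ P₁ = 0
  h112 : phi F P₁ P₁ P₂ = 0
  h122 : phi F P₁ P₂ P₂ = 0
  h222 : phi F P₂ P₂ P₂ = 0
  h012 : phi F P₀ P₁ P₂ ≠ 0

/-- A frame in which the tangent plane section at `P₀` is `y₀ y₁² = 0`. -/
structure BFrame (F : MvPolynomial (Fin 4) K) (P₀ P₁ P₂ P₃ : Fin 4 → K) : Prop where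
  li : LinearIndependent K ![P₀, P₁, P₂, P₃]
  h000 : phi F P₀ P₀ P₀ = 0
  h001 : phi F P₀ P₀ P₁ = 0
  h002 : phi F P₀ P₀ P₂ = 0
  h012 : phi F P₀ P₁ P₂ = 0
  h022 : phi F P₀ P₂ P₂ = 0
  h111 : phi F P₁ P₁ P₁ = 0
  h112 : phi F P₁ P₁ P₂ = 0
  h122 : phi F P₁ P₂ P₂ = 0
  h222 : phi F P₂ P₂ P₂ = 0
  h011 : phi F P₀ P₁ P₁ ≠ 0

lemma TriFrame.swap {P₀ P₁ P₂ P₃ : Fin 4 → K} (h : TriFrame F P₀ P₁ P₂ P₃) :
    TriFrame F P₀ P₂ P₁ P₃ := by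
  refine ⟨?_, h.h000, h.h002, h.h001, h.h022, h.h011, h.h222, ?_, ?_, h.h111, ?_⟩
  · have := h.li.comp (![0, 2, 1, 3] : Fin 4 → Fin 4) (by decide)
    have e : (![P₀, P₁, P₂, P₃] ∘ ![0, 2, 1, 3]) = ![P₀, P₂, P₁, P₃] := by
      funext i; fin_cases i <;> rfl
    rwa [e] at this
  · rw [phi_comm13]; exact h.h122
  · rw [phi_comm13]; exact h.h112
  · rw [phi_comm23]; exact h.h012

lemma exists_triFrame [IsAlgClosed K] (hF : F.IsHomogeneous 3) {a w₁ w₂ e : Fin 4 → K}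
    (hB : TanBasis F a w₁ w₂ e) (h11 : phi F a w₁ w₁ = 0) (h22 : phi F a w₂ w₂ = 0)
    (h12 : phi F a w₁ w₂ ≠ 0) (hT : IsT F a) : ∃ P₁ P₂, TriFrame F a P₁ P₂ e := by
  have hR := (isT_iff_rowsDep hF ⟨e, hB.h3⟩ hB.hb hB.h1 hB.h2 (li3_of_li4 hB.li)).mp hT
  obtain ⟨l₀, l₁, l₂, hne, e0, e1, e2, e3⟩ := hR
  simp only [al0, al1, al2, ga0, ga1, ga2, ga3, h11, h22, mul_zero, zero_add, add_zero] at e0 e1 e2 e3
  set β := phi F a w₁ w₂ with hβ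
  have hl2 : l₂ ≠ 0 := by
    intro h
    rw [h] at e1 e2
    have h6 : (6 : K) ≠ 0 := by norm_num
    have a0 : l₀ = 0 := by
      have : l₀ * (6 * β) = 0 := by linear_combination e1
      exact (mul_eq_zero.mp this).resolve_right (mul_ne_zero h6 h12)
    have a1 : l₁ = 0 := by
      have : l₁ * (6 * β) = 0 := by linear_combination e2
      exact (mul_eq_zero.mp this).resolve_right (mul_ne_zero h6 h12)
    exact hne ⟨a0, a1, h⟩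
  have g111 : phi F w₁ w₁ w₁ = 0 := (mul_eq_zero.mp e0).resolve_left hl2
  have g222 : phi F w₂ w₂ w₂ = 0 := (mul_eq_zero.mp e3).resolve_left hl2
  have g112 : phi F w₁ w₁ w₂ = phi F w₂ w₁ w₁ := phi_comm13 ..
  have g122 : phi F w₁ w₂ w₂ = phi F w₂ w₂ w₁ := phi_comm13 ..
  set c₁ := phi F w₂ w₁ w₁ / (2 * β) with hc₁
  set c₂ := phi F w₂ w₂ w₁ / (2 * β) with hc₂
  have hB' := tanBasis_change hB (-c₁) 1 0 (-c₂) 0 1 (by norm_num)
  have eP1 : -c₁ • a + (1 : K) • w₁ + (0 : K) • w₂ = V a w₁ w₂ e (-c₁) 1 0 0 := by simp [V]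
  have eP2 : -c₂ • a + (0 : K) • w₁ + (1 : K) • w₂ = V a w₁ w₂ e (-c₂) 0 1 0 := by simp [V]
  rw [eP1, eP2] at hB'
  have h2 : (2 : K) ≠ 0 := two_ne_zero
  refine ⟨_, _, ⟨hB'.li, hB.hb, hB'.h1, hB'.h2, ?_, ?_, ?_, ?_, ?_, ?_, ?_⟩⟩
  · have := phi_V F a w₁ w₂ e 1 0 0 0 (-c₁) 1 0 0 (-c₁) 1 0 0
    rw [V_e0] at this
    rw [this, hB.hb, hB.h1, hB.h2, h11, h22]; ring
  · have := phi_V F a w₁ w₂ e 1 0 0 0 (-c₂) 0 1 0 (-c₂) 0 1 0
    rw [V_e0] at this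
    rw [this, hB.hb, hB.h1, hB.h2, h11, h22]; ring
  · rw [phi_V, hB.hb, hB.h1, hB.h2, h11, h22, g111]; ring
  · rw [phi_V, hB.hb, hB.h1, hB.h2, h11, h22, g111, g112, hc₁, ← hβ]
    field_simp
    ring
  · rw [phi_V, hB.hb, hB.h1, hB.h2, h11, h22, g122, hc₂, ← hβ]
    field_simp
    ring
  · rw [phi_V, hB.hb, hB.h1, hB.h2, h11, h22, g222]; ring
  · have := phi_V F a w₁ w₂ e 1 0 0 0 (-c₁) 1 0 0 (-c₂) 0 1 0
    rw [V_e0] at this
    rw [this, hB.hb, hB.h1, hB.h2, h11, h22]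
    intro h0
    apply h12
    rw [hβ]
    linear_combination h0

lemma exists_bFrame0 [IsAlgClosed K] (hF : F.IsHomogeneous 3) {a v₁ v₂ e : Fin 4 → K}
    (hB : TanBasis F a v₁ v₂ e) (h11 : phi F a v₁ v₁ ≠ 0) (h12 : phi F a v₁ v₂ = 0)
    (h22 : phi F a v₂ v₂ = 0) (hT : IsT F a) : ∃ P₁ P₂, BFrame F a P₁ P₂ e := by
  have hR := (isT_iff_rowsDep hF ⟨e, hB.h3⟩ hB.hb hB.h1 hB.h2 (li3_of_li4 hB.li)).mp hT
  obtain ⟨l₀, l₁, l₂, hne, e0, e1, e2, e3⟩ := hR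
  simp only [al0, al1, al2, ga0, ga1, ga2, ga3, h12, h22, mul_zero, zero_add, add_zero] at e0 e1 e2 e3
  set α := phi F a v₁ v₁ with hα
  have h3 : (3 : K) ≠ 0 := by norm_num
  have hl2 : l₂ ≠ 0 := by
    intro h
    rw [h] at e0 e1
    have a0 : l₀ = 0 := by
      have : l₀ * (3 * α) = 0 := by linear_combination e0
      exact (mul_eq_zero.mp this).resolve_right (mul_ne_zero h3 h11)
    have a1 : l₁ = 0 := by
      have : l₁ * (3 * α) = 0 := by linear_combination e1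
      exact (mul_eq_zero.mp this).resolve_right (mul_ne_zero h3 h11)
    exact hne ⟨a0, a1, h⟩
  have g221 : phi F v₂ v₂ v₁ = 0 := by
    have := (mul_eq_zero.mp e2).resolve_left hl2
    exact (mul_eq_zero.mp this).resolve_left h3
  have g222 : phi F v₂ v₂ v₂ = 0 := (mul_eq_zero.mp e3).resolve_left hl2
  have g112 : phi F v₁ v₁ v₂ = phi F v₂ v₁ v₁ := phi_comm13 ..
  have g122 : phi F v₁ v₂ v₂ = 0 := by rw [phi_comm13]; exact g221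
  set c₁ := phi F v₁ v₁ v₁ / (3 * α) with hc₁
  set c₂ := phi F v₂ v₁ v₁ / α with hc₂
  have hB' := tanBasis_change hB (-c₁) 1 0 (-c₂) 0 1 (by norm_num)
  have eP1 : -c₁ • a + (1 : K) • v₁ + (0 : K) • v₂ = V a v₁ v₂ e (-c₁) 1 0 0 := by simp [V]
  have eP2 : -c₂ • a + (0 : K) • v₁ + (1 : K) • v₂ = V a v₁ v₂ e (-c₂) 0 1 0 := by simp [V]
  rw [eP1, eP2] at hB'
  refine ⟨_, _, ⟨hB'.li, hB.hb, hB'.h1, hB'.h2, ?_, ?_, ?_, ?_, ?_, ?_, ?_⟩⟩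
  · have := phi_V F a v₁ v₂ e 1 0 0 0 (-c₁) 1 0 0 (-c₂) 0 1 0
    rw [V_e0] at this
    rw [this, hB.hb, hB.h1, hB.h2, h12, h22]; ring
  · have := phi_V F a v₁ v₂ e 1 0 0 0 (-c₂) 0 1 0 (-c₂) 0 1 0
    rw [V_e0] at this
    rw [this, hB.hb, hB.h1, hB.h2, h12, h22]; ring
  · rw [phi_V, hB.hb, hB.h1, hB.h2, h12, h22, hc₁, ← hα]
    field_simp
    ring
  · rw [phi_V, hB.hb, hB.h1, hB.h2, h12, h22, g112, hc₂, ← hα]
    field_simp
    ring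
  · rw [phi_V, hB.hb, hB.h1, hB.h2, h12, h22, g122]; ring
  · rw [phi_V, hB.hb, hB.h1, hB.h2, h12, h22, g222]; ring
  · have := phi_V F a v₁ v₂ e 1 0 0 0 (-c₁) 1 0 0 (-c₁) 1 0 0
    rw [V_e0] at this
    rw [this, hB.hb, hB.h1, hB.h2, h12, h22]
    intro h0
    apply h11
    rw [hα]
    linear_combination h0

lemma BFrame.normalize {P₀ P₁ P₂ e : Fin 4 → K} (h : BFrame F P₀ P₁ P₂ e) :
    ∃ P₃, BFrame F P₀ P₁ P₂ P₃ ∧ phi F P₁ P₁ P₃ = 0 ∧ phi F P₀ P₁ P₃ = 0 ∧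
      phi F P₀ P₀ P₃ = phi F P₀ P₀ e := by
  set k₁ := phi F P₀ P₁ P₁ with hk₁
  have hk : k₁ ≠ 0 := h.h011
  set x := -phi F P₁ P₁ e / k₁ with hx
  set y := -phi F P₀ P₁ e / k₁ with hy
  refine ⟨V P₀ P₁ P₂ e x y 0 1, ⟨?_, h.h000, h.h001, h.h002, h.h012, h.h022, h.h111, h.h112,
    h.h122, h.h222, h.h011⟩, ?_, ?_, ?_⟩
  · have := li_V4 h.li (a0 := 1) (a1 := 0) (a2 := 0) (a3 := 0) (b0 := 0) (b1 := 1) (b2 := 0)
      (b3 := 0) (c0 := 0) (c1 := 0) (c2 := 1) (c3 := 0) (d0 := x) (d1 := y) (d2 := 0) (d3 := 1) ?_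
    · rwa [V_e0, V_e1, V_e2] at this
    · intro a b c d h0 h1 h2 h3
      have hd : d = 0 := by linear_combination h3
      rw [hd] at h0 h1 h2
      exact ⟨by linear_combination h0, by linear_combination h1, by linear_combination h2, hd⟩
  · have := phi_V F P₀ P₁ P₂ e 0 1 0 0 0 1 0 0 x y 0 1
    rw [V_e1] at this
    rw [this, h.h111, h.h112, ← hk₁, hx]
    field_simp
    ring
  · have := phi_V F P₀ P₁ P₂ e 1 0 0 0 0 1 0 0 x y 0 1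
    rw [V_e0, V_e1] at this
    rw [this, h.h001, h.h012, ← hk₁, hy]
    field_simp
    ring
  · have := phi_V F P₀ P₁ P₂ e 1 0 0 0 1 0 0 0 x y 0 1
    rw [V_e0] at this
    rw [this, h.h000, h.h001, h.h002]
    ring

end frame

end Groth.Agent.Lib.Helper92.CubicNT
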