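import Mathlib
import Groth.Agent.Lib.Helper92.CubicNT1

/-!
# Existence of a smooth non-T-point (part 2): the triangle case
-/

namespace Groth.Agent.Lib.Helper92.CubicNT
set_option linter.unusedSectionVars false
set_option linter.unusedVariables false
open MvPolynomial Module Groth.Agent.Lib.Helper95 Groth.Agent.Lib.Helper92.TPoints
  Groth.Agent.Lib.Helper92.FivePts

section case1
variable {K : Type*} [Field K] [CharZero K] {F : MvPolynomial (Fin 4) K}
  {P₀ P₁ P₂ P₃ : Fin 4 → K}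

local notation "k0" => phi F P₀ P₁ P₂
local notation "c003" => phi F P₀ P₀ P₃
local notation "c013" => phi F P₀ P₁ P₃
local notation "c023" => phi F P₀ P₂ P₃
local notation "c033" => phi F P₀ P₃ P₃
local notation "c113" => phi F P₁ P₁ P₃
local notation "c123" => phi F P₁ P₂ P₃
local notation "c133" => phi F P₁ P₃ P₃
local notation "c223" => phi F P₂ P₂ P₃
local notation "c233" => phi F P₂ P₃ P₃
local notation "c333" => phi F P₃ P₃ P₃
local notation "CC" => (Polynomial.C : K →+* Polynomial K)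
local notation "XX" => (Polynomial.X : Polynomial K)

lemma infinite_ne_zero : Set.Infinite {τ : K | τ ≠ 0} := by
  have : {τ : K | τ ≠ 0} = ({0} : Set K)ᶜ := by ext; simp
  rw [this]
  exact (Set.finite_singleton 0).infinite_compl

/-- In a triangle with a smooth vertex `P₀`, all of whose points are T-points, the vertex `P₁` is a
singular point of the surface. -/
lemma tri_A1 [IsAlgClosed K] (hF : F.IsHomogeneous 3) (h : TriFrame F P₀ P₁ P₂ P₃)
    (hs0 : c003 ≠ 0)
    (hT : ∀ b, phi F b b b = 0 → (∃ x, phi F b b x ≠ 0) → IsT F b) : c113 = 0 := by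
  by_contra hs1
  have hk : k0 ≠ 0 := h.h012
  set ρP : Polynomial K := CC c113 + CC (2 * c123) * XX + CC c223 * XX ^ 2 with hρP
  set a1P : Polynomial K := CC (6 * k0) * (CC c113 - XX ^ 2 * CC c223) with ha1P
  set btP : Polynomial K := CC (-12 * k0) * ρP * (CC c013 + CC c023 * XX)
    + CC (12 * k0 * k0) * XX * (CC c133 + CC c233 * XX) with hbtP
  set ctP : Polynomial K := CC (-12 * k0 * c023) * ρP + CC (12 * k0 * k0 * c233) * XX with hctP
  set dtP : Polynomial K := CC (-6 * k0 * c003) * ρP ^ 2 + CC (12 * k0 * k0 * c033) * XX * ρP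
    - CC (8 * k0 ^ 3 * c333) * XX ^ 2 with hdtP
  set etP : Polynomial K := CC (-6 * k0 * c223) with hetP
  set DtP : Polynomial K := a1P ^ 2 * dtP - XX * a1P * btP * ctP + XX ^ 2 * btP ^ 2 * etP with hDtP
  have key : ∀ τ : K, τ ≠ 0 → DtP.eval τ = 0 := by
    intro τ hτ
    set ρ := c113 + 2 * c123 * τ + c223 * τ ^ 2 with hρ
    set b := V P₀ P₁ P₂ P₃ 0 1 τ 0 with hb
    set u₁ := V P₀ P₁ P₂ P₃ 0 0 1 0 with hu₁
    set u₂ := V P₀ P₁ P₂ P₃ ρ 0 0 (-2 * τ * k0) with hu₂
    have hbb : phi F b b b = 0 := by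
      simp only [hb, phi_V, h.h000, h.h001, h.h002, h.h011, h.h022, h.h111, h.h112, h.h122, h.h222]
      ring
    have hsm : phi F b b (V P₀ P₁ P₂ P₃ 1 0 0 0) ≠ 0 := by
      have : phi F b b (V P₀ P₁ P₂ P₃ 1 0 0 0) = 2 * τ * k0 := by
        simp only [hb, phi_V, h.h000, h.h001, h.h002, h.h011, h.h022, h.h111, h.h112, h.h122,
          h.h222]
        ring
      rw [this]
      exact mul_ne_zero (mul_ne_zero two_ne_zero hτ) hk
    have h1 : phi F b b u₁ = 0 := by
      simp only [hb, hu₁, phi_V, h.h000, h.h001, h.h002, h.h011, h.h022, h.h111, h.h112, h.h122,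
        h.h222]
      ring
    have h2 : phi F b b u₂ = 0 := by
      simp only [hb, hu₂, phi_V, h.h000, h.h001, h.h002, h.h011, h.h022, h.h111, h.h112, h.h122,
        h.h222, hρ]
      ring
    have hli : LinearIndependent K ![b, u₁, u₂] := by
      apply li_V3 h.li
      intro x y z e0 e1 e2 e3
      have hx : x = 0 := by linear_combination e1
      have hz : z = 0 := by
        have : z * (-2 * τ * k0) = 0 := by linear_combination e3
        exact (mul_eq_zero.mp this).resolve_right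
          (mul_ne_zero (mul_ne_zero (by norm_num) hτ) hk)
      refine ⟨hx, ?_, hz⟩
      rw [hx, hz] at e2
      linear_combination e2
    have hR := (isT_iff_rowsDep hF ⟨_, hsm⟩ hbb h1 h2 hli).mp (hT b hbb ⟨_, hsm⟩)
    have ea0 : al0 F b u₁ = 0 := by
      simp only [al0, hb, hu₁, phi_V, h.h000, h.h001, h.h002, h.h011, h.h022, h.h111, h.h112,
        h.h122, h.h222]
      ring
    have eg0 : ga0 F u₁ = 0 := by
      simp only [ga0, hu₁, phi_V, h.h000, h.h001, h.h002, h.h011, h.h022, h.h111, h.h112,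
        h.h122, h.h222]
      ring
    rw [ea0, eg0] at hR
    have hD := D_of_rowsDep hR
    have ea1 : al1 F b u₁ u₂ = 6 * k0 * (c113 - τ ^ 2 * c223) := by
      simp only [al1, hb, hu₁, hu₂, phi_V, h.h000, h.h001, h.h002, h.h011, h.h022, h.h111,
        h.h112, h.h122, h.h222, hρ]
      ring
    have ea2 : al2 F b u₂ = τ * (-12 * k0 * ρ * (c013 + c023 * τ)
        + 12 * k0 * k0 * τ * (c133 + c233 * τ)) := by
      simp only [al2, hb, hu₂, phi_V, h.h000, h.h001, h.h002, h.h011, h.h022, h.h111,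
        h.h112, h.h122, h.h222, hρ]
      ring
    have eg1 : ga1 F u₁ u₂ = τ * (-6 * k0 * c223) := by
      simp only [ga1, hu₁, hu₂, phi_V, h.h000, h.h001, h.h002, h.h011, h.h022, h.h111,
        h.h112, h.h122, h.h222, hρ]
      ring
    have eg2 : ga2 F u₁ u₂ = τ * (-12 * k0 * c023 * ρ + 12 * k0 * k0 * c233 * τ) := by
      simp only [ga2, hu₁, hu₂, phi_V, h.h000, h.h001, h.h002, h.h011, h.h022, h.h111,
        h.h112, h.h122, h.h222, hρ]
      ring
    have eg3 : ga3 F u₂ = τ * (-6 * k0 * c003 * ρ ^ 2 + 12 * k0 * k0 * c033 * τ * ρ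
        - 8 * k0 ^ 3 * c333 * τ ^ 2) := by
      simp only [ga3, hu₂, phi_V, h.h000, h.h001, h.h002, h.h011, h.h022, h.h111,
        h.h112, h.h122, h.h222, hρ]
      ring
    rw [ea1, ea2, eg1, eg2, eg3] at hD
    have : τ * DtP.eval τ = 0 := by
      simp only [hDtP, ha1P, hbtP, hctP, hdtP, hetP, hρP, Polynomial.eval_add, Polynomial.eval_sub,
        Polynomial.eval_mul, Polynomial.eval_pow, Polynomial.eval_C, Polynomial.eval_X]
      rw [hρ] at hD
      linear_combination hD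
    exact (mul_eq_zero.mp this).resolve_left hτ
  have hz : DtP = 0 := by
    by_contra hne
    have hfin := Polynomial.finite_setOfPred_isRoot hne
    exact infinite_ne_zero (hfin.subset fun τ hτ => key τ hτ)
  have h0 := congrArg (Polynomial.eval 0) hz
  simp only [hDtP, ha1P, hbtP, hctP, hdtP, hetP, hρP, Polynomial.eval_add, Polynomial.eval_sub,
    Polynomial.eval_mul, Polynomial.eval_pow, Polynomial.eval_C, Polynomial.eval_X,
    Polynomial.eval_zero] at h0
  have : c003 * k0 ^ 3 * c113 ^ 4 = 0 := by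
    have h216 : (-216 : K) ≠ 0 := by norm_num
    have : (-216 : K) * (c003 * k0 ^ 3 * c113 ^ 4) = 0 := by linear_combination h0
    exact (mul_eq_zero.mp this).resolve_left h216
  exact mul_ne_zero (mul_ne_zero hs0 (pow_ne_zero 3 hk)) (pow_ne_zero 4 hs1) this

lemma cubic_zero_of_ne (d₀ d₁ d₂ d₃ : K)
    (h : ∀ τ : K, τ ≠ 0 → d₀ + d₁ * τ + d₂ * τ ^ 2 + d₃ * τ ^ 3 = 0) :
    d₀ = 0 ∧ d₁ = 0 ∧ d₂ = 0 ∧ d₃ = 0 := by
  have h1 := h 1 one_ne_zero
  have hm1 := h (-1) (by norm_num)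
  have h2 := h 2 two_ne_zero
  have hm2 := h (-2) (by norm_num)
  have h6 : (6 : K) ≠ 0 := by norm_num
  have h12 : (12 : K) ≠ 0 := by norm_num
  have e2 : d₂ = 0 := by
    have : 6 * d₂ = 0 := by linear_combination h2 + hm2 - h1 - hm1
    exact (mul_eq_zero.mp this).resolve_left h6
  have e3 : d₃ = 0 := by
    have : 12 * d₃ = 0 := by linear_combination h2 - hm2 - 2 * h1 + 2 * hm1
    exact (mul_eq_zero.mp this).resolve_left h12
  have e0 : d₀ = 0 := by
    have : 2 * d₀ = 0 := by linear_combination h1 + hm1 - 2 * e2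
    exact (mul_eq_zero.mp this).resolve_left two_ne_zero
  have e1 : d₁ = 0 := by
    have : 2 * d₁ = 0 := by linear_combination h1 - hm1 - 2 * e3
    exact (mul_eq_zero.mp this).resolve_left two_ne_zero
  exact ⟨e0, e1, e2, e3⟩

/-- Second step in the triangle case: the relations forcing reducibility. -/
lemma tri_A2 [IsAlgClosed K] (hF : F.IsHomogeneous 3) (h : TriFrame F P₀ P₁ P₂ P₃)
    (hs0 : c003 ≠ 0) (hs1 : c113 = 0) (hs2 : c223 = 0)
    (hT : ∀ b, phi F b b b = 0 → (∃ x, phi F b b x ≠ 0) → IsT F b) :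
    k0 * c233 = 2 * c023 * c123 ∧ k0 * c133 = 2 * c013 * c123 ∧
      k0 ^ 2 * c333 = 3 * c123 * (k0 * c033 - c003 * c123) := by
  have hk : k0 ≠ 0 := h.h012
  have key : ∀ τ : K, τ ≠ 0 →
      (-864*c003^3*k0^3*c013*c123 + 432*c003^3*k0^4*c133) + (-3456*c003^2*k0^3*c013*c023*c123 + 864*c003^2*k0^4*c013*c233 + 864*c003^2*k0^4*c023*c133 + 864*c003^2*k0^4*c033*c123 - 288*c003^2*k0^5*c333 - 864*c003^3*k0^3*c123^2) * τ
        + (-3456*c003*k0^3*c013*c023^2*c123 + 1728*c003*k0^4*c013*c023*c233 + 1728*c003*k0^4*c023*c033*c123 - 864*c003*k0^5*c033*c233 - 3456*c003^2*k0^3*c023*c123^2 + 1728*c003^2*k0^4*c123*c233) * τ ^ 2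
        + (-3456*c003*k0^3*c023^2*c123^2 + 3456*c003*k0^4*c023*c123*c233 - 864*c003*k0^5*c233^2) * τ ^ 3 = 0 := by
    intro τ hτ
    set σ := c003 + 2 * c023 * τ with hσ
    set b := V P₀ P₁ P₂ P₃ 1 0 τ 0 with hb
    set u₁ := V P₀ P₁ P₂ P₃ 0 0 1 0 with hu₁
    set u₂ := V P₀ P₁ P₂ P₃ 0 σ 0 (-2 * τ * k0) with hu₂
    have hbb : phi F b b b = 0 := by
      simp only [hb, phi_V, h.h000, h.h001, h.h002, h.h011, h.h022, h.h111, h.h112, h.h122, h.h222]
      ring
    have hsm : phi F b b (V P₀ P₁ P₂ P₃ 0 1 0 0) ≠ 0 := by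
      have : phi F b b (V P₀ P₁ P₂ P₃ 0 1 0 0) = 2 * τ * k0 := by
        simp only [hb, phi_V, h.h000, h.h001, h.h002, h.h011, h.h022, h.h111, h.h112, h.h122,
          h.h222]
        ring
      rw [this]
      exact mul_ne_zero (mul_ne_zero two_ne_zero hτ) hk
    have h1 : phi F b b u₁ = 0 := by
      simp only [hb, hu₁, phi_V, h.h000, h.h001, h.h002, h.h011, h.h022, h.h111, h.h112, h.h122,
        h.h222, hs2]
      ring
    have h2 : phi F b b u₂ = 0 := by
      simp only [hb, hu₂, phi_V, h.h000, h.h001, h.h002, h.h011, h.h022, h.h111, h.h112, h.h122,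
        h.h222, hs2, hσ]
      ring
    have hli : LinearIndependent K ![b, u₁, u₂] := by
      apply li_V3 h.li
      intro x y z e0 e1 e2 e3
      have hx : x = 0 := by linear_combination e0
      have hz : z = 0 := by
        have : z * (-2 * τ * k0) = 0 := by linear_combination e3
        exact (mul_eq_zero.mp this).resolve_right
          (mul_ne_zero (mul_ne_zero (by norm_num) hτ) hk)
      refine ⟨hx, ?_, hz⟩
      rw [hx, hz] at e2
      linear_combination e2
    have hR := (isT_iff_rowsDep hF ⟨_, hsm⟩ hbb h1 h2 hli).mp (hT b hbb ⟨_, hsm⟩)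
    have ea0 : al0 F b u₁ = 0 := by
      simp only [al0, hb, hu₁, phi_V, h.h000, h.h001, h.h002, h.h011, h.h022, h.h111, h.h112,
        h.h122, h.h222]
      ring
    have eg0 : ga0 F u₁ = 0 := by
      simp only [ga0, hu₁, phi_V, h.h000, h.h001, h.h002, h.h011, h.h022, h.h111, h.h112,
        h.h122, h.h222]
      ring
    rw [ea0, eg0] at hR
    have hD := D_of_rowsDep hR
    have ea1 : al1 F b u₁ u₂ = 6 * c003 * k0 := by
      simp only [al1, hb, hu₁, hu₂, phi_V, h.h000, h.h001, h.h002, h.h011, h.h022, h.h111,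
        h.h112, h.h122, h.h222, hs1, hs2, hσ]
      ring
    have ea2 : al2 F b u₂ = 12 * τ * k0 * (-σ * (c013 + τ * c123) + τ * k0 * (c033 + τ * c233)) := by
      simp only [al2, hb, hu₂, phi_V, h.h000, h.h001, h.h002, h.h011, h.h022, h.h111,
        h.h112, h.h122, h.h222, hs1, hs2, hσ]
      ring
    have eg1 : ga1 F u₁ u₂ = 0 := by
      simp only [ga1, hu₁, hu₂, phi_V, h.h000, h.h001, h.h002, h.h011, h.h022, h.h111,
        h.h112, h.h122, h.h222, hs1, hs2, hσ]
      ring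
    have eg2 : ga2 F u₁ u₂ = 12 * τ * k0 * (-σ * c123 + τ * k0 * c233) := by
      simp only [ga2, hu₁, hu₂, phi_V, h.h000, h.h001, h.h002, h.h011, h.h022, h.h111,
        h.h112, h.h122, h.h222, hs1, hs2, hσ]
      ring
    have eg3 : ga3 F u₂ = 12 * τ ^ 2 * k0 ^ 2 * σ * c133 - 8 * τ ^ 3 * k0 ^ 3 * c333 := by
      simp only [ga3, hu₂, phi_V, h.h000, h.h001, h.h002, h.h011, h.h022, h.h111,
        h.h112, h.h122, h.h222, hs1, hs2, hσ]
      ring
    rw [ea1, ea2, eg1, eg2, eg3, hσ] at hD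
    have : τ ^ 2 * ((-864*c003^3*k0^3*c013*c123 + 432*c003^3*k0^4*c133) + (-3456*c003^2*k0^3*c013*c023*c123 + 864*c003^2*k0^4*c013*c233 + 864*c003^2*k0^4*c023*c133 + 864*c003^2*k0^4*c033*c123 - 288*c003^2*k0^5*c333 - 864*c003^3*k0^3*c123^2) * τ
        + (-3456*c003*k0^3*c013*c023^2*c123 + 1728*c003*k0^4*c013*c023*c233 + 1728*c003*k0^4*c023*c033*c123 - 864*c003*k0^5*c033*c233 - 3456*c003^2*k0^3*c023*c123^2 + 1728*c003^2*k0^4*c123*c233) * τ ^ 2
        + (-3456*c003*k0^3*c023^2*c123^2 + 3456*c003*k0^4*c023*c123*c233 - 864*c003*k0^5*c233^2) * τ ^ 3) = 0 := by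
      linear_combination hD
    exact (mul_eq_zero.mp this).resolve_left (pow_ne_zero 2 hτ)
  obtain ⟨e0, e1, -, e3⟩ := cubic_zero_of_ne _ _ _ _ key
  have hc : c003 * k0 ^ 3 ≠ 0 := mul_ne_zero hs0 (pow_ne_zero 3 hk)
  have R1 : k0 * c233 = 2 * c023 * c123 := by
    have : (-864 * (c003 * k0 ^ 3)) * (k0 * c233 - 2 * c023 * c123) ^ 2 = 0 := by
      linear_combination e3
    have := (mul_eq_zero.mp this).resolve_left (mul_ne_zero (by norm_num) hc)
    have := pow_eq_zero_iff (two_ne_zero) |>.mp this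
    linear_combination this
  have R2 : k0 * c133 = 2 * c013 * c123 := by
    have : (432 * c003 ^ 2 * (c003 * k0 ^ 3)) * (k0 * c133 - 2 * c013 * c123) = 0 := by
      linear_combination e0
    have := (mul_eq_zero.mp this).resolve_left
      (mul_ne_zero (mul_ne_zero (by norm_num) (pow_ne_zero 2 hs0)) hc)
    linear_combination this
  refine ⟨R1, R2, ?_⟩
  have : (288 * c003 * (c003 * k0 ^ 3)) *
      (k0 ^ 2 * c333 - 3 * c123 * (k0 * c033 - c003 * c123)) = 0 := by
    linear_combination (-1 : K) * e1 + (864 * c003 ^ 2 * k0 ^ 3 * c013) * R1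
      + (864 * c003 ^ 2 * k0 ^ 3 * c023) * R2
  have := (mul_eq_zero.mp this).resolve_left
    (mul_ne_zero (mul_ne_zero (by norm_num) hs0) hc)
  linear_combination this

/-- The triangle case is impossible on an irreducible cubic surface. -/
theorem tri_false [IsAlgClosed K] (hF : F.IsHomogeneous 3) (hirr : Irreducible F)
    (h : TriFrame F P₀ P₁ P₂ P₃) (hs0 : c003 ≠ 0)
    (hT : ∀ b, phi F b b b = 0 → (∃ x, phi F b b x ≠ 0) → IsT F b) : False := by
  have hk : k0 ≠ 0 := h.h012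
  have hs1 : c113 = 0 := tri_A1 hF h hs0 hT
  have hs2 : c223 = 0 := tri_A1 hF h.swap hs0 hT
  obtain ⟨R1, R2, R3⟩ := tri_A2 hF h hs0 hs1 hs2 hT
  obtain ⟨y₀, y₁, y₂, y₃, hdec, ⟨h00, -, -, -⟩, -, -, ⟨h30, -, -, -⟩⟩ := frame_decomp h.li
  apply false_of_vanish_on_plane hF hirr (k0 • y₀ + c123 • y₃)
  · intro h0
    have := congrArg (fun l => l P₀) h0
    simp only [LinearMap.add_apply, LinearMap.smul_apply, smul_eq_mul, h00, h30,
      LinearMap.zero_apply] at this
    apply hk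
    linear_combination this
  intro x hx
  simp only [LinearMap.add_apply, LinearMap.smul_apply, smul_eq_mul] at hx
  have hx' : x = V P₀ P₁ P₂ P₃ (y₀ x) (y₁ x) (y₂ x) (y₃ x) := hdec x
  generalize y₀ x = t0 at hx hx'
  generalize y₁ x = t1 at hx'
  generalize y₂ x = t2 at hx'
  generalize y₃ x = t3 at hx hx'
  rw [eval_eq_phi hF, hx']
  simp only [phi_V, h.h000, h.h001, h.h002, h.h011, h.h022, h.h111, h.h112, h.h122, h.h222, hs1,
    hs2]
  have hk2 : k0 ^ 2 ≠ 0 := pow_ne_zero 2 hk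
  apply (mul_eq_zero.mp ?_).resolve_left hk2
  linear_combination (6 * k0 * k0 * t1 * t2 + t3 * (3 * c003 * k0 * t0 + 6 * c013 * k0 * t1
      + 6 * c023 * k0 * t2 + 3 * (k0 * c033 - c003 * c123) * t3)) * hx
    + (3 * k0 * t1 * t3 ^ 2) * R2 + (3 * k0 * t2 * t3 ^ 2) * R1 + (t3 ^ 3) * R3

end case1

end Groth.Agent.Lib.Helper92.CubicNT
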