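import Mathlib
import Groth.Agent.Lib.Helper92.CubicNT2

/-!
# Existence of a smooth non-T-point (part 3): the parabolic and flat cases, main theorem
-/

namespace Groth.Agent.Lib.Helper92.CubicNT
set_option linter.unusedSectionVars false
set_option linter.unusedVariables false
open MvPolynomial Module Groth.Agent.Lib.Helper95 Groth.Agent.Lib.Helper92.TPoints
  Groth.Agent.Lib.Helper92.FivePts

section case2
variable {K : Type*} [Field K] [CharZero K] {F : MvPolynomial (Fin 4) K}
  {P₀ P₁ P₂ P₃ : Fin 4 → K}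

local notation "c011" => phi F P₀ P₁ P₁
local notation "c003" => phi F P₀ P₀ P₃
local notation "c013" => phi F P₀ P₁ P₃
local notation "c023" => phi F P₀ P₂ P₃
local notation "c033" => phi F P₀ P₃ P₃
local notation "c113" => phi F P₁ P₁ P₃
local notation "c123" => phi F P₁ P₂ P₃
local notation "c133" => phi F P₁ P₃ P₃
local notation "c223" => phi F P₂ P₂ P₃
local notation "c233" => phi F P₂ P₃ P₃
local notation "c333" => phi F P₃ P₃ P₃

/-- If no smooth point has a nondegenerate polar quadric, a `B`-frame has two further vanishing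
coefficients. -/
lemma b_B1 (h : BFrame F P₀ P₁ P₂ P₃)
    (hdeg : ∀ b, phi F b b b = 0 → (∃ x, phi F b b x ≠ 0) → ¬ NonDeg F b) :
    c123 = 0 ∧ c223 = 0 := by
  have hk : c011 ≠ 0 := h.h011
  have key : ∀ s : K, c123 + s * c223 = 0 := by
    intro s
    by_contra hC
    set b := V P₀ P₁ P₂ P₃ 0 1 s 0 with hb
    have hbb : phi F b b b = 0 := by
      simp only [hb, phi_V, h.h000, h.h001, h.h002, h.h012, h.h022, h.h111, h.h112, h.h122, h.h222]
      ring
    have hsm : phi F b b (V P₀ P₁ P₂ P₃ 1 0 0 0) ≠ 0 := by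
      have : phi F b b (V P₀ P₁ P₂ P₃ 1 0 0 0) = c011 := by
        simp only [hb, phi_V, h.h000, h.h001, h.h002, h.h012, h.h022, h.h111, h.h112, h.h122,
          h.h222]
        ring
      rw [this]
      exact hk
    apply hdeg b hbb ⟨_, hsm⟩
    intro w hw
    obtain ⟨w0, w1, w2, w3, rfl⟩ := exists_V h.li w
    have E0 := hw (V P₀ P₁ P₂ P₃ 1 0 0 0)
    have E1 := hw (V P₀ P₁ P₂ P₃ 0 1 0 0)
    have E2 := hw (V P₀ P₁ P₂ P₃ 0 0 1 0)
    have E3 := hw (V P₀ P₁ P₂ P₃ 0 0 0 1)
    simp only [hb, phi_V, h.h000, h.h001, h.h002, h.h012, h.h022, h.h111, h.h112, h.h122,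
      h.h222] at E0 E1 E2 E3
    have hw3 : w3 = 0 := by
      have : (c123 + s * c223) * w3 = 0 := by linear_combination E2
      exact (mul_eq_zero.mp this).resolve_left hC
    rw [hw3] at E0 E1 E3
    have hw1 : w1 = 0 := by
      have : c011 * w1 = 0 := by linear_combination E0
      exact (mul_eq_zero.mp this).resolve_left hk
    have hw0 : w0 = 0 := by
      have : c011 * w0 = 0 := by linear_combination E1
      exact (mul_eq_zero.mp this).resolve_left hk
    rw [hw0, hw1] at E3
    have hw2 : w2 = 0 := by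
      have : (c123 + s * c223) * w2 = 0 := by linear_combination E3
      exact (mul_eq_zero.mp this).resolve_left hC
    rw [hw0, hw1, hw2, hw3]
    simp [V]
  have e0 := key 0
  have e1 := key 1
  rw [zero_mul, add_zero] at e0
  refine ⟨e0, ?_⟩
  linear_combination e1 - e0

/-- If `F` does not involve the coordinate `y₂` of a frame then the surface is a cone. -/
lemma cone_of_frame (hli : LinearIndependent K ![P₀, P₁, P₂, P₃])
    (h002 : phi F P₀ P₀ P₂ = 0) (h012 : phi F P₀ P₁ P₂ = 0) (h022 : phi F P₀ P₂ P₂ = 0)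
    (h112 : phi F P₁ P₁ P₂ = 0) (h122 : phi F P₁ P₂ P₂ = 0) (h222 : phi F P₂ P₂ P₂ = 0)
    (h023 : c023 = 0) (h123 : c123 = 0) (h223 : c223 = 0) (h233 : c233 = 0) :
    ∃ v : Fin 4 → K, v ≠ 0 ∧ ∀ x y, phi F v x y = 0 := by
  refine ⟨P₂, ?_, fun x y => ?_⟩
  · have := hli.ne_zero 2
    simpa using this
  obtain ⟨x0, x1, x2, x3, rfl⟩ := exists_V hli x
  obtain ⟨y0, y1, y2, y3, rfl⟩ := exists_V hli y
  have := phi_V F P₀ P₁ P₂ P₃ 0 0 1 0 x0 x1 x2 x3 y0 y1 y2 y3
  rw [V_e2] at this
  rw [this, h002, h012, h022, h112, h122, h222, h023, h123, h223, h233]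
  ring

/-- The parabolic case is impossible. -/
theorem b_false [IsAlgClosed K] (hF : F.IsHomogeneous 3) (hirr : Irreducible F)
    (hcone : ¬ ∃ v : Fin 4 → K, v ≠ 0 ∧ ∀ x y, phi F v x y = 0)
    (h : BFrame F P₀ P₁ P₂ P₃) (hn1 : c113 = 0) (hn2 : c013 = 0)
    (hdeg : ∀ b, phi F b b b = 0 → (∃ x, phi F b b x ≠ 0) → ¬ NonDeg F b) : False := by
  have hk : c011 ≠ 0 := h.h011
  obtain ⟨h123, h223⟩ := b_B1 h hdeg
  by_cases hN : c133 = 0 ∧ c233 = 0
  · obtain ⟨h133, h233⟩ := hN
    by_cases hf : c333 = 0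
    · -- `y₀` divides `F`
      obtain ⟨y₀, y₁, y₂, y₃, hdec, ⟨h00, -, -, -⟩, -, -, -⟩ := frame_decomp h.li
      apply false_of_vanish_on_plane hF hirr y₀
      · intro h0
        have := congrArg (fun l => l P₀) h0
        simp only [h00, LinearMap.zero_apply] at this
        exact one_ne_zero this
      intro x hx
      have hx' : x = V P₀ P₁ P₂ P₃ (y₀ x) (y₁ x) (y₂ x) (y₃ x) := hdec x
      rw [hx] at hx'
      rw [eval_eq_phi hF, hx']
      simp only [phi_V, h.h000, h.h001, h.h002, h.h012, h.h022, h.h111, h.h112, h.h122, h.h222,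
        hn1, hn2, h123, h223, h133, h233, hf]
      ring
    by_cases h023 : c023 = 0
    · exact hcone (cone_of_frame h.li h.h002 h.h012 h.h022 h.h112 h.h122 h.h222 h023 h123 h223 h233)
    -- a smooth point with nondegenerate polar quadric
    set p := V P₀ P₁ P₂ P₃ (-6 * c023 * c333) 0 (1 + 3 * c003 * c333 - 3 * c033) (6 * c023)
      with hp
    have hpp : phi F p p p = 0 := by
      simp only [hp, phi_V, h.h000, h.h001, h.h002, h.h012, h.h022, h.h111, h.h112, h.h122, h.h222,
        hn1, hn2, h123, h223, h133, h233]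
      ring
    have hsm : phi F p p (V P₀ P₁ P₂ P₃ 0 0 1 0) ≠ 0 := by
      have : phi F p p (V P₀ P₁ P₂ P₃ 0 0 1 0) = -72 * c023 ^ 3 * c333 := by
        simp only [hp, phi_V, h.h000, h.h001, h.h002, h.h012, h.h022, h.h111, h.h112, h.h122,
          h.h222, hn1, hn2, h123, h223, h133, h233]
        ring
      rw [this]
      exact mul_ne_zero (mul_ne_zero (by norm_num) (pow_ne_zero 3 h023)) hf
    apply hdeg p hpp ⟨_, hsm⟩
    intro w hw
    obtain ⟨w0, w1, w2, w3, rfl⟩ := exists_V h.li w
    have E0 := hw (V P₀ P₁ P₂ P₃ 1 0 0 0)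
    have E1 := hw (V P₀ P₁ P₂ P₃ 0 1 0 0)
    have E2 := hw (V P₀ P₁ P₂ P₃ 0 0 1 0)
    have E3 := hw (V P₀ P₁ P₂ P₃ 0 0 0 1)
    simp only [hp, phi_V, h.h000, h.h001, h.h002, h.h012, h.h022, h.h111, h.h112, h.h122,
      h.h222, hn1, hn2, h123, h223, h133, h233] at E0 E1 E2 E3
    have hw3 : w3 = 0 := by
      have : (48 * c023 ^ 2 * c333) * w3 = 0 := by
        linear_combination 6 * c023 * E3 + 6 * c023 * c333 * E0
          - (3 * c003 * c333 + 3 * c033 + 1) * E2
      exact (mul_eq_zero.mp this).resolve_left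
        (mul_ne_zero (mul_ne_zero (by norm_num) (pow_ne_zero 2 h023)) hf)
    rw [hw3] at E0 E2
    have hw1 : w1 = 0 := by
      have : (-6 * c011 * c023 * c333) * w1 = 0 := by linear_combination E1
      exact (mul_eq_zero.mp this).resolve_left
        (mul_ne_zero (mul_ne_zero (mul_ne_zero (by norm_num) hk) h023) hf)
    have hw0 : w0 = 0 := by
      have : (6 * c023 ^ 2) * w0 = 0 := by linear_combination E2
      exact (mul_eq_zero.mp this).resolve_left (mul_ne_zero (by norm_num) (pow_ne_zero 2 h023))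
    rw [hw0] at E0
    have hw2 : w2 = 0 := by
      have : (6 * c023 ^ 2) * w2 = 0 := by linear_combination E0
      exact (mul_eq_zero.mp this).resolve_left (mul_ne_zero (by norm_num) (pow_ne_zero 2 h023))
    rw [hw0, hw1, hw2, hw3]
    simp [V]
  -- the second frame along the line `y₀ = y₃ = 0`
  obtain ⟨s, hs⟩ : ∃ s : K, c133 + s * c233 ≠ 0 := by
    by_cases h133 : c133 = 0
    · refine ⟨1, ?_⟩
      rw [h133, zero_add, one_mul]
      exact fun h233 => hN ⟨h133, h233⟩
    · exact ⟨0, by rw [zero_mul, add_zero]; exact h133⟩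
  set n := 3 * c133 + 3 * c233 * s with hn
  have hn0 : n ≠ 0 := by
    have : n = 3 * (c133 + s * c233) := by rw [hn]; ring
    rw [this]
    exact mul_ne_zero (by norm_num) hs
  have hB2 : BFrame F (V P₀ P₁ P₂ P₃ 0 1 s 0) (V P₀ P₁ P₂ P₃ 0 (-c333) (-c333 * s) n)
      (V P₀ P₁ P₂ P₃ 0 c233 (-c133) 0) (V P₀ P₁ P₂ P₃ 1 0 0 0) := by
    refine ⟨?_, ?_, ?_, ?_, ?_, ?_, ?_, ?_, ?_, ?_, ?_⟩
    · apply li_V4 h.li
      intro x y z w e0 e1 e2 e3
      have hw : w = 0 := by linear_combination e0
      have hy : y = 0 := by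
        have : y * n = 0 := by linear_combination e3
        exact (mul_eq_zero.mp this).resolve_right hn0
      rw [hy] at e1 e2
      have hz : z = 0 := by
        have : z * (c133 + s * c233) = 0 := by linear_combination s * e1 - e2
        exact (mul_eq_zero.mp this).resolve_right hs
      rw [hz] at e1
      exact ⟨by linear_combination e1, hy, hz, hw⟩
    all_goals
      simp only [phi_V, h.h000, h.h001, h.h002, h.h012, h.h022, h.h111, h.h112, h.h122, h.h222,
        hn1, hn2, h123, h223, hn]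
    · ring
    · ring
    · ring
    · ring
    · ring
    · ring
    · ring
    · ring
    · ring
    · have : c011 * (0 * -c333 * -c333 + 0 * 0 * -c333 + 0 * -c333 * 0) +
          0 * (0 * -c333 * (-c333 * s) + 0 * (-c333 * s) * -c333 + 1 * 0 * (-c333 * s)
            + 1 * (-c333 * s) * 0 + s * 0 * -c333 + s * -c333 * 0) = 0 := by ring
      intro h0
      apply hs
      have h9 : (9 : K) ≠ 0 := by norm_num
      have : 9 * (c133 + s * c233) ^ 3 = 0 := by linear_combination h0
      exact pow_eq_zero_iff (three_ne_zero) |>.mp ((mul_eq_zero.mp this).resolve_left h9)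
  obtain ⟨g1, g2⟩ := b_B1 hB2 hdeg
  simp only [phi_V, h.h000, h.h001, h.h002, h.h012, h.h022, h.h111, h.h112, h.h122, h.h222,
    hn1, hn2, h123, h223, hn] at g1 g2
  have h233 : c233 = 0 := by
    have : c011 * c233 ^ 2 = 0 := by linear_combination g2
    exact pow_eq_zero_iff (two_ne_zero) |>.mp ((mul_eq_zero.mp this).resolve_left hk)
  have h133 : c133 ≠ 0 := by
    intro h0
    apply hs
    rw [h0, h233, mul_zero, add_zero]
  have h023 : c023 = 0 := by
    rw [h233] at g1
    have : (-3 * c133 ^ 2) * c023 = 0 := by linear_combination g1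
    exact (mul_eq_zero.mp this).resolve_left (mul_ne_zero (by norm_num) (pow_ne_zero 2 h133))
  exact hcone (cone_of_frame h.li h.h002 h.h012 h.h022 h.h112 h.h122 h.h222 h023 h123 h223 h233)

end case2

section case3
variable {K : Type*} [Field K] [CharZero K] {F : MvPolynomial (Fin 4) K}
local notation "CC" => (Polynomial.C : K →+* Polynomial K)
local notation "XX" => (Polynomial.X : Polynomial K)

/-- If all smooth points are flat, the cubic vanishes on the tangent plane at a smooth point. -/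
lemma flat_vanish [IsAlgClosed K] (hF : F.IsHomogeneous 3) {a : Fin 4 → K}
    (haa : phi F a a a = 0) (hsm : ∃ x, phi F a a x ≠ 0)
    (hflat : ∀ b, phi F b b b = 0 → (∃ x, phi F b b x ≠ 0) → Flat F b) :
    ∀ v, phi F a a v = 0 → eval v F = 0 := by
  obtain ⟨e₀, he₀⟩ := hsm
  have hfa : Flat F a := hflat a haa ⟨e₀, he₀⟩
  -- normalise `e`
  set c := phi F a e₀ e₀ / (2 * phi F a a e₀) with hc
  set e := e₀ - c • a with he
  have hlam : phi F a a e = phi F a a e₀ := by
    rw [he, phi_sub_right, phi_smul_right, haa]; ring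
  have hee : phi F a e e = 0 := by
    have h1 : phi F a a e₀ = phi F a a e₀ := rfl
    have h2 : phi F a e₀ a = phi F a a e₀ := phi_comm23 ..
    rw [he]
    simp only [phi_sub_mid, phi_sub_right, phi_smul_mid, phi_smul_right, haa, h2, hc]
    field_simp
    ring
  set lam := phi F a a e with hlamd
  have hlam0 : lam ≠ 0 := by rw [hlam]; exact he₀
  intro v hv
  by_contra hFv
  set c' := phi F a v e / lam with hc'
  set P := v - c' • a with hP
  have haaP : phi F a a P = 0 := by
    rw [hP, phi_sub_right, phi_smul_right, haa, hv]; ring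
  have haPe : phi F a P e = 0 := by
    have h2 : phi F a a e = lam := rfl
    rw [hP, phi_sub_mid, phi_smul_mid, h2, hc']
    field_simp
    ring
  have haPP : phi F a P P = 0 := hfa P P haaP haaP
  have hf0 : phi F P P P ≠ 0 := by
    have hvv : phi F a v v = 0 := hfa v v hv hv
    have h1 : phi F v v a = 0 := by rw [phi_comm13]; exact hvv
    have h2 : phi F v a v = 0 := by rw [phi_comm12]; exact hvv
    have h3 : phi F v a a = 0 := by rw [phi_comm13]; exact hv
    have h4 : phi F a v a = 0 := by rw [phi_comm23]; exact hv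
    have : phi F P P P = phi F v v v := by
      rw [hP]
      simp only [phi_sub_left, phi_sub_mid, phi_sub_right, phi_smul_left, phi_smul_mid,
        phi_smul_right, haa, hv, hvv, h1, h2, h3, h4]
      ring
    rw [this, ← eval_eq_phi hF]
    exact hFv
  set f0 := phi F P P P with hf0d
  set f1 := phi F P P e with hf1d
  set f2 := phi F P e e with hf2d
  set f3 := phi F e e e with hf3d
  set CP : Polynomial K := CC f0 + CC (3 * f1) * XX + CC (3 * f2) * XX ^ 2 + CC f3 * XX ^ 3 with hCP
  set ΨP : Polynomial K := (CC f0 + CC (2 * f1) * XX + CC f2 * XX ^ 2) ^ 2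
    - CC (4 / 3) * CP * (CC f0 + CC f1 * XX) with hΨP
  have key : ∀ t : K, t ≠ 0 → CP.eval t ≠ 0 → ΨP.eval t = 0 := by
    intro t ht hCt
    simp only [hCP, Polynomial.eval_add, Polynomial.eval_mul, Polynomial.eval_pow,
      Polynomial.eval_C, Polynomial.eval_X] at hCt
    obtain ⟨y0, hy0⟩ := IsAlgClosed.exists_eq_mul_self
      (-(f0 + 3 * f1 * t + 3 * f2 * t ^ 2 + f3 * t ^ 3) / (3 * t * lam))
    have h3 : (3 : K) ≠ 0 := by norm_num
    have hy0' : 3 * t * lam * (y0 * y0) = -(f0 + 3 * f1 * t + 3 * f2 * t ^ 2 + f3 * t ^ 3) := by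
      rw [← hy0]; field_simp
    have hy00 : y0 ≠ 0 := by
      rintro rfl
      rw [mul_zero, mul_zero] at hy0'
      apply hCt
      linear_combination hy0'
    -- the point and the tangent vector, in the (degenerate) frame `a, P, e, e`
    set p := V a P e e y0 1 t 0 with hp
    set c2 := f0 + 2 * t * f1 + t ^ 2 * f2 with hc2
    set vt := V a P e e (-c2) (2 * y0 * t * lam) 0 0 with hvt
    have z001 : phi F a a P = 0 := haaP
    have z011 : phi F a P P = 0 := haPP
    have z012 : phi F a P e = 0 := haPe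
    have z022 : phi F a e e = 0 := hee
    have hpp : phi F p p p = 0 := by
      simp only [hp, phi_V, haa, z001, z011, z012, z022]
      linear_combination hy0'
    have hsmp : phi F p p (V a P e e 1 0 0 0) ≠ 0 := by
      have : phi F p p (V a P e e 1 0 0 0) = 2 * y0 * t * lam := by
        simp only [hp, phi_V, haa, z001, z011, z012, z022]
        ring
      rw [this]
      exact mul_ne_zero (mul_ne_zero (mul_ne_zero two_ne_zero hy00) ht) hlam0
    have hfp := hflat p hpp ⟨_, hsmp⟩
    have htan : phi F p p vt = 0 := by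
      simp only [hp, hvt, phi_V, haa, z001, z011, z012, z022, hc2]
      ring
    have := hfp vt vt htan htan
    simp only [hp, hvt, phi_V, haa, z001, z011, z012, z022, hc2] at this
    simp only [hΨP, hCP, Polynomial.eval_add, Polynomial.eval_sub, Polynomial.eval_mul,
      Polynomial.eval_pow, Polynomial.eval_C, Polynomial.eval_X]
    have htl : t * lam ≠ 0 := mul_ne_zero ht hlam0
    apply (mul_eq_zero.mp ?_).resolve_left htl
    linear_combination this - (4 / 3 * t * lam * (f0 + t * f1)) * hy0'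
  have hΨ0 : ΨP ≠ 0 := by
    intro h0
    have := congrArg (Polynomial.eval 0) h0
    simp only [hΨP, hCP, Polynomial.eval_add, Polynomial.eval_sub, Polynomial.eval_mul,
      Polynomial.eval_pow, Polynomial.eval_C, Polynomial.eval_X, Polynomial.eval_zero] at this
    have : f0 ^ 2 = 0 := by linear_combination (-3 : K) * this
    exact hf0 (pow_eq_zero_iff two_ne_zero |>.mp this)
  have hC0 : CP ≠ 0 := by
    intro h0
    have := congrArg (Polynomial.eval 0) h0
    simp only [hCP, Polynomial.eval_add, Polynomial.eval_mul,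
      Polynomial.eval_pow, Polynomial.eval_C, Polynomial.eval_X, Polynomial.eval_zero] at this
    apply hf0
    linear_combination this
  have hfin : (Set.univ : Set K).Finite := by
    refine (((Polynomial.finite_setOfPred_isRoot hΨ0).union
      (Polynomial.finite_setOfPred_isRoot hC0)).union (Set.finite_singleton 0)).subset ?_
    intro t _
    by_cases ht : t = 0
    · right; exact ht
    left
    by_cases hCt : CP.eval t = 0
    · right; exact hCt
    · left; exact key t ht hCt
  exact (Set.infinite_univ_iff.mpr inferInstance) hfin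

end case3

section main
variable {K : Type*} [Field K] [CharZero K] {F : MvPolynomial (Fin 4) K}

/-- **Existence of a smooth non-T-point** on an irreducible cubic surface which is not a cone,
over an algebraically closed field of characteristic zero. -/
theorem exists_smooth_not_isT [IsAlgClosed K] (hF : F.IsHomogeneous 3) (hirr : Irreducible F)
    (hcone : ¬ ∃ v : Fin 4 → K, v ≠ 0 ∧ ∀ x y, phi F v x y = 0) :
    ∃ a, phi F a a a = 0 ∧ (∃ x, phi F a a x ≠ 0) ∧ ¬ IsT F a := by
  by_contra hcon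
  push Not at hcon
  have hT : ∀ b, phi F b b b = 0 → (∃ x, phi F b b x ≠ 0) → IsT F b := by
    intro b hb ⟨x, hx⟩
    exact hcon b hb ⟨x, hx⟩
  by_cases hA : ∃ a w₁ w₂ e, TanBasis F a w₁ w₂ e ∧ phi F a w₁ w₁ = 0 ∧ phi F a w₂ w₂ = 0 ∧
      phi F a w₁ w₂ ≠ 0
  · obtain ⟨a, w₁, w₂, e, hB, h11, h22, h12⟩ := hA
    obtain ⟨P₁, P₂, hTri⟩ := exists_triFrame hF hB h11 h22 h12 (hT a hB.hb ⟨e, hB.h3⟩)
    exact tri_false hF hirr hTri hB.h3 hT
  have hdeg : ∀ b, phi F b b b = 0 → (∃ x, phi F b b x ≠ 0) → ¬ NonDeg F b := by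
    intro b hb hsm
    obtain ⟨u₁, u₂, e, hB⟩ := exists_tanBasis hb hsm
    rcases exists_diag hB with ⟨w₁, w₂, hB', h11, h22, h12⟩ | ⟨v₁, v₂, hB', h11, h12, h22⟩ |
      ⟨h11, h12, h22⟩
    · exact absurd ⟨b, w₁, w₂, e, hB', h11, h22, h12⟩ hA
    · exact not_nonDeg_of_kernel hB' h12 h22
    · exact not_nonDeg_of_kernel hB h12 h22
  by_cases hBc : ∃ a v₁ v₂ e, TanBasis F a v₁ v₂ e ∧ phi F a v₁ v₁ ≠ 0 ∧ phi F a v₁ v₂ = 0 ∧
      phi F a v₂ v₂ = 0
  · obtain ⟨a, v₁, v₂, e, hB, h11, h12, h22⟩ := hBc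
    obtain ⟨P₁, P₂, hBF⟩ := exists_bFrame0 hF hB h11 h12 h22 (hT a hB.hb ⟨e, hB.h3⟩)
    obtain ⟨P₃, hBF', hn1, hn2, -⟩ := hBF.normalize
    exact b_false hF hirr hcone hBF' hn1 hn2 hdeg
  have hflat : ∀ b, phi F b b b = 0 → (∃ x, phi F b b x ≠ 0) → Flat F b := by
    intro b hb hsm
    obtain ⟨u₁, u₂, e, hB⟩ := exists_tanBasis hb hsm
    rcases exists_diag hB with ⟨w₁, w₂, hB', h11, h22, h12⟩ | ⟨v₁, v₂, hB', h11, h12, h22⟩ |
      ⟨h11, h12, h22⟩
    · exact absurd ⟨b, w₁, w₂, e, hB', h11, h22, h12⟩ hA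
    · exact absurd ⟨b, v₁, v₂, e, hB', h11, h12, h22⟩ hBc
    · exact flat_of_zero hB h11 h12 h22
  obtain ⟨a, haa, hsm⟩ := exists_smooth hF hirr
  apply false_of_vanish_on_plane hF hirr (phiL F a a)
  · intro h0
    obtain ⟨x, hx⟩ := hsm
    apply hx
    have := congrArg (fun l => l x) h0
    simpa using this
  · intro v hv
    exact flat_vanish hF haa hsm hflat v hv

end main

end Groth.Agent.Lib.Helper92.CubicNT
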