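import Mathlib
import Groth.Agent.Lib.Helper92.FivePts

/-!
# Pfaffian representation of a cubic through five points in general position (helper92)
-/

namespace Groth.Agent.Lib.Helper92.Pfaff
set_option linter.unusedSectionVars false
open Matrix

/-- The determinant of the skew "wheel" matrix is the square of its Pfaffian. -/
theorem wheel_det {R : Type*} [CommRing R] (a b c d e l1 l2 l3 l4 l5 : R) :
    (!![0, a, 0, 0, e, l1;
        -a, 0, b, 0, 0, l2;
        0, -b, 0, c, 0, l3;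
        0, 0, -c, 0, d, l4;
        -e, 0, 0, -d, 0, l5;
        -l1, -l2, -l3, -l4, -l5, 0] : Matrix (Fin 6) (Fin 6) R).det
      = (l1 * (b * d) - l2 * (c * e) + l3 * (a * d) - l4 * (b * e) + l5 * (a * c)) ^ 2 := by
  simp [Matrix.det_succ_row_zero, Fin.sum_univ_succ, Matrix.submatrix, Fin.succAbove]
  ring

/-- A cubic in `y₁,…,y₄` without cubes whose coefficients sum to zero is a combination of the five
Pfaffian quadrics of the pentagon with linear coefficients. -/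
theorem pf_identity {R : Type*} [CommRing R] (y1 y2 y3 y4 : R)
    (c0012 c0021 c0102 c0111 c0120 c0201 c0210 c1002 c1011 c1020 c1101 c1110 c1200 c2001 c2010
      c2100 : R)
    (hsum : c0012 + c0021 + c0102 + c0111 + c0120 + c0201 + c0210 + c1002 + c1011 + c1020 + c1101
      + c1110 + c1200 + c2001 + c2010 + c2100 = 0) :
    c0012 * (y3 * y4 ^ 2) + c0021 * (y3 ^ 2 * y4) + c0102 * (y2 * y4 ^ 2) + c0111 * (y2 * y3 * y4)
      + c0120 * (y2 * y3 ^ 2) + c0201 * (y2 ^ 2 * y4) + c0210 * (y2 ^ 2 * y3)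
      + c1002 * (y1 * y4 ^ 2) + c1011 * (y1 * y3 * y4) + c1020 * (y1 * y3 ^ 2)
      + c1101 * (y1 * y2 * y4) + c1110 * (y1 * y2 * y3) + c1200 * (y1 * y2 ^ 2)
      + c2001 * (y1 ^ 2 * y4) + c2010 * (y1 ^ 2 * y3) + c2100 * (y1 ^ 2 * y2)
    = ((- c0012 - c0102 - c1002 - c1011 - c1020) * y1 + (- c0021 - c0111 - c0120) * y2
          + (- c0021) * y3 + (- c0012) * y4) * ((y2 - y3) * y4)
      + ((c2010 + c2100) * y1 + (- c0012 - c0021 - c0102 - c0111 - c0120 - c0201 - c1002 - c1011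
          - c1020 - c1101 - c2001 - c2010 - c2100) * y2 + (c0120 + c1020) * y3
          + (- c0012 - c0102 - c1002) * y4) * (y1 * (y3 - y4))
      + ((c2001 + c2010 + c2100) * y1 + (- c0021 - c0111 - c0120 - c0201 - c0210) * y2
          + (- c0012 - c0102) * y4) * ((y1 - y2) * y4)
      + ((c2100) * y1 + (c1200) * y2) * (y1 * (y2 - y3))
      + ((- c0210) * y2 + (- c0120) * y3) * ((y1 - y2) * (y3 - y4)) := by
  linear_combination (y1 * y2 * y3) * hsum

section expand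
open MvPolynomial Groth.Agent.Lib.Helper95
variable {k : Type*} [Field k] [CharZero k] (F : MvPolynomial (Fin 4) k)

/-- Expansion of the cubic form in a frame. -/
theorem cubic_expand (v1 v2 v3 v4 : Fin 4 → k) (y1 y2 y3 y4 : k) :
    phi F (y1 • v1 + y2 • v2 + y3 • v3 + y4 • v4) (y1 • v1 + y2 • v2 + y3 • v3 + y4 • v4)
      (y1 • v1 + y2 • v2 + y3 • v3 + y4 • v4)
    = 1 * phi F v1 v1 v1 * (y1 * y1 * y1) + 3 * phi F v1 v1 v2 * (y1 * y1 * y2) + 3 * phi F v1 v1 v3 * (y1 * y1 * y3) + 3 * phi F v1 v1 v4 * (y1 * y1 * y4) + 3 * phi F v1 v2 v2 * (y1 * y2 * y2) + 6 * phi F v1 v2 v3 * (y1 * y2 * y3) + 6 * phi F v1 v2 v4 * (y1 * y2 * y4) + 3 * phi F v1 v3 v3 * (y1 * y3 * y3) + 6 * phi F v1 v3 v4 * (y1 * y3 * y4) + 3 * phi F v1 v4 v4 * (y1 * y4 * y4) + 1 * phi F v2 v2 v2 * (y2 * y2 * y2) + 3 * phi F v2 v2 v3 * (y2 * y2 * y3) + 3 * phi F v2 v2 v4 * (y2 * y2 * y4) + 3 * phi F v2 v3 v3 * (y2 * y3 * y3) + 6 * phi F v2 v3 v4 *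 (y2 * y3 * y4) + 3 * phi F v2 v4 v4 * (y2 * y4 * y4) + 1 * phi F v3 v3 v3 * (y3 * y3 * y3) + 3 * phi F v3 v3 v4 * (y3 * y3 * y4) + 3 * phi F v3 v4 v4 * (y3 * y4 * y4) + 1 * phi F v4 v4 v4 * (y4 * y4 * y4) := by
  have h121 : phi F v1 v2 v1 = phi F v1 v1 v2 := phi_comm23 F v1 v2 v1
  have h131 : phi F v1 v3 v1 = phi F v1 v1 v3 := phi_comm23 F v1 v3 v1
  have h132 : phi F v1 v3 v2 = phi F v1 v2 v3 := phi_comm23 F v1 v3 v2
  have h141 : phi F v1 v4 v1 = phi F v1 v1 v4 := phi_comm23 F v1 v4 v1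
  have h142 : phi F v1 v4 v2 = phi F v1 v2 v4 := phi_comm23 F v1 v4 v2
  have h143 : phi F v1 v4 v3 = phi F v1 v3 v4 := phi_comm23 F v1 v4 v3
  have h211 : phi F v2 v1 v1 = phi F v1 v1 v2 := phi_comm13 F v2 v1 v1
  have h212 : phi F v2 v1 v2 = phi F v1 v2 v2 := phi_comm12 F v2 v1 v2
  have h213 : phi F v2 v1 v3 = phi F v1 v2 v3 := phi_comm12 F v2 v1 v3
  have h214 : phi F v2 v1 v4 = phi F v1 v2 v4 := phi_comm12 F v2 v1 v4
  have h221 : phi F v2 v2 v1 = phi F v1 v2 v2 := phi_comm13 F v2 v2 v1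
  have h231 : phi F v2 v3 v1 = phi F v1 v2 v3 := (phi_comm12 F v2 v3 v1).trans (phi_comm13 F v3 v2 v1)
  have h232 : phi F v2 v3 v2 = phi F v2 v2 v3 := phi_comm23 F v2 v3 v2
  have h241 : phi F v2 v4 v1 = phi F v1 v2 v4 := (phi_comm12 F v2 v4 v1).trans (phi_comm13 F v4 v2 v1)
  have h242 : phi F v2 v4 v2 = phi F v2 v2 v4 := phi_comm23 F v2 v4 v2
  have h243 : phi F v2 v4 v3 = phi F v2 v3 v4 := phi_comm23 F v2 v4 v3
  have h311 : phi F v3 v1 v1 = phi F v1 v1 v3 := phi_comm13 F v3 v1 v1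
  have h312 : phi F v3 v1 v2 = phi F v1 v2 v3 := (phi_comm12 F v3 v1 v2).trans (phi_comm23 F v1 v3 v2)
  have h313 : phi F v3 v1 v3 = phi F v1 v3 v3 := phi_comm12 F v3 v1 v3
  have h314 : phi F v3 v1 v4 = phi F v1 v3 v4 := phi_comm12 F v3 v1 v4
  have h321 : phi F v3 v2 v1 = phi F v1 v2 v3 := phi_comm13 F v3 v2 v1
  have h322 : phi F v3 v2 v2 = phi F v2 v2 v3 := phi_comm13 F v3 v2 v2
  have h323 : phi F v3 v2 v3 = phi F v2 v3 v3 := phi_comm12 F v3 v2 v3
  have h324 : phi F v3 v2 v4 = phi F v2 v3 v4 := phi_comm12 F v3 v2 v4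
  have h331 : phi F v3 v3 v1 = phi F v1 v3 v3 := phi_comm13 F v3 v3 v1
  have h332 : phi F v3 v3 v2 = phi F v2 v3 v3 := phi_comm13 F v3 v3 v2
  have h341 : phi F v3 v4 v1 = phi F v1 v3 v4 := (phi_comm12 F v3 v4 v1).trans (phi_comm13 F v4 v3 v1)
  have h342 : phi F v3 v4 v2 = phi F v2 v3 v4 := (phi_comm12 F v3 v4 v2).trans (phi_comm13 F v4 v3 v2)
  have h343 : phi F v3 v4 v3 = phi F v3 v3 v4 := phi_comm23 F v3 v4 v3
  have h411 : phi F v4 v1 v1 = phi F v1 v1 v4 := phi_comm13 F v4 v1 v1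
  have h412 : phi F v4 v1 v2 = phi F v1 v2 v4 := (phi_comm12 F v4 v1 v2).trans (phi_comm23 F v1 v4 v2)
  have h413 : phi F v4 v1 v3 = phi F v1 v3 v4 := (phi_comm12 F v4 v1 v3).trans (phi_comm23 F v1 v4 v3)
  have h414 : phi F v4 v1 v4 = phi F v1 v4 v4 := phi_comm12 F v4 v1 v4
  have h421 : phi F v4 v2 v1 = phi F v1 v2 v4 := phi_comm13 F v4 v2 v1
  have h422 : phi F v4 v2 v2 = phi F v2 v2 v4 := phi_comm13 F v4 v2 v2
  have h423 : phi F v4 v2 v3 = phi F v2 v3 v4 := (phi_comm12 F v4 v2 v3).trans (phi_comm23 F v2 v4 v3)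
  have h424 : phi F v4 v2 v4 = phi F v2 v4 v4 := phi_comm12 F v4 v2 v4
  have h431 : phi F v4 v3 v1 = phi F v1 v3 v4 := phi_comm13 F v4 v3 v1
  have h432 : phi F v4 v3 v2 = phi F v2 v3 v4 := phi_comm13 F v4 v3 v2
  have h433 : phi F v4 v3 v3 = phi F v3 v3 v4 := phi_comm13 F v4 v3 v3
  have h434 : phi F v4 v3 v4 = phi F v3 v4 v4 := phi_comm12 F v4 v3 v4
  have h441 : phi F v4 v4 v1 = phi F v1 v4 v4 := phi_comm13 F v4 v4 v1
  have h442 : phi F v4 v4 v2 = phi F v2 v4 v4 := phi_comm13 F v4 v4 v2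
  have h443 : phi F v4 v4 v3 = phi F v3 v4 v4 := phi_comm13 F v4 v4 v3
  simp only [phi_add_left, phi_add_mid, phi_add_right, phi_smul_left, phi_smul_mid, phi_smul_right,
    h121, h131, h132, h141, h142, h143, h211, h212, h213, h214, h221, h231, h232, h241, h242, h243, h311, h312, h313, h314, h321, h322, h323, h324, h331, h332, h341, h342, h343, h411, h412, h413, h414, h421, h422, h423, h424, h431, h432, h433, h434, h441, h442, h443]
  ring

end expand

section construct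
open MvPolynomial Groth.Agent.Lib.Helper95 Groth.Agent.Lib.Helper92.FivePts

/-- The skew "wheel" matrix. -/
def wheel {R : Type*} [CommRing R] (a b c d e l1 l2 l3 l4 l5 : R) : Matrix (Fin 6) (Fin 6) R :=
  !![0, a, 0, 0, e, l1;
     -a, 0, b, 0, 0, l2;
     0, -b, 0, c, 0, l3;
     0, 0, -c, 0, d, l4;
     -e, 0, 0, -d, 0, l5;
     -l1, -l2, -l3, -l4, -l5, 0]

lemma wheel_det' {R : Type*} [CommRing R] (a b c d e l1 l2 l3 l4 l5 : R) :
    (wheel a b c d e l1 l2 l3 l4 l5).det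
      = (l1 * (b * d) - l2 * (c * e) + l3 * (a * d) - l4 * (b * e) + l5 * (a * c)) ^ 2 :=
  wheel_det a b c d e l1 l2 l3 l4 l5

lemma wheel_transpose {R : Type*} [CommRing R] (a b c d e l1 l2 l3 l4 l5 : R) :
    (wheel a b c d e l1 l2 l3 l4 l5).transpose = -(wheel a b c d e l1 l2 l3 l4 l5) := by
  ext i j
  fin_cases i <;> fin_cases j <;> simp [wheel]

lemma wheel_diag {R : Type*} [CommRing R] (a b c d e l1 l2 l3 l4 l5 : R) (i : Fin 6) :
    wheel a b c d e l1 l2 l3 l4 l5 i i = 0 := by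
  fin_cases i <;> rfl

variable {k : Type*} [Field k] [CharZero k]

lemma wheel_hom {a b c d e l1 l2 l3 l4 l5 : MvPolynomial (Fin 4) k} (ha : a.IsHomogeneous 1)
    (hb : b.IsHomogeneous 1) (hc : c.IsHomogeneous 1) (hd : d.IsHomogeneous 1)
    (he : e.IsHomogeneous 1) (h1 : l1.IsHomogeneous 1) (h2 : l2.IsHomogeneous 1)
    (h3 : l3.IsHomogeneous 1) (h4 : l4.IsHomogeneous 1) (h5 : l5.IsHomogeneous 1) (i j : Fin 6) :
    (wheel a b c d e l1 l2 l3 l4 l5 i j).IsHomogeneous 1 := by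
  have h0 : (0 : MvPolynomial (Fin 4) k).IsHomogeneous 1 := isHomogeneous_zero _ _ _
  fin_cases i <;> fin_cases j
  exacts [h0, ha, h0, h0, he, h1,
    ha.neg, h0, hb, h0, h0, h2,
    h0, hb.neg, h0, hc, h0, h3,
    h0, h0, hc.neg, h0, hd, h4,
    he.neg, h0, h0, hd.neg, h0, h5,
    h1.neg, h2.neg, h3.neg, h4.neg, h5.neg, h0]

/-- The linear form polynomial of a functional. -/
noncomputable def Yp (y : (Fin 4 → k) →ₗ[k] k) : MvPolynomial (Fin 4) k :=
  ∑ j, C (y (Pi.single j 1)) * X j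

lemma eval_Yp (y : (Fin 4 → k) →ₗ[k] k) (x : Fin 4 → k) : eval x (Yp y) = y x := by
  unfold Yp
  rw [map_sum, lin_sum y x]
  refine Finset.sum_congr rfl fun i _ => ?_
  simp only [map_mul, eval_C, eval_X]; ring

lemma hom_Yp (y : (Fin 4 → k) →ₗ[k] k) : (Yp y).IsHomogeneous 1 :=
  IsHomogeneous.sum _ _ _ fun _ _ => isHomogeneous_C_mul_X _ _

lemma hom_lin4 {Y1 Y2 Y3 Y4 : MvPolynomial (Fin 4) k} (h1 : Y1.IsHomogeneous 1)
    (h2 : Y2.IsHomogeneous 1) (h3 : Y3.IsHomogeneous 1) (h4 : Y4.IsHomogeneous 1) (a b c d : k) :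
    (C a * Y1 + C b * Y2 + C c * Y3 + C d * Y4).IsHomogeneous 1 := by
  have hC : ∀ (a : k) {Y : MvPolynomial (Fin 4) k}, Y.IsHomogeneous 1 → (C a * Y).IsHomogeneous 1 := by
    intro a Y hY
    have := (isHomogeneous_C (Fin 4) a).mul hY
    rwa [zero_add] at this
  exact (((hC a h1).add (hC b h2)).add (hC c h3)).add (hC d h4)

/-- A cubic through the five points of a projective frame is a linear Pfaffian. -/
theorem exists_pfaffian {F : MvPolynomial (Fin 4) k} (hF : F.IsHomogeneous 3)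
    {v1 v2 v3 v4 : Fin 4 → k} (hli : LinearIndependent k ![v1, v2, v3, v4])
    (h1 : eval v1 F = 0) (h2 : eval v2 F = 0) (h3 : eval v3 F = 0) (h4 : eval v4 F = 0)
    (h0 : eval (v1 + v2 + v3 + v4) F = 0) :
    ∃ M : Matrix (Fin 6) (Fin 6) (MvPolynomial (Fin 4) k), (∀ i j, (M i j).IsHomogeneous 1) ∧
      M.transpose = -M ∧ (∀ i, M i i = 0) ∧ M.det = F ^ 2 := by
  obtain ⟨y1, y2, y3, y4, hdec, -, -, -, -⟩ := frame_decomp hli
  have hT1 : phi F v1 v1 v1 = 0 := by rw [← eval_eq_phi hF]; exact h1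
  have hT2 : phi F v2 v2 v2 = 0 := by rw [← eval_eq_phi hF]; exact h2
  have hT3 : phi F v3 v3 v3 = 0 := by rw [← eval_eq_phi hF]; exact h3
  have hT4 : phi F v4 v4 v4 = 0 := by rw [← eval_eq_phi hF]; exact h4
  set c2100 := 3 * phi F v1 v1 v2 with e2100
  set c2010 := 3 * phi F v1 v1 v3 with e2010
  set c2001 := 3 * phi F v1 v1 v4 with e2001
  set c1200 := 3 * phi F v1 v2 v2 with e1200
  set c1110 := 6 * phi F v1 v2 v3 with e1110
  set c1101 := 6 * phi F v1 v2 v4 with e1101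
  set c1020 := 3 * phi F v1 v3 v3 with e1020
  set c1011 := 6 * phi F v1 v3 v4 with e1011
  set c1002 := 3 * phi F v1 v4 v4 with e1002
  set c0210 := 3 * phi F v2 v2 v3 with e0210
  set c0201 := 3 * phi F v2 v2 v4 with e0201
  set c0120 := 3 * phi F v2 v3 v3 with e0120
  set c0111 := 6 * phi F v2 v3 v4 with e0111
  set c0102 := 3 * phi F v2 v4 v4 with e0102
  set c0021 := 3 * phi F v3 v3 v4 with e0021
  set c0012 := 3 * phi F v3 v4 v4 with e0012
  have hsum : c0012 + c0021 + c0102 + c0111 + c0120 + c0201 + c0210 + c1002 + c1011 + c1020 + c1101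
      + c1110 + c1200 + c2001 + c2010 + c2100 = 0 := by
    have := cubic_expand F v1 v2 v3 v4 1 1 1 1
    rw [one_smul, one_smul, one_smul, one_smul, ← eval_eq_phi hF, h0, hT1, hT2, hT3, hT4] at this
    linear_combination (-1 : k) * this
  set Y1 := Yp y1 with hY1
  set Y2 := Yp y2 with hY2
  set Y3 := Yp y3 with hY3
  set Y4 := Yp y4 with hY4
  have hh1 := hom_Yp y1
  have hh2 := hom_Yp y2
  have hh3 := hom_Yp y3
  have hh4 := hom_Yp y4
  set L0 : MvPolynomial (Fin 4) k := C (- c0012 - c0102 - c1002 - c1011 - c1020) * Y1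
    + C (- c0021 - c0111 - c0120) * Y2 + C (- c0021) * Y3 + C (- c0012) * Y4 with hL0
  set L1 : MvPolynomial (Fin 4) k := C (c2010 + c2100) * Y1
    + C (- c0012 - c0021 - c0102 - c0111 - c0120 - c0201 - c1002 - c1011 - c1020 - c1101 - c2001
        - c2010 - c2100) * Y2 + C (c0120 + c1020) * Y3 + C (- c0012 - c0102 - c1002) * Y4 with hL1
  set L2 : MvPolynomial (Fin 4) k := C (c2001 + c2010 + c2100) * Y1
    + C (- c0021 - c0111 - c0120 - c0201 - c0210) * Y2 + C 0 * Y3 + C (- c0012 - c0102) * Y4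
    with hL2
  set L3 : MvPolynomial (Fin 4) k := C c2100 * Y1 + C c1200 * Y2 + C 0 * Y3 + C 0 * Y4 with hL3
  set L4 : MvPolynomial (Fin 4) k := C 0 * Y1 + C (- c0210) * Y2 + C (- c0120) * Y3 + C 0 * Y4
    with hL4
  refine ⟨wheel (Y1 - Y2) (Y2 - Y3) (Y3 - Y4) Y4 Y1 L0 (-L1) L2 (-L3) L4, ?_, wheel_transpose ..,
    fun i => wheel_diag _ _ _ _ _ _ _ _ _ _ i, ?_⟩
  · exact wheel_hom (hh1.sub hh2) (hh2.sub hh3) (hh3.sub hh4) hh4 hh1 (hom_lin4 hh1 hh2 hh3 hh4 ..)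
      (hom_lin4 hh1 hh2 hh3 hh4 ..).neg (hom_lin4 hh1 hh2 hh3 hh4 ..)
      (hom_lin4 hh1 hh2 hh3 hh4 ..).neg (hom_lin4 hh1 hh2 hh3 hh4 ..)
  · rw [wheel_det']
    suffices hPf : L0 * ((Y2 - Y3) * Y4) - -L1 * ((Y3 - Y4) * Y1) + L2 * ((Y1 - Y2) * Y4)
        - -L3 * ((Y2 - Y3) * Y1) + L4 * ((Y1 - Y2) * (Y3 - Y4)) = F by rw [hPf]
    apply MvPolynomial.funext
    intro x
    have hx := hdec x
    simp only [hL0, hL1, hL2, hL3, hL4, hY1, hY2, hY3, hY4, map_add, map_sub, map_mul, map_neg,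
      eval_C, eval_Yp]
    rw [eval_eq_phi hF]
    generalize y1 x = t1 at hx ⊢
    generalize y2 x = t2 at hx ⊢
    generalize y3 x = t3 at hx ⊢
    generalize y4 x = t4 at hx ⊢
    rw [hx, cubic_expand, hT1, hT2, hT3, hT4]
    have := pf_identity t1 t2 t3 t4 c0012 c0021 c0102 c0111 c0120 c0201 c0210 c1002 c1011 c1020
      c1101 c1110 c1200 c2001 c2010 c2100 hsum
    simp only [e2100, e2010, e2001, e1200, e1110, e1101, e1020, e1011, e1002, e0210, e0201, e0120,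
      e0111, e0102, e0021, e0012] at this ⊢
    linear_combination (-1 : k) * this

end construct

section fivepoints
open MvPolynomial Groth.Agent.Lib.Helper95 Groth.Agent.Lib.Helper92.FivePts
variable {k : Type*} [Field k] [CharZero k]

lemma exists_frame_of_general_position {p : Fin 5 → (Fin 4 → k)}
    (hgp : ∀ j : Fin 5, LinearIndependent k (fun i : Fin 4 => p (j.succAbove i))) :
    ∃ c1 c2 c3 c4 : k, c1 ≠ 0 ∧ c2 ≠ 0 ∧ c3 ≠ 0 ∧ c4 ≠ 0 ∧
      LinearIndependent k ![c1 • p 1, c2 • p 2, c3 • p 3, c4 • p 4] ∧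
      p 0 = c1 • p 1 + c2 • p 2 + c3 • p 3 + c4 • p 4 := by
  have h0 : LinearIndependent k ![p 1, p 2, p 3, p 4] := by
    have := hgp 0
    have e : (fun i : Fin 4 => p ((0 : Fin 5).succAbove i)) = ![p 1, p 2, p 3, p 4] := by
      funext i; fin_cases i <;> rfl
    rwa [e] at this
  have h1 : LinearIndependent k ![p 0, p 2, p 3, p 4] := by
    have := hgp 1
    have e : (fun i : Fin 4 => p ((1 : Fin 5).succAbove i)) = ![p 0, p 2, p 3, p 4] := by
      funext i; fin_cases i <;> rfl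
    rwa [e] at this
  have h2 : LinearIndependent k ![p 0, p 1, p 3, p 4] := by
    have := hgp 2
    have e : (fun i : Fin 4 => p ((2 : Fin 5).succAbove i)) = ![p 0, p 1, p 3, p 4] := by
      funext i; fin_cases i <;> rfl
    rwa [e] at this
  have h3 : LinearIndependent k ![p 0, p 1, p 2, p 4] := by
    have := hgp 3
    have e : (fun i : Fin 4 => p ((3 : Fin 5).succAbove i)) = ![p 0, p 1, p 2, p 4] := by
      funext i; fin_cases i <;> rfl
    rwa [e] at this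
  have h4 : LinearIndependent k ![p 0, p 1, p 2, p 3] := by
    have := hgp 4
    have e : (fun i : Fin 4 => p ((4 : Fin 5).succAbove i)) = ![p 0, p 1, p 2, p 3] := by
      funext i; fin_cases i <;> rfl
    rwa [e] at this
  obtain ⟨y1, y2, y3, y4, hdec, -, -, -, -⟩ := frame_decomp h0
  have hp0 := hdec (p 0)
  set c1 := y1 (p 0)
  set c2 := y2 (p 0)
  set c3 := y3 (p 0)
  set c4 := y4 (p 0)
  have hc1 : c1 ≠ 0 := by
    intro h
    have key : (1 : k) • p 0 + (-c2) • p 2 + (-c3) • p 3 + (-c4) • p 4 = 0 := by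
      rw [one_smul]
      conv_lhs => rw [hp0, h]
      ext i
      simp only [Pi.add_apply, Pi.smul_apply, smul_eq_mul, Pi.zero_apply]
      ring
    exact one_ne_zero (TPoints.li4 h1 key).1
  have hc2 : c2 ≠ 0 := by
    intro h
    have key : (1 : k) • p 0 + (-c1) • p 1 + (-c3) • p 3 + (-c4) • p 4 = 0 := by
      rw [one_smul]
      conv_lhs => rw [hp0, h]
      ext i
      simp only [Pi.add_apply, Pi.smul_apply, smul_eq_mul, Pi.zero_apply]
      ring
    exact one_ne_zero (TPoints.li4 h2 key).1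
  have hc3 : c3 ≠ 0 := by
    intro h
    have key : (1 : k) • p 0 + (-c1) • p 1 + (-c2) • p 2 + (-c4) • p 4 = 0 := by
      rw [one_smul]
      conv_lhs => rw [hp0, h]
      ext i
      simp only [Pi.add_apply, Pi.smul_apply, smul_eq_mul, Pi.zero_apply]
      ring
    exact one_ne_zero (TPoints.li4 h3 key).1
  have hc4 : c4 ≠ 0 := by
    intro h
    have key : (1 : k) • p 0 + (-c1) • p 1 + (-c2) • p 2 + (-c3) • p 3 = 0 := by
      rw [one_smul]
      conv_lhs => rw [hp0, h]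
      ext i
      simp only [Pi.add_apply, Pi.smul_apply, smul_eq_mul, Pi.zero_apply]
      ring
    exact one_ne_zero (TPoints.li4 h4 key).1
  refine ⟨c1, c2, c3, c4, hc1, hc2, hc3, hc4, ?_, hp0⟩
  have := h0.units_smul ![Units.mk0 c1 hc1, Units.mk0 c2 hc2, Units.mk0 c3 hc3, Units.mk0 c4 hc4]
  have e : (![Units.mk0 c1 hc1, Units.mk0 c2 hc2, Units.mk0 c3 hc3, Units.mk0 c4 hc4]
      • ![p 1, p 2, p 3, p 4] : Fin 4 → Fin 4 → k) = ![c1 • p 1, c2 • p 2, c3 • p 3, c4 • p 4] := by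
    funext i; fin_cases i <;> rfl
  rwa [e] at this

/-- A cubic surface through five points in general position is a linear Pfaffian. -/
theorem pfaffian_of_five_points {F : MvPolynomial (Fin 4) k} (hF : F.IsHomogeneous 3)
    {p : Fin 5 → (Fin 4 → k)} (hon : ∀ j, eval (p j) F = 0)
    (hgp : ∀ j : Fin 5, LinearIndependent k (fun i : Fin 4 => p (j.succAbove i))) :
    ∃ M : Matrix (Fin 6) (Fin 6) (MvPolynomial (Fin 4) k), (∀ i j, (M i j).IsHomogeneous 1) ∧
      M.transpose = -M ∧ (∀ i, M i i = 0) ∧ M.det = F ^ 2 := by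
  obtain ⟨c1, c2, c3, c4, -, -, -, -, hli, hp0⟩ := exists_frame_of_general_position hgp
  have hsc : ∀ (c : k) (j : Fin 5), eval (c • p j) F = 0 := by
    intro c j
    have := hon j
    rw [eval_eq_phi hF] at this ⊢
    rw [phi_smul_left, phi_smul_mid, phi_smul_right, this]; ring
  refine exists_pfaffian hF hli (hsc c1 1) (hsc c2 2) (hsc c3 3) (hsc c4 4) ?_
  rw [← hp0]; exact hon 0

end fivepoints

end Groth.Agent.Lib.Helper92.Pfaff
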