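import Mathlib
import Groth.Agent.Lib.Helper92.CubicNT3
import Groth.Agent.Lib.Helper92.Pfaff

/-!
# Transfer of smooth non-T-points to lines defined over the ground field
-/

namespace Groth.Agent.Lib.Helper92.CubicNT
set_option linter.unusedSectionVars false
set_option linter.unusedVariables false
open MvPolynomial Module Groth.Agent.Lib.Helper95 Groth.Agent.Lib.Helper92.TPoints
  Groth.Agent.Lib.Helper92.FivePts

section mvpoly
variable {K : Type*} [Field K]

/-- Polynomial functions `K⁴ → K`. -/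
def IsMvPoly (h : (Fin 4 → K) → K) : Prop :=
  ∃ P : MvPolynomial (Fin 4) K, ∀ x, h x = eval x P

lemma IsMvPoly.const (c : K) : IsMvPoly (fun _ : Fin 4 → K => c) := ⟨C c, fun x => by simp⟩

lemma IsMvPoly.coord (i : Fin 4) : IsMvPoly (fun x : Fin 4 → K => x i) := ⟨X i, fun x => by simp⟩

lemma IsMvPoly.add {f g : (Fin 4 → K) → K} (hf : IsMvPoly f) (hg : IsMvPoly g) :
    IsMvPoly (fun x => f x + g x) := by
  obtain ⟨P, hP⟩ := hf
  obtain ⟨Q, hQ⟩ := hg
  exact ⟨P + Q, fun x => by show f x + g x = _; rw [map_add, hP, hQ]⟩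

lemma IsMvPoly.mul {f g : (Fin 4 → K) → K} (hf : IsMvPoly f) (hg : IsMvPoly g) :
    IsMvPoly (fun x => f x * g x) := by
  obtain ⟨P, hP⟩ := hf
  obtain ⟨Q, hQ⟩ := hg
  exact ⟨P * Q, fun x => by show f x * g x = _; rw [map_mul, hP, hQ]⟩

lemma IsMvPoly.neg {f : (Fin 4 → K) → K} (hf : IsMvPoly f) : IsMvPoly (fun x => - f x) := by
  obtain ⟨P, hP⟩ := hf
  exact ⟨-P, fun x => by show - f x = _; rw [map_neg, hP]⟩

lemma IsMvPoly.sub {f g : (Fin 4 → K) → K} (hf : IsMvPoly f) (hg : IsMvPoly g) :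
    IsMvPoly (fun x => f x - g x) := by
  obtain ⟨P, hP⟩ := hf
  obtain ⟨Q, hQ⟩ := hg
  exact ⟨P - Q, fun x => by show f x - g x = _; rw [map_sub, hP, hQ]⟩

lemma IsMvPoly.sum {ι : Type*} (s : Finset ι) {f : ι → (Fin 4 → K) → K}
    (hf : ∀ i ∈ s, IsMvPoly (f i)) : IsMvPoly (fun x => ∑ i ∈ s, f i x) := by
  classical
  induction s using Finset.induction_on with
  | empty => simpa using IsMvPoly.const (0 : K)
  | insert i s hi ih =>
    have h1 := hf i (Finset.mem_insert_self i s)
    have h2 := ih (fun j hj => hf j (Finset.mem_insert_of_mem hj))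
    simp only [Finset.sum_insert hi]
    exact h1.add h2

lemma IsMvPoly.det {n : Type*} [Fintype n] [DecidableEq n] {M : (Fin 4 → K) → Matrix n n K}
    (hM : ∀ i j, IsMvPoly (fun x => M x i j)) : IsMvPoly (fun x => (M x).det) := by
  choose P hP using hM
  refine ⟨(Matrix.of P).det, fun x => ?_⟩
  have := (MvPolynomial.eval x).map_det (Matrix.of P)
  rw [this]
  show (M x).det = _
  congr 1
  ext i j
  simp [hP]

lemma IsMvPoly.lin (Λ : (Fin 4 → K) →ₗ[K] K) : IsMvPoly (fun x => Λ x) := by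
  have : (fun x => Λ x) = fun x : Fin 4 → K => ∑ i, x i * Λ (Pi.single i 1) := by
    funext x; exact lin_sum Λ x
  rw [this]
  exact IsMvPoly.sum _ fun i _ => (IsMvPoly.coord i).mul (IsMvPoly.const _)

/-- Vectors with polynomial coordinates. -/
def IsMvVec (v : (Fin 4 → K) → Fin 4 → K) : Prop := ∀ i, IsMvPoly (fun x => v x i)

lemma IsMvVec.id : IsMvVec (fun x : Fin 4 → K => x) := fun i => IsMvPoly.coord i

lemma IsMvVec.const (c : Fin 4 → K) : IsMvVec (fun _ : Fin 4 → K => c) :=
  fun _ => IsMvPoly.const _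

lemma IsMvVec.add {v w : (Fin 4 → K) → Fin 4 → K} (hv : IsMvVec v) (hw : IsMvVec w) :
    IsMvVec (fun x => v x + w x) := fun i => (hv i).add (hw i)

lemma IsMvVec.sub {v w : (Fin 4 → K) → Fin 4 → K} (hv : IsMvVec v) (hw : IsMvVec w) :
    IsMvVec (fun x => v x - w x) := fun i => (hv i).sub (hw i)

lemma IsMvVec.smul {f : (Fin 4 → K) → K} {v : (Fin 4 → K) → Fin 4 → K} (hf : IsMvPoly f)
    (hv : IsMvVec v) : IsMvVec (fun x => f x • v x) := fun i => hf.mul (hv i)

lemma IsMvPoly.phi [CharZero K] (F : MvPolynomial (Fin 4) K) {x y z : (Fin 4 → K) → Fin 4 → K}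
    (hx : IsMvVec x) (hy : IsMvVec y) (hz : IsMvVec z) :
    IsMvPoly (fun t => phi F (x t) (y t) (z t)) := by
  unfold Groth.Agent.Lib.Helper95.phi
  refine (IsMvPoly.const _).mul ?_
  refine IsMvPoly.sum _ fun k _ => IsMvPoly.sum _ fun j _ => IsMvPoly.sum _ fun i _ => ?_
  exact (((IsMvPoly.const _).mul (hx i)).mul (hy j)).mul (hz k)

/-- Rank semicontinuity in several variables. -/
lemma mvPolyRank {R : (Fin 4 → K) → Fin 3 → Fin 4 → K}
    (hR : ∀ i j, IsMvPoly (fun x => R x i j)) {a : Fin 4 → K}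
    (h1 : LinearIndependent K (R a)) :
    ∃ G : MvPolynomial (Fin 4) K, eval a G ≠ 0 ∧ ∀ x, eval x G ≠ 0 → LinearIndependent K (R x) := by
  obtain ⟨w, hw⟩ := exists_linearIndependent_cons_of_lt_finrank h1
    (by rw [Module.finrank_fintype_fun_eq_card, Fintype.card_fin]; norm_num)
  let M : (Fin 4 → K) → Matrix (Fin 4) (Fin 4) K := fun x => Matrix.of (Fin.cons w (R x))
  have hM : ∀ i j, IsMvPoly (fun x => M x i j) := by
    intro i j
    refine Fin.cases ?_ (fun i' => ?_) i
    · exact IsMvPoly.const _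
    · exact hR i' j
  obtain ⟨G, hG⟩ := IsMvPoly.det hM
  refine ⟨G, ?_, fun x hx => ?_⟩
  · rw [← hG]
    have : LinearIndependent K (M a).row := hw
    rw [Matrix.linearIndependent_rows_iff_isUnit, Matrix.isUnit_iff_isUnit_det] at this
    exact this.ne_zero
  · rw [← hG] at hx
    have hu : IsUnit (M x) := (Matrix.isUnit_iff_isUnit_det _).mpr (Ne.isUnit hx)
    have hrows : LinearIndependent K (M x).row := Matrix.linearIndependent_rows_iff_isUnit.mpr hu
    have h2 : LinearIndependent K (Fin.cons w (R x) : Fin 4 → Fin 4 → K) := hrows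
    exact (linearIndependent_finCons.mp h2).1

end mvpoly

section openset
variable {K : Type*} [Field K] [CharZero K] {F : MvPolynomial (Fin 4) K}

/-- The smooth non-T-points contain a nonempty principal open subset of the surface. -/
theorem exists_open_nonT [IsAlgClosed K] (hF : F.IsHomogeneous 3) {a : Fin 4 → K}
    (haa : phi F a a a = 0) (hsm : ∃ x, phi F a a x ≠ 0) (hnT : ¬ IsT F a) :
    ∃ G : MvPolynomial (Fin 4) K, eval a G ≠ 0 ∧
      ∀ x, phi F x x x = 0 → eval x G ≠ 0 → (∃ y, phi F x x y ≠ 0) ∧ ¬ IsT F x := by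
  obtain ⟨c₁, c₂, e, hB⟩ := exists_tanBasis haa hsm
  obtain ⟨y₀, y₁, y₂, y₃, hdec, ⟨h00, -, -, -⟩, -, -, -⟩ := frame_decomp hB.li
  set U₁ : (Fin 4 → K) → Fin 4 → K := fun x => phi F x x e • c₁ - phi F x x c₁ • e with hU₁
  set U₂ : (Fin 4 → K) → Fin 4 → K := fun x => phi F x x e • c₂ - phi F x x c₂ • e with hU₂
  have hU₁v : IsMvVec U₁ :=
    (IsMvVec.smul (IsMvPoly.phi F IsMvVec.id IsMvVec.id (IsMvVec.const e)) (IsMvVec.const c₁)).sub
      (IsMvVec.smul (IsMvPoly.phi F IsMvVec.id IsMvVec.id (IsMvVec.const c₁)) (IsMvVec.const e))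
  have hU₂v : IsMvVec U₂ :=
    (IsMvVec.smul (IsMvPoly.phi F IsMvVec.id IsMvVec.id (IsMvVec.const e)) (IsMvVec.const c₂)).sub
      (IsMvVec.smul (IsMvPoly.phi F IsMvVec.id IsMvVec.id (IsMvVec.const c₂)) (IsMvVec.const e))
  have hT1 : ∀ x, phi F x x (U₁ x) = 0 := by
    intro x
    simp only [hU₁, phi_sub_right, phi_smul_right]; ring
  have hT2 : ∀ x, phi F x x (U₂ x) = 0 := by
    intro x
    simp only [hU₂, phi_sub_right, phi_smul_right]; ring
  set R : (Fin 4 → K) → Fin 3 → Fin 4 → K := fun x =>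
    ![![al0 F x (U₁ x), al1 F x (U₁ x) (U₂ x), al2 F x (U₂ x), 0],
      ![0, al0 F x (U₁ x), al1 F x (U₁ x) (U₂ x), al2 F x (U₂ x)],
      ![ga0 F (U₁ x), ga1 F (U₁ x) (U₂ x), ga2 F (U₁ x) (U₂ x), ga3 F (U₂ x)]] with hRd
  have p0 : IsMvPoly (fun x => al0 F x (U₁ x)) :=
    (IsMvPoly.const 3).mul (IsMvPoly.phi F IsMvVec.id hU₁v hU₁v)
  have p1 : IsMvPoly (fun x => al1 F x (U₁ x) (U₂ x)) :=
    (IsMvPoly.const 6).mul (IsMvPoly.phi F IsMvVec.id hU₁v hU₂v)
  have p2 : IsMvPoly (fun x => al2 F x (U₂ x)) :=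
    (IsMvPoly.const 3).mul (IsMvPoly.phi F IsMvVec.id hU₂v hU₂v)
  have q0 : IsMvPoly (fun x => ga0 F (U₁ x)) := IsMvPoly.phi F hU₁v hU₁v hU₁v
  have q1 : IsMvPoly (fun x => ga1 F (U₁ x) (U₂ x)) :=
    (IsMvPoly.const 3).mul (IsMvPoly.phi F hU₂v hU₁v hU₁v)
  have q2 : IsMvPoly (fun x => ga2 F (U₁ x) (U₂ x)) :=
    (IsMvPoly.const 3).mul (IsMvPoly.phi F hU₂v hU₂v hU₁v)
  have q3 : IsMvPoly (fun x => ga3 F (U₂ x)) := IsMvPoly.phi F hU₂v hU₂v hU₂v
  have hR : ∀ i j, IsMvPoly (fun x => R x i j) := by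
    intro i j
    fin_cases i <;> fin_cases j
    · exact p0
    · exact p1
    · exact p2
    · exact IsMvPoly.const 0
    · exact IsMvPoly.const 0
    · exact p0
    · exact p1
    · exact p2
    · exact q0
    · exact q1
    · exact q2
    · exact q3
  -- independence of the tangent frame
  have hxV : ∀ x, x = V a c₁ c₂ e (y₀ x) (y₁ x) (y₂ x) (y₃ x) := hdec
  have hU1V : ∀ x, U₁ x = V a c₁ c₂ e 0 (phi F x x e) 0 (-phi F x x c₁) := by
    intro x; simp only [hU₁, V]; simp [sub_eq_add_neg]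
  have hU2V : ∀ x, U₂ x = V a c₁ c₂ e 0 0 (phi F x x e) (-phi F x x c₂) := by
    intro x; simp only [hU₂, V]; simp [sub_eq_add_neg]
  have hli : ∀ x, phi F x x e ≠ 0 → y₀ x ≠ 0 → LinearIndependent K ![x, U₁ x, U₂ x] := by
    intro x hg hy
    have := li_V3 hB.li (a0 := y₀ x) (a1 := y₁ x) (a2 := y₂ x) (a3 := y₃ x) (b0 := 0)
      (b1 := phi F x x e) (b2 := 0) (b3 := -phi F x x c₁) (c0 := 0) (c1 := 0)
      (c2 := phi F x x e) (c3 := -phi F x x c₂) ?_
    · rwa [← hxV, ← hU1V, ← hU2V] at this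
    · intro p q r e0 e1 e2 e3
      have hp : p = 0 := by
        have : p * y₀ x = 0 := by linear_combination e0
        exact (mul_eq_zero.mp this).resolve_right hy
      rw [hp] at e1 e2
      have hq : q = 0 := by
        have : q * phi F x x e = 0 := by linear_combination e1
        exact (mul_eq_zero.mp this).resolve_right hg
      have hr : r = 0 := by
        have : r * phi F x x e = 0 := by linear_combination e2
        exact (mul_eq_zero.mp this).resolve_right hg
      exact ⟨hp, hq, hr⟩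
  have hcrit : ∀ x, phi F x x x = 0 → phi F x x e ≠ 0 → y₀ x ≠ 0 →
      (IsT F x ↔ ¬ LinearIndependent K (R x)) := by
    intro x hxx hg hy
    rw [isT_iff_rowsDep hF ⟨e, hg⟩ hxx (hT1 x) (hT2 x) (hli x hg hy), rowsDep_iff_not_li]
  have hRa : LinearIndependent K (R a) := by
    by_contra hcon
    exact hnT ((hcrit a haa hB.h3 (by rw [h00]; exact one_ne_zero)).mpr hcon)
  obtain ⟨G₃, hG₃a, hG₃⟩ := mvPolyRank hR hRa
  obtain ⟨G₁, hG₁⟩ := IsMvPoly.phi F IsMvVec.id IsMvVec.id (IsMvVec.const e)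
  obtain ⟨Y₀, hY₀⟩ := IsMvPoly.lin y₀
  have hG₁' : ∀ x, eval x G₁ = phi F x x e := fun x => (hG₁ x).symm
  have hY₀' : ∀ x, eval x Y₀ = y₀ x := fun x => (hY₀ x).symm
  refine ⟨G₁ * Y₀ * G₃, ?_, fun x hxx hx => ?_⟩
  · rw [map_mul, map_mul, hG₁', hY₀', h00, mul_one]
    exact mul_ne_zero hB.h3 hG₃a
  · rw [map_mul, map_mul, hG₁', hY₀'] at hx
    have hg : phi F x x e ≠ 0 := fun h => hx (by rw [h, zero_mul, zero_mul])
    have hy : y₀ x ≠ 0 := fun h => hx (by rw [h, mul_zero, zero_mul])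
    have h3 : eval x G₃ ≠ 0 := fun h => hx (by rw [h, mul_zero])
    refine ⟨⟨e, hg⟩, fun hT => ?_⟩
    exact ((hcrit x hxx hg hy).mp hT) (hG₃ x h3)

end openset

section avoid
variable {K : Type*} [Field K]

local notation "RR" => MvPolynomial (Fin 4) K

/-- The substitution `x ↦ u + T o` into polynomials in `T` over `K[u]`. -/
noncomputable def theta (o : Fin 4 → K) : RR →+* Polynomial RR :=
  MvPolynomial.eval₂Hom (Polynomial.C.comp MvPolynomial.C)
    (fun i => Polynomial.C (MvPolynomial.X i) + Polynomial.C (MvPolynomial.C (o i)) * Polynomial.X)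

@[simp] lemma theta_C (o : Fin 4 → K) (c : K) :
    theta o (MvPolynomial.C c) = Polynomial.C (MvPolynomial.C c) := by
  simp [theta]

@[simp] lemma theta_X (o : Fin 4 → K) (i : Fin 4) :
    theta o (MvPolynomial.X i)
      = Polynomial.C (MvPolynomial.X i) + Polynomial.C (MvPolynomial.C (o i)) * Polynomial.X := by
  simp [theta]

lemma eval_theta (o u : Fin 4 → K) (t : K) (H : RR) :
    Polynomial.eval t (Polynomial.map (MvPolynomial.eval u) (theta o H))
      = MvPolynomial.eval (t • o + u) H := by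
  induction H using MvPolynomial.induction_on with
  | C c => simp
  | add p q hp hq => simp only [map_add, Polynomial.map_add, Polynomial.eval_add, hp, hq]
  | mul_X p i hp =>
    rw [map_mul, map_mul, Polynomial.map_mul, Polynomial.eval_mul, hp, theta_X]
    congr 1
    simp
    ring

lemma eval_zero_theta (o : Fin 4 → K) (H : RR) : Polynomial.eval 0 (theta o H) = H := by
  induction H using MvPolynomial.induction_on with
  | C c => simp
  | add p q hp hq => simp only [map_add, Polynomial.eval_add, hp, hq]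
  | mul_X p i hp =>
    rw [map_mul, Polynomial.eval_mul, hp, theta_X]
    simp

/-- The corresponding endomorphism of `K[u][T]`. -/
noncomputable def Theta (o : Fin 4 → K) : Polynomial RR →+* Polynomial RR :=
  Polynomial.eval₂RingHom (theta o) Polynomial.X

@[simp] lemma Theta_C (o : Fin 4 → K) (H : RR) : Theta o (Polynomial.C H) = theta o H := by
  simp [Theta]

@[simp] lemma Theta_X (o : Fin 4 → K) : Theta o Polynomial.X = Polynomial.X := by
  simp [Theta]

lemma Theta_comp (o : Fin 4 → K) : (Theta o).comp (Theta (-o)) = RingHom.id _ := by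
  apply Polynomial.ringHom_ext
  · intro H
    simp only [RingHom.comp_apply, Theta_C, RingHom.id_apply]
    induction H using MvPolynomial.induction_on with
    | C c => simp
    | add p q hp hq => simp only [map_add, hp, hq]
    | mul_X p i hp =>
      rw [map_mul, map_mul, hp, theta_X, map_add, map_mul, Theta_C, Theta_C, Theta_X, theta_X,
        theta_C, map_mul]
      simp only [Pi.neg_apply, map_neg]
      ring
  · simp

lemma prime_theta (o : Fin 4 → K) {Fb : RR} (h : Prime Fb) : Prime (theta o Fb) := by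
  have h1 : Prime (Polynomial.C Fb) := Polynomial.prime_C_iff.mpr h
  let e : Polynomial RR ≃+* Polynomial RR :=
    RingEquiv.ofRingHom (Theta o) (Theta (-o)) (Theta_comp o)
      (by have := Theta_comp (-o); rwa [neg_neg] at this)
  have := (MulEquiv.prime_iff e (p := Polynomial.C Fb)).mpr h1
  have e1 : e (Polynomial.C Fb) = theta o Fb := by
    show Theta o (Polynomial.C Fb) = _
    simp
  rwa [e1] at this

/-- Lines through `o`: outside a hypersurface of base points `u`, the line `u + T o` meets the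
surface `Fb = 0` only in points where `G ≠ 0`. -/
theorem exists_avoid {Fb G : RR} (hFb : Prime Fb) (hG : ¬ Fb ∣ G) (o : Fin 4 → K) :
    ∃ D : RR, D ≠ 0 ∧ ∀ (u : Fin 4 → K) (t : K), MvPolynomial.eval u D ≠ 0 →
      MvPolynomial.eval (t • o + u) Fb = 0 → MvPolynomial.eval (t • o + u) G ≠ 0 := by
  set P := theta o Fb with hP
  set Q := theta o G with hQ
  have hPprime : Prime P := prime_theta o hFb
  have hPQ : ¬ P ∣ Q := by
    intro hdiv
    apply hG
    have := map_dvd (Polynomial.evalRingHom (0 : RR)) hdiv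
    simpa [hP, hQ, eval_zero_theta] using this
  have : IsDomain (AdjoinRoot P) := AdjoinRoot.isDomain_of_prime hPprime
  have hx0 : AdjoinRoot.mk P Q ≠ 0 := fun h => hPQ (AdjoinRoot.mk_eq_zero.mp h)
  have halg : ∀ z : AdjoinRoot P, IsAlgebraic RR z := by
    have h1 : IsAlgebraic RR (AdjoinRoot.root P) := AdjoinRoot.isAlgebraic_root hPprime.ne_zero
    have h2 := Algebra.isAlgebraic_adjoin_singleton_iff.mpr h1
    intro z
    apply h2
    rw [AdjoinRoot.adjoinRoot_eq_top]
    trivial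
  have hne := Ideal.comap_ne_bot_of_algebraic_mem (R := RR) hx0
    (Ideal.mem_span_singleton_self (AdjoinRoot.mk P Q)) (halg _)
  obtain ⟨D, hDmem, hD0⟩ := Submodule.exists_mem_ne_zero_of_ne_bot hne
  rw [Ideal.mem_comap, Ideal.mem_span_singleton] at hDmem
  obtain ⟨y, hy⟩ := hDmem
  obtain ⟨B, rfl⟩ := AdjoinRoot.mk_surjective y
  have h3 : AdjoinRoot.mk P (Polynomial.C D - Q * B) = 0 := by
    rw [map_sub, map_mul, AdjoinRoot.mk_C, ← hy]
    simp
  obtain ⟨A, hA⟩ := AdjoinRoot.mk_eq_zero.mp h3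
  refine ⟨D, hD0, fun u t hDu hF0 hG0 => ?_⟩
  apply hDu
  have := congrArg (fun p => Polynomial.eval t (Polynomial.map (MvPolynomial.eval u) p)) hA
  simp only [Polynomial.map_sub, Polynomial.map_mul, Polynomial.eval_sub, Polynomial.eval_mul,
    Polynomial.map_C, Polynomial.eval_C, hP, hQ, eval_theta, hF0, hG0, zero_mul, sub_zero] at this
  exact this

end avoid

section conedescent
variable {k K : Type*} [Field k] [CharZero k] [Field K] [CharZero K] (ι : k →+* K)
  {F : MvPolynomial (Fin 4) k}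

lemma phi_single_single (G : MvPolynomial (Fin 4) K) (v : Fin 4 → K) (j l : Fin 4) :
    phi G v (Pi.single j 1) (Pi.single l 1) = (1 / 6 : K) * ∑ i, cubCoeff G i j l * v i := by
  unfold phi
  congr 1
  rw [Finset.sum_eq_single l]
  · rw [Finset.sum_eq_single j]
    · refine Finset.sum_congr rfl fun i _ => ?_
      simp
    · intro b _ hb
      apply Finset.sum_eq_zero
      intro i _
      simp [hb]
    · intro h; exact absurd (Finset.mem_univ _) h
  · intro b _ hb
    apply Finset.sum_eq_zero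
    intro j' _
    apply Finset.sum_eq_zero
    intro i _
    simp [Pi.single_apply, hb]
  · intro h; exact absurd (Finset.mem_univ _) h

lemma phi_eq_zero_of_coeff (G : MvPolynomial (Fin 4) K) (w : Fin 4 → K)
    (h : ∀ j l, ∑ i, cubCoeff G i j l * w i = 0) (x y : Fin 4 → K) : phi G w x y = 0 := by
  unfold phi
  have : ∀ l j, ∑ i, cubCoeff G i j l * w i * x j * y l = 0 := by
    intro l j
    have := h j l
    calc ∑ i, cubCoeff G i j l * w i * x j * y l
        = (∑ i, cubCoeff G i j l * w i) * (x j * y l) := by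
          rw [Finset.sum_mul]
          exact Finset.sum_congr rfl fun i _ => by ring
      _ = 0 := by rw [this, zero_mul]
  simp only [this, Finset.sum_const_zero, mul_zero]

/-- A cone over an extension field is already a cone over the ground field. -/
theorem cone_descent (hF : F.IsHomogeneous 3)
    (hcone : ¬ ∃ v : Fin 4 → k, v ≠ 0 ∧ ∑ i : Fin 4, v i • pderiv i F = 0) :
    ¬ ∃ v : Fin 4 → K, v ≠ 0 ∧ ∀ x y, phi (map ι F) v x y = 0 := by
  rintro ⟨v, hv0, hv⟩
  set A : Matrix (Fin 4 × Fin 4) (Fin 4) k := fun jl i => cubCoeff F i jl.1 jl.2 with hA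
  -- injectivity over `k`
  have hinj : LinearMap.ker (Matrix.toLin' A) = ⊥ := by
    rw [LinearMap.ker_eq_bot']
    intro w hw
    by_contra hw0
    apply hcone
    refine ⟨w, hw0, ?_⟩
    have hcoef : ∀ j l, ∑ i, cubCoeff F i j l * w i = 0 := by
      intro j l
      have := congrFun hw (j, l)
      rw [Matrix.toLin'_apply] at this
      exact this
    apply MvPolynomial.funext
    intro x
    rw [map_sum, map_zero]
    have h3 : ∀ i : Fin 4, eval x (w i • pderiv i F) = 3 * (w i * phi F x x (Pi.single i 1)) := by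
      intro i
      rw [smul_eval, eval_pderiv_eq_phi hF]; ring
    rw [Finset.sum_congr rfl fun i _ => h3 i, ← Finset.mul_sum]
    have e : ∑ i, w i * phi F x x (Pi.single i 1) = phi F x x w := by
      have := lin_sum (phiL F x x) w
      rw [phiL_apply] at this
      rw [this]; rfl
    rw [e, phi_comm13, phi_eq_zero_of_coeff F w hcoef, mul_zero]
  obtain ⟨g, hg⟩ := (Matrix.toLin' A).exists_leftInverse_of_injective hinj
  set B : Matrix (Fin 4) (Fin 4 × Fin 4) k := LinearMap.toMatrix' g with hB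
  have hBA : B * A = 1 := by
    have := congrArg LinearMap.toMatrix' hg
    rw [LinearMap.toMatrix'_comp, LinearMap.toMatrix'_toLin', LinearMap.toMatrix'_id] at this
    exact this
  have hBA' : B.map ι * A.map ι = 1 := by
    rw [← Matrix.map_mul, hBA, Matrix.map_one ι (map_zero ι) (map_one ι)]
  have hAv : (A.map ι).mulVec v = 0 := by
    funext jl
    obtain ⟨j, l⟩ := jl
    have h1 := hv (Pi.single j 1) (Pi.single l 1)
    rw [phi_single_single] at h1
    have h6 : (1 / 6 : K) ≠ 0 := by norm_num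
    have h2 := (mul_eq_zero.mp h1).resolve_left h6
    show ∑ i, (A.map ι) (j, l) i * v i = 0
    rw [← h2]
    refine Finset.sum_congr rfl fun i _ => ?_
    rw [cubCoeff_map]
    rfl
  apply hv0
  calc v = (1 : Matrix (Fin 4) (Fin 4) K).mulVec v := (Matrix.one_mulVec v).symm
    _ = (B.map ι * A.map ι).mulVec v := by rw [hBA']
    _ = (B.map ι).mulVec ((A.map ι).mulVec v) := (Matrix.mulVec_mulVec _ _ _).symm
    _ = 0 := by rw [hAv, Matrix.mulVec_zero]

end conedescent

section transfer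
variable {E K₁ K₂ : Type*} [Field E] [CharZero E] [Field K₁] [CharZero K₁] [IsAlgClosed K₁]
  [Field K₂] [CharZero K₂] [IsAlgClosed K₂] {F : MvPolynomial (Fin 4) E}

lemma isT_map_iff {K : Type*} [Field K] [CharZero K] [IsAlgClosed K] (ι : E →+* K)
    (hF : F.IsHomogeneous 3) {b u₁ u₂ e : Fin 4 → E} (hB : TanBasis F b u₁ u₂ e) :
    IsT (map ι F) (mv ι b) ↔ RowsDep (ι (al0 F b u₁)) (ι (al1 F b u₁ u₂)) (ι (al2 F b u₂))
      (ι (ga0 F u₁)) (ι (ga1 F u₁ u₂)) (ι (ga2 F u₁ u₂)) (ι (ga3 F u₂)) := by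
  have hli4 : LinearIndependent K ![mv ι b, mv ι u₁, mv ι u₂, mv ι e] := by
    have := li_map ι hB.li
    have e : (fun i => mv ι (![b, u₁, u₂, e] i)) = ![mv ι b, mv ι u₁, mv ι u₂, mv ι e] := by
      funext i; fin_cases i <;> rfl
    rwa [e] at this
  have hsm : ∃ x, phi (map ι F) (mv ι b) (mv ι b) x ≠ 0 :=
    ⟨mv ι e, by rw [phi_map]; exact (map_ne_zero ι).mpr hB.h3⟩
  have hb' : phi (map ι F) (mv ι b) (mv ι b) (mv ι b) = 0 := by rw [phi_map, hB.hb, map_zero]
  have h1' : phi (map ι F) (mv ι b) (mv ι b) (mv ι u₁) = 0 := by rw [phi_map, hB.h1, map_zero]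
  have h2' : phi (map ι F) (mv ι b) (mv ι b) (mv ι u₂) = 0 := by rw [phi_map, hB.h2, map_zero]
  rw [isT_iff_rowsDep (hF.map ι) hsm hb' h1' h2' (li3_of_li4 hli4)]
  have ea0 : al0 (map ι F) (mv ι b) (mv ι u₁) = ι (al0 F b u₁) := by
    unfold al0; rw [phi_map, map_mul, map_ofNat]
  have ea1 : al1 (map ι F) (mv ι b) (mv ι u₁) (mv ι u₂) = ι (al1 F b u₁ u₂) := by
    unfold al1; rw [phi_map, map_mul, map_ofNat]
  have ea2 : al2 (map ι F) (mv ι b) (mv ι u₂) = ι (al2 F b u₂) := by
    unfold al2; rw [phi_map, map_mul, map_ofNat]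
  have eg0 : ga0 (map ι F) (mv ι u₁) = ι (ga0 F u₁) := by
    unfold ga0; rw [phi_map]
  have eg1 : ga1 (map ι F) (mv ι u₁) (mv ι u₂) = ι (ga1 F u₁ u₂) := by
    unfold ga1; rw [phi_map, map_mul, map_ofNat]
  have eg2 : ga2 (map ι F) (mv ι u₁) (mv ι u₂) = ι (ga2 F u₁ u₂) := by
    unfold ga2; rw [phi_map, map_mul, map_ofNat]
  have eg3 : ga3 (map ι F) (mv ι u₂) = ι (ga3 F u₂) := by
    unfold ga3; rw [phi_map]
  rw [ea0, ea1, ea2, eg0, eg1, eg2, eg3]

lemma rowsDep_map (j : K₁ →+* K₂) {α₀ α₁ α₂ γ₀ γ₁ γ₂ γ₃ : K₁}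
    (h : RowsDep α₀ α₁ α₂ γ₀ γ₁ γ₂ γ₃) :
    RowsDep (j α₀) (j α₁) (j α₂) (j γ₀) (j γ₁) (j γ₂) (j γ₃) := by
  obtain ⟨l₀, l₁, l₂, hne, c0, c1, c2, c3⟩ := h
  refine ⟨j l₀, j l₁, j l₂, ?_, ?_, ?_, ?_, ?_⟩
  · rintro ⟨h0, h1, h2⟩
    exact hne ⟨(map_eq_zero j).mp h0, (map_eq_zero j).mp h1, (map_eq_zero j).mp h2⟩
  · have := congrArg j c0
    simpa only [map_add, map_mul, map_zero] using this
  · have := congrArg j c1
    simpa only [map_add, map_mul, map_zero] using this
  · have := congrArg j c2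
    simpa only [map_add, map_mul, map_zero] using this
  · have := congrArg j c3
    simpa only [map_add, map_mul, map_zero] using this

/-- Being a T-point does not depend on the algebraically closed overfield. -/
theorem isT_transfer (ι₁ : E →+* K₁) (j : K₁ →+* K₂) (hF : F.IsHomogeneous 3)
    {b u₁ u₂ e : Fin 4 → E} (hB : TanBasis F b u₁ u₂ e) (h : IsT (map ι₁ F) (mv ι₁ b)) :
    IsT (map (j.comp ι₁) F) (mv (j.comp ι₁) b) := by
  rw [isT_map_iff ι₁ hF hB] at h
  rw [isT_map_iff (j.comp ι₁) hF hB]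
  exact rowsDep_map j h

end transfer

section goodline
universe u v
variable {k : Type u} [Field k] [CharZero k] {F : MvPolynomial (Fin 4) k}

/-- A line defined over `k` all of whose intersection points with the surface are smooth
non-T-points. -/
theorem exists_good_line (hF : F.IsHomogeneous 3)
    (hirr : Irreducible (map (algebraMap k (AlgebraicClosure k)) F))
    (hcone : ¬ ∃ v : Fin 4 → k, v ≠ 0 ∧ ∑ i : Fin 4, v i • pderiv i F = 0) :
    ∃ o u : Fin 4 → k, eval o F ≠ 0 ∧ ∀ t : AlgebraicClosure k,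
      phi (map (algebraMap k (AlgebraicClosure k)) F)
        (t • mv (algebraMap k (AlgebraicClosure k)) o + mv (algebraMap k (AlgebraicClosure k)) u)
        (t • mv (algebraMap k (AlgebraicClosure k)) o + mv (algebraMap k (AlgebraicClosure k)) u)
        (t • mv (algebraMap k (AlgebraicClosure k)) o + mv (algebraMap k (AlgebraicClosure k)) u)
          = 0 →
      (∃ y, phi (map (algebraMap k (AlgebraicClosure k)) F)
        (t • mv (algebraMap k (AlgebraicClosure k)) o + mv (algebraMap k (AlgebraicClosure k)) u)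
        (t • mv (algebraMap k (AlgebraicClosure k)) o + mv (algebraMap k (AlgebraicClosure k)) u)
        y ≠ 0) ∧
      ¬ IsT (map (algebraMap k (AlgebraicClosure k)) F)
        (t • mv (algebraMap k (AlgebraicClosure k)) o
          + mv (algebraMap k (AlgebraicClosure k)) u) := by
  set ι := algebraMap k (AlgebraicClosure k) with hι
  set Fb := map ι F with hFb
  have hFb3 : Fb.IsHomogeneous 3 := hF.map ι
  have hcone' := cone_descent ι hF hcone
  obtain ⟨a, haa, hsm, hnT⟩ := exists_smooth_not_isT hFb3 hirr hcone'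
  obtain ⟨G, hGa, hG⟩ := exists_open_nonT hFb3 haa hsm hnT
  have hprime : Prime Fb := hirr.prime
  have hndvd : ¬ Fb ∣ G := by
    rintro ⟨H, rfl⟩
    apply hGa
    rw [map_mul, eval_eq_phi hFb3, haa, zero_mul]
  have hF0 : F ≠ 0 := by
    rintro rfl
    apply hirr.ne_zero
    rw [hFb, map_zero]
  obtain ⟨o, ho⟩ : ∃ o, eval o F ≠ 0 := by
    by_contra h0
    push Not at h0
    apply hF0
    apply MvPolynomial.funext
    intro x
    rw [h0 x, map_zero]
  obtain ⟨D, hD0, hD⟩ := exists_avoid hprime hndvd (mv ι o)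
  obtain ⟨u, hu⟩ : ∃ u : Fin 4 → k, eval (mv ι u) D ≠ 0 := by
    by_contra hcon
    push Not at hcon
    apply hD0
    have hinf : (Set.range ι).Infinite := Set.infinite_range_of_injective ι.injective
    apply MvPolynomial.funext_set (fun _ => Set.range ι) (fun _ => hinf)
    intro x hx
    rw [map_zero]
    have : ∀ i, ∃ c : k, ι c = x i := fun i => hx i (Set.mem_univ i)
    choose c hc using this
    have : x = mv ι c := by
      funext i
      exact (hc i).symm
    rw [this]
    exact hcon c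
  refine ⟨o, u, ho, fun t hx => ?_⟩
  exact hG _ hx (hD (mv ι u) t hu (by rw [eval_eq_phi hFb3]; exact hx))

end goodline

section pfaff
variable {E : Type*} [Field E] [CharZero E] {F : MvPolynomial (Fin 4) E}

/-- A smooth rational point which is not a T-point yields a linear Pfaffian representation. -/
theorem pfaffian_of_smooth_NT (hF : F.IsHomogeneous 3) {a : Fin 4 → E} (haa : phi F a a a = 0)
    (hsm : ∃ x, phi F a a x ≠ 0) (hNT : NT F a) :
    ∃ M : Matrix (Fin 6) (Fin 6) (MvPolynomial (Fin 4) E), (∀ i j, (M i j).IsHomogeneous 1) ∧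
      M.transpose = -M ∧ (∀ i, M i i = 0) ∧ M.det = F ^ 2 := by
  obtain ⟨b₁, b₂, c₁, c₂, hb₁, hb₂, hc₁, hc₂, l0, l1, l2, l3, l4⟩ :=
    five_points_smooth hF haa hsm hNT
  have hFa : eval a F = 0 := by rw [eval_eq_phi hF]; exact haa
  apply Groth.Agent.Lib.Helper92.Pfaff.pfaffian_of_five_points hF (p := ![a, b₁, b₂, c₁, c₂])
  · intro j
    fin_cases j
    · exact hFa
    · exact hb₁
    · exact hb₂
    · exact hc₁
    · exact hc₂
  · intro j
    fin_cases j
    · have e : (fun i : Fin 4 => (![a, b₁, b₂, c₁, c₂] : Fin 5 → Fin 4 → E)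
          ((0 : Fin 5).succAbove i)) = ![b₁, b₂, c₁, c₂] := by
        funext i; fin_cases i <;> rfl
      show LinearIndependent E (fun i : Fin 4 => (![a, b₁, b₂, c₁, c₂] : Fin 5 → Fin 4 → E)
          ((0 : Fin 5).succAbove i))
      rw [e]; exact l0
    · have e : (fun i : Fin 4 => (![a, b₁, b₂, c₁, c₂] : Fin 5 → Fin 4 → E)
          ((1 : Fin 5).succAbove i)) = ![a, b₂, c₁, c₂] := by
        funext i; fin_cases i <;> rfl
      show LinearIndependent E (fun i : Fin 4 => (![a, b₁, b₂, c₁, c₂] : Fin 5 → Fin 4 → E)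
          ((1 : Fin 5).succAbove i))
      rw [e]; exact l1
    · have e : (fun i : Fin 4 => (![a, b₁, b₂, c₁, c₂] : Fin 5 → Fin 4 → E)
          ((2 : Fin 5).succAbove i)) = ![a, b₁, c₁, c₂] := by
        funext i; fin_cases i <;> rfl
      show LinearIndependent E (fun i : Fin 4 => (![a, b₁, b₂, c₁, c₂] : Fin 5 → Fin 4 → E)
          ((2 : Fin 5).succAbove i))
      rw [e]; exact l2
    · have e : (fun i : Fin 4 => (![a, b₁, b₂, c₁, c₂] : Fin 5 → Fin 4 → E)
          ((3 : Fin 5).succAbove i)) = ![a, b₁, b₂, c₂] := by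
        funext i; fin_cases i <;> rfl
      show LinearIndependent E (fun i : Fin 4 => (![a, b₁, b₂, c₁, c₂] : Fin 5 → Fin 4 → E)
          ((3 : Fin 5).succAbove i))
      rw [e]; exact l3
    · have e : (fun i : Fin 4 => (![a, b₁, b₂, c₁, c₂] : Fin 5 → Fin 4 → E)
          ((4 : Fin 5).succAbove i)) = ![a, b₁, b₂, c₁] := by
        funext i; fin_cases i <;> rfl
      show LinearIndependent E (fun i : Fin 4 => (![a, b₁, b₂, c₁, c₂] : Fin 5 → Fin 4 → E)
          ((4 : Fin 5).succAbove i))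
      rw [e]; exact l4

end pfaff

section root
universe u v
variable {k : Type u} [Field k] [CharZero k] {F : MvPolynomial (Fin 4) k}

/-- **Main theorem.** There is a line `u + T o` defined over `k`, not contained in the surface, such
that any root `t₀` of the cubic `F (u + T o)` in an algebraic extension `E` of `k` yields a linear
Pfaffian representation of `F` over `E`. -/
theorem pfaffian_of_root (hF : F.IsHomogeneous 3)
    (hirr : Irreducible (map (algebraMap k (AlgebraicClosure k)) F))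
    (hcone : ¬ ∃ v : Fin 4 → k, v ≠ 0 ∧ ∑ i : Fin 4, v i • pderiv i F = 0) :
    ∃ o u : Fin 4 → k, eval o F ≠ 0 ∧
      ∀ (E : Type v) [Field E] [CharZero E] [Algebra k E] [Algebra.IsAlgebraic k E] (t₀ : E),
        eval (t₀ • mv (algebraMap k E) o + mv (algebraMap k E) u) (map (algebraMap k E) F) = 0 →
        ∃ M : Matrix (Fin 6) (Fin 6) (MvPolynomial (Fin 4) E), (∀ i j, (M i j).IsHomogeneous 1) ∧
          M.transpose = -M ∧ (∀ i, M i i = 0) ∧ M.det = (map (algebraMap k E) F) ^ 2 := by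
  obtain ⟨o, u, ho, hline⟩ := exists_good_line hF hirr hcone
  refine ⟨o, u, ho, fun E _ _ _ _ t₀ hroot => ?_⟩
  set ι := algebraMap k (AlgebraicClosure k) with hι
  set κ := algebraMap k E with hκ
  set FE := map κ F with hFE
  have hFE3 : FE.IsHomogeneous 3 := hF.map κ
  let σ : E →ₐ[k] AlgebraicClosure k := IsAlgClosed.lift
  have hσκ : (σ : E →+* AlgebraicClosure k).comp κ = ι := RingHom.ext fun c => σ.commutes c
  set aE : Fin 4 → E := t₀ • mv κ o + mv κ u with haE
  have hmap : map (σ : E →+* AlgebraicClosure k) FE = map ι F := by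
    rw [hFE, map_map, hσκ]
  have hmvκ : ∀ w : Fin 4 → k, mv (σ : E →+* AlgebraicClosure k) (mv κ w) = mv ι w := by
    intro w
    funext i
    exact σ.commutes (w i)
  have hmv : mv (σ : E →+* AlgebraicClosure k) aE = σ t₀ • mv ι o + mv ι u := by
    rw [haE, mv_add, mv_smul, hmvκ, hmvκ]
    rfl
  have haaE : phi FE aE aE aE = 0 := by
    rw [← eval_eq_phi hFE3]; exact hroot
  have hbar : phi (map ι F) (σ t₀ • mv ι o + mv ι u) (σ t₀ • mv ι o + mv ι u)
      (σ t₀ • mv ι o + mv ι u) = 0 := by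
    have := phi_map (σ : E →+* AlgebraicClosure k) FE aE aE aE
    rw [hmap, hmv] at this
    rw [this, haaE, map_zero]
  obtain ⟨hsmK, hnTK⟩ := hline (σ t₀) hbar
  have hsmE : ∃ x, phi FE aE aE x ≠ 0 := by
    by_contra hcon
    push Not at hcon
    obtain ⟨y, hy⟩ := hsmK
    apply hy
    rw [← phiL_apply, lin_sum (phiL (map ι F) _ _) y]
    apply Finset.sum_eq_zero
    intro i _
    have := phi_map (σ : E →+* AlgebraicClosure k) FE aE aE (Pi.single i 1)
    rw [hmap, hmv] at this
    have e1 : mv (σ : E →+* AlgebraicClosure k) (Pi.single i 1) = Pi.single i 1 := by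
      funext j
      by_cases hij : j = i
      · subst hij; simp [mv]
      · simp [mv, Pi.single_apply, hij]
    rw [e1] at this
    rw [phiL_apply, this, hcon, map_zero, mul_zero]
  obtain ⟨u₁, u₂, e, hB⟩ := exists_tanBasis haaE hsmE
  have hNT : NT FE aE := by
    intro hIsT
    letI : Algebra E (AlgebraicClosure k) := (σ : E →+* AlgebraicClosure k).toAlgebra
    let j : AlgebraicClosure E →ₐ[E] AlgebraicClosure k := IsAlgClosed.lift
    have hj : (j : AlgebraicClosure E →+* AlgebraicClosure k).comp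
        (algebraMap E (AlgebraicClosure E)) = (σ : E →+* AlgebraicClosure k) :=
      RingHom.ext fun c => j.commutes c
    have := isT_transfer (algebraMap E (AlgebraicClosure E))
      (j : AlgebraicClosure E →+* AlgebraicClosure k) hFE3 hB hIsT
    rw [hj, hmap, hmv] at this
    exact hnTK this
  exact pfaffian_of_smooth_NT hFE3 haaE hsmE hNT

end root

end Groth.Agent.Lib.Helper92.CubicNT
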