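import Mathlib
import Groth.Agent.Lib.Helper92.CubicNT4

/-!
# Linear Pfaffian representations over a simple extension of degree at most three
-/

namespace Groth.Agent.Lib.Helper92.CubicNT
set_option linter.unusedSectionVars false
set_option linter.unusedVariables false
set_option linter.style.haveILetI false
open MvPolynomial Module Groth.Agent.Lib.Helper95 Groth.Agent.Lib.Helper92.TPoints
  Groth.Agent.Lib.Helper92.FivePts

section adjoin
universe u v
variable {k : Type u} [Field k] [CharZero k] {F : MvPolynomial (Fin 4) k}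

/-- The restriction of the cubic to the line `u + T o`. -/
noncomputable def lineP (F : MvPolynomial (Fin 4) k) (o u : Fin 4 → k) : Polynomial k :=
  Polynomial.C (eval o F) * Polynomial.X ^ 3 + Polynomial.C (3 * phi F o o u) * Polynomial.X ^ 2
    + Polynomial.C (3 * phi F o u u) * Polynomial.X + Polynomial.C (eval u F)

lemma eval_line {L : Type*} [Field L] [CharZero L] (ι : k →+* L) (hF : F.IsHomogeneous 3)
    (o u : Fin 4 → k) (t : L) :
    eval (t • mv ι o + mv ι u) (map ι F) = Polynomial.eval t ((lineP F o u).map ι) := by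
  rw [add_comm, eval_add_smul (hF.map ι), phi_map, phi_map, eval_map_mv, eval_map_mv]
  simp only [lineP, Polynomial.map_add, Polynomial.map_mul, Polynomial.map_pow, Polynomial.map_C,
    Polynomial.map_X, Polynomial.eval_add, Polynomial.eval_mul, Polynomial.eval_pow,
    Polynomial.eval_C, Polynomial.eval_X, map_mul, map_ofNat, Polynomial.map_ofNat,
    Polynomial.eval_ofNat]
  ring

/-- There is a cubic polynomial over `k` each of whose roots `t₀`, in any extension field, gives a
linear Pfaffian representation over `k(t₀)`. -/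
theorem pfaffian_adjoin (hF : F.IsHomogeneous 3)
    (hirr : Irreducible (map (algebraMap k (AlgebraicClosure k)) F))
    (hcone : ¬ ∃ v : Fin 4 → k, v ≠ 0 ∧ ∑ i : Fin 4, v i • pderiv i F = 0) :
    ∃ P : Polynomial k, P.natDegree = 3 ∧
      ∀ (L : Type v) [Field L] [Algebra k L] (t₀ : L), Polynomial.aeval t₀ P = 0 →
        FiniteDimensional k ↥(IntermediateField.adjoin k {t₀}) ∧
        Module.finrank k ↥(IntermediateField.adjoin k {t₀}) ≤ 3 ∧
        ∃ M : Matrix (Fin 6) (Fin 6) (MvPolynomial (Fin 4) ↥(IntermediateField.adjoin k {t₀})),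
          (∀ i j, (M i j).IsHomogeneous 1) ∧ M.transpose = -M ∧ (∀ i, M i i = 0) ∧
          ∃ c : ↥(IntermediateField.adjoin k {t₀}), c ≠ 0 ∧
            M.det = C c * (map (algebraMap k ↥(IntermediateField.adjoin k {t₀})) F) ^ 2 := by
  obtain ⟨o, u, ho, hU⟩ := pfaffian_of_root.{u, v} hF hirr hcone
  have hdeg : (lineP F o u).natDegree = 3 := Polynomial.natDegree_cubic ho
  have hP0 : lineP F o u ≠ 0 := by
    intro h0
    rw [h0, Polynomial.natDegree_zero] at hdeg
    exact absurd hdeg (by norm_num)
  refine ⟨lineP F o u, hdeg, fun L _ _ t₀ ht₀ => ?_⟩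
  have hint : IsIntegral k t₀ := (isAlgebraic_iff_isIntegral).mp ⟨lineP F o u, hP0, ht₀⟩
  have hfd : FiniteDimensional k ↥(IntermediateField.adjoin k {t₀}) :=
    IntermediateField.adjoin.finiteDimensional hint
  have hrank : Module.finrank k ↥(IntermediateField.adjoin k {t₀}) ≤ 3 := by
    rw [IntermediateField.adjoin.finrank hint, ← hdeg]
    exact Polynomial.natDegree_le_of_dvd (minpoly.dvd k t₀ ht₀) hP0
  refine ⟨hfd, hrank, ?_⟩
  set E := IntermediateField.adjoin k {t₀} with hE
  haveI : CharZero ↥E := charZero_of_injective_algebraMap (algebraMap k ↥E).injective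
  haveI : Algebra.IsAlgebraic k ↥E := Algebra.IsAlgebraic.of_finite k ↥E
  set t₀' : ↥E := ⟨t₀, IntermediateField.mem_adjoin_simple_self k t₀⟩ with ht₀'
  have hroot : eval (t₀' • mv (algebraMap k ↥E) o + mv (algebraMap k ↥E) u)
      (map (algebraMap k ↥E) F) = 0 := by
    rw [eval_line (algebraMap k ↥E) hF]
    have h1 : Polynomial.aeval t₀' (lineP F o u) = 0 := by
      have := IntermediateField.aeval_coe E t₀' (lineP F o u)
      rw [show ((t₀' : ↥E) : L) = t₀ from rfl, ht₀] at this
      exact_mod_cast this.symm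
    rw [Polynomial.aeval_def, Polynomial.eval₂_eq_eval_map] at h1
    exact h1
  obtain ⟨M, h1, h2, h3, h4⟩ := hU ↥E t₀' hroot
  exact ⟨M, h1, h2, h3, 1, one_ne_zero, by rw [h4, map_one, one_mul]⟩

/-- A real polynomial of odd degree has a real root. -/
theorem real_odd_root (P : Polynomial ℝ) (hodd : Odd P.natDegree) : ∃ x, P.IsRoot x := by
  by_contra hcon
  push Not at hcon
  wlog hlc : 0 ≤ P.leadingCoeff generalizing P
  · apply this (-P) (by rwa [Polynomial.natDegree_neg])
    · intro x hx
      apply hcon x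
      rw [Polynomial.IsRoot.def, Polynomial.eval_neg, neg_eq_zero] at hx
      exact hx
    · rw [Polynomial.leadingCoeff_neg]
      linarith [not_le.mp hlc]
  have h1 : 0 < P.eval 0 :=
    Polynomial.zero_lt_eval_of_roots_lt_of_leadingCoeff_nonneg (fun y hy => absurd hy (hcon y)) hlc
  have h2 := Polynomial.zero_lt_negOnePow_mul_eval_of_lt_roots_of_leadingCoeff_nonneg (x := 0)
    (fun y hy => absurd hy (hcon y)) hlc
  rw [Int.negOnePow_odd _ (by exact_mod_cast hodd)] at h2
  simp at h2
  linarith

end adjoin

end Groth.Agent.Lib.Helper92.CubicNT
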