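import Groth.Agent.Lib.Helper92.TernaryBezout

/-!
# Lines on a smooth cubic threefold meeting two incident lines (helper92)
-/

set_option autoImplicit false
set_option linter.unusedSectionVars false
set_option linter.unusedVariables false
set_option linter.unusedSimpArgs false

namespace Groth.Agent.Lib.Helper92.Cubic

open MvPolynomial Module

section restrict

variable {n : ℕ}

/-- substitution of a point of the plane spanned by `p, a, b` -/
noncomputable def planeSubst (p a b : Fin n → ℂ) (g : MvPolynomial (Fin n) ℂ) :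
    MvPolynomial (Fin 3) ℂ :=
  aeval (fun i : Fin n => C (p i) * X 0 + C (a i) * X 1 + C (b i) * X 2) g

theorem eval_planeSubst (p a b : Fin n → ℂ) (g : MvPolynomial (Fin n) ℂ) (v : Fin 3 → ℂ) :
    eval v (planeSubst p a b g) = eval (v 0 • p + v 1 • a + v 2 • b) g := by
  have h := eval₂Hom_bind₁ (RingHom.id ℂ) v
    (fun i : Fin n => C (p i) * X 0 + C (a i) * X 1 + C (b i) * X 2) g
  have h2 : (fun i => eval₂Hom (RingHom.id ℂ) v
      (C (p i) * X 0 + C (a i) * X 1 + C (b i) * X 2 : MvPolynomial (Fin 3) ℂ)) =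
      v 0 • p + v 1 • a + v 2 • b := by
    funext i
    simp only [map_add, map_mul, Pi.add_apply, Pi.smul_apply, smul_eq_mul]
    simp
    ring
  rw [h2] at h
  exact h

theorem planeSubst_isHomogeneous (p a b : Fin n → ℂ) {g : MvPolynomial (Fin n) ℂ} {d : ℕ}
    (hg : g.IsHomogeneous d) : (planeSubst p a b g).IsHomogeneous d := by
  have := hg.aeval (S := ℂ) (fun i : Fin n =>
    (C (p i) * X 0 + C (a i) * X 1 + C (b i) * X 2 : MvPolynomial (Fin 3) ℂ))
    (n := 1) (by
      intro i
      refine ((IsHomogeneous.add ?_ ?_).add ?_)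
      · simpa using (isHomogeneous_C (Fin 3) (p i)).mul (isHomogeneous_X ℂ (0 : Fin 3))
      · simpa using (isHomogeneous_C (Fin 3) (a i)).mul (isHomogeneous_X ℂ (1 : Fin 3))
      · simpa using (isHomogeneous_C (Fin 3) (b i)).mul (isHomogeneous_X ℂ (2 : Fin 3)))
  rw [one_mul] at this
  exact this

end restrict

section threefold

variable {n : ℕ} {f : MvPolynomial (Fin n) ℂ}

/-- the derivative at `q` in a direction `π` such that `f` vanishes on the line `q + s π` -/
theorem dd_eq_zero_of_vanish (hf : f.IsHomogeneous 3) (q π : Fin n → ℂ)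
    (h : ∀ s : ℂ, eval (q + s • π) f = 0) : eval q (dd π f) = 0 := by
  have h0 := h 0
  have h1 := h 1
  have h2 := h (-1)
  have h3 := h 2
  rw [cubic_expand hf] at h0 h1 h2 h3
  linear_combination (-1/2 : ℂ) * h0 + h1 - (1/3 : ℂ) * h2 - (1/6 : ℂ) * h3

/-- the restriction of a cubic form to a plane containing two lines of its zero locus -/
theorem plane_formula (hf : f.IsHomogeneous 3) (p a b : Fin n → ℂ)
    (h1 : ∀ x y : ℂ, eval (x • p + y • a) f = 0) (h2 : ∀ x z : ℂ, eval (x • p + z • b) f = 0)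
    (x y z : ℂ) :
    eval (x • p + y • a + z • b) f =
      y * z * (eval p (dd a (dd b f)) * x + eval a (dd b f) * y + eval b (dd a f) * z) := by
  have hg : (dd b f).IsHomogeneous 2 := dd_isHomogeneous hf b
  have hg1 : (dd a (dd b f)).IsHomogeneous 1 := dd_isHomogeneous hg a
  -- general expansion along `b`
  have key : ∀ x y z : ℂ, eval (x • p + y • a + z • b) f =
      z * (x ^ 2 * eval p (dd b f) + y * (x * eval p (dd a (dd b f))) + y ^ 2 * eval a (dd b f)) +
        z ^ 2 * (x * eval b (dd p f) + y * eval b (dd a f)) := by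
    intro x y z
    rw [cubic_expand hf, h1, eval_dd_add, eval_dd_smul, eval_dd_smul, quadric_expand hg,
      eval_smul_of_isHomogeneous hg, eval_smul_of_isHomogeneous hg1]
    have hb : eval b f = 0 := by
      have := h2 0 1
      rwa [zero_smul, one_smul, zero_add] at this
    rw [hb]
    ring
  have k1 := key 1 0 1
  have k2 := key 1 0 (-1)
  rw [zero_smul, add_zero, h2] at k1 k2
  have e1 : eval p (dd b f) = 0 := by linear_combination (-1/2 : ℂ) * k1 + (1/2 : ℂ) * k2
  have e2 : eval b (dd p f) = 0 := by linear_combination (-1/2 : ℂ) * k1 - (1/2 : ℂ) * k2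
  rw [key, e1, e2]
  ring

/-- a smooth cubic threefold contains no plane -/
theorem no_plane {f : MvPolynomial (Fin 5) ℂ} (hf : f.IsHomogeneous 3)
    (hsm : ∀ u : Fin 5 → ℂ, u ≠ 0 → eval u f = 0 → ∃ i : Fin 5, eval u (pderiv i f) ≠ 0)
    (p a b : Fin 5 → ℂ)
    (hind : ∀ x y z : ℂ, x • p + y • a + z • b = 0 → x = 0 ∧ y = 0 ∧ z = 0)
    (hvan : ∀ x y z : ℂ, eval (x • p + y • a + z • b) f = 0) : False := by
  have hli : LinearIndependent ℂ ![p, a, b] := by
    rw [Fintype.linearIndependent_iff]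
    intro g hg i
    rw [Fin.sum_univ_three] at hg
    obtain ⟨h0, h1, h2⟩ := hind _ _ _ hg
    fin_cases i
    · exact h0
    · exact h1
    · exact h2
  set Pl := Submodule.span ℂ (Set.range ![p, a, b]) with hPl
  have hPldim : finrank ℂ Pl = 3 := by
    rw [hPl, finrank_span_eq_card hli, Fintype.card_fin]
  obtain ⟨W, hW⟩ := Submodule.exists_isCompl Pl
  have hWdim : finrank ℂ W = 2 := by
    have := Submodule.finrank_add_eq_of_isCompl hW
    rw [hPldim, Module.finrank_fin_fun] at this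
    omega
  let bW := Module.finBasisOfFinrankEq ℂ W hWdim
  set c : Fin 5 → ℂ := (bW 0 : Fin 5 → ℂ) with hc
  set d : Fin 5 → ℂ := (bW 1 : Fin 5 → ℂ) with hd
  have hA : (planeSubst p a b (dd c f)).IsHomogeneous 2 :=
    planeSubst_isHomogeneous p a b (dd_isHomogeneous hf c)
  have hB : (planeSubst p a b (dd d f)).IsHomogeneous 2 :=
    planeSubst_isHomogeneous p a b (dd_isHomogeneous hf d)
  obtain ⟨v, hv, hvA, hvB⟩ := exists_common_zero hA hB (by norm_num) (by norm_num)
  rw [eval_planeSubst] at hvA hvB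
  set q := v 0 • p + v 1 • a + v 2 • b with hq
  have hq0 : q ≠ 0 := by
    intro h0
    obtain ⟨h0', h1', h2'⟩ := hind _ _ _ h0
    apply hv
    funext i
    fin_cases i
    · exact h0'
    · exact h1'
    · exact h2'
  have hfq : eval q f = 0 := hvan _ _ _
  have hall : ∀ w : Fin 5 → ℂ, eval q (dd w f) = 0 := by
    intro w
    have hw : w ∈ Pl ⊔ W := by rw [hW.sup_eq_top]; trivial
    obtain ⟨π, hπ, ω, hω, rfl⟩ := Submodule.mem_sup.mp hw
    rw [eval_dd_add]
    have h1 : eval q (dd π f) = 0 := by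
      apply dd_eq_zero_of_vanish hf
      intro s
      rw [hPl, Submodule.mem_span_range_iff_exists_fun] at hπ
      obtain ⟨cf, rfl⟩ := hπ
      rw [Fin.sum_univ_three]
      have : q + s • (cf 0 • ![p, a, b] 0 + cf 1 • ![p, a, b] 1 + cf 2 • ![p, a, b] 2) =
          (v 0 + s * cf 0) • p + (v 1 + s * cf 1) • a + (v 2 + s * cf 2) • b := by
        rw [hq]
        simp only [Matrix.cons_val_zero, Matrix.cons_val_one, Matrix.cons_val_two,
          Matrix.head_cons, Matrix.tail_cons]
        module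
      rw [this]
      exact hvan _ _ _
    have h2 : eval q (dd ω f) = 0 := by
      have hrep := bW.sum_repr ⟨ω, hω⟩
      rw [Fin.sum_univ_two] at hrep
      have hrep' : ω = (bW.repr ⟨ω, hω⟩) 0 • c + (bW.repr ⟨ω, hω⟩) 1 • d := by
        have := congrArg (Subtype.val) hrep
        simpa using this.symm
      rw [hrep', eval_dd_add, eval_dd_smul, eval_dd_smul, hvA, hvB]
      ring
    rw [h1, h2, add_zero]
  obtain ⟨i, hi⟩ := hsm q hq0 hfq
  exact hi (pderiv_eq_zero_of_dd hall i)

end threefold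

section main

variable {V : Type*} [AddCommGroup V] [Module ℂ V]

/-- a two-dimensional subspace is spanned by any nonzero vector of it and a second vector -/
theorem exists_pair_basis (U : Submodule ℂ V) (hU : finrank ℂ U = 2) {p : V} (hp : p ∈ U)
    (hp0 : p ≠ 0) :
    ∃ a ∈ U, (∀ x y : ℂ, x • p + y • a = 0 → x = 0 ∧ y = 0) ∧
      ∀ u ∈ U, ∃ x y : ℂ, u = x • p + y • a := by
  haveI : FiniteDimensional ℂ U := Module.finite_of_finrank_pos (by omega)
  have hex : ∃ a ∈ U, a ∉ Submodule.span ℂ {p} := by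
    by_contra hcon
    push Not at hcon
    have hle : U ≤ Submodule.span ℂ {p} := fun a ha => hcon a ha
    have h1 : finrank ℂ U ≤ finrank ℂ (Submodule.span ℂ {p}) := Submodule.finrank_mono hle
    rw [finrank_span_singleton hp0] at h1
    omega
  obtain ⟨a, haU, ha⟩ := hex
  have hind : ∀ x y : ℂ, x • p + y • a = 0 → x = 0 ∧ y = 0 := by
    intro x y h
    have hy : y = 0 := by
      by_contra hy
      apply ha
      rw [Submodule.mem_span_singleton]
      refine ⟨-(y⁻¹ * x), ?_⟩
      have : y • a = -(x • p) := by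
        rw [eq_neg_iff_add_eq_zero, add_comm]; exact h
      calc (-(y⁻¹ * x)) • p = y⁻¹ • (-(x • p)) := by rw [smul_neg, neg_smul, mul_smul]
        _ = y⁻¹ • (y • a) := by rw [this]
        _ = a := by rw [smul_smul, inv_mul_cancel₀ hy, one_smul]
    subst hy
    rw [zero_smul, add_zero] at h
    exact ⟨(smul_eq_zero.mp h).resolve_right hp0, rfl⟩
  refine ⟨a, haU, hind, ?_⟩
  have hli : LinearIndependent ℂ ![p, a] := by
    rw [LinearIndependent.pair_iff]
    intro x y h
    exact hind x y h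
  have hspan : Submodule.span ℂ {p, a} = U := by
    apply Submodule.eq_of_le_of_finrank_eq
    · rw [Submodule.span_le]
      intro v hv
      rcases hv with rfl | rfl
      · exact hp
      · exact haU
    · have := finrank_span_eq_card hli
      rw [Fintype.card_fin, Matrix.range_cons, Matrix.range_cons, Matrix.range_empty,
        Set.union_empty] at this
      rw [hU]
      have h2 : ({p} ∪ {a} : Set V) = {p, a} := by
        ext v; simp [or_comm]
      rw [h2] at this
      exact this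
  intro u hu
  rw [← hspan, Submodule.mem_span_pair] at hu
  obtain ⟨x, y, rfl⟩ := hu
  exact ⟨x, y, rfl⟩

/-- **S15252.** -/
theorem finite_meeting_set
    (f : MvPolynomial (Fin 5) ℂ) (hf : f.IsHomogeneous 3)
    (hsm : ∀ u : Fin 5 → ℂ, u ≠ 0 → MvPolynomial.eval u f = 0 →
      ∃ i : Fin 5, MvPolynomial.eval u (MvPolynomial.pderiv i f) ≠ 0)
    (L₁ L₂ : Submodule ℂ (Fin 5 → ℂ)) (h₁ : Module.finrank ℂ ↥L₁ = 2)
    (h₂ : Module.finrank ℂ ↥L₂ = 2)
    (hf₁ : ∀ u ∈ L₁, MvPolynomial.eval u f = 0) (hf₂ : ∀ u ∈ L₂, MvPolynomial.eval u f = 0)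
    (hne : L₁ ≠ L₂) (hmeet : L₁ ⊓ L₂ ≠ ⊥) :
    ∃ G : Set (Submodule ℂ (Fin 5 → ℂ)), G.Finite ∧
      (∀ g ∈ G, Module.finrank ℂ ↥g = 1 ∧ g ≤ L₁) ∧
      ∀ L : Submodule ℂ (Fin 5 → ℂ), Module.finrank ℂ ↥L = 2 →
        (∀ u ∈ L, MvPolynomial.eval u f = 0) →
        L ⊓ L₁ ≠ ⊥ → L ⊓ L₂ ≠ ⊥ → ∃ g ∈ G, g ≤ L := by
  obtain ⟨p, hpmem, hp0⟩ := (Submodule.ne_bot_iff _).mp hmeet
  have hp1 : p ∈ L₁ := hpmem.1
  have hp2 : p ∈ L₂ := hpmem.2
  obtain ⟨a, ha1, hinda, hspana⟩ := exists_pair_basis L₁ h₁ hp1 hp0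
  obtain ⟨b, hb2, hindb, hspanb⟩ := exists_pair_basis L₂ h₂ hp2 hp0
  haveI : FiniteDimensional ℂ L₁ := Module.finite_of_finrank_pos (by omega)
  have hb1 : b ∉ L₁ := by
    intro hb1
    apply hne
    symm
    apply Submodule.eq_of_le_of_finrank_eq
    · intro u hu
      obtain ⟨x, z, rfl⟩ := hspanb u hu
      exact L₁.add_mem (L₁.smul_mem _ hp1) (L₁.smul_mem _ hb1)
    · rw [h₁, h₂]
  have hind : ∀ x y z : ℂ, x • p + y • a + z • b = 0 → x = 0 ∧ y = 0 ∧ z = 0 := by
    intro x y z h
    have hz : z = 0 := by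
      by_contra hz
      apply hb1
      have h3 : z • b = -(x • p + y • a) := by
        rw [eq_neg_iff_add_eq_zero, add_comm]; exact h
      have h4 : b = z⁻¹ • (z • b) := by rw [smul_smul, inv_mul_cancel₀ hz, one_smul]
      rw [h4, h3]
      exact L₁.smul_mem _ (L₁.neg_mem (L₁.add_mem (L₁.smul_mem _ hp1) (L₁.smul_mem _ ha1)))
    subst hz
    rw [zero_smul, add_zero] at h
    obtain ⟨hx, hy⟩ := hinda x y h
    exact ⟨hx, hy, rfl⟩
  have hv1 : ∀ x y : ℂ, eval (x • p + y • a) f = 0 := fun x y =>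
    hf₁ _ (L₁.add_mem (L₁.smul_mem _ hp1) (L₁.smul_mem _ ha1))
  have hv2 : ∀ x z : ℂ, eval (x • p + z • b) f = 0 := fun x z =>
    hf₂ _ (L₂.add_mem (L₂.smul_mem _ hp2) (L₂.smul_mem _ hb2))
  have hform := plane_formula hf p a b hv1 hv2
  set α := eval p (dd a (dd b f)) with hα
  set β := eval a (dd b f) with hβ
  set γ := eval b (dd a f) with hγ
  set s₀ : ℂ := -β / α with hs₀
  have ha0 : a + s₀ • p ≠ 0 := by
    intro h0
    have := (hinda s₀ 1 (by rw [one_smul, add_comm]; exact h0)).2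
    exact one_ne_zero this
  refine ⟨{Submodule.span ℂ {p}, Submodule.span ℂ {a + s₀ • p}}, by simp, ?_, ?_⟩
  · intro g hg
    rcases hg with rfl | rfl
    · refine ⟨finrank_span_singleton hp0, ?_⟩
      rw [Submodule.span_singleton_le_iff_mem]
      exact hp1
    · refine ⟨finrank_span_singleton ha0, ?_⟩
      rw [Submodule.span_singleton_le_iff_mem]
      exact L₁.add_mem ha1 (L₁.smul_mem _ hp1)
  · intro L hL hfL hL1 hL2
    obtain ⟨q₁, hq₁, hq₁0⟩ := (Submodule.ne_bot_iff _).mp hL1
    obtain ⟨q₂, hq₂, hq₂0⟩ := (Submodule.ne_bot_iff _).mp hL2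
    obtain ⟨x₁, y₁, hq₁e⟩ := hspana q₁ hq₁.2
    obtain ⟨x₂, z₂, hq₂e⟩ := hspanb q₂ hq₂.2
    have hpL : p ∈ L → ∃ g ∈ ({Submodule.span ℂ {p}, Submodule.span ℂ {a + s₀ • p}} :
        Set (Submodule ℂ (Fin 5 → ℂ))), g ≤ L := by
      intro hpL
      refine ⟨Submodule.span ℂ {p}, Or.inl rfl, ?_⟩
      rw [Submodule.span_singleton_le_iff_mem]
      exact hpL
    by_cases hy₁ : y₁ = 0
    · apply hpL
      subst hy₁
      rw [zero_smul, add_zero] at hq₁e
      have hx₁ : x₁ ≠ 0 := by
        intro h; apply hq₁0; rw [hq₁e, h, zero_smul]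
      have : p = x₁⁻¹ • q₁ := by rw [hq₁e, smul_smul, inv_mul_cancel₀ hx₁, one_smul]
      rw [this]
      exact L.smul_mem _ hq₁.1
    by_cases hz₂ : z₂ = 0
    · apply hpL
      subst hz₂
      rw [zero_smul, add_zero] at hq₂e
      have hx₂ : x₂ ≠ 0 := by
        intro h; apply hq₂0; rw [hq₂e, h, zero_smul]
      have : p = x₂⁻¹ • q₂ := by rw [hq₂e, smul_smul, inv_mul_cancel₀ hx₂, one_smul]
      rw [this]
      exact L.smul_mem _ hq₂.1
    -- the generic case
    set s := x₁ / y₁ with hs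
    set t := x₂ / z₂ with ht
    have hq₁' : a + s • p ∈ L := by
      have : a + s • p = y₁⁻¹ • q₁ := by
        rw [hq₁e, smul_add, smul_smul, smul_smul, inv_mul_cancel₀ hy₁, one_smul, hs, add_comm,
          div_eq_inv_mul]
      rw [this]
      exact L.smul_mem _ hq₁.1
    have hq₂' : b + t • p ∈ L := by
      have : b + t • p = z₂⁻¹ • q₂ := by
        rw [hq₂e, smul_add, smul_smul, smul_smul, inv_mul_cancel₀ hz₂, one_smul, ht, add_comm,
          div_eq_inv_mul]
      rw [this]
      exact L.smul_mem _ hq₂.1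
    have hvanL : ∀ y z : ℂ, y * z * (α * (s * y + t * z) + β * y + γ * z) = 0 := by
      intro y z
      rw [← hform]
      have : (s * y + t * z) • p + y • a + z • b = y • (a + s • p) + z • (b + t • p) := by
        module
      rw [this]
      exact hfL _ (L.add_mem (L.smul_mem _ hq₁') (L.smul_mem _ hq₂'))
    have e1 := hvanL 1 1
    have e2 := hvanL 1 (-1)
    have hαs : α * s + β = 0 := by linear_combination (1/2 : ℂ) * e1 - (1/2 : ℂ) * e2
    have hαt : α * t + γ = 0 := by linear_combination (1/2 : ℂ) * e1 + (1/2 : ℂ) * e2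
    by_cases hα0 : α = 0
    · exfalso
      rw [hα0, zero_mul, zero_add] at hαs hαt
      apply no_plane hf hsm p a b hind
      intro x y z
      rw [hform, hα0, hαs, hαt]
      ring
    · have hss : s = s₀ := by
        rw [hs₀, eq_div_iff hα0]
        linear_combination hαs
      refine ⟨Submodule.span ℂ {a + s₀ • p}, Or.inr rfl, ?_⟩
      rw [Submodule.span_singleton_le_iff_mem, ← hss]
      exact hq₁'

end main

end Groth.Agent.Lib.Helper92.Cubic
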