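import Mathlib

set_option linter.unusedSectionVars false
set_option linter.unusedSimpArgs false
set_option linter.unusedVariables false
set_option linter.style.haveILetI false
set_option linter.unnecessarySimpa false
set_option autoImplicit false

/-!
# Jacobian determinants and commuting derivations in characteristic `p` (for S18154)

Part 1: the `p`-th power of a derivation in characteristic `p` is a derivation; product rule.
-/

namespace Groth.Agent.Lib.Helper92.DetJac

open TensorProduct

section PowP

variable {k A : Type*} [CommRing k] [CommRing A] [Algebra k A]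

/-- Leibniz rule for the `p`-th power of a derivation in characteristic `p`. -/
theorem pow_p_leibniz (p : ℕ) [Fact p.Prime] (hp : (p : k) = 0) (D : Derivation k A A) (a b : A) :
    (((D : Module.End k A)) ^ p) (a * b)
      = a * (((D : Module.End k A)) ^ p) b + (((D : Module.End k A)) ^ p) a * b := by
  set D' : Module.End k A := (D : A →ₗ[k] A) with hD'
  let u : Module.End k (A ⊗[k] A) := TensorProduct.map D' LinearMap.id
  let w : Module.End k (A ⊗[k] A) := TensorProduct.map LinearMap.id D'
  let μ : A ⊗[k] A →ₗ[k] A := LinearMap.mul' k A
  have h0 : ∀ z, D' (μ z) = μ ((u + w) z) := by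
    intro z
    induction z using TensorProduct.induction_on with
    | zero => simp
    | tmul a b =>
      simp only [μ, u, w, LinearMap.mul'_apply, LinearMap.add_apply, TensorProduct.map_tmul,
        LinearMap.id_coe, id_eq, map_add, hD', Derivation.coeFn_coe, Derivation.leibniz,
        smul_eq_mul]
      ring
    | add x y hx hy => simp only [map_add, hx, hy]
  have h1 : ∀ (n : ℕ) z, (D' ^ n) (μ z) = μ (((u + w) ^ n) z) := by
    intro n
    induction n with
    | zero => intro z; simp
    | succ n ih =>
      intro z
      rw [pow_succ, pow_succ, Module.End.mul_apply, Module.End.mul_apply, h0, ih]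
  have hcomm : Commute u w := by
    show u * w = w * u
    apply TensorProduct.ext'
    intro a b
    simp [u, w, Module.End.mul_apply]
  have hpE : ((p : ℕ) : Module.End k (A ⊗[k] A)) = 0 := by
    rw [← map_natCast (algebraMap k (Module.End k (A ⊗[k] A))), hp, map_zero]
  obtain ⟨r, hr⟩ := hcomm.exists_add_pow_prime_eq (Fact.out : p.Prime)
  rw [hpE, zero_mul, zero_mul, zero_mul, add_zero] at hr
  have h2 := h1 p (a ⊗ₜ[k] b)
  rw [hr] at h2
  simp only [μ, LinearMap.mul'_apply] at h2
  rw [h2]
  simp only [u, w, TensorProduct.map_pow, LinearMap.add_apply, TensorProduct.map_tmul, map_add,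
    LinearMap.mul'_apply]
  have : (LinearMap.id : A →ₗ[k] A) ^ p = LinearMap.id := one_pow p
  rw [this]
  simp only [LinearMap.id_coe, id_eq]
  ring

/-- The `p`-th power of a derivation in characteristic `p`, as a derivation. -/
noncomputable def powP (p : ℕ) [Fact p.Prime] (hp : (p : k) = 0) (D : Derivation k A A) :
    Derivation k A A :=
  Derivation.mk' (((D : Module.End k A)) ^ p) (fun a b => by
    rw [pow_p_leibniz p hp D a b]
    simp only [smul_eq_mul]
    ring)

theorem powP_apply (p : ℕ) [Fact p.Prime] (hp : (p : k) = 0) (D : Derivation k A A) (a : A) :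
    powP p hp D a = (((D : Module.End k A)) ^ p) a := rfl

/-- Product rule over a finset. -/
theorem deriv_prod {ι : Type*} [DecidableEq ι] (D : Derivation k A A) (s : Finset ι)
    (x : ι → A) :
    D (∏ i ∈ s, x i) = ∑ l ∈ s, D (x l) * ∏ i ∈ s.erase l, x i := by
  induction s using Finset.induction_on with
  | empty => simp
  | insert a s ha ih =>
    rw [Finset.prod_insert ha, D.leibniz, ih, Finset.sum_insert ha, Finset.erase_insert ha]
    simp only [smul_eq_mul]
    rw [Finset.mul_sum, add_comm]
    congr 1
    · ring
    · apply Finset.sum_congr rfl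
      intro l hl
      have hla : l ≠ a := fun h => ha (h ▸ hl)
      rw [Finset.erase_insert_of_ne hla.symm, Finset.prod_insert (by simp [ha])]
      ring

theorem pow_apply_const_mul (D : Derivation k A A) (c : A) (hc : D c = 0) (m : ℕ) (x : A) :
    (((D : Module.End k A)) ^ m) (c * x) = c * (((D : Module.End k A)) ^ m) x := by
  induction m generalizing x with
  | zero => simp
  | succ m ih =>
    rw [pow_succ, Module.End.mul_apply, Module.End.mul_apply]
    have : (D : Module.End k A) (c * x) = c * (D : Module.End k A) x := by
      simp only [Derivation.coeFn_coe, Derivation.leibniz, hc, smul_eq_mul, smul_zero, add_zero,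
        mul_zero]
    rw [this, ih]

theorem pow_apply_pow (D : Derivation k A A) (t : A) (hD : D t = 1) (n m : ℕ) :
    (((D : Module.End k A)) ^ m) (t ^ n) = (n.descFactorial m : A) * t ^ (n - m) := by
  induction m with
  | zero => simp
  | succ m ih =>
    rw [pow_succ', Module.End.mul_apply, ih]
    simp only [Derivation.coeFn_coe, Derivation.leibniz, Derivation.map_natCast, smul_zero,
      add_zero, Derivation.leibniz_pow, hD, smul_eq_mul, mul_one, nsmul_eq_mul]
    rw [Nat.descFactorial_succ]
    push_cast
    have : n - m - 1 = n - (m + 1) := by omega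
    rw [this]
    ring

end PowP

end Groth.Agent.Lib.Helper92.DetJac
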