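import Groth.Agent.Lib.Helper92.DJ1

set_option linter.unusedSectionVars false
set_option linter.unusedSimpArgs false
set_option linter.unusedVariables false
set_option linter.style.haveILetI false
set_option linter.unnecessarySimpa false
set_option autoImplicit false

/-!
# Part 2: determinants of closed rows with an exact row are divergences
-/

namespace Groth.Agent.Lib.Helper92.DetJac

section Div

variable {k A : Type*} [CommRing k] [CommRing A] [Algebra k A]
variable {ι : Type*} [Fintype ι] [DecidableEq ι] (d : ι → Derivation k A A)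

/-- The key cancellation. -/
theorem sum_sign_deriv_eq_zero (R : Matrix ι ι A)
    (hR : ∀ i j l, d l (R i j) = d j (R i l)) (i₀ : ι) :
    ∑ σ : Equiv.Perm ι, Equiv.Perm.sign σ •
      d (σ i₀) (∏ i ∈ Finset.univ.erase i₀, R i (σ i)) = 0 := by
  simp_rw [deriv_prod, Finset.smul_sum]
  rw [Finset.sum_comm]
  apply Finset.sum_eq_zero
  intro l hl
  have hl' : l ≠ i₀ := Finset.ne_of_mem_erase hl
  apply Finset.sum_involution (fun σ _ => σ * Equiv.swap i₀ l)
  · intro σ _
    have e1 : (σ * Equiv.swap i₀ l) i₀ = σ l := by simp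
    have e2 : (σ * Equiv.swap i₀ l) l = σ i₀ := by simp
    have e3 : ∏ i ∈ (Finset.univ.erase i₀).erase l, R i ((σ * Equiv.swap i₀ l) i)
        = ∏ i ∈ (Finset.univ.erase i₀).erase l, R i (σ i) := by
      apply Finset.prod_congr rfl
      intro i hi
      have h1 : i ≠ l := Finset.ne_of_mem_erase hi
      have h2 : i ≠ i₀ := Finset.ne_of_mem_erase (Finset.mem_of_mem_erase hi)
      rw [Equiv.Perm.mul_apply, Equiv.swap_apply_of_ne_of_ne h2 h1]
    rw [e1, e2, e3, Equiv.Perm.sign_mul, Equiv.Perm.sign_swap hl'.symm, mul_neg_one, Units.neg_smul,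
      hR l (σ i₀) (σ l)]
    exact add_neg_cancel _
  · intro σ _ _ h
    have h1 : σ * Equiv.swap i₀ l = σ * 1 := by rw [h, mul_one]
    have h2 := mul_left_cancel h1
    exact hl' (Equiv.swap_eq_one_iff.1 h2).symm
  · intro σ _
    exact Finset.mem_univ _
  · intro σ _
    simp [mul_assoc]

/-- A determinant whose rows are "closed" and one of whose rows is "exact" is killed by any additive
map killing all the images of the derivations. -/
theorem map_det_eq_zero {G : Type*} [AddCommGroup G] (Λ : A →+ G)
    (hΛ : ∀ j x, Λ (d j x) = 0) (R : Matrix ι ι A)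
    (hR : ∀ i j l, d l (R i j) = d j (R i l)) (i₀ : ι) (g : A) (hg : ∀ j, R i₀ j = d j g) :
    Λ R.det = 0 := by
  rw [← Matrix.det_transpose, Matrix.det_apply, map_sum]
  simp only [Matrix.transpose_apply]
  set P : Equiv.Perm ι → A := fun σ => ∏ i ∈ Finset.univ.erase i₀, R i (σ i) with hP
  have h1 : ∀ σ : Equiv.Perm ι,
      ∏ i, R i (σ i) = d (σ i₀) (g * P σ) - g * d (σ i₀) (P σ) := by
    intro σ
    rw [← Finset.mul_prod_erase Finset.univ _ (Finset.mem_univ i₀), hg, (d (σ i₀)).leibniz]
    simp only [smul_eq_mul]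
    ring
  have h2 : ∀ σ : Equiv.Perm ι, Λ (Equiv.Perm.sign σ • ∏ i, R i (σ i))
      = - Λ (Equiv.Perm.sign σ • (g * d (σ i₀) (P σ))) := by
    intro σ
    rw [h1, smul_sub, map_sub]
    have : Λ (Equiv.Perm.sign σ • d (σ i₀) (g * P σ)) = 0 := by
      rw [Units.smul_def, map_zsmul, hΛ, smul_zero]
    rw [this, zero_sub]
  simp_rw [h2]
  rw [Finset.sum_neg_distrib, neg_eq_zero, ← map_sum]
  have h3 : ∑ σ : Equiv.Perm ι, Equiv.Perm.sign σ • (g * d (σ i₀) (P σ))
      = g * ∑ σ : Equiv.Perm ι, Equiv.Perm.sign σ • d (σ i₀) (P σ) := by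
    rw [Finset.mul_sum]
    apply Finset.sum_congr rfl
    intro σ _
    rw [mul_smul_comm]
  rw [h3, sum_sign_deriv_eq_zero d R hR i₀, mul_zero, map_zero]

/-- Expansion of `det (diag u + Jac f)`: only the diagonal term survives under `Λ`. -/
theorem map_det_diag_add_jac {G : Type*} [AddCommGroup G] (Λ : A →+ G)
    (hΛ : ∀ j x, Λ (d j x) = 0) (hcomm : ∀ i j a, d i (d j a) = d j (d i a))
    (u : ι → A) (hu : ∀ i j, i ≠ j → d j (u i) = 0) (f : ι → A) :
    Λ (Matrix.of fun i j : ι => (if i = j then u i else 0) + d j (f i)).det = Λ (∏ i, u i) := by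
  set m : ι → ι → A := fun i j => if i = j then u i else 0 with hm
  set m' : ι → ι → A := fun i j => d j (f i) with hm'
  have hM : (Matrix.of fun i j : ι => (if i = j then u i else 0) + d j (f i)).det
      = Matrix.detRowAlternating (m + m') := rfl
  rw [hM, AlternatingMap.map_add_univ, map_sum, Finset.sum_eq_single Finset.univ]
  · rw [Finset.piecewise_univ]
    congr 1
    exact Matrix.det_diagonal
  · intro s _ hs
    obtain ⟨i₀, hi₀⟩ : ∃ i₀, i₀ ∉ s := by
      by_contra h
      push Not at h
      exact hs (Finset.eq_univ_iff_forall.2 h)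
    refine map_det_eq_zero d Λ hΛ (Matrix.of (s.piecewise m m')) ?_ i₀ (f i₀) ?_
    · intro i j l
      simp only [Matrix.of_apply, Finset.piecewise]
      by_cases hi : i ∈ s
      · simp only [hi, if_true, hm]
        by_cases hij : i = j
        · by_cases hil : i = l
          · subst hij; subst hil; rfl
          · subst hij
            simp only [if_true, hil, if_false, map_zero]
            exact hu i l hil
        · by_cases hil : i = l
          · subst hil
            simp only [if_true, hij, if_false, map_zero]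
            exact (hu i j hij).symm
          · simp only [hij, hil, if_false, map_zero]
      · simp only [hi, if_false, hm']
        exact hcomm l j (f i)
    · intro j
      simp only [Matrix.of_apply, Finset.piecewise, hi₀, if_false, hm']
  · intro h
    exact absurd (Finset.mem_univ _) h

end Div

end Groth.Agent.Lib.Helper92.DetJac
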