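import Groth.Agent.Lib.Helper92.DJ2

set_option linter.unusedSectionVars false
set_option linter.unusedSimpArgs false
set_option linter.unusedVariables false
set_option linter.style.haveILetI false
set_option linter.unnecessarySimpa false
set_option autoImplicit false

/-!
# Part 3: the operator `∏ⱼ dⱼ^(p-1)` and the nonvanishing of `det (diag t^(p-1) + Jac f)`
-/

namespace Groth.Agent.Lib.Helper92.DetJac

open Nat

section Op

variable {k A : Type*} [CommRing k] [CommRing A] [Algebra k A]
variable {ι : Type*}

theorem listProd_mul_eq_zero (E D : ι → Module.End k A) (hEE : ∀ i j, Commute (E i) (D j))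
    (hED : ∀ j, E j * D j = 0) (l : List ι) (j : ι) (hj : j ∈ l) :
    (l.map E).prod * D j = 0 := by
  induction l with
  | nil => simp at hj
  | cons a l ih =>
    rw [List.map_cons, List.prod_cons, mul_assoc]
    by_cases hjl : j ∈ l
    · rw [ih hjl, mul_zero]
    · have hja : j = a := by
        rcases List.mem_cons.1 hj with h | h
        · exact h
        · exact absurd h hjl
      subst hja
      have hc : Commute (l.map E).prod (D j) := by
        apply Commute.list_prod_left
        intro x hx
        obtain ⟨i, _, rfl⟩ := List.mem_map.1 hx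
        exact hEE i j
      rw [hc.eq, ← mul_assoc, hED, zero_mul]

variable (p : ℕ) (d : ι → Derivation k A A) (t : ι → A)

theorem deriv_pow_eq_zero_of_ne [DecidableEq ι]
    (hdt : ∀ i j, d j (t i) = if i = j then 1 else 0) (i j : ι) (hij : i ≠ j) (m : ℕ) :
    d j (t i ^ m) = 0 := by
  rw [Derivation.leibniz_pow, hdt, if_neg hij, smul_zero, smul_zero]

theorem listProd_apply [DecidableEq ι]
    (hdt : ∀ i j, d j (t i) = if i = j then 1 else 0) (l : List ι) (hl : l.Nodup) (c : A)
    (hc : ∀ j ∈ l, d j c = 0) :
    ((l.map fun j => ((d j : Module.End k A)) ^ (p - 1)).prod)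
        (c * (l.map fun i => t i ^ (p - 1)).prod)
      = (((p - 1)! : ℕ) : A) ^ l.length * c := by
  induction l generalizing c with
  | nil => simp
  | cons a l ih =>
    rw [List.map_cons, List.prod_cons, List.map_cons, List.prod_cons, Module.End.mul_apply,
      ← mul_assoc c]
    have hnd := List.nodup_cons.1 hl
    have hc' : ∀ j ∈ l, d j (c * t a ^ (p - 1)) = 0 := by
      intro j hj
      have hja : a ≠ j := fun h => hnd.1 (h ▸ hj)
      rw [Derivation.leibniz, hc j (List.mem_cons_of_mem _ hj),
        deriv_pow_eq_zero_of_ne d t hdt a j hja, smul_zero, smul_zero, add_zero]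
    rw [ih hnd.2 (c * t a ^ (p - 1)) hc', ← mul_assoc]
    have hconst : d a ((((p - 1)! : ℕ) : A) ^ l.length * c) = 0 := by
      have : (((p - 1)! : ℕ) : A) ^ l.length = (((p - 1)! ^ l.length : ℕ) : A) := by push_cast; rfl
      rw [this, Derivation.leibniz, Derivation.map_natCast, hc a (List.mem_cons_self ..),
        smul_zero, smul_zero, add_zero]
    rw [pow_apply_const_mul (d a) _ hconst,
      pow_apply_pow (d a) (t a) (by rw [hdt, if_pos rfl]) (p - 1) (p - 1),
      Nat.descFactorial_self, Nat.sub_self, pow_zero, mul_one, List.length_cons, pow_succ]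
    ring

end Op

section Main

variable {k A : Type*} [CommRing k] [CommRing A] [Algebra k A]
variable {ι : Type*} [Fintype ι] [DecidableEq ι]

/-- Abstract form of the nonvanishing of the determinant. -/
theorem det_ne_zero_abstract (p : ℕ) [Fact p.Prime] (d : ι → Derivation k A A) (t : ι → A)
    (hdt : ∀ i j, d j (t i) = if i = j then 1 else 0)
    (hcomm : ∀ i j a, d i (d j a) = d j (d i a))
    (hpow : ∀ j a, (((d j : Module.End k A)) ^ p) a = 0)
    (hfact : (((p - 1)! : ℕ) : A) ^ (Fintype.card ι) ≠ 0) (f : ι → A) :
    (Matrix.of fun i j : ι => (if i = j then t i ^ (p - 1) else 0) + d j (f i)).det ≠ 0 := by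
  intro hdet
  set E : ι → Module.End k A := fun j => ((d j : Module.End k A)) ^ (p - 1) with hE
  set D : ι → Module.End k A := fun j => (d j : Module.End k A) with hD
  set l : List ι := (Finset.univ : Finset ι).toList with hl
  set L : Module.End k A := (l.map E).prod with hL
  have hp1 : p - 1 + 1 = p := Nat.sub_add_cancel (Fact.out : p.Prime).pos
  have hEE : ∀ i j, Commute (E i) (D j) := by
    intro i j
    apply Commute.pow_left
    show D i * D j = D j * D i
    apply LinearMap.ext
    intro a
    exact hcomm i j a
  have hED : ∀ j, E j * D j = 0 := by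
    intro j
    show D j ^ (p - 1) * D j = 0
    rw [← pow_succ, hp1]
    apply LinearMap.ext
    intro a
    exact hpow j a
  have hΛ : ∀ j x, L.toAddMonoidHom (d j x) = 0 := by
    intro j x
    have h1 := listProd_mul_eq_zero E D hEE hED l j (Finset.mem_toList.2 (Finset.mem_univ j))
    have h2 := LinearMap.congr_fun h1 x
    exact h2
  have hu : ∀ i j, i ≠ j → d j (t i ^ (p - 1)) = 0 :=
    fun i j hij => deriv_pow_eq_zero_of_ne d t hdt i j hij _
  have h1 := map_det_diag_add_jac d L.toAddMonoidHom hΛ hcomm (fun i => t i ^ (p - 1)) hu f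
  rw [hdet, map_zero] at h1
  have h2 := listProd_apply p d t hdt l (Finset.nodup_toList _) 1 (fun j _ => (d j).map_one_eq_zero)
  rw [one_mul, mul_one] at h2
  have h3 : L.toAddMonoidHom (∏ i, t i ^ (p - 1)) = (((p - 1)! : ℕ) : A) ^ (Fintype.card ι) := by
    have e1 : (l.map fun i => t i ^ (p - 1)).prod = ∏ i, t i ^ (p - 1) := by
      rw [hl, Finset.prod_map_toList]
    have e2 : l.length = Fintype.card ι := by
      rw [hl, Finset.length_toList, Finset.card_univ]
    rw [e1, e2] at h2
    exact h2
  rw [h3] at h1
  exact hfact h1.symm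

end Main

end Groth.Agent.Lib.Helper92.DetJac
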