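import Groth.Agent.Lib.Helper92.DJ3

set_option linter.unusedSectionVars false
set_option linter.unusedSimpArgs false
set_option linter.unusedVariables false
set_option linter.style.haveILetI false
set_option linter.unnecessarySimpa false
set_option autoImplicit false

/-!
# Part 4: the Kähler differential form of the statement
-/

namespace Groth.Agent.Lib.Helper92.DetJac

open Nat

theorem det_ne_zero_kaehler (p : ℕ) [Fact p.Prime] (k : Type*) [Field k] [CharP k p]
    (A : Type*) [CommRing A] [Nontrivial A] [Algebra k A] {n : ℕ} (t : Fin n → A)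
    (b : Module.Basis (Fin n) A (KaehlerDifferential k A))
    (hb : ∀ i, b i = KaehlerDifferential.D k A (t i)) (f : Fin n → A) :
    (Matrix.of fun i j : Fin n =>
        (if i = j then t i ^ (p - 1) else 0) +
          b.coord j (KaehlerDifferential.D k A (f i))).det ≠ 0 := by
  have hp : (p : k) = 0 := CharP.cast_eq_zero k p
  have hp2 : 2 ≤ p := (Fact.out : p.Prime).two_le
  set d : Fin n → Derivation k A A := fun j => (b.coord j).compDer (KaehlerDifferential.D k A)
    with hd
  have hd_apply : ∀ j a, d j a = b.coord j (KaehlerDifferential.D k A a) := fun j a => rfl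
  have hdt : ∀ i j, d j (t i) = if i = j then 1 else 0 := by
    intro i j
    rw [hd_apply, ← hb, Module.Basis.coord_apply, Module.Basis.repr_self, Finsupp.single_apply]
  have hvanish : ∀ δ : Derivation k A A, (∀ i, δ (t i) = 0) → ∀ a, δ a = 0 := by
    intro δ h a
    have h1 : δ.liftKaehlerDifferential = 0 := by
      apply b.ext
      intro i
      rw [hb, Derivation.liftKaehlerDifferential_comp_D, h, LinearMap.zero_apply]
    rw [← Derivation.liftKaehlerDifferential_comp_D δ a, h1, LinearMap.zero_apply]
  have hconst : ∀ (j : Fin n) (i l : Fin n), d j (if i = l then (1 : A) else 0) = 0 := by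
    intro j i l
    split_ifs
    · exact (d j).map_one_eq_zero
    · exact map_zero _
  have hcomm : ∀ i j a, d i (d j a) = d j (d i a) := by
    intro i j a
    have h := hvanish ⁅d i, d j⁆ (fun l => by
      rw [Derivation.commutator_apply, hdt, hdt, hconst, hconst, sub_zero]) a
    rw [Derivation.commutator_apply, sub_eq_zero] at h
    exact h
  have hpowconst : ∀ (j : Fin n) (c : A), d j c = 0 → ∀ m : ℕ, 1 ≤ m →
      (((d j : Module.End k A)) ^ m) c = 0 := by
    intro j c hc m hm
    obtain ⟨m', rfl⟩ : ∃ m', m = m' + 1 := ⟨m - 1, by omega⟩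
    rw [pow_succ, Module.End.mul_apply]
    have : (d j : Module.End k A) c = 0 := hc
    rw [this, map_zero]
  have hpow : ∀ j a, (((d j : Module.End k A)) ^ p) a = 0 := by
    intro j a
    have h := hvanish (powP p hp (d j)) (fun i => by
      rw [powP_apply]
      have hp1 : p = (p - 1) + 1 := by omega
      rw [hp1, pow_succ, Module.End.mul_apply]
      have : (d j : Module.End k A) (t i) = if i = j then 1 else 0 := hdt i j
      rw [this]
      exact hpowconst j _ (hconst j i j) (p - 1) (by omega)) a
    rw [powP_apply] at h
    exact h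
  have hfact : (((p - 1)! : ℕ) : A) ^ (Fintype.card (Fin n)) ≠ 0 := by
    have h1 : (((p - 1)! : ℕ) : k) ≠ 0 := by
      rw [Ne, CharP.cast_eq_zero_iff k p, (Fact.out : p.Prime).dvd_factorial]
      omega
    have h2 : algebraMap k A ((((p - 1)! : ℕ) : k) ^ (Fintype.card (Fin n))) ≠ 0 :=
      (map_ne_zero_iff _ (algebraMap k A).injective).2 (pow_ne_zero _ h1)
    rw [map_pow, map_natCast] at h2
    exact h2
  exact det_ne_zero_abstract p d t hdt hcomm hpow hfact f

end Groth.Agent.Lib.Helper92.DetJac
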