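import Mathlib

set_option linter.unusedSectionVars false
set_option linter.unusedSimpArgs false
set_option linter.unusedVariables false

/-!
# Fontaine–Laffaille linear algebra, part 1: the length count

Abstract length lemmas for a (semilinear) exact sequence and the injectivity of the
"relation map" `ι` of a Fontaine–Laffaille type datum.
-/

namespace Groth.Agent.Lib.Helper92.FonLaf

open Module

section AB
variable {R : Type*} [CommRing R] {σ : R →+* R} [RingHomSurjective σ]
variable {X Y Z : Type*} [AddCommGroup X] [AddCommGroup Y] [AddCommGroup Z]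
  [Module R X] [Module R Y] [Module R Z]

theorem length_eq_ker_add (g : Y →ₛₗ[σ] Z) (hg : Function.Surjective g) :
    Module.length R Y = Module.length R (LinearMap.ker g) + Module.length R Z := by
  have h1 := Module.length_eq_add_of_exact (LinearMap.ker g).subtype (LinearMap.ker g).mkQ
    (Submodule.subtype_injective _) (Submodule.mkQ_surjective _)
    (LinearMap.exact_subtype_mkQ _)
  have h2 : Module.length R (Y ⧸ LinearMap.ker g) = Module.length R Z := by
    let f : (Y ⧸ LinearMap.ker g) →ₛₗ[σ] Z := (LinearMap.ker g).liftQ g le_rfl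
    have hf : Function.Bijective f := by
      constructor
      · rw [← LinearMap.ker_eq_bot]
        exact Submodule.ker_liftQ_eq_bot _ _ _ le_rfl
      · intro z
        obtain ⟨y, rfl⟩ := hg z
        exact ⟨Submodule.Quotient.mk y, rfl⟩
    rw [Module.length, Module.length, WithBot.unbot_inj,
      Order.krullDim_eq_of_orderIso (Submodule.orderIsoMapComapOfBijective f hf)]
  rw [h1, h2]

theorem injective_of_length (a : X →ₗ[R] Y) (b : Y →ₛₗ[σ] Z) (hb : Function.Surjective b)
    (hex : LinearMap.ker b = LinearMap.range a)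
    (hlen : Module.length R Y = Module.length R X + Module.length R Z)
    (hfin : Module.length R Y ≠ ⊤) : Function.Injective a := by
  have h1 := length_eq_ker_add b hb
  rw [hex] at h1
  have h2 := Module.length_eq_add_of_exact (LinearMap.ker a).subtype a.rangeRestrict
    (Submodule.subtype_injective _) a.surjective_rangeRestrict (by
      rw [LinearMap.exact_iff]
      ext x
      simp [LinearMap.mem_ker, Subtype.ext_iff])
  have h3 : Module.length R (LinearMap.ker a) = 0 := by
    generalize Module.length R (LinearMap.ker a) = A at *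
    generalize Module.length R (LinearMap.range a) = B at *
    generalize Module.length R Z = C at *
    generalize Module.length R X = D at *
    generalize Module.length R Y = E at *
    subst h2
    subst hlen
    have hA : A ≠ ⊤ := by
      intro h; apply hfin; simp [h]
    have hB : B ≠ ⊤ := by
      intro h; apply hfin; simp [h]
    have hC : C ≠ ⊤ := by
      intro h; apply hfin; simp [h]
    lift A to ℕ using hA
    lift B to ℕ using hB
    lift C to ℕ using hC
    norm_cast at h1 ⊢
    omega
  rw [Module.length_eq_zero_iff] at h3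
  rw [← LinearMap.ker_eq_bot]
  exact (Submodule.subsingleton_iff_eq_bot).mp h3

end AB

section Sup
variable {R : Type*} [CommRing R] (P : ℕ → Type*) [∀ i, AddCommGroup (P i)]
  [∀ i, Module R (P i)]

/-- Families supported on indices `< m`. -/
def Sup (m : ℕ) : Submodule R (Π i, P i) where
  carrier := {y | ∀ i, m ≤ i → y i = 0}
  add_mem' := by
    intro a b ha hb i hi
    simp [ha i hi, hb i hi]
  zero_mem' := by
    intro i _
    rfl
  smul_mem' := by
    intro c a ha i hi
    simp [ha i hi]

theorem mem_Sup {m : ℕ} {y : Π i, P i} : y ∈ Sup (R := R) P m ↔ ∀ i, m ≤ i → y i = 0 :=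
  Iff.rfl

theorem Sup_mono {m n : ℕ} (h : m ≤ n) : Sup (R := R) P m ≤ Sup (R := R) P n := by
  intro y hy i hi
  exact hy i (h.trans hi)

theorem length_Sup (m : ℕ) :
    Module.length R (Sup (R := R) P m) = ∑ i ∈ Finset.range m, Module.length R (P i) := by
  induction m with
  | zero =>
    simp only [Finset.range_zero, Finset.sum_empty]
    rw [Module.length_eq_zero_iff]
    constructor
    rintro ⟨a, ha⟩ ⟨b, hb⟩
    apply Subtype.ext
    funext i
    show a i = b i
    rw [ha i (Nat.zero_le i), hb i (Nat.zero_le i)]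
  | succ m ih =>
    rw [Finset.sum_range_succ, ← ih]
    refine Module.length_eq_add_of_exact
      (Submodule.inclusion (Sup_mono (R := R) P (Nat.le_succ m)))
      ((LinearMap.proj m).comp (Sup (R := R) P (m + 1)).subtype)
      (Submodule.inclusion_injective _) ?_ ?_
    · intro x
      classical
      refine ⟨⟨Pi.single m x, ?_⟩, by simp⟩
      intro i hi
      have : i ≠ m := by omega
      simp [Pi.single_eq_of_ne this]
    · rw [LinearMap.exact_iff]
      ext ⟨y, hy⟩
      simp only [LinearMap.mem_ker, LinearMap.coe_comp, Submodule.coe_subtype,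
        Function.comp_apply, LinearMap.coe_proj, Function.eval, LinearMap.mem_range]
      constructor
      · intro h0
        refine ⟨⟨y, ?_⟩, rfl⟩
        intro i hi
        rcases Nat.eq_or_lt_of_le hi with h | h
        · rw [← h]; exact h0
        · exact hy i h
      · rintro ⟨⟨w, hw⟩, hwy⟩
        have : w = y := by
          have := congrArg Subtype.val hwy
          simpa using this
        rw [← this]
        exact hw m le_rfl

end Sup

section Main
variable {R : Type*} [CommRing R] {σ : R →+* R} [RingHomSurjective σ] (π : R)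
variable {N : ℕ → Type*} [∀ i, AddCommGroup (N i)] [∀ i, Module R (N i)]

/-- The relation map `ι` on all families. -/
def iotaFun (α : ∀ i, N (i + 1) →ₗ[R] N i) (z : Π i, N (i + 1)) : Π i, N i
  | 0 => α 0 (z 0)
  | (i + 1) => α (i + 1) (z (i + 1)) - π • z i

@[simp] theorem iotaFun_zero (α : ∀ i, N (i + 1) →ₗ[R] N i) (z : Π i, N (i + 1)) :
    iotaFun π α z 0 = α 0 (z 0) := rfl

@[simp] theorem iotaFun_succ (α : ∀ i, N (i + 1) →ₗ[R] N i) (z : Π i, N (i + 1)) (i : ℕ) :
    iotaFun π α z (i + 1) = α (i + 1) (z (i + 1)) - π • z i := rfl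

/-- `ι` as a linear map. -/
def iota0 (α : ∀ i, N (i + 1) →ₗ[R] N i) : (Π i, N (i + 1)) →ₗ[R] (Π i, N i) where
  toFun z := iotaFun π α z
  map_add' := by
    intro a b
    funext i
    cases i with
    | zero => simp
    | succ i => simp [smul_add]; abel
  map_smul' := by
    intro c a
    funext i
    cases i with
    | zero => simp
    | succ i => simp [smul_sub, smul_comm c π]

@[simp] theorem iota0_apply (α : ∀ i, N (i + 1) →ₗ[R] N i) (z : Π i, N (i + 1)) :
    iota0 π α z = iotaFun π α z := rfl

/-- `Φ` as a semilinear map on all families. -/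
noncomputable def Phi0 (r : ℕ) (φ : ∀ i, N i →ₛₗ[σ] N 0) : (Π i, N i) →ₛₗ[σ] N 0 :=
  ∑ i ∈ Finset.range (r + 1), (φ i).comp (LinearMap.proj i : (Π i, N i) →ₗ[R] N i)

theorem Phi0_apply (r : ℕ) (φ : ∀ i, N i →ₛₗ[σ] N 0) (y : Π i, N i) :
    Phi0 r φ y = ∑ i ∈ Finset.range (r + 1), φ i (y i) := by
  simp [Phi0, LinearMap.sum_apply]

theorem Phi0_iota (hπ : σ π = π) (r : ℕ) (α : ∀ i, N (i + 1) →ₗ[R] N i)
    (φ : ∀ i, N i →ₛₗ[σ] N 0)
    (hφ : ∀ i, i < r → ∀ y : N (i + 1), φ i (α i y) = π • φ (i + 1) y)
    (z : Π i, N (i + 1)) (hz : ∀ i, r ≤ i → z i = 0) :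
    ∑ i ∈ Finset.range (r + 1), φ i (iotaFun π α z i) = 0 := by
  have key : ∀ j, φ j (α j (z j)) = π • φ (j + 1) (z j) := by
    intro j
    by_cases hj : j < r
    · exact hφ j hj _
    · rw [hz j (not_lt.mp hj)]; simp
  rw [Finset.sum_range_succ']
  have h1 : ∀ i ∈ Finset.range r, φ (i + 1) (iotaFun π α z (i + 1)) =
      (fun j => π • φ (j + 1) (z j)) (i + 1) - (fun j => π • φ (j + 1) (z j)) i := by
    intro i _
    simp only [iotaFun_succ, map_sub, key, LinearMap.map_smulₛₗ, hπ]
  rw [Finset.sum_congr rfl h1, Finset.sum_range_sub (fun j => π • φ (j + 1) (z j)) r,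
    iotaFun_zero, key 0]
  simp [hz r le_rfl]

theorem iota_injective (hπ : σ π = π)
    (hfl : ∀ i, IsFiniteLength R (N i)) (r : ℕ)
    (α : ∀ i, N (i + 1) →ₗ[R] N i) (φ : ∀ i, N i →ₛₗ[σ] N 0)
    (hφ : ∀ i, i < r → ∀ y : N (i + 1), φ i (α i y) = π • φ (i + 1) y)
    (hsurj : ∀ m : N 0, ∃ y : (i : ℕ) → N i, (∀ i, r < i → y i = 0) ∧
      (Finset.range (r + 1)).sum (fun i => φ i (y i)) = m)
    (hker : ∀ y : (i : ℕ) → N i, (∀ i, r < i → y i = 0) →
      (Finset.range (r + 1)).sum (fun i => φ i (y i)) = 0 →
        ∃ z : (i : ℕ) → N (i + 1), (∀ i, r ≤ i → z i = 0) ∧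
          y 0 = α 0 (z 0) ∧ ∀ i, y (i + 1) = α (i + 1) (z (i + 1)) - π • z i)
    (z : (i : ℕ) → N (i + 1)) (hz : ∀ i, r ≤ i → z i = 0) (h0 : α 0 (z 0) = 0)
    (h1 : ∀ i, α (i + 1) (z (i + 1)) - π • z i = 0) : z = 0 := by
  -- the modules
  let T : Submodule R (Π i, N i) := Sup (R := R) N (r + 1)
  let S : Submodule R (Π i, N (i + 1)) := Sup (R := R) (fun i => N (i + 1)) r
  have hST : ∀ x ∈ S, iota0 π α x ∈ T := by
    intro x hx i hi
    obtain ⟨j, rfl⟩ : ∃ j, i = j + 1 := ⟨i - 1, by omega⟩
    have hj : r ≤ j := by omega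
    simp [hx j hj, hx (j + 1) (by omega)]
  let a : S →ₗ[R] T := (iota0 π α).restrict hST
  let b : T →ₛₗ[σ] N 0 := (Phi0 r φ).domRestrict T
  have hb : Function.Surjective b := by
    intro m
    obtain ⟨y, hy, hym⟩ := hsurj m
    refine ⟨⟨y, fun i hi => hy i (by omega)⟩, ?_⟩
    simp only [b, LinearMap.domRestrict_apply, Phi0_apply]
    exact hym
  have hex : LinearMap.ker b = LinearMap.range a := by
    ext ⟨y, hy⟩
    simp only [LinearMap.mem_ker, LinearMap.mem_range, b, LinearMap.domRestrict_apply,
      Phi0_apply]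
    constructor
    · intro hy0
      obtain ⟨w, hw, hw0, hw1⟩ := hker y (fun i hi => hy i (by omega)) hy0
      refine ⟨⟨w, hw⟩, ?_⟩
      apply Subtype.ext
      funext i
      cases i with
      | zero => simp [a, hw0]
      | succ i => simp [a, hw1 i]
    · rintro ⟨⟨w, hw⟩, hwy⟩
      have hwy' : iotaFun π α w = y := by
        have := congrArg Subtype.val hwy
        simpa [a] using this
      rw [← hwy']
      exact Phi0_iota π hπ r α φ hφ w hw
  have hlen : Module.length R T = Module.length R S + Module.length R (N 0) := by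
    rw [length_Sup, length_Sup, Finset.sum_range_succ']
  have hfin : Module.length R T ≠ ⊤ := by
    rw [length_Sup, ENat.sum_ne_top]
    intro i _
    exact Module.length_ne_top_iff.mpr (hfl i)
  have hinj := injective_of_length a b hb hex hlen hfin
  have hzS : z ∈ S := hz
  have h00 : a ⟨z, hzS⟩ = a 0 := by
    rw [map_zero]
    apply Subtype.ext
    funext i
    cases i with
    | zero => simp [a, h0]
    | succ i => simp [a, h1 i]
  have := hinj h00
  exact congrArg Subtype.val this

end Main

end Groth.Agent.Lib.Helper92.FonLaf
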