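import Groth.Agent.Lib.Helper92.FonLaf1

set_option linter.unusedSectionVars false
set_option linter.unusedSimpArgs false
set_option linter.unusedVariables false

/-!
# Fontaine–Laffaille linear algebra, part 2: reduction modulo `c` and purity
-/

namespace Groth.Agent.Lib.Helper92.FonLaf

open Module

section Quot
variable {R : Type*} [CommRing R] {σ : R →+* R} [RingHomSurjective σ] (π : R)

/-- The submodule of multiples of `c`. -/
abbrev cSub (c : R) (M : Type*) [AddCommGroup M] [Module R M] : Submodule R M :=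
  LinearMap.range (LinearMap.lsmul R M c)

theorem mem_cSub {c : R} {M : Type*} [AddCommGroup M] [Module R M] {x : M} :
    x ∈ cSub c M ↔ ∃ w, x = c • w := by
  simp [cSub, LinearMap.mem_range, eq_comm]

theorem smul_mem_cSub (c : R) {M : Type*} [AddCommGroup M] [Module R M] (w : M) :
    c • w ∈ cSub c M := mem_cSub.mpr ⟨w, rfl⟩

variable {N : ℕ → Type*} [∀ i, AddCommGroup (N i)] [∀ i, Module R (N i)]

/-- The quotient family. -/
abbrev QN (c : R) (N : ℕ → Type*) [∀ i, AddCommGroup (N i)] [∀ i, Module R (N i)] (j : ℕ) :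
    Type _ := N j ⧸ cSub c (N j)

/-- Induced transition maps. -/
def αQ (c : R) (α : ∀ i, N (i + 1) →ₗ[R] N i) (j : ℕ) : QN c N (j + 1) →ₗ[R] QN c N j :=
  Submodule.mapQ (cSub c (N (j + 1))) (cSub c (N j)) (α j) (by
    rintro _ ⟨y, rfl⟩
    exact ⟨α j y, by simp⟩)

@[simp] theorem αQ_mk (c : R) (α : ∀ i, N (i + 1) →ₗ[R] N i) (j : ℕ) (x : N (j + 1)) :
    αQ c α j (Submodule.Quotient.mk x) = Submodule.Quotient.mk (α j x) := rfl

/-- Induced Frobenius maps. -/
def φQ (c : R) (hc : σ c = c) (φ : ∀ i, N i →ₛₗ[σ] N 0) (j : ℕ) :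
    QN c N j →ₛₗ[σ] QN c N 0 :=
  Submodule.mapQ (cSub c (N j)) (cSub c (N 0)) (φ j) (by
    rintro _ ⟨y, rfl⟩
    exact ⟨φ j y, by simp [hc]⟩)

@[simp] theorem φQ_mk (c : R) (hc : σ c = c) (φ : ∀ i, N i →ₛₗ[σ] N 0) (j : ℕ) (x : N j) :
    φQ c hc φ j (Submodule.Quotient.mk x) = Submodule.Quotient.mk (φ j x) := rfl

theorem key_step (hπ : σ π = π) (c : R) (hc : σ c = c)
    (hfl : ∀ i, IsFiniteLength R (N i)) (r : ℕ)
    (α : ∀ i, N (i + 1) →ₗ[R] N i) (φ : ∀ i, N i →ₛₗ[σ] N 0)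
    (hφ : ∀ i, i < r → ∀ y : N (i + 1), φ i (α i y) = π • φ (i + 1) y)
    (hsurj : ∀ m : N 0, ∃ y : (i : ℕ) → N i, (∀ i, r < i → y i = 0) ∧
      (Finset.range (r + 1)).sum (fun i => φ i (y i)) = m)
    (hker : ∀ y : (i : ℕ) → N i, (∀ i, r < i → y i = 0) →
      (Finset.range (r + 1)).sum (fun i => φ i (y i)) = 0 →
        ∃ z : (i : ℕ) → N (i + 1), (∀ i, r ≤ i → z i = 0) ∧
          y 0 = α 0 (z 0) ∧ ∀ i, y (i + 1) = α (i + 1) (z (i + 1)) - π • z i)
    (i : ℕ) (hi : i < r) (x : N (i + 1)) (hx1 : ∃ w, α i x = c • w)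
    (hx2 : ∃ w, π • x = c • w) : ∃ w, x = c • w := by
  classical
  have hfl' : ∀ j, IsFiniteLength R (QN c N j) := fun j =>
    IsFiniteLength.of_surjective (hfl j) (Submodule.mkQ_surjective (cSub c (N j)))
  have hφ' : ∀ j, j < r → ∀ y : QN c N (j + 1),
      φQ c hc φ j (αQ c α j y) = π • φQ c hc φ (j + 1) y := by
    intro j hj y
    obtain ⟨y, rfl⟩ := Submodule.Quotient.mk_surjective _ y
    rw [αQ_mk, φQ_mk, φQ_mk, hφ j hj, Submodule.Quotient.mk_smul]
  have hsum : ∀ y : (j : ℕ) → N j,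
      (Finset.range (r + 1)).sum (fun j => φQ c hc φ j (Submodule.Quotient.mk (y j))) =
        Submodule.Quotient.mk ((Finset.range (r + 1)).sum (fun j => φ j (y j))) := by
    intro y
    have := map_sum (Submodule.mkQ (cSub c (N 0))) (fun j => φ j (y j)) (Finset.range (r + 1))
    simp only [Submodule.mkQ_apply] at this
    rw [this]
    rfl
  have hsurj' : ∀ m : QN c N 0, ∃ y : (j : ℕ) → QN c N j, (∀ j, r < j → y j = 0) ∧
      (Finset.range (r + 1)).sum (fun j => φQ c hc φ j (y j)) = m := by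
    intro m
    obtain ⟨m, rfl⟩ := Submodule.Quotient.mk_surjective _ m
    obtain ⟨y, hy, hym⟩ := hsurj m
    refine ⟨fun j => Submodule.Quotient.mk (y j), ?_, ?_⟩
    · intro j hj
      beta_reduce
      rw [hy j hj]; rfl
    · rw [hsum, hym]
  have hker' : ∀ y : (j : ℕ) → QN c N j, (∀ j, r < j → y j = 0) →
      (Finset.range (r + 1)).sum (fun j => φQ c hc φ j (y j)) = 0 →
        ∃ z : (j : ℕ) → QN c N (j + 1), (∀ j, r ≤ j → z j = 0) ∧
          y 0 = αQ c α 0 (z 0) ∧ ∀ j, y (j + 1) = αQ c α (j + 1) (z (j + 1)) - π • z j := by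
    intro y' hy' hsum0
    have hlift : ∀ j, ∃ yj : N j, Submodule.Quotient.mk yj = y' j ∧ (r < j → yj = 0) := by
      intro j
      by_cases hj : r < j
      · exact ⟨0, by rw [hy' j hj]; rfl, fun _ => rfl⟩
      · obtain ⟨yj, h⟩ := Submodule.Quotient.mk_surjective _ (y' j)
        exact ⟨yj, h, fun h' => absurd h' hj⟩
    choose y hy1 hy2 using hlift
    have hmem : (Finset.range (r + 1)).sum (fun j => φ j (y j)) ∈ cSub c (N 0) := by
      rw [← Submodule.Quotient.mk_eq_zero, ← hsum]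
      simp only [hy1]
      exact hsum0
    obtain ⟨m, hm⟩ := mem_cSub.mp hmem
    obtain ⟨w, hw, hwm⟩ := hsurj m
    have h0 : (Finset.range (r + 1)).sum (fun j => φ j ((y - c • w) j)) = 0 := by
      simp only [Pi.sub_apply, Pi.smul_apply, map_sub, LinearMap.map_smulₛₗ, hc,
        Finset.sum_sub_distrib, ← Finset.smul_sum, hwm, hm, sub_self]
    obtain ⟨z, hz, hz0, hz1⟩ := hker (y - c • w) (by
      intro j hj
      simp [hy2 j hj, hw j hj]) h0
    have hmk : ∀ j, (Submodule.Quotient.mk ((y - c • w) j) : QN c N j) = y' j := by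
      intro j
      rw [Pi.sub_apply, Pi.smul_apply, Submodule.Quotient.mk_sub, hy1,
        (Submodule.Quotient.mk_eq_zero _).mpr (smul_mem_cSub c (w j)), sub_zero]
    refine ⟨fun j => Submodule.Quotient.mk (z j), ?_, ?_, ?_⟩
    · intro j hj
      beta_reduce
      rw [hz j hj]; rfl
    · rw [← hmk 0, hz0, αQ_mk]
    · intro j
      rw [← hmk (j + 1), hz1 j, αQ_mk, Submodule.Quotient.mk_sub, Submodule.Quotient.mk_smul]
  -- the test vector
  let z' : (j : ℕ) → QN c N (j + 1) := Pi.single i (Submodule.Quotient.mk x)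
  have hz'i : z' i = Submodule.Quotient.mk x := Pi.single_eq_same _ _
  have hz'ne : ∀ j, j ≠ i → z' j = 0 := fun j hj => Pi.single_eq_of_ne hj _
  have hz' : ∀ j, r ≤ j → z' j = 0 := fun j hj => hz'ne j (by omega)
  have h0' : αQ c α 0 (z' 0) = 0 := by
    by_cases h : 0 = i
    · subst h
      rw [hz'i, αQ_mk, Submodule.Quotient.mk_eq_zero]
      exact mem_cSub.mpr hx1
    · rw [hz'ne 0 h, map_zero]
  have h1' : ∀ j, αQ c α (j + 1) (z' (j + 1)) - π • z' j = 0 := by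
    intro j
    by_cases h1 : j + 1 = i
    · subst h1
      rw [hz'i, hz'ne j (by omega), αQ_mk, smul_zero, sub_zero, Submodule.Quotient.mk_eq_zero]
      exact mem_cSub.mpr hx1
    · by_cases h2 : j = i
      · subst h2
        rw [hz'i, hz'ne (j + 1) h1, map_zero, zero_sub, neg_eq_zero,
          ← Submodule.Quotient.mk_smul, Submodule.Quotient.mk_eq_zero]
        exact mem_cSub.mpr hx2
      · rw [hz'ne j h2, hz'ne (j + 1) h1, map_zero, smul_zero, sub_zero]
  have hzero := iota_injective (N := QN c N) π hπ hfl' r (αQ c α) (φQ c hc φ) hφ' hsurj' hker'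
    z' hz' h0' h1'
  have : z' i = 0 := by rw [hzero]; rfl
  rw [hz'i, Submodule.Quotient.mk_eq_zero] at this
  exact mem_cSub.mp this

/-- Purity: `α i x ∈ π^n N_i` implies `x ∈ π^n N_{i+1}`. -/
theorem purity (hπ : σ π = π)
    (hfl : ∀ i, IsFiniteLength R (N i)) (r : ℕ)
    (α : ∀ i, N (i + 1) →ₗ[R] N i) (φ : ∀ i, N i →ₛₗ[σ] N 0)
    (hφ : ∀ i, i < r → ∀ y : N (i + 1), φ i (α i y) = π • φ (i + 1) y)
    (hsurj : ∀ m : N 0, ∃ y : (i : ℕ) → N i, (∀ i, r < i → y i = 0) ∧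
      (Finset.range (r + 1)).sum (fun i => φ i (y i)) = m)
    (hker : ∀ y : (i : ℕ) → N i, (∀ i, r < i → y i = 0) →
      (Finset.range (r + 1)).sum (fun i => φ i (y i)) = 0 →
        ∃ z : (i : ℕ) → N (i + 1), (∀ i, r ≤ i → z i = 0) ∧
          y 0 = α 0 (z 0) ∧ ∀ i, y (i + 1) = α (i + 1) (z (i + 1)) - π • z i)
    (i : ℕ) (hi : i < r) (n : ℕ) (x : N (i + 1)) (hx : ∃ w, α i x = π ^ n • w) :
    ∃ w, x = π ^ n • w := by
  induction n with
  | zero => exact ⟨x, by simp⟩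
  | succ n ih =>
    obtain ⟨w, hw⟩ := hx
    obtain ⟨w', hw'⟩ := ih ⟨π • w, by rw [hw, pow_succ, mul_smul]⟩
    refine key_step π hπ (π ^ (n + 1)) (by rw [map_pow, hπ]) hfl r α φ hφ hsurj hker i hi x
      ⟨w, hw⟩ ⟨w', ?_⟩
    rw [hw', pow_succ, mul_smul, smul_comm]

end Quot

end Groth.Agent.Lib.Helper92.FonLaf
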