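import Groth.Agent.Lib.Helper92.FonLaf2

set_option linter.unusedSectionVars false
set_option linter.unusedSimpArgs false
set_option linter.unusedVariables false

/-!
# Fontaine–Laffaille linear algebra, part 3: pure submodules over a PID and the final statement
-/

namespace Groth.Agent.Lib.Helper92.FonLaf

open Module DirectSum

section PID
universe u v
variable {R : Type u} [CommRing R] [IsDomain R] [IsPrincipalIdealRing R]
variable {M : Type v} [AddCommGroup M] [Module R M] [Module.Finite R M]

theorem exists_isCompl_of_pure (hM : Module.IsTorsion R M) (P : Submodule R M)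
    (hpure : ∀ (a : R) (y : M), y ∈ P → (∃ w : M, y = a • w) → ∃ w' ∈ P, y = a • w') :
    ∃ Q : Submodule R M, IsCompl P Q := by
  classical
  have hT : Module.IsTorsion R (M ⧸ P) := by
    intro x
    obtain ⟨x, rfl⟩ := Submodule.Quotient.mk_surjective _ x
    obtain ⟨a, ha⟩ := @hM x
    refine ⟨a, ?_⟩
    rw [← Submodule.Quotient.mk_smul, ha]
    rfl
  obtain ⟨ι, _, q, hq, e, ⟨E⟩⟩ := Module.equiv_directSum_of_isTorsion hT
  have hlift : ∀ j : ι, ∃ y : M, (Submodule.Quotient.mk y : M ⧸ P) =
      E.symm (DirectSum.lof R ι (fun i => R ⧸ R ∙ q i ^ e i) j (Submodule.Quotient.mk 1)) ∧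
      (q j ^ e j) • y = 0 := by
    intro j
    obtain ⟨y, hy⟩ := Submodule.Quotient.mk_surjective P
      (E.symm (DirectSum.lof R ι (fun i => R ⧸ R ∙ q i ^ e i) j (Submodule.Quotient.mk 1)))
    have h1 : (q j ^ e j) • y ∈ P := by
      rw [← Submodule.Quotient.mk_eq_zero, Submodule.Quotient.mk_smul, hy, ← map_smul,
        ← map_smul, ← Submodule.Quotient.mk_smul]
      have : (Submodule.Quotient.mk ((q j ^ e j) • (1 : R)) : R ⧸ R ∙ q j ^ e j) = 0 := by
        rw [Submodule.Quotient.mk_eq_zero, smul_eq_mul, mul_one]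
        exact Submodule.mem_span_singleton_self _
      rw [this, map_zero, map_zero]
    obtain ⟨w', hw'P, hw'⟩ := hpure (q j ^ e j) _ h1 ⟨y, rfl⟩
    refine ⟨y - w', ?_, ?_⟩
    · rw [Submodule.Quotient.mk_sub, (Submodule.Quotient.mk_eq_zero P).mpr hw'P, sub_zero, hy]
    · rw [smul_sub, hw', sub_self]
  choose y hy1 hy2 using hlift
  let s : (⨁ j, R ⧸ R ∙ q j ^ e j) →ₗ[R] M :=
    DirectSum.toModule R ι M (fun j => Submodule.liftQ _ (LinearMap.toSpanSingleton R M (y j)) (by
      rw [Submodule.span_singleton_le_iff_mem, LinearMap.mem_ker,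
        LinearMap.toSpanSingleton_apply]
      exact hy2 j))
  have hs : P.mkQ ∘ₗ s = E.symm.toLinearMap := by
    apply DirectSum.linearMap_ext
    intro j
    apply Submodule.linearMap_qext
    apply LinearMap.ext_ring
    simp [s]
    have h1 : (1 : R ⧸ R ∙ q j ^ e j) = Submodule.Quotient.mk 1 := rfl
    rw [h1, Submodule.liftQ_apply, LinearMap.toSpanSingleton_apply, one_smul, hy1]
  let sec : (M ⧸ P) →ₗ[R] M := s ∘ₗ E.toLinearMap
  have hsec : ∀ x, (Submodule.Quotient.mk (sec x) : M ⧸ P) = x := by
    intro x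
    have := LinearMap.congr_fun hs (E x)
    simpa [sec] using this
  refine ⟨LinearMap.range sec, ?_⟩
  constructor
  · rw [Submodule.disjoint_def]
    rintro x hxP ⟨t, rfl⟩
    have : t = 0 := by
      rw [← hsec t]
      exact (Submodule.Quotient.mk_eq_zero P).mpr hxP
    rw [this, map_zero]
  · rw [codisjoint_iff, eq_top_iff]
    intro x _
    have : x = (x - sec (Submodule.Quotient.mk x)) + sec (Submodule.Quotient.mk x) := by abel
    rw [this]
    refine Submodule.add_mem_sup ?_ ⟨_, rfl⟩
    rw [← Submodule.Quotient.mk_eq_zero P, Submodule.Quotient.mk_sub, hsec, sub_self]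

end PID

theorem isTorsion_of_isArtinian {R : Type*} [CommRing R] [IsDomain R] (hR : ¬ IsField R)
    {M : Type*} [AddCommGroup M] [Module R M] [IsArtinian R M] : Module.IsTorsion R M := by
  intro x
  by_contra h
  push Not at h
  have hinj : Function.Injective (LinearMap.toSpanSingleton R M x) := by
    rw [injective_iff_map_eq_zero]
    intro a ha
    by_contra ha0
    exact h ⟨a, mem_nonZeroDivisors_of_ne_zero ha0⟩ (by simpa using ha)
  haveI : IsArtinian R R := isArtinian_of_injective _ hinj
  exact hR (IsArtinianRing.isField_of_isDomain R)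

section Witt
universe u v

theorem final (p : ℕ) [Fact p.Prime]
    (k : Type u) [Field k] [CharP k p] [PerfectRing k p] (r : ℕ)
    (N : ℕ → Type v) [∀ i, AddCommGroup (N i)] [∀ i, Module (WittVector p k) (N i)]
    (hfl : ∀ i, IsFiniteLength (WittVector p k) (N i))
    (α : ∀ i, N (i + 1) →ₗ[WittVector p k] N i)
    (φ : ∀ i, N i →ₛₗ[(WittVector.frobenius : WittVector p k →+* WittVector p k)] N 0)
    (hφ : ∀ i, i < r → ∀ y : N (i + 1), φ i (α i y) = (p : WittVector p k) • φ (i + 1) y)
    (hsurj : ∀ m : N 0, ∃ y : (i : ℕ) → N i, (∀ i, r < i → y i = 0) ∧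
      (Finset.range (r + 1)).sum (fun i => φ i (y i)) = m)
    (hker : ∀ y : (i : ℕ) → N i, (∀ i, r < i → y i = 0) →
      (Finset.range (r + 1)).sum (fun i => φ i (y i)) = 0 →
        ∃ z : (i : ℕ) → N (i + 1), (∀ i, r ≤ i → z i = 0) ∧
          y 0 = α 0 (z 0) ∧ ∀ i, y (i + 1) = α (i + 1) (z (i + 1)) - (p : WittVector p k) • z i)
    (i : ℕ) (hi : i < r) :
    Function.Injective (α i) ∧
      ∃ Q : Submodule (WittVector p k) (N i), IsCompl (LinearMap.range (α i)) Q := by
  haveI : RingHomSurjective (WittVector.frobenius : WittVector p k →+* WittVector p k) :=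
    ⟨(WittVector.frobenius_bijective p k).surjective⟩
  have hπ : (WittVector.frobenius : WittVector p k →+* WittVector p k) (p : WittVector p k) =
      (p : WittVector p k) := map_natCast _ _
  have hP := fun n x hx => purity (p : WittVector p k) hπ hfl r α φ hφ hsurj hker i hi n x hx
  have hfin : ∀ j, Module.Finite (WittVector p k) (N j) := fun j => by
    have := (isFiniteLength_iff_isNoetherian_isArtinian.mp (hfl j)).1
    infer_instance
  have hart : ∀ j, IsArtinian (WittVector p k) (N j) := fun j =>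
    (isFiniteLength_iff_isNoetherian_isArtinian.mp (hfl j)).2
  constructor
  · rw [injective_iff_map_eq_zero]
    intro x hx
    have hI : Ideal.span {(p : WittVector p k)} ≠ ⊤ := by
      rw [Ne, Ideal.span_singleton_eq_top]
      exact (WittVector.irreducible p).not_isUnit
    have hkr := Ideal.iInf_pow_smul_eq_bot_of_isLocalRing (R := WittVector p k)
      (M := N (i + 1)) (Ideal.span {(p : WittVector p k)}) hI
    have hmem : x ∈ (⨅ n : ℕ, Ideal.span {(p : WittVector p k)} ^ n • ⊤ :
        Submodule (WittVector p k) (N (i + 1))) := by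
      rw [Submodule.mem_iInf]
      intro n
      obtain ⟨w, hw⟩ := hP n x ⟨0, by rw [hx, smul_zero]⟩
      rw [hw]
      exact Submodule.smul_mem_smul (Ideal.pow_mem_pow (Ideal.mem_span_singleton_self _) n)
        Submodule.mem_top
    rw [hkr] at hmem
    exact (Submodule.mem_bot _).mp hmem
  · haveI := hfin i
    haveI := hart i
    have htors : Module.IsTorsion (WittVector p k) (N i) :=
      isTorsion_of_isArtinian (IsDiscreteValuationRing.not_isField (WittVector p k))
    refine exists_isCompl_of_pure htors (LinearMap.range (α i)) ?_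
    rintro a y ⟨x, rfl⟩ ⟨w, hw⟩
    by_cases ha : a = 0
    · refine ⟨0, Submodule.zero_mem _, ?_⟩
      rw [hw, ha, zero_smul, smul_zero]
    · obtain ⟨m, b, hab⟩ := WittVector.exists_eq_pow_p_mul' a ha
      obtain ⟨x', hx'⟩ := hP m x ⟨(b : WittVector p k) • w, by rw [hw, hab, mul_smul]⟩
      refine ⟨α i (((b⁻¹ : (WittVector p k)ˣ) : WittVector p k) • x'), ⟨_, rfl⟩, ?_⟩
      rw [hx', hab]
      simp only [map_smul, smul_smul, mul_assoc, Units.mul_inv, mul_one]

end Witt

end Groth.Agent.Lib.Helper92.FonLaf
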