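import Mathlib

set_option linter.unusedSectionVars false
set_option linter.unusedSimpArgs false
set_option linter.unusedVariables false

/-!
# Hasse–Davenport, part 1: the multiplicative function `λ` on monic polynomials and its sums
-/

namespace Groth.Agent.Lib.Helper92.HD

open Polynomial Finset

variable {F : Type*} [Field F] {R : Type*} [CommRing R] (χ : MulChar F R) (ψ : AddChar F R)

/-- The function `λ(f) = χ((-1)^d f(0)) ψ(-nextCoeff f)`. -/
noncomputable def lam (f : F[X]) : R := χ ((-1) ^ f.natDegree * f.coeff 0) * ψ (-f.nextCoeff)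

theorem lam_one : lam χ ψ (1 : F[X]) = 1 := by
  simp [lam, nextCoeff]

theorem lam_mul {f g : F[X]} (hf : f.Monic) (hg : g.Monic) :
    lam χ ψ (f * g) = lam χ ψ f * lam χ ψ g := by
  unfold lam
  rw [hf.natDegree_mul hg, mul_coeff_zero, Monic.nextCoeff_mul hf hg, neg_add,
    AddChar.map_add_eq_mul, pow_add]
  have : (-1 : F) ^ f.natDegree * (-1) ^ g.natDegree * (f.coeff 0 * g.coeff 0) =
      ((-1) ^ f.natDegree * f.coeff 0) * ((-1) ^ g.natDegree * g.coeff 0) := by ring
  rw [this, map_mul]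
  ring

theorem lam_pow {f : F[X]} (hf : f.Monic) (k : ℕ) : lam χ ψ (f ^ k) = lam χ ψ f ^ k := by
  induction k with
  | zero => simp [lam_one]
  | succ k ih => rw [pow_succ, lam_mul χ ψ (hf.pow k) hf, ih, pow_succ]

theorem lam_X_sub_C (a : F) : lam χ ψ (X - C a) = χ a * ψ a := by
  unfold lam
  rw [natDegree_X_sub_C, nextCoeff_X_sub_C]
  simp

variable [Fintype F]

theorem finite_natDegree_le (d : ℕ) : {f : F[X] | f.natDegree ≤ d}.Finite := by
  classical
  refine Set.Finite.subset
    (Set.finite_range (fun c : Fin (d + 1) → F => ∑ i : Fin (d + 1), monomial (i : ℕ) (c i))) ?_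
  intro f hf
  refine ⟨fun i => f.coeff i, ?_⟩
  have := (as_sum_range' f (d + 1) (Nat.lt_succ_of_le hf)).symm
  show ∑ i : Fin (d + 1), monomial (i : ℕ) (f.coeff i) = f
  rw [Fin.sum_univ_eq_sum_range (fun i => monomial i (f.coeff i)) (d + 1)]
  exact this

/-- Monic polynomials of degree exactly `d`. -/
noncomputable def mon (F : Type*) [Field F] [Fintype F] (d : ℕ) : Finset F[X] :=
  ((finite_natDegree_le (F := F) d).subset
    (fun f (hf : f ∈ {f : F[X] | f.Monic ∧ f.natDegree = d}) => le_of_eq hf.2)).toFinset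

@[simp] theorem mem_mon {d : ℕ} {f : F[X]} : f ∈ mon F d ↔ f.Monic ∧ f.natDegree = d := by
  simp [mon]

/-- The sums `Λ_d`. -/
noncomputable def Lam (d : ℕ) : R := ∑ f ∈ mon F d, lam χ ψ f

theorem Lam_zero : Lam χ ψ 0 = 1 := by
  have : mon F 0 = {1} := by
    ext f
    simp only [mem_mon, Finset.mem_singleton]
    constructor
    · rintro ⟨h1, h2⟩
      exact h1.natDegree_eq_zero.mp h2
    · rintro rfl
      exact ⟨monic_one, natDegree_one⟩
  rw [Lam, this, Finset.sum_singleton, lam_one]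

theorem Lam_one : Lam χ ψ 1 = ∑ a : F, χ a * ψ a := by
  classical
  rw [Lam]
  symm
  refine Finset.sum_bij (fun a _ => X - C a) ?_ ?_ ?_ ?_
  · intro a _
    rw [mem_mon]
    exact ⟨monic_X_sub_C a, natDegree_X_sub_C a⟩
  · intro a _ b _ h
    have := congrArg (fun p => p.coeff 0) h
    simpa using this
  · intro f hf
    rw [mem_mon] at hf
    refine ⟨-f.coeff 0, Finset.mem_univ _, ?_⟩
    have h1 := eq_X_add_C_of_natDegree_le_one (le_of_eq hf.2)
    have h2 : f.coeff 1 = 1 := by
      have := hf.1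
      rw [Monic, leadingCoeff, hf.2] at this
      exact this
    rw [h2] at h1
    rw [map_neg, sub_neg_eq_add]
    conv_rhs => rw [h1]
    simp
  · intro a _
    rw [lam_X_sub_C]

theorem Lam_eq_zero [IsDomain R] (hψ : ψ ≠ 1) {d : ℕ} (hd : 2 ≤ d) : Lam χ ψ d = 0 := by
  classical
  obtain ⟨t, ht⟩ := AddChar.ne_one_iff.mp hψ
  -- shift by `-t`
  have hshift : ∀ (s : F) (f : F[X]), f ∈ mon F d → f + C s * X ^ (d - 1) ∈ mon F d := by
    intro s f hf
    rw [mem_mon] at hf ⊢
    have hdeg : degree (C s * X ^ (d - 1)) < degree f := by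
      rw [degree_eq_natDegree hf.1.ne_zero, hf.2]
      refine lt_of_le_of_lt (degree_C_mul_X_pow_le _ _) ?_
      exact_mod_cast (by omega : d - 1 < d)
    refine ⟨hf.1.add_of_left hdeg, ?_⟩
    rw [natDegree_add_eq_left_of_degree_lt hdeg, hf.2]
  have hlam : ∀ (s : F) (f : F[X]), f ∈ mon F d →
      lam χ ψ (f + C s * X ^ (d - 1)) = ψ (-s) * lam χ ψ f := by
    intro s f hf
    have hf' := hshift s f hf
    rw [mem_mon] at hf hf'
    unfold lam
    rw [hf'.2, hf.2, nextCoeff_of_natDegree_pos (by omega), nextCoeff_of_natDegree_pos (by omega),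
      hf'.2, hf.2]
    have h0 : (f + C s * X ^ (d - 1)).coeff 0 = f.coeff 0 := by
      rw [coeff_add, coeff_C_mul, coeff_X_pow, if_neg (by omega), mul_zero, add_zero]
    have h1 : (f + C s * X ^ (d - 1)).coeff (d - 1) = f.coeff (d - 1) + s := by
      rw [coeff_add, coeff_C_mul, coeff_X_pow, if_pos rfl, mul_one]
    rw [h0, h1, neg_add, AddChar.map_add_eq_mul]
    ring
  have hsum : Lam χ ψ d = ψ t * Lam χ ψ d := by
    unfold Lam
    rw [Finset.mul_sum]
    refine Finset.sum_nbij' (fun f => f + C t * X ^ (d - 1)) (fun f => f + C (-t) * X ^ (d - 1))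
      (fun f hf => hshift t f hf) (fun f hf => hshift (-t) f hf) ?_ ?_ ?_
    · intro f _
      simp
    · intro f _
      simp
    · intro f hf
      rw [hlam t f hf, ← mul_assoc, ← AddChar.map_add_eq_mul]
      simp
  have : (1 - ψ t) * Lam χ ψ d = 0 := by
    rw [sub_mul, one_mul, ← hsum, sub_self]
  rcases mul_eq_zero.mp this with h | h
  · exact absurd (sub_eq_zero.mp h).symm ht
  · exact h

end Groth.Agent.Lib.Helper92.HD
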