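import Groth.Agent.Lib.Helper92.HD1

set_option linter.unusedSectionVars false
set_option linter.unusedSimpArgs false
set_option linter.unusedVariables false

/-!
# Hasse–Davenport, part 2: the Newton-type recursion
-/

namespace Groth.Agent.Lib.Helper92.HD

open Polynomial Finset UniqueFactorizationMonoid

variable {F : Type*} [Field F] [Fintype F] {R : Type*} [CommRing R] (χ : MulChar F R)
  (ψ : AddChar F R)

/-- Monic polynomials of degree at most `N`. -/
noncomputable def monLE (F : Type*) [Field F] [Fintype F] (N : ℕ) : Finset F[X] :=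
  ((finite_natDegree_le (F := F) N).subset
    (fun f (hf : f ∈ {f : F[X] | f.Monic ∧ f.natDegree ≤ N}) => hf.2)).toFinset

@[simp] theorem mem_monLE {N : ℕ} {f : F[X]} : f ∈ monLE F N ↔ f.Monic ∧ f.natDegree ≤ N := by
  simp [monLE]

open Classical in
/-- Monic irreducible polynomials of degree at most `N`. -/
noncomputable def irrLE (F : Type*) [Field F] [Fintype F] (N : ℕ) : Finset F[X] :=
  (monLE F N).filter Irreducible

theorem mem_irrLE {N : ℕ} {f : F[X]} :
    f ∈ irrLE F N ↔ f.Monic ∧ f.natDegree ≤ N ∧ Irreducible f := by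
  classical
  simp [irrLE, and_assoc]

open Classical in
/-- Step 1: the degree as a count of prime power divisors. -/
theorem natDegree_eq_sum {N : ℕ} {f : F[X]} (hf : f ∈ mon F N) :
    N = ∑ P ∈ irrLE F N, ∑ k ∈ range (N + 1),
      if (1 ≤ k ∧ P ^ k ∣ f) then P.natDegree else 0 := by
  rw [mem_mon] at hf
  have hf0 : f ≠ 0 := hf.1.ne_zero
  set nf := normalizedFactors f with hnf
  have hmon : ∀ P ∈ nf, P.Monic := by
    intro P hP
    have h1 := normalize_normalized_factor P hP
    rw [← h1]
    exact monic_normalize (irreducible_of_normalized_factor P hP).ne_zero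
  have hprod : nf.prod = f := by
    apply eq_of_monic_of_associated _ hf.1 (prod_normalizedFactors hf0)
    have := monic_multiset_prod_of_monic nf id hmon
    simpa using this
  have hdeg : N = (nf.map natDegree).sum := by
    rw [← natDegree_multiset_prod_of_monic _ hmon, hprod, hf.2]
  have hdegP : ∀ P ∈ nf, P.natDegree ≤ N := by
    intro P hP
    rw [← hf.2]
    exact natDegree_le_of_dvd (dvd_of_mem_normalizedFactors hP) hf0
  have hsub : nf.toFinset ⊆ irrLE F N := by
    intro P hP
    rw [Multiset.mem_toFinset] at hP
    rw [mem_irrLE]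
    exact ⟨hmon P hP, hdegP P hP, irreducible_of_normalized_factor P hP⟩
  -- termwise identity
  have hterm : ∀ P ∈ irrLE F N, (∑ k ∈ range (N + 1),
      if (1 ≤ k ∧ P ^ k ∣ f) then P.natDegree else 0) = nf.count P * P.natDegree := by
    intro P hP
    rw [mem_irrLE] at hP
    obtain ⟨hPm, hPd, hPi⟩ := hP
    have hnorm : normalize P = P := hPm.normalize_eq_self
    have hdvd : ∀ k, P ^ k ∣ f ↔ k ≤ nf.count P := by
      intro k
      rw [pow_dvd_iff_le_emultiplicity, emultiplicity_eq_count_normalizedFactors hPi hf0, hnorm]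
      exact Nat.cast_le
    have hPdeg : 1 ≤ P.natDegree := by
      rcases Nat.eq_zero_or_pos P.natDegree with h | h
      · exfalso
        have := hPm.natDegree_eq_zero.mp h
        exact hPi.not_isUnit (this ▸ isUnit_one)
      · exact h
    have hcount : nf.count P ≤ N := by
      have h1 : P ^ (nf.count P) ∣ f := (hdvd _).mpr le_rfl
      have h2 := natDegree_le_of_dvd h1 hf0
      rw [natDegree_pow, hf.2] at h2
      calc nf.count P ≤ nf.count P * P.natDegree := Nat.le_mul_of_pos_right _ hPdeg
        _ ≤ N := h2
    simp only [hdvd]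
    rw [← Finset.sum_filter, Finset.sum_const, smul_eq_mul]
    congr 1
    have : (range (N + 1)).filter (fun k => 1 ≤ k ∧ k ≤ nf.count P) = Finset.Icc 1 (nf.count P) := by
      ext k
      simp only [Finset.mem_filter, Finset.mem_range, Finset.mem_Icc]
      omega
    rw [this, Nat.card_Icc]
    omega
  rw [Finset.sum_congr rfl hterm]
  refine hdeg.trans ?_
  rw [Finset.sum_multiset_map_count]
  simp only [smul_eq_mul]
  apply Finset.sum_subset hsub
  intro P _ hP
  rw [Multiset.mem_toFinset] at hP
  rw [Multiset.count_eq_zero_of_notMem hP, zero_mul]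

end Groth.Agent.Lib.Helper92.HD
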