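import Groth.Agent.Lib.Helper92.HD2

set_option linter.unusedSectionVars false
set_option linter.unusedSimpArgs false
set_option linter.unusedVariables false

/-!
# Hasse–Davenport, part 3: solving the recursion
-/

namespace Groth.Agent.Lib.Helper92.HD

open Polynomial Finset

variable {F : Type*} [Field F] [Fintype F] {R : Type*} [CommRing R] (χ : MulChar F R)
  (ψ : AddChar F R)

theorem natDegree_pos_of_mem_irrLE {N : ℕ} {P : F[X]} (hP : P ∈ irrLE F N) : 1 ≤ P.natDegree := by
  rw [mem_irrLE] at hP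
  rcases Nat.eq_zero_or_pos P.natDegree with h | h
  · exfalso
    have := hP.1.natDegree_eq_zero.mp h
    exact hP.2.2.not_isUnit (this ▸ isUnit_one)
  · exact h

open Classical in
theorem sum_filter_pow_dvd {N : ℕ} {P : F[X]} (hP : P.Monic) (k : ℕ) :
    ∑ f ∈ (mon F N).filter (fun f => P ^ k ∣ f), lam χ ψ f =
      if k * P.natDegree ≤ N then lam χ ψ P ^ k * Lam χ ψ (N - k * P.natDegree) else 0 := by
  have hPk : (P ^ k).Monic := hP.pow k
  have hPkdeg : (P ^ k).natDegree = k * P.natDegree := hP.natDegree_pow k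
  split_ifs with h
  · unfold Lam
    rw [Finset.mul_sum]
    symm
    refine Finset.sum_bij (fun g _ => P ^ k * g) ?_ ?_ ?_ ?_
    · intro g hg
      rw [mem_mon] at hg
      rw [Finset.mem_filter, mem_mon]
      refine ⟨⟨hPk.mul hg.1, ?_⟩, dvd_mul_right _ _⟩
      rw [hPk.natDegree_mul hg.1, hPkdeg, hg.2]
      omega
    · intro g₁ _ g₂ _ h12
      exact mul_left_cancel₀ hPk.ne_zero h12
    · intro f hf
      rw [Finset.mem_filter, mem_mon] at hf
      obtain ⟨⟨hfm, hfd⟩, g, rfl⟩ := hf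
      have hgm : g.Monic := hPk.of_mul_monic_left hfm
      refine ⟨g, ?_, rfl⟩
      rw [mem_mon]
      refine ⟨hgm, ?_⟩
      rw [hPk.natDegree_mul hgm, hPkdeg] at hfd
      omega
    · intro g hg
      rw [mem_mon] at hg
      rw [lam_mul χ ψ hPk hg.1, lam_pow χ ψ hP]
  · apply Finset.sum_eq_zero
    intro f hf
    exfalso
    rw [Finset.mem_filter, mem_mon] at hf
    have := natDegree_le_of_dvd hf.2 hf.1.1.ne_zero
    rw [hPkdeg, hf.1.2] at this
    exact h this

open Classical in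
theorem recursion (N : ℕ) :
    (N : R) * Lam χ ψ N = ∑ P ∈ irrLE F N, ∑ k ∈ range (N + 1),
      if 1 ≤ k ∧ k * P.natDegree ≤ N then
        (P.natDegree : R) * (lam χ ψ P ^ k * Lam χ ψ (N - k * P.natDegree)) else 0 := by
  have h1 : (N : R) * Lam χ ψ N = ∑ f ∈ mon F N, (∑ P ∈ irrLE F N, ∑ k ∈ range (N + 1),
      if (1 ≤ k ∧ P ^ k ∣ f) then (P.natDegree : R) else 0) * lam χ ψ f := by
    unfold Lam
    rw [Finset.mul_sum]
    refine Finset.sum_congr rfl (fun f hf => ?_)
    congr 1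
    have := congrArg (Nat.cast : ℕ → R) (natDegree_eq_sum hf)
    rw [this]
    push_cast
    rfl
  rw [h1]
  simp only [Finset.sum_mul]
  rw [Finset.sum_comm]
  refine Finset.sum_congr rfl (fun P hP => ?_)
  rw [Finset.sum_comm]
  refine Finset.sum_congr rfl (fun k _ => ?_)
  have hPm : P.Monic := (mem_irrLE.mp hP).1
  by_cases hk : 1 ≤ k
  · have h2 : ∑ f ∈ mon F N, (if (1 ≤ k ∧ P ^ k ∣ f) then (P.natDegree : R) else 0) * lam χ ψ f =
        (P.natDegree : R) * ∑ f ∈ (mon F N).filter (fun f => P ^ k ∣ f), lam χ ψ f := by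
      rw [Finset.mul_sum, Finset.sum_filter]
      refine Finset.sum_congr rfl (fun f _ => ?_)
      by_cases hd : P ^ k ∣ f
      · simp [hk, hd]
      · simp [hk, hd]
    rw [h2, sum_filter_pow_dvd χ ψ hPm k]
    by_cases hle : k * P.natDegree ≤ N
    · simp [hk, hle]
    · simp [hk, hle]
  · have : ∀ f, (if (1 ≤ k ∧ P ^ k ∣ f) then (P.natDegree : R) else 0) = 0 := by
      intro f
      rw [if_neg (fun h => hk h.1)]
    simp [this, hk]

open Classical in
/-- The sum `S_j`, computed with auxiliary bound `N`. -/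
noncomputable def Sfun (j N : ℕ) : R :=
  ∑ P ∈ irrLE F N, ∑ k ∈ range (N + 1),
    if k * P.natDegree = j then (P.natDegree : R) * lam χ ψ P ^ k else 0

theorem irrLE_mono {j N : ℕ} (h : j ≤ N) : irrLE F j ⊆ irrLE F N := by
  intro P hP
  rw [mem_irrLE] at hP ⊢
  exact ⟨hP.1, hP.2.1.trans h, hP.2.2⟩

theorem Sfun_indep {j N : ℕ} (hj : 1 ≤ j) (h : j ≤ N) : Sfun χ ψ j N = Sfun χ ψ j j := by
  classical
  unfold Sfun
  symm
  rw [← Finset.sum_subset (irrLE_mono h)]
  · refine Finset.sum_congr rfl (fun P hP => ?_)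
    have hPd := natDegree_pos_of_mem_irrLE hP
    apply Finset.sum_subset
    · intro k hk
      rw [Finset.mem_range] at hk ⊢
      omega
    · intro k _ hk
      rw [Finset.mem_range] at hk
      rw [if_neg]
      intro hkP
      have : k ≤ k * P.natDegree := Nat.le_mul_of_pos_right _ hPd
      omega
  · intro P hP hPj
    apply Finset.sum_eq_zero
    intro k _
    rw [if_neg]
    intro hkP
    apply hPj
    rw [mem_irrLE] at hP ⊢
    refine ⟨hP.1, ?_, hP.2.2⟩
    rcases Nat.eq_zero_or_pos k with hk0 | hk0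
    · rw [hk0, zero_mul] at hkP
      omega
    · calc P.natDegree ≤ k * P.natDegree := Nat.le_mul_of_pos_left _ hk0
        _ = j := hkP

theorem Sfun_one [IsDomain R] : Sfun χ ψ 1 1 = Lam χ ψ 1 := by
  classical
  have h := recursion χ ψ (F := F) (R := R) 1
  rw [Nat.cast_one, one_mul] at h
  rw [h]
  unfold Sfun
  refine Finset.sum_congr rfl (fun P hP => ?_)
  have hPd := natDegree_pos_of_mem_irrLE hP
  have hPle : P.natDegree ≤ 1 := (mem_irrLE.mp hP).2.1
  have hP1 : P.natDegree = 1 := le_antisymm hPle hPd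
  refine Finset.sum_congr rfl (fun k hk => ?_)
  rw [Finset.mem_range] at hk
  rw [hP1, mul_one]
  interval_cases k
  · simp
  · simp [Lam_zero]

theorem Sfun_rec [IsDomain R] (hψ : ψ ≠ 1) {N : ℕ} (hN : 2 ≤ N) :
    Sfun χ ψ N N + Lam χ ψ 1 * Sfun χ ψ (N - 1) N = 0 := by
  classical
  have h := recursion χ ψ (F := F) (R := R) N
  rw [Lam_eq_zero χ ψ hψ hN, mul_zero] at h
  rw [h]
  unfold Sfun
  rw [Finset.mul_sum, ← Finset.sum_add_distrib]
  refine Finset.sum_congr rfl (fun P hP => ?_)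
  rw [Finset.mul_sum, ← Finset.sum_add_distrib]
  refine Finset.sum_congr rfl (fun k hk => ?_)
  have hPd := natDegree_pos_of_mem_irrLE hP
  set e := P.natDegree with he
  by_cases h1 : k * e = N
  · have hk1 : 1 ≤ k := by
      rcases Nat.eq_zero_or_pos k with hk0 | hk0
      · rw [hk0, zero_mul] at h1; omega
      · exact hk0
    have h2 : ¬ (k * e = N - 1) := by omega
    rw [if_pos h1, if_neg h2, if_pos ⟨hk1, le_of_eq h1⟩, h1, Nat.sub_self, Lam_zero]
    ring
  · by_cases h2 : k * e = N - 1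
    · have hk1 : 1 ≤ k := by
        rcases Nat.eq_zero_or_pos k with hk0 | hk0
        · rw [hk0, zero_mul] at h2; omega
        · exact hk0
      have h3 : N - k * e = 1 := by omega
      rw [if_neg h1, if_pos h2, if_pos ⟨hk1, by omega⟩, h3]
      ring
    · rw [if_neg h1, if_neg h2]
      by_cases h3 : 1 ≤ k ∧ k * e ≤ N
      · rw [if_pos h3, Lam_eq_zero χ ψ hψ (by omega : 2 ≤ N - k * e)]
        ring
      · rw [if_neg h3]
        ring

theorem Sfun_eq [IsDomain R] (hψ : ψ ≠ 1) (N : ℕ) (hN : 1 ≤ N) :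
    Sfun χ ψ N N = -(-(Lam χ ψ 1 : R)) ^ N := by
  induction N, hN using Nat.le_induction with
  | base => rw [Sfun_one]; ring
  | succ N hN ih =>
    have h := Sfun_rec χ ψ hψ (N := N + 1) (by omega)
    rw [Nat.add_sub_cancel, Sfun_indep χ ψ hN (Nat.le_succ N), ih] at h
    have : Sfun χ ψ (N + 1) (N + 1) = -(Lam χ ψ 1 * -(-(Lam χ ψ 1 : R)) ^ N) :=
      eq_neg_of_add_eq_zero_left h
    rw [this]
    ring

end Groth.Agent.Lib.Helper92.HD
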