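import Groth.Agent.Lib.Helper92.HD3

set_option linter.unusedSectionVars false
set_option linter.unusedSimpArgs false
set_option linter.unusedVariables false

/-!
# Hasse–Davenport, part 4: the Gauss sum over the extension as the Newton sum `S_n`
-/

namespace Groth.Agent.Lib.Helper92.HD

open Polynomial Finset IntermediateField

variable {F F' : Type*} [Field F] [Fintype F] [Field F'] [Fintype F'] [Algebra F F']
  {R : Type*} [CommRing R] (χ : MulChar F R) (ψ : AddChar F R)

theorem term_eq (α : F') :
    χ (Algebra.norm F α) * ψ (Algebra.trace F F' α) =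
      lam χ ψ (minpoly F α) ^ Module.finrank F⟮α⟯ F' := by
  have hint : IsIntegral F α := Algebra.IsIntegral.isIntegral α
  have hnorm : Algebra.norm F α =
      ((-1) ^ (minpoly F α).natDegree * (minpoly F α).coeff 0) ^ Module.finrank F⟮α⟯ F' := by
    rw [Algebra.norm_eq_norm_adjoin F α]
    congr 1
    have := Algebra.PowerBasis.norm_gen_eq_coeff_zero_minpoly
      (IntermediateField.adjoin.powerBasis hint)
    rw [adjoin.powerBasis_gen, minpoly_gen, adjoin.powerBasis_dim] at this
    exact this
  have htr := trace_eq_finrank_mul_minpoly_nextCoeff F α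
  rw [hnorm, htr, map_pow, ← nsmul_eq_mul, AddChar.map_nsmul_eq_pow, ← mul_pow]
  rfl

theorem finrank_mul_natDegree (α : F') :
    Module.finrank F⟮α⟯ F' * (minpoly F α).natDegree = Module.finrank F F' := by
  have hint : IsIntegral F α := Algebra.IsIntegral.isIntegral α
  rw [← adjoin.finrank hint, mul_comm]
  exact Module.finrank_mul_finrank F F⟮α⟯ F'

theorem minpoly_mem_irrLE (α : F') : minpoly F α ∈ irrLE F (Module.finrank F F') := by
  have hint : IsIntegral F α := Algebra.IsIntegral.isIntegral α
  rw [mem_irrLE]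
  exact ⟨minpoly.monic hint, minpoly.natDegree_le α, minpoly.irreducible hint⟩

theorem dvd_X_pow_card_pow_sub_X {P : F[X]} (hP : Irreducible P) {n : ℕ}
    (hd : P.natDegree ∣ n) : P ∣ X ^ (Fintype.card F ^ n) - X := by
  have : Fact (Irreducible P) := ⟨hP⟩
  have hfin : Module.Finite F (AdjoinRoot P) := (AdjoinRoot.powerBasis hP.ne_zero).finite
  have : Finite (AdjoinRoot P) := Module.finite_of_finite F
  haveI := Fintype.ofFinite (AdjoinRoot P)
  have hcard : Fintype.card (AdjoinRoot P) = Fintype.card F ^ P.natDegree := by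
    rw [Module.card_eq_pow_finrank (K := F), (AdjoinRoot.powerBasis hP.ne_zero).finrank,
      AdjoinRoot.powerBasis_dim]
  obtain ⟨k, rfl⟩ := hd
  have hθ : ∀ k, (AdjoinRoot.root P) ^ (Fintype.card F ^ (P.natDegree * k)) =
      AdjoinRoot.root P := by
    intro k
    induction k with
    | zero => simp
    | succ k ih => rw [mul_add, mul_one, pow_add, pow_mul, ih, ← hcard, FiniteField.pow_card]
  rw [← AdjoinRoot.mk_eq_zero, map_sub, map_pow, AdjoinRoot.mk_X, hθ, sub_self]

open Classical in
theorem card_filter_minpoly {P : F[X]} (hP : Irreducible P) (hm : P.Monic)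
    (hd : P.natDegree ∣ Module.finrank F F') :
    (univ.filter (fun α : F' => minpoly F α = P)).card = P.natDegree := by
  have hcardF' : Fintype.card F' = Fintype.card F ^ Module.finrank F F' :=
    Module.card_eq_pow_finrank
  have hdvd := dvd_X_pow_card_pow_sub_X hP hd
  have hdvd' : P.map (algebraMap F F') ∣ X ^ Fintype.card F' - X := by
    have := Polynomial.map_dvd (algebraMap F F') hdvd
    simpa [hcardF'] using this
  have hne : (X ^ Fintype.card F' - X : F'[X]) ≠ 0 :=
    FiniteField.X_pow_card_sub_X_ne_zero F' Fintype.one_lt_card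
  have hsplit : (X ^ Fintype.card F' - X : F'[X]).Splits := by
    rw [splits_iff_card_roots, FiniteField.roots_X_pow_card_sub_X,
      FiniteField.X_pow_card_sub_X_natDegree_eq _ Fintype.one_lt_card]
    simp
  have hsplitP : (P.map (algebraMap F F')).Splits := hsplit.of_dvd hne hdvd'
  have hsep : P.Separable := PerfectField.separable_of_irreducible hP
  have hc := card_rootSet_eq_natDegree hsep hsplitP
  rw [← hc, ← Fintype.card_coe]
  apply Fintype.card_congr
  refine Equiv.subtypeEquivRight (fun α => ?_)
  rw [Finset.mem_filter, mem_rootSet_of_ne hP.ne_zero]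
  constructor
  · rintro ⟨_, h⟩
    rw [← h]
    exact minpoly.aeval F α
  · intro h
    exact ⟨Finset.mem_univ _, (minpoly.eq_of_irreducible_of_monic hP h hm).symm⟩

open Classical in
theorem gauss_sum_eq_Sfun :
    ∑ x : F', χ (Algebra.norm F x) * ψ (Algebra.trace F F' x) =
      Sfun χ ψ (Module.finrank F F') (Module.finrank F F') := by
  set n := Module.finrank F F' with hn
  have h1 : ∑ x : F', χ (Algebra.norm F x) * ψ (Algebra.trace F F' x) =
      ∑ P ∈ irrLE F n, ∑ α ∈ univ.filter (fun α : F' => minpoly F α = P),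
        lam χ ψ P ^ Module.finrank F⟮α⟯ F' := by
    rw [← Finset.sum_fiberwise_of_maps_to (s := univ) (t := irrLE F n)
      (g := fun α : F' => minpoly F α) (fun α _ => minpoly_mem_irrLE α)]
    refine Finset.sum_congr rfl (fun P _ => Finset.sum_congr rfl (fun α hα => ?_))
    rw [Finset.mem_filter] at hα
    rw [term_eq, hα.2]
  rw [h1]
  unfold Sfun
  refine Finset.sum_congr rfl (fun P hP => ?_)
  have hPd := natDegree_pos_of_mem_irrLE hP
  obtain ⟨hPm, hPle, hPirr⟩ := mem_irrLE.mp hP
  by_cases hd : P.natDegree ∣ n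
  · obtain ⟨k₀, hk₀⟩ := hd
    have hk₀n : k₀ ≤ n := by rw [hk₀]; exact Nat.le_mul_of_pos_left _ hPd
    rw [Finset.sum_eq_single_of_mem k₀ (Finset.mem_range.mpr (by omega))]
    · rw [if_pos (by rw [hk₀, mul_comm])]
      have hall : ∀ α ∈ univ.filter (fun α : F' => minpoly F α = P),
          lam χ ψ P ^ Module.finrank F⟮α⟯ F' = lam χ ψ P ^ k₀ := by
        intro α hα
        rw [Finset.mem_filter] at hα
        have h2 := finrank_mul_natDegree (F := F) α
        rw [hα.2, ← hn, hk₀, mul_comm] at h2
        rw [Nat.eq_of_mul_eq_mul_left hPd h2]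
      rw [Finset.sum_congr rfl hall, Finset.sum_const,
        card_filter_minpoly hPirr hPm ⟨k₀, hk₀⟩, nsmul_eq_mul]
    · intro k _ hk
      rw [if_neg]
      intro h
      apply hk
      rw [hk₀, mul_comm] at h
      exact Nat.eq_of_mul_eq_mul_left hPd h
  · have h1 : univ.filter (fun α : F' => minpoly F α = P) = ∅ := by
      rw [Finset.filter_eq_empty_iff]
      intro α _ hα
      apply hd
      have h2 := finrank_mul_natDegree (F := F) α
      rw [hα, ← hn] at h2
      exact ⟨_, by rw [← h2, mul_comm]⟩
    rw [h1, Finset.sum_empty]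
    symm
    apply Finset.sum_eq_zero
    intro k _
    rw [if_neg]
    intro h
    exact hd ⟨k, by rw [← h, mul_comm]⟩

theorem final [IsDomain R] (hψ : ψ ≠ 1) :
    -(∑ x : F', χ (Algebra.norm F x) * ψ (Algebra.trace F F' x)) =
      (-(∑ x : F, χ x * ψ x)) ^ Module.finrank F F' := by
  rw [gauss_sum_eq_Sfun, Sfun_eq χ ψ hψ _ Module.finrank_pos, Lam_one, neg_neg]

end Groth.Agent.Lib.Helper92.HD
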