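import Mathlib
import Groth.Agent.Lib.Helper92.CubicForm

/-!
# Two ternary forms over `ℂ` have a common nontrivial zero (helper92)
-/

set_option autoImplicit false
set_option linter.unusedSectionVars false

namespace Groth.Agent.Lib.Helper92.Cubic

open MvPolynomial

section bezout

variable {N : ℕ}

theorem natDegree_lineP_eq {g : MvPolynomial (Fin N) ℂ} {d : ℕ} (hg : g.IsHomogeneous d)
    (u e : Fin N → ℂ) (he : eval e g ≠ 0) : (lineP g u e).natDegree = d := by
  apply le_antisymm (natDegree_lineP_le hg u e)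
  apply Polynomial.le_natDegree_of_ne_zero
  rw [coeff_top_lineP hg]
  exact he

theorem lineP_smul {g : MvPolynomial (Fin N) ℂ} {d : ℕ} (hg : g.IsHomogeneous d)
    (u e : Fin N → ℂ) (he : eval e g ≠ 0) (t : ℂ) (ht : t ≠ 0) :
    lineP g (t • u) e = (lineP g u e).scaleRoots t := by
  apply Polynomial.funext
  intro z
  obtain ⟨r, rfl⟩ : ∃ r, z = t * r := ⟨z / t, by field_simp⟩
  rw [Polynomial.scaleRoots_eval_mul, natDegree_lineP_eq hg u e he, eval_lineP, eval_lineP,
    ← eval_smul_of_isHomogeneous hg, smul_add, smul_smul]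

/-- the two-variable version of `lineP`: `g ((x a + b) + z e)` as a polynomial in `z` over `ℂ[x]` -/
noncomputable def lineP2 (g : MvPolynomial (Fin N) ℂ) (a b e : Fin N → ℂ) :
    Polynomial (Polynomial ℂ) :=
  aeval (fun i => Polynomial.C (Polynomial.C (a i) * Polynomial.X + Polynomial.C (b i)) +
    Polynomial.C (Polynomial.C (e i)) * Polynomial.X) g

theorem map_lineP2 (g : MvPolynomial (Fin N) ℂ) (a b e : Fin N → ℂ) (x : ℂ) :
    (lineP2 g a b e).map (Polynomial.evalRingHom x) = lineP g (x • a + b) e := by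
  rw [lineP2, lineP]
  induction g using MvPolynomial.induction_on with
  | C c =>
    simp only [MvPolynomial.algHom_C, Polynomial.algebraMap_apply, Algebra.algebraMap_self,
      RingHom.id_apply, Polynomial.map_C, Polynomial.coe_evalRingHom, Polynomial.eval_C]
  | add p q hp hq => rw [map_add, Polynomial.map_add, hp, hq, map_add]
  | mul_X p i hp =>
    rw [map_mul, Polynomial.map_mul, hp, map_mul, aeval_X, aeval_X]
    congr 1
    simp only [Polynomial.map_add, Polynomial.map_mul, Polynomial.map_C,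
      Polynomial.map_X, Polynomial.coe_evalRingHom, Polynomial.eval_add, Polynomial.eval_mul,
      Polynomial.eval_C, Polynomial.eval_X, Pi.add_apply, Pi.smul_apply, smul_eq_mul]
    congr 3
    ring

end bezout

theorem exists_compl_pair (e : Fin 3 → ℂ) (he : e ≠ 0) :
    ∃ u₁ u₂ : Fin 3 → ℂ, ∀ x y z : ℂ, x • u₁ + y • u₂ + z • e = 0 → x = 0 ∧ y = 0 := by
  obtain ⟨i, hi⟩ : ∃ i, e i ≠ 0 := by
    by_contra h
    push Not at h
    exact he (funext h)
  refine ⟨Pi.single (i + 1) 1, Pi.single (i + 2) 1, ?_⟩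
  intro x y z h
  have h0 := congrFun h i
  have h1 := congrFun h (i + 1)
  have h2 := congrFun h (i + 2)
  have hz : z = 0 := by
    fin_cases i <;> simp [Pi.single_apply, Fin.ext_iff] at h0 <;> tauto
  subst hz
  constructor
  · fin_cases i <;> simpa [Pi.single_apply, Fin.ext_iff] using h1
  · fin_cases i <;> simpa [Pi.single_apply, Fin.ext_iff] using h2

/-- the nonzero case of the common zero theorem -/
theorem exists_common_zero_of_ne_zero {f g : MvPolynomial (Fin 3) ℂ} {m n : ℕ}
    (hf : f.IsHomogeneous m) (hg : g.IsHomogeneous n) (hm : 0 < m) (hn : 0 < n)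
    (hf0 : f ≠ 0) (hg0 : g ≠ 0) :
    ∃ v : Fin 3 → ℂ, v ≠ 0 ∧ eval v f = 0 ∧ eval v g = 0 := by
  -- a direction where neither vanishes
  obtain ⟨e, he⟩ : ∃ e : Fin 3 → ℂ, eval e (f * g) ≠ 0 := by
    by_contra h
    push Not at h
    have : f * g = 0 := MvPolynomial.funext (fun x => by rw [h x, map_zero])
    rcases mul_eq_zero.1 this with h1 | h1
    · exact hf0 h1
    · exact hg0 h1
  rw [map_mul] at he
  have hef : eval e f ≠ 0 := left_ne_zero_of_mul he
  have heg : eval e g ≠ 0 := right_ne_zero_of_mul he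
  have he0 : e ≠ 0 := by
    intro h0
    apply hef
    have := eval_smul_of_isHomogeneous hf 0 (0 : Fin 3 → ℂ)
    rw [zero_smul, zero_pow hm.ne', zero_mul] at this
    rw [h0, this]
  obtain ⟨u₁, u₂, hind⟩ := exists_compl_pair e he0
  -- the resultant
  have key1 : ∀ u : Fin 3 → ℂ, Polynomial.resultant (lineP f u e) (lineP g u e) = 0 →
      ∃ z : ℂ, eval (u + z • e) f = 0 ∧ eval (u + z • e) g = 0 := by
    intro u hu
    have h1 := (Polynomial.resultant_eq_zero_iff.1 hu).2
    rw [Polynomial.isCoprime_iff_aeval_ne_zero_of_isAlgClosed (k := ℂ) ℂ] at h1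
    push Not at h1
    obtain ⟨z, hz1, hz2⟩ := h1
    rw [Polynomial.coe_aeval_eq_eval, eval_lineP] at hz1 hz2
    exact ⟨z, hz1, hz2⟩
  have key2 : ∀ a b : Fin 3 → ℂ, ∃ P : Polynomial ℂ, ∀ x : ℂ,
      P.eval x = Polynomial.resultant (lineP f (x • a + b) e) (lineP g (x • a + b) e) := by
    intro a b
    refine ⟨Polynomial.resultant (lineP2 f a b e) (lineP2 g a b e) m n, fun x => ?_⟩
    rw [← Polynomial.coe_evalRingHom, ← Polynomial.resultant_map_map, map_lineP2, map_lineP2,
      natDegree_lineP_eq hf _ e hef, natDegree_lineP_eq hg _ e heg]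
  have key3 : ∀ (u : Fin 3 → ℂ) (t : ℂ), t ≠ 0 →
      Polynomial.resultant (lineP f (t • u) e) (lineP g (t • u) e) =
        t ^ (m * n) * Polynomial.resultant (lineP f u e) (lineP g u e) := by
    intro u t ht
    rw [lineP_smul hf u e hef t ht, lineP_smul hg u e heg t ht]
    have := Polynomial.resultant_scaleRoots (lineP f u e) (lineP g u e) t
    rw [this, natDegree_lineP_eq hf u e hef, natDegree_lineP_eq hg u e heg]
  obtain ⟨P, hP⟩ := key2 u₁ u₂
  obtain ⟨Q, hQ⟩ := key2 u₂ u₁
  by_cases hroot : ∃ x, P.eval x = 0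
  · obtain ⟨x, hx⟩ := hroot
    rw [hP] at hx
    obtain ⟨z, hz1, hz2⟩ := key1 _ hx
    refine ⟨x • u₁ + u₂ + z • e, ?_, hz1, hz2⟩
    intro h0
    have := (hind x 1 z (by rw [one_smul]; exact h0)).2
    exact one_ne_zero this
  · push Not at hroot
    have hdeg : P.degree = 0 := by
      by_contra hd
      obtain ⟨x, hx⟩ := IsAlgClosed.exists_root P hd
      exact hroot x hx
    obtain ⟨c, hc⟩ : ∃ c, P = Polynomial.C c := ⟨_, Polynomial.eq_C_of_degree_eq_zero hdeg⟩
    have hQt : ∀ t : ℂ, t ≠ 0 → Q.eval t = c * t ^ (m * n) := by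
      intro t ht
      have e1 : t • u₂ + u₁ = t • (t⁻¹ • u₁ + u₂) := by
        rw [smul_add, smul_smul, mul_inv_cancel₀ ht, one_smul]
        abel
      rw [hQ, e1, key3 _ t ht, ← hP, hc, Polynomial.eval_C]
      ring
    have hQeq : Q = Polynomial.C c * Polynomial.X ^ (m * n) := by
      rw [← sub_eq_zero]
      apply Polynomial.eq_zero_of_infinite_isRoot
      apply Set.Infinite.mono (s := {t : ℂ | t ≠ 0})
      · intro t ht
        show Polynomial.IsRoot _ t
        rw [Polynomial.IsRoot.def, Polynomial.eval_sub, hQt t ht]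
        simp
      · exact (Set.finite_singleton (0 : ℂ)).infinite_compl
    have hQ0 : Q.eval 0 = 0 := by
      rw [hQeq]
      simp [Nat.mul_ne_zero hm.ne' hn.ne']
    rw [hQ, zero_smul, zero_add] at hQ0
    obtain ⟨z, hz1, hz2⟩ := key1 _ hQ0
    refine ⟨u₁ + z • e, ?_, hz1, hz2⟩
    intro h0
    have := (hind 1 0 z (by rw [one_smul, zero_smul, add_zero]; exact h0)).1
    exact one_ne_zero this

/-- two ternary forms of positive degree over `ℂ` have a common nontrivial zero -/
theorem exists_common_zero {f g : MvPolynomial (Fin 3) ℂ} {m n : ℕ}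
    (hf : f.IsHomogeneous m) (hg : g.IsHomogeneous n) (hm : 0 < m) (hn : 0 < n) :
    ∃ v : Fin 3 → ℂ, v ≠ 0 ∧ eval v f = 0 ∧ eval v g = 0 := by
  by_cases hf0 : f = 0
  · by_cases hg0 : g = 0
    · refine ⟨fun _ => 1, ?_, by rw [hf0, map_zero], by rw [hg0, map_zero]⟩
      intro h
      have := congrFun h 0
      simp at this
    · obtain ⟨v, hv, h1, _⟩ := exists_common_zero_of_ne_zero hg hg hn hn hg0 hg0
      exact ⟨v, hv, by rw [hf0, map_zero], h1⟩
  · by_cases hg0 : g = 0
    · obtain ⟨v, hv, h1, _⟩ := exists_common_zero_of_ne_zero hf hf hm hm hf0 hf0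
      exact ⟨v, hv, h1, by rw [hg0, map_zero]⟩
    · exact exists_common_zero_of_ne_zero hf hg hm hn hf0 hg0

end Groth.Agent.Lib.Helper92.Cubic
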