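import Mathlib
import Groth.Agent.Lib.Helper92.CubicEckardt
import Groth.Agent.Lib.Helper92.TernaryBezout
import Groth.Prelude.Def_W4c5monodromycubicsHesse

/-!
# Smooth plane cubics: flexes and coordinates (helper92)
-/

set_option autoImplicit false
set_option linter.unusedSectionVars false

namespace Groth.Agent.Lib.Helper92.Cubic

open MvPolynomial

section planecubic

variable {f : MvPolynomial (Fin 3) ℂ}

/-- the directional derivative through values of the cubic -/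
theorem dd_eq_values3 (hf : f.IsHomogeneous 3) (v y : Fin 3 → ℂ) :
    eval v (dd y f) = (eval (v + y) f - eval (v - y) f) / 2 - eval y f := by
  have h1 := cubic_expand hf v y 1
  have h2 := cubic_expand hf v y (-1)
  simp only [one_smul, neg_smul, one_pow, one_mul] at h1 h2
  rw [← sub_eq_add_neg] at h2
  rw [h1, h2]
  ring

theorem not_singular3
    (hsm : ∀ v : Fin 3 → ℂ, v ≠ 0 → eval v f = 0 → ∃ i : Fin 3, eval v (pderiv i f) ≠ 0)
    {v : Fin 3 → ℂ} (hv : v ≠ 0) (hFv : eval v f = 0) (h : ∀ w, eval v (dd w f) = 0) : False := by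
  obtain ⟨i, hi⟩ := hsm v hv hFv
  exact hi (pderiv_eq_zero_of_dd h i)

/-- the Hessian matrix -/
noncomputable def hessMat (f : MvPolynomial (Fin 3) ℂ) :
    Matrix (Fin 3) (Fin 3) (MvPolynomial (Fin 3) ℂ) :=
  fun i j => pderiv i (pderiv j f)

/-- the Hessian determinant -/
noncomputable def hess (f : MvPolynomial (Fin 3) ℂ) : MvPolynomial (Fin 3) ℂ :=
  (hessMat f).det

theorem hess_isHomogeneous (hf : f.IsHomogeneous 3) : (hess f).IsHomogeneous 3 := by
  have h1 : ∀ i j, (hessMat f i j).IsHomogeneous 1 := fun i j => hf.pderiv.pderiv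
  have h3 : ∀ a b c d e g, (hessMat f a b * hessMat f c d * hessMat f e g).IsHomogeneous 3 :=
    fun a b c d e g => ((h1 a b).mul (h1 c d)).mul (h1 e g)
  rw [hess, Matrix.det_fin_three]
  exact (((((h3 _ _ _ _ _ _).sub (h3 _ _ _ _ _ _)).sub (h3 _ _ _ _ _ _)).add
    (h3 _ _ _ _ _ _)).add (h3 _ _ _ _ _ _)).sub (h3 _ _ _ _ _ _)

/-- a smooth plane cubic has a flex -/
theorem exists_flex (hf : f.IsHomogeneous 3)
    (hsm : ∀ v : Fin 3 → ℂ, v ≠ 0 → eval v f = 0 → ∃ i : Fin 3, eval v (pderiv i f) ≠ 0) :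
    ∃ v w : Fin 3 → ℂ, v ≠ 0 ∧ eval v f = 0 ∧
      (∀ a b : ℂ, a • v + b • w = 0 → a = 0 ∧ b = 0) ∧
      eval v (dd w f) = 0 ∧ eval w (dd v f) = 0 := by
  obtain ⟨v, hv0, hfv, hHv⟩ := exists_common_zero hf (hess_isHomogeneous hf) (by norm_num)
    (by norm_num)
  have hdet : ((eval v).mapMatrix (hessMat f)).det = 0 := by
    rw [← RingHom.map_det]
    exact hHv
  obtain ⟨w, hw0, hMw⟩ := Matrix.exists_mulVec_eq_zero_iff.2 hdet
  have hpd : ∀ i, eval v (pderiv i (dd w f)) = 0 := by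
    intro i
    have := congrFun hMw i
    simp only [Matrix.mulVec, dotProduct, RingHom.mapMatrix_apply, Matrix.map_apply, hessMat,
      Pi.zero_apply] at this
    rw [dd, map_sum, map_sum]
    rw [← this]
    apply Finset.sum_congr rfl
    intro j _
    rw [Derivation.leibniz, pderiv_C, smul_zero, add_zero, smul_eq_mul, map_mul, eval_C]
    ring
  have hall : ∀ u, eval v (dd u (dd w f)) = 0 := by
    intro u
    rw [eval_dd]
    apply Finset.sum_eq_zero
    intro i _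
    rw [hpd i, mul_zero]
  have hA : eval v (dd w f) = 0 := by
    have := euler_eval (dd_isHomogeneous hf w) v
    rw [hall v] at this
    have h2 : ((3 - 1 : ℕ) : ℂ) ≠ 0 := by norm_num
    exact (mul_eq_zero.1 this.symm).resolve_left h2
  have hB : eval w (dd v f) = 0 := by
    have := euler_eval (dd_isHomogeneous hf v) w
    rw [mixed_symm hf w w v, hall w] at this
    have h2 : ((3 - 1 : ℕ) : ℂ) ≠ 0 := by norm_num
    exact (mul_eq_zero.1 this.symm).resolve_left h2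
  refine ⟨v, w, hv0, hfv, ?_, hA, hB⟩
  intro a b hab
  by_contra hne
  have hb : b ≠ 0 := by
    intro hb
    rw [hb, zero_smul, add_zero] at hab
    have ha := (smul_eq_zero.1 hab).resolve_right hv0
    exact hne ⟨ha, hb⟩
  -- `w` is a multiple of `v`
  have hw : w = (-(a / b)) • v := by
    have h1 : b • w = -(a • v) := by
      rw [← sub_eq_zero, ← hab]
      abel
    have h2 : w = b⁻¹ • (b • w) := by rw [smul_smul, inv_mul_cancel₀ hb, one_smul]
    rw [h2, h1, smul_neg, smul_smul, neg_smul]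
    congr 2
    field_simp
  have hc : -(a / b) ≠ 0 := by
    intro h0
    rw [h0, zero_smul] at hw
    exact hw0 hw
  apply not_singular3 hsm hv0 hfv
  intro u
  have h1 := hall u
  rw [hw, dd_comm, eval_dd_smul] at h1
  have h2 := (mul_eq_zero.1 h1).resolve_left hc
  have h3 := euler_eval (dd_isHomogeneous hf u) v
  rw [h2] at h3
  have h4 : ((3 - 1 : ℕ) : ℂ) ≠ 0 := by norm_num
  exact (mul_eq_zero.1 h3.symm).resolve_left h4

end planecubic

section coords

variable {f : MvPolynomial (Fin 3) ℂ}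

/-- the cubic in the coordinates given by a matrix -/
noncomputable def co (f : MvPolynomial (Fin 3) ℂ) (A : Matrix (Fin 3) (Fin 3) ℂ) (x y z : ℂ) : ℂ :=
  eval (A.mulVec ![x, y, z]) f

theorem co_mul (A T : Matrix (Fin 3) (Fin 3) ℂ) (x y z : ℂ) :
    co f (A * T) x y z = co f A (T 0 0 * x + T 0 1 * y + T 0 2 * z)
      (T 1 0 * x + T 1 1 * y + T 1 2 * z) (T 2 0 * x + T 2 1 * y + T 2 2 * z) := by
  unfold co
  rw [← Matrix.mulVec_mulVec]
  congr 2
  funext i
  fin_cases i <;> simp [Matrix.mulVec, dotProduct, Fin.sum_univ_three]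

theorem vec3_eq (η : Fin 3 → ℂ) : η = ![η 0, η 1, η 2] := by
  funext i
  fin_cases i <;> rfl

/-- smoothness in coordinates, with derivatives expressed through differences -/
theorem smooth_coords (hf : f.IsHomogeneous 3)
    (hsm : ∀ v : Fin 3 → ℂ, v ≠ 0 → eval v f = 0 → ∃ i : Fin 3, eval v (pderiv i f) ≠ 0)
    (A : Matrix (Fin 3) (Fin 3) ℂ) (hA : A.det ≠ 0) (x y z : ℂ) (hne : ¬(x = 0 ∧ y = 0 ∧ z = 0))
    (h0 : co f A x y z = 0)
    (h1 : co f A (x + 1) y z - co f A (x - 1) y z = 2 * co f A 1 0 0)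
    (h2 : co f A x (y + 1) z - co f A x (y - 1) z = 2 * co f A 0 1 0)
    (h3 : co f A x y (z + 1) - co f A x y (z - 1) = 2 * co f A 0 0 1) : False := by
  have hp : A.mulVec ![x, y, z] ≠ 0 := by
    intro h
    have := Matrix.eq_zero_of_mulVec_eq_zero hA h
    apply hne
    refine ⟨?_, ?_, ?_⟩
    · simpa using congrFun this 0
    · simpa using congrFun this 1
    · simpa using congrFun this 2
  have e1p : A.mulVec ![x + 1, y, z] = A.mulVec ![x, y, z] + A.mulVec ![1, 0, 0] := by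
    rw [← Matrix.mulVec_add]
    congr 1
    funext i
    fin_cases i <;> simp
  have e1m : A.mulVec ![x - 1, y, z] = A.mulVec ![x, y, z] - A.mulVec ![1, 0, 0] := by
    rw [← Matrix.mulVec_sub]
    congr 1
    funext i
    fin_cases i <;> simp
  have e2p : A.mulVec ![x, y + 1, z] = A.mulVec ![x, y, z] + A.mulVec ![0, 1, 0] := by
    rw [← Matrix.mulVec_add]
    congr 1
    funext i
    fin_cases i <;> simp
  have e2m : A.mulVec ![x, y - 1, z] = A.mulVec ![x, y, z] - A.mulVec ![0, 1, 0] := by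
    rw [← Matrix.mulVec_sub]
    congr 1
    funext i
    fin_cases i <;> simp
  have e3p : A.mulVec ![x, y, z + 1] = A.mulVec ![x, y, z] + A.mulVec ![0, 0, 1] := by
    rw [← Matrix.mulVec_add]
    congr 1
    funext i
    fin_cases i <;> simp
  have e3m : A.mulVec ![x, y, z - 1] = A.mulVec ![x, y, z] - A.mulVec ![0, 0, 1] := by
    rw [← Matrix.mulVec_sub]
    congr 1
    funext i
    fin_cases i <;> simp
  unfold co at h0 h1 h2 h3
  rw [e1p, e1m] at h1
  rw [e2p, e2m] at h2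
  rw [e3p, e3m] at h3
  have d1 : eval (A.mulVec ![x, y, z]) (dd (A.mulVec ![1, 0, 0]) f) = 0 := by
    rw [dd_eq_values3 hf]
    linear_combination (1 / 2 : ℂ) * h1
  have d2 : eval (A.mulVec ![x, y, z]) (dd (A.mulVec ![0, 1, 0]) f) = 0 := by
    rw [dd_eq_values3 hf]
    linear_combination (1 / 2 : ℂ) * h2
  have d3 : eval (A.mulVec ![x, y, z]) (dd (A.mulVec ![0, 0, 1]) f) = 0 := by
    rw [dd_eq_values3 hf]
    linear_combination (1 / 2 : ℂ) * h3
  apply not_singular3 hsm hp h0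
  intro w
  have hw : w = A.mulVec (A⁻¹.mulVec w) := by
    rw [Matrix.mulVec_mulVec, Matrix.mul_nonsing_inv A (isUnit_iff_ne_zero.2 hA), Matrix.one_mulVec]
  have hη : A⁻¹.mulVec w = (A⁻¹.mulVec w) 0 • ![1, 0, 0] + (A⁻¹.mulVec w) 1 • ![0, 1, 0] +
      (A⁻¹.mulVec w) 2 • ![0, 0, 1] := by
    funext i
    fin_cases i <;> simp
  rw [hw, hη, Matrix.mulVec_add, Matrix.mulVec_add, Matrix.mulVec_smul, Matrix.mulVec_smul,
    Matrix.mulVec_smul, eval_dd_add, eval_dd_add, eval_dd_smul, eval_dd_smul, eval_dd_smul,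
    d1, d2, d3]
  ring

/-- the matrix with given columns -/
def colMat (a b c : Fin 3 → ℂ) : Matrix (Fin 3) (Fin 3) ℂ :=
  Matrix.of fun i j => ![a, b, c] j i

theorem colMat_mulVec (a b c : Fin 3 → ℂ) (x y z : ℂ) :
    (colMat a b c).mulVec ![x, y, z] = x • a + y • b + z • c := by
  funext i
  simp [colMat, Matrix.mulVec, dotProduct, Fin.sum_univ_three]
  ring

theorem colMat_det_ne_zero (a b c : Fin 3 → ℂ)
    (h : ∀ x y z : ℂ, x • a + y • b + z • c = 0 → x = 0 ∧ y = 0 ∧ z = 0) :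
    (colMat a b c).det ≠ 0 := by
  intro hdet
  obtain ⟨η, hη0, hη⟩ := Matrix.exists_mulVec_eq_zero_iff.2 hdet
  rw [vec3_eq η, colMat_mulVec] at hη
  obtain ⟨h0, h1, h2⟩ := h _ _ _ hη
  apply hη0
  rw [vec3_eq η, h0, h1, h2]
  funext i
  fin_cases i <;> rfl

/-- the expansion of the cubic in coordinates adapted to a flex -/
theorem flex_coords (hf : f.IsHomogeneous 3) (v w u : Fin 3 → ℂ) (hfv : eval v f = 0)
    (hA : eval v (dd w f) = 0) (hB : eval w (dd v f) = 0) (x y z : ℂ) :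
    co f (colMat w v u) x y z =
      eval w f * x ^ 3 + z * (eval w (dd u f) * x ^ 2 + eval w (dd v (dd u f)) * x * y +
        eval v (dd u f) * y ^ 2) + z ^ 2 * (eval u (dd w f) * x + eval u (dd v f) * y) +
        eval u f * z ^ 3 := by
  unfold co
  have hg : (dd u f).IsHomogeneous 2 := dd_isHomogeneous hf u
  have h1 : eval (x • w + y • v) f = eval w f * x ^ 3 := by
    rw [add_comm, cubic_expand hf, eval_smul_of_isHomogeneous hf, hfv,
      eval_smul_of_isHomogeneous (dd_isHomogeneous hf w), hA, eval_dd_smul, hB]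
    ring
  have h2 : eval (x • w + y • v) (dd u f) = eval w (dd u f) * x ^ 2 +
      eval w (dd v (dd u f)) * x * y + eval v (dd u f) * y ^ 2 := by
    rw [quadric_expand hg, eval_smul_of_isHomogeneous hg,
      eval_smul_of_isHomogeneous (dd_isHomogeneous hg v)]
    ring
  rw [colMat_mulVec, cubic_expand hf, h1, h2, eval_dd_add, eval_dd_smul, eval_dd_smul]
  ring

end coords

section weierstrass

variable {f : MvPolynomial (Fin 3) ℂ}

theorem exists_binary_quadric_zero (A B C : ℂ) :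
    ∃ x y : ℂ, ¬(x = 0 ∧ y = 0) ∧ A * x ^ 2 + B * x * y + C * y ^ 2 = 0 := by
  by_cases hA : A = 0
  · refine ⟨1, 0, ?_, ?_⟩
    · intro h
      exact one_ne_zero h.1
    · rw [hA]
      ring
  · obtain ⟨s, hs⟩ := IsAlgClosed.exists_pow_nat_eq (B ^ 2 - 4 * A * C) (n := 2) (by norm_num)
    refine ⟨(-B + s) / (2 * A), 1, ?_, ?_⟩
    · intro h
      exact one_ne_zero h.2
    · field_simp
      linear_combination hs

/-- extension of an independent pair to a basis of `ℂ³` -/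
theorem exists_third (v w : Fin 3 → ℂ) (h : ∀ a b : ℂ, a • v + b • w = 0 → a = 0 ∧ b = 0) :
    ∃ u : Fin 3 → ℂ, ∀ x y z : ℂ, x • w + y • v + z • u = 0 → x = 0 ∧ y = 0 ∧ z = 0 := by
  have hli : LinearIndependent ℂ ![w, v] := by
    rw [LinearIndependent.pair_iff]
    intro a b hab
    have := h b a (by rw [add_comm]; exact hab)
    exact ⟨this.2, this.1⟩
  obtain ⟨u, hu⟩ := exists_linearIndependent_cons_of_lt_finrank hli
    (by rw [Module.finrank_fin_fun]; norm_num)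
  refine ⟨u, ?_⟩
  intro x y z hxyz
  rw [Fintype.linearIndependent_iff] at hu
  have := hu ![z, x, y] (by
    rw [Fin.sum_univ_three]
    simp only [Matrix.cons_val_zero, Matrix.cons_val_one, Matrix.cons_val]
    rw [← hxyz]
    simp [Fin.cons]
    abel)
  exact ⟨this 1, this 2, this 0⟩

/-- Weierstrass normal form of a smooth plane cubic -/
theorem exists_weierstrass (hf : f.IsHomogeneous 3)
    (hsm : ∀ v : Fin 3 → ℂ, v ≠ 0 → eval v f = 0 → ∃ i : Fin 3, eval v (pderiv i f) ≠ 0) :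
    ∃ (M : Matrix (Fin 3) (Fin 3) ℂ) (a b c : ℂ), M.det ≠ 0 ∧ c ≠ 0 ∧
      ∀ x y z : ℂ, co f M x y z = c * (y ^ 2 * z - x ^ 3 - a * x * z ^ 2 - b * z ^ 3) := by
  obtain ⟨v, w, hv0, hfv, hind, hA, hB⟩ := exists_flex hf hsm
  obtain ⟨u, hu⟩ := exists_third v w hind
  have hdet₀ := colMat_det_ne_zero w v u hu
  have hP := flex_coords hf v w u hfv hA hB
  generalize eval w f = α at hP
  generalize eval w (dd u f) = A at hP
  generalize eval w (dd v (dd u f)) = B at hP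
  generalize eval v (dd u f) = C at hP
  generalize eval u (dd w f) = D at hP
  generalize eval u (dd v f) = E at hP
  generalize eval u f = G at hP
  -- `α ≠ 0`
  have hα : α ≠ 0 := by
    intro hα
    obtain ⟨x₀, y₀, hne, h0⟩ := exists_binary_quadric_zero A B C
    apply smooth_coords hf hsm _ hdet₀ x₀ y₀ 0 (fun h => hne ⟨h.1, h.2.1⟩)
    · rw [hP, hα]
      ring
    · rw [hP, hP, hP, hα]
      ring
    · rw [hP, hP, hP, hα]
      ring
    · rw [hP, hP, hP, hα]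
      linear_combination 2 * h0
  -- `C ≠ 0`
  have hC : C ≠ 0 := by
    intro hC
    apply smooth_coords hf hsm _ hdet₀ 0 1 0 (fun h => one_ne_zero h.2.1)
    · rw [hP]
      ring
    · rw [hP, hP, hP]
      ring
    · rw [hP, hP, hP]
      ring
    · rw [hP, hP, hP, hC]
      ring
  obtain ⟨μ, hμ⟩ := IsAlgClosed.exists_pow_nat_eq (-α / C) (n := 2) (by norm_num)
  have hμ' : C * μ ^ 2 = -α := by
    rw [hμ]
    field_simp
  have hμ0 : μ ≠ 0 := by
    intro h0
    rw [h0] at hμ'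
    apply hα
    linear_combination hμ'
  obtain ⟨β, hβ⟩ : ∃ β, B = 2 * C * β := ⟨B / (2 * C), by field_simp⟩
  obtain ⟨ε, hε⟩ : ∃ ε, E = 2 * C * ε := ⟨E / (2 * C), by field_simp⟩
  obtain ⟨γ, hγ⟩ : ∃ γ, A = 3 * α * γ + C * β ^ 2 := ⟨(A - C * β ^ 2) / (3 * α), by field_simp; ring⟩
  obtain ⟨a, ha⟩ : ∃ a, α * a = D - 2 * C * β * ε - 3 * α * γ ^ 2 :=
    ⟨(D - 2 * C * β * ε - 3 * α * γ ^ 2) / α, by field_simp⟩
  obtain ⟨b, hb⟩ : ∃ b, α * b = 2 * α * γ ^ 3 - (D - 2 * C * β * ε) * γ + (G - C * ε ^ 2) :=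
    ⟨(2 * α * γ ^ 3 - (D - 2 * C * β * ε) * γ + (G - C * ε ^ 2)) / α, by field_simp⟩
  refine ⟨colMat w v u * !![1, 0, -γ; -β, μ, β * γ - ε; 0, 0, 1], a, b, -α, ?_, neg_ne_zero.2 hα, ?_⟩
  · rw [Matrix.det_mul]
    apply mul_ne_zero hdet₀
    rw [Matrix.det_fin_three]
    simp
    exact hμ0
  · intro x y z
    rw [co_mul, hP]
    simp only [Matrix.of_apply, Matrix.cons_val', Matrix.cons_val_zero, Matrix.cons_val_one,
      Matrix.cons_val, Matrix.cons_val_fin_one]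
    rw [hβ, hε, hγ]
    linear_combination (y ^ 2 * z) * hμ' - (x * z ^ 2) * ha - (z ^ 3) * hb

end weierstrass

section hesse

variable {f : MvPolynomial (Fin 3) ℂ}

/-- Hesse normal form of a smooth plane cubic, in coordinates -/
theorem exists_hesse_coords (hf : f.IsHomogeneous 3)
    (hsm : ∀ v : Fin 3 → ℂ, v ≠ 0 → eval v f = 0 → ∃ i : Fin 3, eval v (pderiv i f) ≠ 0) :
    ∃ (M : Matrix (Fin 3) (Fin 3) ℂ) (k c : ℂ), M.det ≠ 0 ∧ k ^ 3 ≠ 1 ∧ c ≠ 0 ∧
      ∀ x y z : ℂ, co f M x y z = c * (x ^ 3 + y ^ 3 + z ^ 3 - 3 * k * x * y * z) := by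
  obtain ⟨M₁, a, b, c, hdet₁, hc, hW⟩ := exists_weierstrass hf hsm
  -- not a cusp
  have hab : ¬(a = 0 ∧ b = 0) := by
    rintro ⟨ha, hb⟩
    apply smooth_coords hf hsm _ hdet₁ 0 0 1 (fun h => one_ne_zero h.2.2)
    · rw [hW, ha, hb]
      ring
    · rw [hW, hW, hW, ha, hb]
      ring
    · rw [hW, hW, hW, ha, hb]
      ring
    · rw [hW, hW, hW, ha, hb]
      ring
  -- a root of the 3-division polynomial is not a 2-torsion point
  have hC1 : ∀ x₁ : ℂ, 3 * x₁ ^ 4 + 6 * a * x₁ ^ 2 + 12 * b * x₁ - a ^ 2 = 0 →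
      x₁ ^ 3 + a * x₁ + b ≠ 0 := by
    intro x₁ hψ h0
    have h1 : (3 * x₁ ^ 2 + a) ^ 2 = 0 := by
      linear_combination (12 * x₁) * h0 - hψ
    have h2 : 3 * x₁ ^ 2 + a = 0 := pow_eq_zero_iff (by norm_num) |>.1 h1
    apply smooth_coords hf hsm _ hdet₁ x₁ 0 1 (fun h => one_ne_zero h.2.2)
    · rw [hW]
      linear_combination (-c) * h0
    · rw [hW, hW, hW]
      linear_combination (-2 * c) * h2
    · rw [hW, hW, hW]
      ring
    · rw [hW, hW, hW]
      linear_combination (-6 * c) * h0 + (2 * c * x₁) * h2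
  -- a nonzero root of the 3-division polynomial
  obtain ⟨x₁, hx₁0, hψ⟩ : ∃ x₁ : ℂ, x₁ ≠ 0 ∧
      3 * x₁ ^ 4 + 6 * a * x₁ ^ 2 + 12 * b * x₁ - a ^ 2 = 0 := by
    by_cases ha : a = 0
    · have hb : b ≠ 0 := fun hb => hab ⟨ha, hb⟩
      obtain ⟨x₁, hx₁⟩ := IsAlgClosed.exists_pow_nat_eq (-4 * b) (n := 3) (by norm_num)
      refine ⟨x₁, ?_, ?_⟩
      · intro h0
        rw [h0] at hx₁
        apply hb
        linear_combination (1 / 4 : ℂ) * hx₁
      · rw [ha]
        linear_combination (3 * x₁) * hx₁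
    · let P : Polynomial ℂ := Polynomial.C 3 * Polynomial.X ^ 4 + Polynomial.C (6 * a) *
        Polynomial.X ^ 2 + Polynomial.C (12 * b) * Polynomial.X - Polynomial.C (a ^ 2)
      have hdeg : P.degree = 4 := by
        unfold P
        compute_degree!
      obtain ⟨x₁, hx₁⟩ := IsAlgClosed.exists_root P (by rw [hdeg]; norm_num)
      have hx₁' : 3 * x₁ ^ 4 + 6 * a * x₁ ^ 2 + 12 * b * x₁ - a ^ 2 = 0 := by
        have := hx₁
        simp only [P, Polynomial.IsRoot.def, Polynomial.eval_sub, Polynomial.eval_add,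
          Polynomial.eval_mul, Polynomial.eval_C, Polynomial.eval_pow, Polynomial.eval_X] at this
        exact this
      refine ⟨x₁, ?_, hx₁'⟩
      intro h0
      rw [h0] at hx₁'
      apply ha
      have : a ^ 2 = 0 := by linear_combination -hx₁'
      exact pow_eq_zero_iff (by norm_num) |>.1 this
  obtain ⟨y₁, hy₁⟩ := IsAlgClosed.exists_pow_nat_eq (x₁ ^ 3 + a * x₁ + b) (n := 2) (by norm_num)
  have hy₁0 : y₁ ≠ 0 := by
    intro h0
    apply hC1 x₁ hψ
    rw [← hy₁, h0]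
    ring
  obtain ⟨ρ, hρ⟩ : ∃ ρ, 2 * ρ * y₁ ^ 2 = 3 * x₁ ^ 2 + a :=
    ⟨(3 * x₁ ^ 2 + a) / (2 * y₁ ^ 2), by field_simp⟩
  have hρ2 : ρ ^ 2 * y₁ ^ 2 = 3 * x₁ := by
    have h1 : 4 * y₁ ^ 2 * (ρ ^ 2 * y₁ ^ 2 - 3 * x₁) = 0 := by
      linear_combination (2 * ρ * y₁ ^ 2 + 3 * x₁ ^ 2 + a) * hρ - hψ - (12 * x₁) * hy₁
    have h2 : 4 * y₁ ^ 2 ≠ 0 := mul_ne_zero (by norm_num) (pow_ne_zero 2 hy₁0)
    exact sub_eq_zero.1 ((mul_eq_zero.1 h1).resolve_left h2)
  have hρ0 : ρ ≠ 0 := by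
    intro h0
    rw [h0] at hρ2
    apply hx₁0
    linear_combination (-1 / 3 : ℂ) * hρ2
  obtain ⟨τ, hτ⟩ : ∃ τ, τ = -4 * ρ ^ 3 * y₁ ^ 2 := ⟨_, rfl⟩
  have hτ0 : τ ≠ 0 := by
    rw [hτ]
    exact mul_ne_zero (mul_ne_zero (by norm_num) (pow_ne_zero 3 hρ0)) (pow_ne_zero 2 hy₁0)
  -- the form `τ XYZ + (X+Y+Z)³`
  obtain ⟨M₂, hM₂, hdet₂, hG⟩ : ∃ M₂ : Matrix (Fin 3) (Fin 3) ℂ,
      M₂ = M₁ * !![x₁ * ρ - 1, -1, -1; 0, ρ * y₁, -(ρ * y₁); ρ, 0, 0] ∧ M₂.det ≠ 0 ∧
      ∀ X Y Z : ℂ, co f M₂ X Y Z = c * (τ * X * Y * Z + (X + Y + Z) ^ 3) := by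
    refine ⟨_, rfl, ?_, ?_⟩
    · rw [Matrix.det_mul]
      apply mul_ne_zero hdet₁
      have hd : (!![x₁ * ρ - 1, -1, -1; 0, ρ * y₁, -(ρ * y₁); ρ, 0, 0] :
          Matrix (Fin 3) (Fin 3) ℂ).det = 2 * ρ ^ 2 * y₁ := by
        rw [Matrix.det_fin_three]
        simp
        ring
      rw [hd]
      exact mul_ne_zero (mul_ne_zero (by norm_num) (pow_ne_zero 2 hρ0)) hy₁0
    · intro X Y Z
      rw [co_mul, hW]
      simp only [Matrix.of_apply, Matrix.cons_val', Matrix.cons_val_zero, Matrix.cons_val_one,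
        Matrix.cons_val, Matrix.cons_val_fin_one]
      rw [hτ]
      linear_combination (c * ρ * X * (X + Y + Z) ^ 2) * hρ2 +
        -(c * (ρ * X) ^ 2 * (X + Y + Z)) * hρ + (c * (ρ * X) ^ 3) * hy₁
  -- `τ + 27 ≠ 0`
  have hτ27 : τ + 27 ≠ 0 := by
    intro h27
    apply smooth_coords hf hsm _ hdet₂ 1 1 1 (fun h => one_ne_zero h.1)
    · rw [hG]
      linear_combination c * h27
    · rw [hG, hG, hG]
      linear_combination (2 * c) * h27
    · rw [hG, hG, hG]
      linear_combination (2 * c) * h27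
    · rw [hG, hG, hG]
      linear_combination (2 * c) * h27
  obtain ⟨lam, hlam⟩ := IsAlgClosed.exists_pow_nat_eq ((τ + 27) / τ) (n := 3) (by norm_num)
  have hlam0 : lam ≠ 0 := by
    intro h0
    rw [h0] at hlam
    have : (τ + 27) / τ = 0 := by rw [← hlam]; norm_num
    rcases div_eq_zero_iff.1 this with h1 | h1
    · exact hτ27 h1
    · exact hτ0 h1
  obtain ⟨ν, hν⟩ : ∃ ν : ℂ, ν * lam = 1 := ⟨lam⁻¹, inv_mul_cancel₀ hlam0⟩
  have hν3 : τ = (τ + 27) * ν ^ 3 := by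
    have h1 : τ * lam ^ 3 = τ + 27 := by
      rw [hlam]
      field_simp
    have h2 : ν ^ 3 * lam ^ 3 = 1 := by rw [← mul_pow, hν, one_pow]
    calc τ = τ * (ν ^ 3 * lam ^ 3) := by rw [h2, mul_one]
      _ = (τ * lam ^ 3) * ν ^ 3 := by ring
      _ = (τ + 27) * ν ^ 3 := by rw [h1]
  have hν0 : ν ≠ 0 := by
    intro h0
    rw [h0, zero_mul] at hν
    exact zero_ne_one hν
  obtain ⟨s, hs⟩ := IsAlgClosed.exists_pow_nat_eq (-3 : ℂ) (n := 2) (by norm_num)
  have hs0 : s ≠ 0 := by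
    intro h0
    rw [h0] at hs
    norm_num at hs
  obtain ⟨ω, hω⟩ : ∃ ω : ℂ, 2 * ω = -1 + s := ⟨(-1 + s) / 2, by ring⟩
  have hω2 : ω ^ 2 + ω + 1 = 0 := by
    have h1 : (2 * ω) ^ 2 + 2 * (2 * ω) + 4 = 0 := by
      rw [hω]
      linear_combination hs
    linear_combination (1 / 4 : ℂ) * h1
  refine ⟨M₂ * !![ν, 1, 1; ν, ω, -1 - ω; ν, -1 - ω, ω], ν, c * τ, ?_, ?_, mul_ne_zero hc hτ0, ?_⟩
  · rw [Matrix.det_mul]
    apply mul_ne_zero hdet₂
    have hd : (!![ν, 1, 1; ν, ω, -1 - ω; ν, -1 - ω, ω] : Matrix (Fin 3) (Fin 3) ℂ).det =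
        -3 * ν * s := by
      rw [Matrix.det_fin_three]
      simp
      linear_combination (-3 * ν) * hω
    rw [hd]
    exact mul_ne_zero (mul_ne_zero (by norm_num) hν0) hs0
  · intro h1
    rw [h1, mul_one] at hν3
    have : (27 : ℂ) = 0 := by linear_combination -hν3
    norm_num at this
  · intro x y z
    rw [co_mul, hG]
    simp only [Matrix.of_apply, Matrix.cons_val', Matrix.cons_val_zero, Matrix.cons_val_one,
      Matrix.cons_val, Matrix.cons_val_fin_one]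
    linear_combination (-(c * τ) * (ν * x + y + z) * (y - z) ^ 2) * hω2 - (c * x ^ 3) * hν3

end hesse

section final

/-- evaluating a linear substitution (three variables) -/
theorem eval_aeval_linear3 (A : Matrix (Fin 3) (Fin 3) ℂ) (v : Fin 3 → ℂ)
    (g : MvPolynomial (Fin 3) ℂ) :
    eval v (aeval (fun i : Fin 3 => ∑ j : Fin 3, C (A i j) * X j) g) =
      eval (A.mulVec v) g := by
  have h := eval₂Hom_bind₁ (RingHom.id ℂ) v (fun i : Fin 3 => ∑ j : Fin 3, C (A i j) * X j) g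
  have h2 : (fun i => eval₂Hom (RingHom.id ℂ) v (∑ j : Fin 3, C (A i j) * X j)) =
      A.mulVec v := by
    funext i
    rw [Matrix.mulVec, dotProduct, map_sum]
    apply Finset.sum_congr rfl
    intro j _
    rw [map_mul]
    simp
  rw [h2] at h
  exact h

theorem eval_hesseForm (k : ℂ) (ξ : Fin 3 → ℂ) :
    eval ξ (HesseCubic.form k) = ξ 0 ^ 3 + ξ 1 ^ 3 + ξ 2 ^ 3 - 3 * k * ξ 0 * ξ 1 * ξ 2 := by
  simp [HesseCubic.form]
  ring

/-- Hesse normal form of a smooth plane cubic -/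
theorem exists_hesseForm {f : MvPolynomial (Fin 3) ℂ} (hf : f.IsHomogeneous 3)
    (hsm : ∀ v : Fin 3 → ℂ, v ≠ 0 → eval v f = 0 → ∃ i : Fin 3, eval v (pderiv i f) ≠ 0) :
    ∃ (A : Matrix (Fin 3) (Fin 3) ℂ) (k c : ℂ), IsUnit A.det ∧ k ^ 3 ≠ 1 ∧ c ≠ 0 ∧
      aeval (fun i : Fin 3 => ∑ j : Fin 3, C (A i j) * X j) f = C c * HesseCubic.form k := by
  obtain ⟨M, k, c, hdet, hk, hc, hH⟩ := exists_hesse_coords hf hsm
  refine ⟨M, k, c, isUnit_iff_ne_zero.2 hdet, hk, hc, ?_⟩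
  apply MvPolynomial.funext
  intro ξ
  rw [eval_aeval_linear3, map_mul, eval_C, eval_hesseForm]
  have := hH (ξ 0) (ξ 1) (ξ 2)
  unfold co at this
  rw [← vec3_eq] at this
  exact this

end final

end Groth.Agent.Lib.Helper92.Cubic
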