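import Mathlib
import Groth.Agent.Lib.Helper92.PlaneCubic

/-!
# Flexes of the Hesse cubic (helper92)
-/

set_option autoImplicit false
set_option linter.unusedSectionVars false

namespace Groth.Agent.Lib.Helper92.Cubic

open MvPolynomial

section flexkernel

variable {f : MvPolynomial (Fin 3) ℂ}

/-- at a flex the Hessian form is degenerate -/
theorem flex_kernel (hf : f.IsHomogeneous 3) (p q : Fin 3 → ℂ) (hp : p ≠ 0) (hfp : eval p f = 0)
    (hind : ∀ a b : ℂ, a • p + b • q = 0 → a = 0 ∧ b = 0)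
    (hflex : ∀ t : ℂ, eval (p + t • q) f = t ^ 3 * eval q f) :
    ∃ n : Fin 3 → ℂ, n ≠ 0 ∧ ∀ u : Fin 3 → ℂ, eval p (dd u (dd n f)) = 0 := by
  have h1 := hflex 1
  have h2 := hflex (-1)
  rw [cubic_expand hf, hfp] at h1 h2
  have hA : eval p (dd q f) = 0 := by linear_combination (1 / 2 : ℂ) * h1 - (1 / 2 : ℂ) * h2
  have hB : eval q (dd p f) = 0 := by linear_combination (1 / 2 : ℂ) * h1 + (1 / 2 : ℂ) * h2
  -- the bilinear form `β(a, b) = eval p (dd a (dd b f))`
  have hβp : ∀ u, eval p (dd p (dd u f)) = 2 * eval p (dd u f) := by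
    intro u
    have := euler_eval (dd_isHomogeneous hf u) p
    rw [this]
    norm_num
  have hpp : eval p (dd p (dd p f)) = 0 := by
    rw [hβp, euler_eval hf, hfp]
    ring
  have hpq : eval p (dd p (dd q f)) = 0 := by rw [hβp, hA]; ring
  have hqp : eval p (dd q (dd p f)) = 0 := by rw [dd_comm, hpq]
  have hqq : eval p (dd q (dd q f)) = 0 := by
    rw [mixed_symm hf p q q]
    have := euler_eval (dd_isHomogeneous hf p) q
    rw [this, hB]
    ring
  obtain ⟨r, hr⟩ := exists_third q p (fun a b hab => by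
    have := hind b a (by rw [add_comm]; exact hab)
    exact ⟨this.2, this.1⟩)
  have hdet := colMat_det_ne_zero p q r hr
  have hspan : ∀ u : Fin 3 → ℂ, ∃ x y z : ℂ, u = x • p + y • q + z • r := by
    intro u
    refine ⟨((colMat p q r)⁻¹.mulVec u) 0, ((colMat p q r)⁻¹.mulVec u) 1,
      ((colMat p q r)⁻¹.mulVec u) 2, ?_⟩
    rw [← colMat_mulVec, ← vec3_eq, Matrix.mulVec_mulVec,
      Matrix.mul_nonsing_inv _ (isUnit_iff_ne_zero.2 hdet), Matrix.one_mulVec]
  by_cases hpr : eval p (dd r (dd p f)) = 0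
  · refine ⟨p, hp, ?_⟩
    intro u
    obtain ⟨x, y, z, rfl⟩ := hspan u
    rw [eval_dd_add, eval_dd_add, eval_dd_smul, eval_dd_smul, eval_dd_smul, hpp, hqp, hpr]
    ring
  · refine ⟨q - (eval p (dd r (dd q f)) / eval p (dd r (dd p f))) • p, ?_, ?_⟩
    · intro h0
      have := (hind (-(eval p (dd r (dd q f)) / eval p (dd r (dd p f)))) 1 (by
        rw [one_smul, neg_smul, ← h0]
        abel)).2
      exact one_ne_zero this
    · intro u
      obtain ⟨x, y, z, rfl⟩ := hspan u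
      have e1 : ∀ a, eval p (dd a (dd (q - (eval p (dd r (dd q f)) /
          eval p (dd r (dd p f))) • p) f)) = eval p (dd a (dd q f)) -
          (eval p (dd r (dd q f)) / eval p (dd r (dd p f))) * eval p (dd a (dd p f)) := by
        intro a
        rw [dd_comm, eval_dd_sub, eval_dd_smul, dd_comm, dd_comm p a]
      rw [eval_dd_add, eval_dd_add, eval_dd_smul, eval_dd_smul, eval_dd_smul, e1, e1, e1,
        hpp, hqp, hpq, hqq]
      field_simp
      ring

end flexkernel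

section hesse

theorem form_isHomogeneous (k : ℂ) : (HesseCubic.form k).IsHomogeneous 3 := by
  unfold HesseCubic.form
  have hX : ∀ i : Fin 3, (X i ^ 3 : MvPolynomial (Fin 3) ℂ).IsHomogeneous 3 := by
    intro i
    have := (isHomogeneous_X ℂ i).pow 3
    simpa using this
  have hP : (C (3 * k) * (X 0 * X 1 * X 2) : MvPolynomial (Fin 3) ℂ).IsHomogeneous 3 := by
    have h1 := ((isHomogeneous_X ℂ (0 : Fin 3)).mul (isHomogeneous_X ℂ (1 : Fin 3))).mul
      (isHomogeneous_X ℂ (2 : Fin 3))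
    have h2 := (isHomogeneous_C (Fin 3) (3 * k)).mul h1
    simpa using h2
  exact (((hX 0).add (hX 1)).add (hX 2)).sub hP

/-- the mixed second derivative through values -/
theorem mixed_eq_values {f : MvPolynomial (Fin 3) ℂ} (hf : f.IsHomogeneous 3)
    (p u n : Fin 3 → ℂ) :
    eval p (dd u (dd n f)) =
      (eval (p + u + n) f - eval (p + u - n) f) / 2 - (eval (p + n) f - eval (p - n) f) / 2 -
        (eval (u + n) f - eval (u - n) f) / 2 + eval n f := by
  have h1 := quadric_expand (dd_isHomogeneous hf n) p u 1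
  rw [one_smul] at h1
  rw [dd_eq_values3 hf, dd_eq_values3 hf, dd_eq_values3 hf] at h1
  linear_combination -h1

/-- a flex of the Hesse cubic lies on a coordinate line -/
theorem hesse_flex_prod (k : ℂ) (hk3 : k ^ 3 ≠ 1) (p q : Fin 3 → ℂ) (hp : p ≠ 0)
    (hfp : eval p (HesseCubic.form k) = 0)
    (hind : ∀ a b : ℂ, a • p + b • q = 0 → a = 0 ∧ b = 0)
    (hflex : ∀ t : ℂ, eval (p + t • q) (HesseCubic.form k) = t ^ 3 * eval q (HesseCubic.form k)) :
    p 0 * p 1 * p 2 = 0 := by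
  obtain ⟨n, hn0, hn⟩ := flex_kernel (form_isHomogeneous k) p q hp hfp hind hflex
  have h0 := hn (Pi.single 0 1)
  have h1 := hn (Pi.single 1 1)
  have h2 := hn (Pi.single 2 1)
  rw [mixed_eq_values (form_isHomogeneous k)] at h0 h1 h2
  simp only [eval_hesseForm, Pi.add_apply, Pi.sub_apply, Pi.single_eq_same, ne_eq,
    Fin.reduceEq, not_false_eq_true, Pi.single_eq_of_ne, one_ne_zero, zero_ne_one,
    Fin.isValue] at h0 h1 h2
  have hM : (!![6 * p 0, -3 * k * p 2, -3 * k * p 1; -3 * k * p 2, 6 * p 1, -3 * k * p 0;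
      -3 * k * p 1, -3 * k * p 0, 6 * p 2] : Matrix (Fin 3) (Fin 3) ℂ).mulVec n = 0 := by
    funext i
    fin_cases i
    · simp [Matrix.mulVec, dotProduct, Fin.sum_univ_three]
      linear_combination h0
    · simp [Matrix.mulVec, dotProduct, Fin.sum_univ_three]
      linear_combination h1
    · simp [Matrix.mulVec, dotProduct, Fin.sum_univ_three]
      linear_combination h2
  have hdet := Matrix.exists_mulVec_eq_zero_iff.1 ⟨n, hn0, hM⟩
  rw [Matrix.det_fin_three] at hdet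
  simp at hdet
  rw [eval_hesseForm] at hfp
  have h3 : 216 * (1 - k ^ 3) * (p 0 * p 1 * p 2) = 0 := by
    linear_combination hdet + (54 * k ^ 2) * hfp
  have h4 : (216 : ℂ) * (1 - k ^ 3) ≠ 0 := by
    apply mul_ne_zero (by norm_num)
    intro h
    apply hk3
    linear_combination -h
  exact (mul_eq_zero.1 h3).resolve_left h4

end hesse

section transitive

/-- every flex of the Hesse cubic is the image of `(0, 1, -1)` under a linear automorphism -/
theorem hesse_flex_transitive (k : ℂ) (hk3 : k ^ 3 ≠ 1) (p q : Fin 3 → ℂ) (hp : p ≠ 0)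
    (hfp : eval p (HesseCubic.form k) = 0)
    (hind : ∀ a b : ℂ, a • p + b • q = 0 → a = 0 ∧ b = 0)
    (hflex : ∀ t : ℂ, eval (p + t • q) (HesseCubic.form k) = t ^ 3 * eval q (HesseCubic.form k)) :
    ∃ N : Matrix (Fin 3) (Fin 3) ℂ, N.det ≠ 0 ∧
      (∀ ξ : Fin 3 → ℂ, eval (N.mulVec ξ) (HesseCubic.form k) = eval ξ (HesseCubic.form k)) ∧
      ∃ d : ℂ, d ≠ 0 ∧ N.mulVec ![0, 1, -1] = d • p := by
  have hprod := hesse_flex_prod k hk3 p q hp hfp hind hflex
  rw [eval_hesseForm] at hfp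
  rcases mul_eq_zero.1 hprod with h01 | h2
  · rcases mul_eq_zero.1 h01 with h0 | h1
    · -- `p 0 = 0`
      have hp1 : p 1 ≠ 0 := by
        intro h1
        apply hp
        have h2 : p 2 ^ 3 = 0 := by
          rw [h0, h1] at hfp
          linear_combination hfp
        have h2' : p 2 = 0 := pow_eq_zero_iff (by norm_num) |>.1 h2
        funext i
        fin_cases i
        · exact h0
        · exact h1
        · exact h2'
      obtain ⟨ε, hε⟩ : ∃ ε : ℂ, ε * p 1 = -p 2 := ⟨-p 2 / p 1, by field_simp⟩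
      have hε3 : ε ^ 3 = 1 := by
        have h3 : (ε ^ 3 - 1) * p 1 ^ 3 = 0 := by
          rw [h0] at hfp
          have : (ε * p 1) ^ 3 = (-p 2) ^ 3 := by rw [hε]
          linear_combination this - hfp
        exact sub_eq_zero.1 ((mul_eq_zero.1 h3).resolve_right (pow_ne_zero 3 hp1))
      refine ⟨!![ε ^ 2, 0, 0; 0, 1, 0; 0, 0, ε], ?_, ?_, (p 1)⁻¹, inv_ne_zero hp1, ?_⟩
      · rw [Matrix.det_fin_three]
        simp
        intro h0
        rw [h0] at hε3
        norm_num at hε3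
      · intro ξ
        rw [eval_hesseForm, eval_hesseForm]
        simp [Matrix.mulVec, dotProduct, Fin.sum_univ_three]
        linear_combination (ξ 0 ^ 3 * (ε ^ 3 + 1) + ξ 2 ^ 3 - 3 * k * ξ 0 * ξ 1 * ξ 2) * hε3
      · funext i
        fin_cases i
        · simp [Matrix.mulVec, dotProduct, Fin.sum_univ_three, h0]
        · simp [Matrix.mulVec, dotProduct, Fin.sum_univ_three, hp1]
        · simp [Matrix.mulVec, dotProduct, Fin.sum_univ_three]
          field_simp
          linear_combination -hε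
    · -- `p 1 = 0`
      have hp2 : p 2 ≠ 0 := by
        intro h2
        apply hp
        have h3 : p 0 ^ 3 = 0 := by
          rw [h1, h2] at hfp
          linear_combination hfp
        have h3' : p 0 = 0 := pow_eq_zero_iff (by norm_num) |>.1 h3
        funext i
        fin_cases i
        · exact h3'
        · exact h1
        · exact h2
      obtain ⟨ε, hε⟩ : ∃ ε : ℂ, ε * p 2 = -p 0 := ⟨-p 0 / p 2, by field_simp⟩
      have hε3 : ε ^ 3 = 1 := by
        have h3 : (ε ^ 3 - 1) * p 2 ^ 3 = 0 := by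
          rw [h1] at hfp
          have : (ε * p 2) ^ 3 = (-p 0) ^ 3 := by rw [hε]
          linear_combination this - hfp
        exact sub_eq_zero.1 ((mul_eq_zero.1 h3).resolve_right (pow_ne_zero 3 hp2))
      refine ⟨!![0, 0, ε; ε ^ 2, 0, 0; 0, 1, 0], ?_, ?_, (p 2)⁻¹, inv_ne_zero hp2, ?_⟩
      · rw [Matrix.det_fin_three]
        simp
        intro h0
        rw [h0] at hε3
        norm_num at hε3
      · intro ξ
        rw [eval_hesseForm, eval_hesseForm]
        simp [Matrix.mulVec, dotProduct, Fin.sum_univ_three]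
        linear_combination (ξ 0 ^ 3 * (ε ^ 3 + 1) + ξ 2 ^ 3 - 3 * k * ξ 0 * ξ 1 * ξ 2) * hε3
      · funext i
        fin_cases i
        · simp [Matrix.mulVec, dotProduct, Fin.sum_univ_three]
          field_simp
          linear_combination -hε
        · simp [Matrix.mulVec, dotProduct, Fin.sum_univ_three, h1]
        · simp [Matrix.mulVec, dotProduct, Fin.sum_univ_three, hp2]
  · -- `p 2 = 0`
    have hp0 : p 0 ≠ 0 := by
      intro h0
      apply hp
      have h3 : p 1 ^ 3 = 0 := by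
        rw [h0, h2] at hfp
        linear_combination hfp
      have h3' : p 1 = 0 := pow_eq_zero_iff (by norm_num) |>.1 h3
      funext i
      fin_cases i
      · exact h0
      · exact h3'
      · exact h2
    obtain ⟨ε, hε⟩ : ∃ ε : ℂ, ε * p 0 = -p 1 := ⟨-p 1 / p 0, by field_simp⟩
    have hε3 : ε ^ 3 = 1 := by
      have h3 : (ε ^ 3 - 1) * p 0 ^ 3 = 0 := by
        rw [h2] at hfp
        have : (ε * p 0) ^ 3 = (-p 1) ^ 3 := by rw [hε]
        linear_combination this - hfp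
      exact sub_eq_zero.1 ((mul_eq_zero.1 h3).resolve_right (pow_ne_zero 3 hp0))
    refine ⟨!![0, 1, 0; 0, 0, ε; ε ^ 2, 0, 0], ?_, ?_, (p 0)⁻¹, inv_ne_zero hp0, ?_⟩
    · rw [Matrix.det_fin_three]
      simp
      intro h0
      rw [h0] at hε3
      norm_num at hε3
    · intro ξ
      rw [eval_hesseForm, eval_hesseForm]
      simp [Matrix.mulVec, dotProduct, Fin.sum_univ_three]
      linear_combination (ξ 0 ^ 3 * (ε ^ 3 + 1) + ξ 2 ^ 3 - 3 * k * ξ 0 * ξ 1 * ξ 2) * hε3
    · funext i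
      fin_cases i
      · simp [Matrix.mulVec, dotProduct, Fin.sum_univ_three, hp0]
      · simp [Matrix.mulVec, dotProduct, Fin.sum_univ_three]
        field_simp
        linear_combination -hε
      · simp [Matrix.mulVec, dotProduct, Fin.sum_univ_three, h2]

end transitive

section flexaut

variable {f : MvPolynomial (Fin 3) ℂ}

/-- transfer of a flex to Hesse coordinates -/
theorem flex_to_hesse (M : Matrix (Fin 3) (Fin 3) ℂ) (k c₀ : ℂ) (hdet : M.det ≠ 0) (hc₀ : c₀ ≠ 0)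
    (hH : ∀ ξ : Fin 3 → ℂ, eval (M.mulVec ξ) f = c₀ * eval ξ (HesseCubic.form k))
    (v w : Fin 3 → ℂ) (hv : v ≠ 0) (hfv : eval v f = 0) (hli : LinearIndependent ℂ ![v, w])
    (hflex : ∀ t : ℂ, eval (v + t • w) f = t ^ 3 * eval w f) :
    M⁻¹.mulVec v ≠ 0 ∧ eval (M⁻¹.mulVec v) (HesseCubic.form k) = 0 ∧
      (∀ a b : ℂ, a • M⁻¹.mulVec v + b • M⁻¹.mulVec w = 0 → a = 0 ∧ b = 0) ∧
      ∀ t : ℂ, eval (M⁻¹.mulVec v + t • M⁻¹.mulVec w) (HesseCubic.form k) =
        t ^ 3 * eval (M⁻¹.mulVec w) (HesseCubic.form k) := by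
  have hMinv : ∀ y : Fin 3 → ℂ, M.mulVec (M⁻¹.mulVec y) = y := by
    intro y
    rw [Matrix.mulVec_mulVec, Matrix.mul_nonsing_inv _ (isUnit_iff_ne_zero.2 hdet),
      Matrix.one_mulVec]
  refine ⟨?_, ?_, ?_, ?_⟩
  · intro h0
    apply hv
    rw [← hMinv v, h0, Matrix.mulVec_zero]
  · have := hH (M⁻¹.mulVec v)
    rw [hMinv, hfv] at this
    exact (mul_eq_zero.1 this.symm).resolve_left hc₀
  · intro a b hab
    have h1 := congrArg M.mulVec hab
    rw [Matrix.mulVec_add, Matrix.mulVec_smul, Matrix.mulVec_smul, hMinv, hMinv,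
      Matrix.mulVec_zero] at h1
    exact LinearIndependent.pair_iff.1 hli a b h1
  · intro t
    have h1 := hH (M⁻¹.mulVec v + t • M⁻¹.mulVec w)
    rw [Matrix.mulVec_add, Matrix.mulVec_smul, hMinv, hMinv, hflex, ← hMinv w, hH, hMinv] at h1
    have h2 : c₀ * (eval (M⁻¹.mulVec v + t • M⁻¹.mulVec w) (HesseCubic.form k) -
        t ^ 3 * eval (M⁻¹.mulVec w) (HesseCubic.form k)) = 0 := by
      linear_combination -h1
    exact sub_eq_zero.1 ((mul_eq_zero.1 h2).resolve_left hc₀)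

/-- the projective automorphism group of a smooth plane cubic is transitive on flexes -/
theorem exists_flex_aut (hf : f.IsHomogeneous 3)
    (hsm : ∀ v : Fin 3 → ℂ, v ≠ 0 → eval v f = 0 → ∃ i : Fin 3, eval v (pderiv i f) ≠ 0)
    (v v' : Fin 3 → ℂ) (hv : v ≠ 0) (hv' : v' ≠ 0) (hfv : eval v f = 0) (hfv' : eval v' f = 0)
    (hflex : ∃ w : Fin 3 → ℂ, LinearIndependent ℂ ![v, w] ∧
      ∀ t : ℂ, eval (v + t • w) f = t ^ 3 * eval w f)
    (hflex' : ∃ w : Fin 3 → ℂ, LinearIndependent ℂ ![v', w] ∧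
      ∀ t : ℂ, eval (v' + t • w) f = t ^ 3 * eval w f) :
    ∃ (A : Matrix (Fin 3) (Fin 3) ℂ) (c d : ℂ), IsUnit A.det ∧
      aeval (fun i : Fin 3 => ∑ j : Fin 3, C (A i j) * X j) f = C c * f ∧
      A.mulVec v = d • v' := by
  obtain ⟨M, k, c₀, hdet, hk, hc₀, hH0⟩ := exists_hesse_coords hf hsm
  have hH : ∀ ξ : Fin 3 → ℂ, eval (M.mulVec ξ) f = c₀ * eval ξ (HesseCubic.form k) := by
    intro ξ
    have := hH0 (ξ 0) (ξ 1) (ξ 2)
    unfold co at this
    rw [← vec3_eq] at this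
    rw [this, eval_hesseForm]
  have hMinv : ∀ y : Fin 3 → ℂ, M.mulVec (M⁻¹.mulVec y) = y := by
    intro y
    rw [Matrix.mulVec_mulVec, Matrix.mul_nonsing_inv _ (isUnit_iff_ne_zero.2 hdet),
      Matrix.one_mulVec]
  obtain ⟨w, hli, hfl⟩ := hflex
  obtain ⟨w', hli', hfl'⟩ := hflex'
  obtain ⟨hp0, hfp, hind, hpf⟩ := flex_to_hesse M k c₀ hdet hc₀ hH v w hv hfv hli hfl
  obtain ⟨hp0', hfp', hind', hpf'⟩ := flex_to_hesse M k c₀ hdet hc₀ hH v' w' hv' hfv' hli' hfl'
  obtain ⟨N, hNdet, hN, d, hd, hNp⟩ := hesse_flex_transitive k hk _ _ hp0 hfp hind hpf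
  obtain ⟨N', hNdet', hN', d', hd', hNp'⟩ := hesse_flex_transitive k hk _ _ hp0' hfp' hind' hpf'
  have hNinv : ∀ y : Fin 3 → ℂ, N.mulVec (N⁻¹.mulVec y) = y := by
    intro y
    rw [Matrix.mulVec_mulVec, Matrix.mul_nonsing_inv _ (isUnit_iff_ne_zero.2 hNdet),
      Matrix.one_mulVec]
  have hNinv' : ∀ y : Fin 3 → ℂ, N⁻¹.mulVec (N.mulVec y) = y := by
    intro y
    rw [Matrix.mulVec_mulVec, Matrix.nonsing_inv_mul _ (isUnit_iff_ne_zero.2 hNdet),
      Matrix.one_mulVec]
  have hA : ∀ ξ : Fin 3 → ℂ, (M * N' * N⁻¹ * M⁻¹).mulVec ξ =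
      M.mulVec (N'.mulVec (N⁻¹.mulVec (M⁻¹.mulVec ξ))) := by
    intro ξ
    rw [Matrix.mulVec_mulVec, Matrix.mulVec_mulVec, Matrix.mulVec_mulVec]
  refine ⟨M * N' * N⁻¹ * M⁻¹, 1, d⁻¹ * d', ?_, ?_, ?_⟩
  · rw [Matrix.det_mul, Matrix.det_mul, Matrix.det_mul, Matrix.det_nonsing_inv,
      Matrix.det_nonsing_inv]
    apply isUnit_iff_ne_zero.2
    have h1 : Ring.inverse N.det ≠ 0 := by
      rw [Ring.inverse_eq_inv']
      exact inv_ne_zero hNdet
    have h2 : Ring.inverse M.det ≠ 0 := by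
      rw [Ring.inverse_eq_inv']
      exact inv_ne_zero hdet
    exact mul_ne_zero (mul_ne_zero (mul_ne_zero hdet hNdet') h1) h2
  · apply MvPolynomial.funext
    intro ξ
    rw [eval_aeval_linear3, hA, hH, hN', map_mul, eval_C, one_mul, ← hN (N⁻¹.mulVec _), hNinv,
      ← hH, hMinv]
  · rw [hA]
    have h1 : N⁻¹.mulVec (M⁻¹.mulVec v) = d⁻¹ • ![0, 1, -1] := by
      have : M⁻¹.mulVec v = d⁻¹ • N.mulVec ![0, 1, -1] := by
        rw [hNp, smul_smul, inv_mul_cancel₀ hd, one_smul]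
      rw [this, Matrix.mulVec_smul, hNinv']
    rw [h1, Matrix.mulVec_smul, hNp', Matrix.mulVec_smul, Matrix.mulVec_smul, hMinv, smul_smul]

end flexaut

end Groth.Agent.Lib.Helper92.Cubic
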