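import Mathlib
import Groth.Agent.Lib.Helper92.HesseFlex

/-!
# Projective automorphisms fixing all flexes are trivial (helper92)
-/

set_option autoImplicit false
set_option linter.unusedSectionVars false

namespace Groth.Agent.Lib.Helper92.Cubic

open MvPolynomial

section explicitflex

theorem hesse_flex_a (k ε : ℂ) (hε : ε ^ 3 = 1) :
    (![0, 1, -ε] : Fin 3 → ℂ) ≠ 0 ∧ eval ![0, 1, -ε] (HesseCubic.form k) = 0 ∧
      (∀ a b : ℂ, a • (![0, 1, -ε] : Fin 3 → ℂ) + b • ![1, -k * ε, 0] = 0 → a = 0 ∧ b = 0) ∧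
      ∀ t : ℂ, eval ((![0, 1, -ε] : Fin 3 → ℂ) + t • ![1, -k * ε, 0]) (HesseCubic.form k) =
        t ^ 3 * eval ![1, -k * ε, 0] (HesseCubic.form k) := by
  refine ⟨?_, ?_, ?_, ?_⟩
  · intro h
    have := congrFun h 1
    simp at this
  · rw [eval_hesseForm]
    simp
    linear_combination -hε
  · intro a b hab
    have h0 := congrFun hab 0
    have h1 := congrFun hab 1
    simp at h0 h1
    rw [h0] at h1
    simp at h1
    exact ⟨h1, h0⟩
  · intro t
    rw [eval_hesseForm, eval_hesseForm]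
    simp
    linear_combination (-1 + k ^ 3 * t ^ 3 - t ^ 3 * k ^ 3) * hε

theorem hesse_flex_b (k ε : ℂ) (hε : ε ^ 3 = 1) :
    (![-ε, 0, 1] : Fin 3 → ℂ) ≠ 0 ∧ eval ![-ε, 0, 1] (HesseCubic.form k) = 0 ∧
      (∀ a b : ℂ, a • (![-ε, 0, 1] : Fin 3 → ℂ) + b • ![0, 1, -k * ε] = 0 → a = 0 ∧ b = 0) ∧
      ∀ t : ℂ, eval ((![-ε, 0, 1] : Fin 3 → ℂ) + t • ![0, 1, -k * ε]) (HesseCubic.form k) =
        t ^ 3 * eval ![0, 1, -k * ε] (HesseCubic.form k) := by
  refine ⟨?_, ?_, ?_, ?_⟩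
  · intro h
    have := congrFun h 2
    simp at this
  · rw [eval_hesseForm]
    simp
    linear_combination -hε
  · intro a b hab
    have h1 := congrFun hab 1
    have h2 := congrFun hab 2
    simp at h1 h2
    rw [h1] at h2
    simp at h2
    exact ⟨h2, h1⟩
  · intro t
    rw [eval_hesseForm, eval_hesseForm]
    simp
    linear_combination (-1 + k ^ 3 * t ^ 3 - t ^ 3 * k ^ 3) * hε

end explicitflex

section faithful

theorem quad_three_roots (ω : ℂ) (hω : ω ^ 2 + ω + 1 = 0) (α β γ : ℂ)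
    (h1 : α * 1 ^ 2 + β * 1 + γ = 0) (h2 : α * ω ^ 2 + β * ω + γ = 0)
    (h3 : α * (ω ^ 2) ^ 2 + β * ω ^ 2 + γ = 0) : α = 0 ∧ β = 0 ∧ γ = 0 := by
  have hγ : γ = 0 := by
    linear_combination (1 / 3 : ℂ) * h1 + (1 / 3 : ℂ) * h2 + (1 / 3 : ℂ) * h3 -
      (1 / 3 : ℂ) * (α * (1 - ω + ω ^ 2) + β) * hω
  have hne : ω ^ 2 - ω ≠ 0 := by
    intro h
    have h4 : (ω ^ 2 - ω) ^ 2 = -3 := by
      linear_combination (ω ^ 2 - 3 * ω + 3) * hω
    rw [h, zero_pow (by norm_num)] at h4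
    norm_num at h4
  have hα : α = 0 := by
    have h5 : α * (ω ^ 2 - ω) = 0 := by
      linear_combination h2 - ω * h1 - (1 - ω) * hγ
    exact (mul_eq_zero.1 h5).resolve_right hne
  refine ⟨hα, ?_, hγ⟩
  linear_combination h1 - hα - hγ

variable {f : MvPolynomial (Fin 3) ℂ}

/-- a projective automorphism fixing every flex is trivial -/
theorem scalar_of_fixing_flexes (hf : f.IsHomogeneous 3)
    (hsm : ∀ v : Fin 3 → ℂ, v ≠ 0 → eval v f = 0 → ∃ i : Fin 3, eval v (pderiv i f) ≠ 0)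
    (A : Matrix (Fin 3) (Fin 3) ℂ)
    (hfix : ∀ v : Fin 3 → ℂ, v ≠ 0 → eval v f = 0 →
      (∃ w : Fin 3 → ℂ, LinearIndependent ℂ ![v, w] ∧
        ∀ t : ℂ, eval (v + t • w) f = t ^ 3 * eval w f) →
      ∃ d : ℂ, A.mulVec v = d • v) :
    ∃ c : ℂ, A = c • (1 : Matrix (Fin 3) (Fin 3) ℂ) := by
  obtain ⟨M, k, c₀, hdet, hk, hc₀, hH0⟩ := exists_hesse_coords hf hsm
  have hH : ∀ ξ : Fin 3 → ℂ, eval (M.mulVec ξ) f = c₀ * eval ξ (HesseCubic.form k) := by
    intro ξ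
    have := hH0 (ξ 0) (ξ 1) (ξ 2)
    unfold co at this
    rw [← vec3_eq] at this
    rw [this, eval_hesseForm]
  have hMinv' : ∀ y : Fin 3 → ℂ, M⁻¹.mulVec (M.mulVec y) = y := by
    intro y
    rw [Matrix.mulVec_mulVec, Matrix.nonsing_inv_mul _ (isUnit_iff_ne_zero.2 hdet),
      Matrix.one_mulVec]
  -- transfer of the fixing property
  have key : ∀ p q : Fin 3 → ℂ, p ≠ 0 → eval p (HesseCubic.form k) = 0 →
      (∀ a b : ℂ, a • p + b • q = 0 → a = 0 ∧ b = 0) →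
      (∀ t : ℂ, eval (p + t • q) (HesseCubic.form k) = t ^ 3 * eval q (HesseCubic.form k)) →
      ∃ d : ℂ, (M⁻¹ * A * M).mulVec p = d • p := by
    intro p q hp hfp hind hflex
    have hv : M.mulVec p ≠ 0 := by
      intro h0
      apply hp
      rw [← hMinv' p, h0, Matrix.mulVec_zero]
    obtain ⟨d, hd⟩ := hfix (M.mulVec p) hv (by rw [hH, hfp, mul_zero]) ⟨M.mulVec q, by
      rw [LinearIndependent.pair_iff]
      intro a b hab
      apply hind a b
      rw [← hMinv' (a • p + b • q), Matrix.mulVec_add, Matrix.mulVec_smul, Matrix.mulVec_smul, hab,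
        Matrix.mulVec_zero], by
      intro t
      rw [← Matrix.mulVec_smul, ← Matrix.mulVec_add, hH, hH, hflex]
      ring⟩
    refine ⟨d, ?_⟩
    rw [← Matrix.mulVec_mulVec, ← Matrix.mulVec_mulVec, hd, Matrix.mulVec_smul, hMinv']
  obtain ⟨B, hB⟩ : ∃ B : Matrix (Fin 3) (Fin 3) ℂ, B = M⁻¹ * A * M := ⟨_, rfl⟩
  rw [← hB] at key
  have ha : ∀ ε : ℂ, ε ^ 3 = 1 → ∃ d : ℂ, B.mulVec ![0, 1, -ε] = d • ![0, 1, -ε] := by
    intro ε hε
    obtain ⟨h1, h2, h3, h4⟩ := hesse_flex_a k ε hε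
    exact key _ _ h1 h2 h3 h4
  have hb : ∀ ε : ℂ, ε ^ 3 = 1 → ∃ d : ℂ, B.mulVec ![-ε, 0, 1] = d • ![-ε, 0, 1] := by
    intro ε hε
    obtain ⟨h1, h2, h3, h4⟩ := hesse_flex_b k ε hε
    exact key _ _ h1 h2 h3 h4
  -- entrywise consequences
  have ha' : ∀ ε : ℂ, ε ^ 3 = 1 → B 0 1 - ε * B 0 2 = 0 ∧
      B 1 2 * ε ^ 2 + (B 2 2 - B 1 1) * ε + (-B 2 1) = 0 := by
    intro ε hε
    obtain ⟨d, hd⟩ := ha ε hε
    have e0 := congrFun hd 0
    have e1 := congrFun hd 1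
    have e2 := congrFun hd 2
    simp [Matrix.mulVec, dotProduct, Fin.sum_univ_three] at e0 e1 e2
    constructor
    · linear_combination e0
    · linear_combination (-ε) * e1 - e2
  have hb' : ∀ ε : ℂ, ε ^ 3 = 1 → -ε * B 1 0 + B 1 2 = 0 ∧
      B 2 0 * ε ^ 2 + (B 0 0 - B 2 2) * ε + (-B 0 2) = 0 := by
    intro ε hε
    obtain ⟨d, hd⟩ := hb ε hε
    have e0 := congrFun hd 0
    have e1 := congrFun hd 1
    have e2 := congrFun hd 2
    simp [Matrix.mulVec, dotProduct, Fin.sum_univ_three] at e0 e1 e2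
    constructor
    · linear_combination e1
    · linear_combination (-ε) * e2 - e0
  obtain ⟨s, hs⟩ := IsAlgClosed.exists_pow_nat_eq (-3 : ℂ) (n := 2) (by norm_num)
  obtain ⟨ω, hω⟩ : ∃ ω : ℂ, 2 * ω = -1 + s := ⟨(-1 + s) / 2, by ring⟩
  have hω2 : ω ^ 2 + ω + 1 = 0 := by
    have h1 : (2 * ω) ^ 2 + 2 * (2 * ω) + 4 = 0 := by
      rw [hω]
      linear_combination hs
    linear_combination (1 / 4 : ℂ) * h1
  have h13 : (1 : ℂ) ^ 3 = 1 := one_pow 3
  have hω3 : ω ^ 3 = 1 := by linear_combination (ω - 1) * hω2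
  have hω6 : (ω ^ 2) ^ 3 = 1 := by rw [← pow_mul, mul_comm, pow_mul, hω3, one_pow]
  have hω1 : ω - 1 ≠ 0 := by
    intro h
    have : ω = 1 := sub_eq_zero.1 h
    rw [this] at hω2
    norm_num at hω2
  obtain ⟨h121, h211, h21⟩ := quad_three_roots ω hω2 (B 1 2) (B 2 2 - B 1 1) (-B 2 1)
    (by have := (ha' 1 h13).2; linear_combination this) (ha' ω hω3).2 (ha' (ω ^ 2) hω6).2
  obtain ⟨h20, h002, h02⟩ := quad_three_roots ω hω2 (B 2 0) (B 0 0 - B 2 2) (-B 0 2)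
    (by have := (hb' 1 h13).2; linear_combination this) (hb' ω hω3).2 (hb' (ω ^ 2) hω6).2
  have h02' : B 0 2 = 0 := by linear_combination -h02
  have h21' : B 2 1 = 0 := by linear_combination -h21
  have h01 : B 0 1 = 0 := by
    have := (ha' 1 h13).1
    rw [h02'] at this
    linear_combination this
  have h10 : B 1 0 = 0 := by
    have := (hb' 1 h13).1
    rw [h121] at this
    linear_combination -this
  have hBs : B = B 0 0 • (1 : Matrix (Fin 3) (Fin 3) ℂ) := by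
    ext i j
    fin_cases i <;> fin_cases j <;> simp [h01, h02', h10, h121, h20, h21']
    · linear_combination -h002 - h211
    · linear_combination -h002
  refine ⟨B 0 0, ?_⟩
  have hA : A = M * B * M⁻¹ := by
    rw [hB]
    have h1 := Matrix.mul_nonsing_inv M (isUnit_iff_ne_zero.2 hdet)
    calc A = (M * M⁻¹) * A * (M * M⁻¹) := by rw [h1, Matrix.one_mul, Matrix.mul_one]
      _ = M * (M⁻¹ * A * M) * M⁻¹ := by simp only [Matrix.mul_assoc]
  rw [hA]
  calc M * B * M⁻¹ = M * (B 0 0 • (1 : Matrix (Fin 3) (Fin 3) ℂ)) * M⁻¹ := by rw [← hBs]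
    _ = B 0 0 • (1 : Matrix (Fin 3) (Fin 3) ℂ) := by
      rw [Matrix.mul_smul, Matrix.mul_one, Matrix.smul_mul,
        Matrix.mul_nonsing_inv M (isUnit_iff_ne_zero.2 hdet)]

end faithful

end Groth.Agent.Lib.Helper92.Cubic
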