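import Mathlib

/-!
# Hopf algebras whose augmentation ideal is free of rank one (helper92)

`R` a commutative ring, `A` a commutative Hopf algebra over `R`, `x ∈ ker ε` such that every
element of `ker ε` is `r • x` and `r • x = 0 → r = 0`.  We construct the coordinate functional
`coordX` with `f = ε f • 1 + coordX f • x`, the four coordinate functionals on `A ⊗ A` and
derive the structure constants.
-/

set_option autoImplicit false

namespace Groth.Agent.Lib.Helper92

open TensorProduct

universe u v

section

variable {R : Type u} [CommRing R] {A : Type v} [CommRing A] [HopfAlgebra R A]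

/-- The hypotheses packaged. -/
structure RankTwoData (R : Type u) [CommRing R] (A : Type v) [CommRing A] [HopfAlgebra R A]
    (x : A) : Prop where
  hx : Bialgebra.counitAlgHom R A x = 0
  hgen : ∀ f : A, Bialgebra.counitAlgHom R A f = 0 → ∃ r : R, f = r • x
  hfree : ∀ r : R, r • x = 0 → r = 0

namespace RankTwoData

variable {x : A} (D : RankTwoData R A x)

include D

theorem smul_inj {r s : R} (h : r • x = s • x) : r = s :=
  sub_eq_zero.mp (D.hfree _ (by rw [sub_smul, h, sub_self]))

theorem exists_coord (f : A) : ∃ r : R, f - algebraMap R A (Bialgebra.counitAlgHom R A f) = r • x :=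
  D.hgen _ (by simp)

/-- The `x`-coordinate functional. -/
noncomputable def coordX : A →ₗ[R] R where
  toFun f := (D.exists_coord f).choose
  map_add' f g := by
    apply D.smul_inj
    rw [add_smul, ← (D.exists_coord f).choose_spec, ← (D.exists_coord g).choose_spec,
      ← (D.exists_coord (f + g)).choose_spec, map_add, map_add]
    ring
  map_smul' c f := by
    apply D.smul_inj
    rw [RingHom.id_apply, smul_eq_mul, mul_smul, ← (D.exists_coord f).choose_spec,
      ← (D.exists_coord (c • f)).choose_spec, map_smul, smul_sub, smul_eq_mul,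
      Algebra.algebraMap_eq_smul_one, Algebra.algebraMap_eq_smul_one, mul_smul]

theorem coordX_spec (f : A) :
    f = Bialgebra.counitAlgHom R A f • (1 : A) + D.coordX f • x := by
  have h : f - algebraMap R A (Bialgebra.counitAlgHom R A f) = D.coordX f • x :=
    (D.exists_coord f).choose_spec
  rw [← h, Algebra.algebraMap_eq_smul_one, add_sub_cancel]

theorem coordX_x : D.coordX x = 1 := by
  apply D.smul_inj
  have := D.coordX_spec x
  rw [D.hx, zero_smul, zero_add] at this
  rw [one_smul]
  exact this.symm

theorem coordX_one : D.coordX (1 : A) = 0 := by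
  apply D.hfree
  have := D.coordX_spec (1 : A)
  rw [map_one, one_smul] at this
  have h2 : (1 : A) + D.coordX (1 : A) • x = 1 + 0 := by rw [add_zero]; exact this.symm
  exact add_left_cancel h2

theorem coordX_smul_x (r : R) : D.coordX (r • x) = r := by
  rw [map_smul, D.coordX_x, smul_eq_mul, mul_one]

theorem counit_smul_x (r : R) : Bialgebra.counitAlgHom R A (r • x) = 0 := by
  rw [map_smul, D.hx, smul_zero]

/-- evaluation of a pair of functionals on `A ⊗ A`. -/
noncomputable def ev2 (φ ψ : A →ₗ[R] R) : A ⊗[R] A →ₗ[R] R :=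
  (LinearMap.mul' R R) ∘ₗ (TensorProduct.map φ ψ)

omit D in
@[simp] theorem ev2_tmul (φ ψ : A →ₗ[R] R) (f g : A) : ev2 φ ψ (f ⊗ₜ[R] g) = φ f * ψ g := by
  simp [ev2]

/-- the counit as a linear functional -/
noncomputable abbrev epsL : A →ₗ[R] R := (Bialgebra.counitAlgHom R A).toLinearMap

theorem decomp (t : A ⊗[R] A) :
    t = ev2 (epsL (R := R) (A := A)) epsL t • ((1 : A) ⊗ₜ[R] (1 : A))
      + ev2 D.coordX epsL t • (x ⊗ₜ[R] (1 : A))
      + ev2 epsL D.coordX t • ((1 : A) ⊗ₜ[R] x)
      + ev2 D.coordX D.coordX t • (x ⊗ₜ[R] x) := by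
  induction t using TensorProduct.induction_on with
  | zero => simp
  | tmul f g =>
    have hf := D.coordX_spec f
    have hg := D.coordX_spec g
    have : f ⊗ₜ[R] g = (Bialgebra.counitAlgHom R A f • (1 : A) + D.coordX f • x) ⊗ₜ[R]
        (Bialgebra.counitAlgHom R A g • (1 : A) + D.coordX g • x) := by rw [← hf, ← hg]
    rw [this]
    simp only [ev2_tmul, TensorProduct.add_tmul, TensorProduct.tmul_add,
      TensorProduct.smul_tmul_smul, AlgHom.toLinearMap_apply, map_add, map_smul, map_one,
      D.hx, D.coordX_x, D.coordX_one, smul_eq_mul, mul_one, mul_zero, add_zero, zero_add]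
    abel
  | add s t hs ht =>
    simp only [map_add, add_smul]
    nth_rewrite 1 [hs, ht]
    abel

omit D in
theorem ev2_eps_left (ψ : A →ₗ[R] R) (a : A) :
    ev2 (epsL (R := R) (A := A)) ψ (Coalgebra.comul a) = ψ a := by
  have h : ev2 (epsL (R := R) (A := A)) ψ
      = ψ ∘ₗ (TensorProduct.lid R A).toLinearMap ∘ₗ (Coalgebra.counit (R := R) (A := A)).rTensor A := by
    apply TensorProduct.ext'
    intro f g
    simp
  rw [h, LinearMap.comp_apply, LinearMap.comp_apply, Coalgebra.rTensor_counit_comul]
  simp

omit D in
theorem ev2_eps_right (φ : A →ₗ[R] R) (a : A) :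
    ev2 φ (epsL (R := R) (A := A)) (Coalgebra.comul a) = φ a := by
  have h : ev2 φ (epsL (R := R) (A := A))
      = φ ∘ₗ (TensorProduct.rid R A).toLinearMap ∘ₗ (Coalgebra.counit (R := R) (A := A)).lTensor A := by
    apply TensorProduct.ext'
    intro f g
    simp [mul_comm]
  rw [h, LinearMap.comp_apply, LinearMap.comp_apply, Coalgebra.lTensor_counit_comul]
  simp

/-- The structure constant `b`. -/
noncomputable def constB : R := ev2 D.coordX D.coordX (Coalgebra.comul (R := R) x)

/-- The structure constant `a`. -/
noncomputable def constA : R := D.coordX (x * x)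

theorem mul_self_eq : x * x = D.constA • x := by
  have := D.coordX_spec (x * x)
  rw [map_mul, D.hx, zero_mul, zero_smul, zero_add] at this
  exact this

theorem comul_eq : Coalgebra.comul (R := R) x
    = x ⊗ₜ[R] (1 : A) + (1 : A) ⊗ₜ[R] x + D.constB • (x ⊗ₜ[R] x) := by
  have := D.decomp (Coalgebra.comul (R := R) x)
  rw [ev2_eps_left, ev2_eps_right, ev2_eps_left] at this
  rw [D.coordX_x, AlgHom.toLinearMap_apply, D.hx, zero_smul, zero_add, one_smul, one_smul] at this
  exact this

theorem key_mul : D.constA * D.constB
    = 2 + 4 * D.constA * D.constB + D.constA ^ 2 * D.constB ^ 2 := by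
  have hmul : Coalgebra.comul (R := R) (x * x)
      = Coalgebra.comul (R := R) x * Coalgebra.comul (R := R) x := Bialgebra.comul_mul x x
  rw [D.mul_self_eq, map_smul, D.comul_eq] at hmul
  have h2 := congrArg (ev2 D.coordX D.coordX) hmul
  simp only [mul_add, add_mul, smul_mul_assoc, mul_smul_comm, Algebra.TensorProduct.tmul_mul_tmul,
    map_add, map_smul, ev2_tmul, mul_one, one_mul, D.mul_self_eq, D.coordX_one, D.coordX_x,
    smul_eq_mul, mul_zero, zero_mul, add_zero, zero_add] at h2
  linear_combination h2

theorem antipode_rel : ∃ c : R, c + 1 + D.constB * c * D.constA = 0 := by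
  have hS := HopfAlgebra.mul_antipode_rTensor_comul_apply (R := R) x
  rw [D.comul_eq] at hS
  simp only [map_add, map_smul, LinearMap.rTensor_tmul, LinearMap.mul'_apply,
    HopfAlgebra.antipode_one, mul_one, one_mul] at hS
  have hx0 : Coalgebra.counit (R := R) x = 0 := D.hx
  rw [hx0, map_zero] at hS
  set y := HopfAlgebra.antipode R x with hy
  have hεy : Bialgebra.counitAlgHom R A y = 0 := by
    have := congrArg (Bialgebra.counitAlgHom R A) hS
    rw [map_add, map_add, map_smul, map_mul, D.hx, mul_zero, smul_zero, add_zero, add_zero,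
      map_zero] at this
    exact this
  have hyx : y = D.coordX y • x := by
    have := D.coordX_spec y
    rwa [hεy, zero_smul, zero_add] at this
  refine ⟨D.coordX y, ?_⟩
  have h3 := congrArg D.coordX hS
  rw [map_add, map_add, map_smul, D.coordX_x, map_zero] at h3
  have h4 : D.coordX (y * x) = D.coordX y * D.constA := by
    nth_rewrite 1 [hyx]
    rw [smul_mul_assoc, D.mul_self_eq, map_smul, map_smul, D.coordX_x]
    simp
  rw [h4, smul_eq_mul] at h3
  linear_combination h3

theorem constA_mul_constB : D.constA * D.constB = -2 := by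
  obtain ⟨c, hc⟩ := D.antipode_rel
  have key := D.key_mul
  linear_combination c * key + (D.constA * D.constB + 2) * hc

end RankTwoData

end

end Groth.Agent.Lib.Helper92
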