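import Groth.Agent.Lib.Helper92.HopfRankTwo

/-!
# Isomorphisms between rank-two Hopf algebras (helper92)
-/

set_option autoImplicit false

namespace Groth.Agent.Lib.Helper92

open TensorProduct

universe u v

namespace RankTwoData

variable {R : Type u} [CommRing R] {A : Type v} [CommRing A] [HopfAlgebra R A]
  {A' : Type v} [CommRing A'] [HopfAlgebra R A']
  {x : A} {x' : A'}

theorem ext_of_counit_coordX (D : RankTwoData R A x) {f g : A}
    (h1 : Bialgebra.counitAlgHom R A f = Bialgebra.counitAlgHom R A g)
    (h2 : D.coordX f = D.coordX g) : f = g := by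
  rw [D.coordX_spec f, D.coordX_spec g, h1, h2]

theorem linearMap_ext (D : RankTwoData R A x) {M : Type*} [AddCommGroup M] [Module R M]
    {F G : A →ₗ[R] M} (h1 : F 1 = G 1) (hx : F x = G x) : F = G := by
  apply LinearMap.ext
  intro f
  rw [D.coordX_spec f, map_add, map_add, map_smul, map_smul, map_smul, map_smul, h1, hx]

theorem counit_mul_coord (D : RankTwoData R A x) (f g : A) : D.coordX (f * g)
    = Bialgebra.counitAlgHom R A f * D.coordX g + D.coordX f * Bialgebra.counitAlgHom R A g
      + D.coordX f * D.coordX g * D.constA := by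
  have hf := D.coordX_spec f
  have hg := D.coordX_spec g
  have : f * g = (Bialgebra.counitAlgHom R A f * Bialgebra.counitAlgHom R A g) • (1 : A)
      + (Bialgebra.counitAlgHom R A f * D.coordX g + D.coordX f * Bialgebra.counitAlgHom R A g
        + D.coordX f * D.coordX g * D.constA) • x := by
    nth_rewrite 1 [hf, hg]
    simp only [add_mul, mul_add, smul_mul_smul_comm, mul_one, one_mul, D.mul_self_eq, smul_smul,
      add_smul]
    ring_nf
  rw [this, map_add, map_smul, map_smul, D.coordX_one, D.coordX_x]
  simp

/-- The linear map `1 ↦ 1`, `x ↦ s • x'`. -/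
noncomputable def lin (D : RankTwoData R A x) (x' : A') (s : R) : A →ₗ[R] A' :=
  ((Algebra.linearMap R A').comp (epsL (R := R) (A := A))) +
    (LinearMap.toSpanSingleton R A' (s • x')).comp D.coordX

theorem lin_apply (D : RankTwoData R A x) (x' : A') (s : R) (f : A) :
    D.lin x' s f = Bialgebra.counitAlgHom R A f • (1 : A') + (D.coordX f * s) • x' := by
  simp [lin, Algebra.algebraMap_eq_smul_one, mul_smul]

theorem lin_one (D : RankTwoData R A x) (x' : A') (s : R) : D.lin x' s 1 = 1 := by
  rw [D.lin_apply, D.coordX_one, map_one, one_smul, zero_mul, zero_smul, add_zero]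

theorem lin_x (D : RankTwoData R A x) (x' : A') (s : R) : D.lin x' s x = s • x' := by
  rw [D.lin_apply, D.coordX_x, D.hx, zero_smul, zero_add, one_mul]

theorem counit_lin (D : RankTwoData R A x) (D' : RankTwoData R A' x') (s : R) (f : A) :
    Bialgebra.counitAlgHom R A' (D.lin x' s f) = Bialgebra.counitAlgHom R A f := by
  rw [D.lin_apply, map_add, map_smul, map_smul, D'.hx, map_one]
  simp

theorem coordX_lin (D : RankTwoData R A x) (D' : RankTwoData R A' x') (s : R) (f : A) :
    D'.coordX (D.lin x' s f) = D.coordX f * s := by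
  rw [D.lin_apply, map_add, map_smul, map_smul, D'.coordX_one, D'.coordX_x]
  simp

theorem lin_lin (D : RankTwoData R A x) (D' : RankTwoData R A' x') (s t : R) (hst : s * t = 1)
    (f : A) : D'.lin x t (D.lin x' s f) = f := by
  apply D.ext_of_counit_coordX
  · rw [D'.counit_lin D, D.counit_lin D']
  · rw [D'.coordX_lin D, D.coordX_lin D', mul_assoc, hst, mul_one]

theorem lin_mul (D : RankTwoData R A x) (D' : RankTwoData R A' x') (s : R)
    (h : D.constA * s = s * s * D'.constA) (f g : A) :
    D.lin x' s (f * g) = D.lin x' s f * D.lin x' s g := by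
  apply D'.ext_of_counit_coordX
  · rw [D.counit_lin D', map_mul (Bialgebra.counitAlgHom R A'), D.counit_lin D', D.counit_lin D',
      map_mul]
  · rw [D'.counit_mul_coord, D.coordX_lin D', D.coordX_lin D', D.coordX_lin D', D.counit_lin D',
      D.counit_lin D', D.counit_mul_coord]
    linear_combination (D.coordX f * D.coordX g) * h

/-- The algebra homomorphism `x ↦ s • x'`. -/
noncomputable def algHomOf (D : RankTwoData R A x) (D' : RankTwoData R A' x') (s : R)
    (h : D.constA * s = s * s * D'.constA) : A →ₐ[R] A' :=
  AlgHom.ofLinearMap (D.lin x' s) (D.lin_one x' s) (D.lin_mul D' s h)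

theorem algHomOf_apply (D : RankTwoData R A x) (D' : RankTwoData R A' x') (s : R)
    (h : D.constA * s = s * s * D'.constA) (f : A) :
    D.algHomOf D' s h f = D.lin x' s f := rfl

/-- The algebra isomorphism. -/
noncomputable def algEquivOf (D : RankTwoData R A x) (D' : RankTwoData R A' x')
    (s t : R) (hst : s * t = 1)
    (h : D.constA * s = s * s * D'.constA) (h' : D'.constA * t = t * t * D.constA) :
    A ≃ₐ[R] A' :=
  AlgEquiv.ofAlgHom (D.algHomOf D' s h) (D'.algHomOf D t h')
    (by
      ext f
      simp only [AlgHom.comp_apply, algHomOf_apply, AlgHom.id_apply]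
      exact D'.lin_lin D t s (by rw [mul_comm]; exact hst) f)
    (by
      ext f
      simp only [AlgHom.comp_apply, algHomOf_apply, AlgHom.id_apply]
      exact D.lin_lin D' s t hst f)

theorem algEquivOf_apply (D : RankTwoData R A x) (D' : RankTwoData R A' x')
    (s t : R) (hst : s * t = 1)
    (h : D.constA * s = s * s * D'.constA) (h' : D'.constA * t = t * t * D.constA) (f : A) :
    D.algEquivOf D' s t hst h h' f = D.lin x' s f := rfl

theorem comul_compat (D : RankTwoData R A x) (D' : RankTwoData R A' x')
    (s t : R) (hst : s * t = 1)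
    (h : D.constA * s = s * s * D'.constA) (h' : D'.constA * t = t * t * D.constA)
    (hb : D.constB * s * s = s * D'.constB) :
    (Algebra.TensorProduct.map (D.algEquivOf D' s t hst h h' : A →ₐ[R] A')
        (D.algEquivOf D' s t hst h h' : A →ₐ[R] A')).comp (Bialgebra.comulAlgHom R A) =
      (Bialgebra.comulAlgHom R A').comp (D.algEquivOf D' s t hst h h' : A →ₐ[R] A') := by
  set E : A →ₐ[R] A' := (D.algEquivOf D' s t hst h h' : A →ₐ[R] A') with hE
  have hEapp : ∀ f : A, E f = D.lin x' s f := fun f => rfl
  apply AlgHom.toLinearMap_injective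
  apply D.linearMap_ext
  · show (Algebra.TensorProduct.map E E) (Bialgebra.comulAlgHom R A 1)
      = Bialgebra.comulAlgHom R A' (E 1)
    rw [map_one, map_one, map_one, map_one]
  · show (Algebra.TensorProduct.map E E) (Bialgebra.comulAlgHom R A x)
      = Bialgebra.comulAlgHom R A' (E x)
    rw [hEapp x, D.lin_x]
    have h1 : Bialgebra.comulAlgHom R A x = Coalgebra.comul (R := R) x := rfl
    have h2 : Bialgebra.comulAlgHom R A' (s • x') = s • Coalgebra.comul (R := R) x' := by
      rw [map_smul]; rfl
    rw [h1, h2, D.comul_eq, D'.comul_eq]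
    simp only [map_add, map_smul, Algebra.TensorProduct.map_tmul, hEapp, D.lin_x, D.lin_one,
      smul_add, smul_smul, TensorProduct.smul_tmul', TensorProduct.tmul_smul]
    congr 1
    rw [← hb]
    ring_nf

/-- The bialgebra isomorphism. -/
noncomputable def bialgEquivOf (D : RankTwoData R A x) (D' : RankTwoData R A' x')
    (s t : R) (hst : s * t = 1)
    (h : D.constA * s = s * s * D'.constA) (h' : D'.constA * t = t * t * D.constA)
    (hb : D.constB * s * s = s * D'.constB) : A ≃ₐc[R] A' :=
  BialgEquiv.ofAlgEquiv (D.algEquivOf D' s t hst h h')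
    (by
      ext f
      simp only [AlgHom.comp_apply, AlgHom.coe_coe, algEquivOf_apply]
      exact D.counit_lin D' s f)
    (D.comul_compat D' s t hst h h' hb)

end RankTwoData

end Groth.Agent.Lib.Helper92
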