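import Mathlib
import Groth.Agent.Lib.Helper92.HilbTgt

set_option linter.unusedSectionVars false
set_option linter.unusedSimpArgs false
set_option linter.unusedVariables false
set_option linter.style.haveILetI false
set_option linter.unnecessarySimpa false
set_option autoImplicit false

/-!
# The Koszul (grad / curl) complex of a staircase, part A: definitions (helper92)

For a finite down-closed set `L ⊆ ℕ³ ⊆ ℤ³` (the staircase of a monomial ideal of finite colength in
three variables) and a multidegree `α`, the degree-`α` part of the Hochschild–Koszul complex of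
`End_k(S/I)` has terms indexed by the finite sets `Q0, Q1, Q2, Q3` below; the first two
differentials are the explicit `0/±1` matrices `G` (grad) and `C` (curl).
-/

namespace Groth.Agent.Lib.Helper92.Kos

open Groth.Agent.Lib.Helper92.HilbTgt

/-- Integer vectors in three coordinates. -/
abbrev V := Fin 3 → ℤ

@[simp] lemma ez_self (i : Fin 3) : (ez i : V) i = 1 := by simp [ez]

lemma ez_apply (i j : Fin 3) : (ez i : V) j = if j = i then 1 else 0 := by
  simp [ez, Pi.single_apply]

/-- A staircase: a finite set of nonnegative vectors closed under decreasing a coordinate. -/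
structure Stair (L : Finset V) : Prop where
  nonneg : ∀ γ ∈ L, ∀ i, 0 ≤ γ i
  down : ∀ γ ∈ L, ∀ i, 0 < γ i → γ - ez i ∈ L

lemma Stair.mem_of_add {L : Finset V} (hL : Stair L) {γ : V} {i : Fin 3} (h : γ + ez i ∈ L)
    (hγ : 0 ≤ γ i) : γ ∈ L := by
  have h1 := hL.down _ h i (by simp only [Pi.add_apply, ez_self]; omega)
  rwa [add_sub_cancel_right] at h1

lemma Stair.mem_of_le {L : Finset V} (hL : Stair L) :
    ∀ (n : ℕ) {γ δ : V}, γ ∈ L → (∀ i, 0 ≤ δ i) → (∀ i, δ i ≤ γ i) →
      (∑ i, (γ i - δ i)).toNat = n → δ ∈ L := by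
  intro n
  induction n with
  | zero =>
    intro γ δ hγ h0 hle hn
    have hnn : ∀ i ∈ Finset.univ, 0 ≤ γ i - δ i := fun i _ => by have := hle i; omega
    have hs : ∑ i, (γ i - δ i) = 0 := by
      have : 0 ≤ ∑ i, (γ i - δ i) := Finset.sum_nonneg hnn
      omega
    have hz := (Finset.sum_eq_zero_iff_of_nonneg hnn).1 hs
    have : δ = γ := by
      funext i
      have := hz i (Finset.mem_univ i)
      omega
    rw [this]
    exact hγ
  | succ n ih =>
    intro γ δ hγ h0 hle hn
    have hex : ∃ i, δ i < γ i := by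
      by_contra hcon
      push Not at hcon
      have : ∑ i, (γ i - δ i) = 0 := by
        apply Finset.sum_eq_zero
        intro i _
        have := hcon i
        have := hle i
        omega
      rw [this] at hn
      simp at hn
    obtain ⟨i, hi⟩ := hex
    have h1 : γ - ez i ∈ L := hL.down γ hγ i (by have := h0 i; omega)
    apply ih h1 h0
    · intro j
      by_cases hj : j = i
      · subst hj
        simp only [Pi.sub_apply, ez_self]
        omega
      · simp only [Pi.sub_apply, ez_apply, if_neg hj, sub_zero]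
        exact hle j
    · have hsum : ∑ j, ((γ - ez i) j - δ j) = ∑ j, (γ j - δ j) - 1 := by
        have : ∀ j, (γ - ez i) j - δ j = (γ j - δ j) - (ez i : V) j := by
          intro j
          simp only [Pi.sub_apply]
          ring
        simp only [this, Finset.sum_sub_distrib]
        congr 1
        simp [ez_apply]
      rw [hsum]
      omega

lemma Stair.mem_of_le' {L : Finset V} (hL : Stair L) {γ δ : V} (hγ : γ ∈ L)
    (h0 : ∀ i, 0 ≤ δ i) (hle : ∀ i, δ i ≤ γ i) : δ ∈ L :=
  hL.mem_of_le _ hγ h0 hle rfl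

section sets

variable (L : Finset V) (α : V)

/-- Index set of the degree-`α` part of `End(M)`. -/
def Q0 : Finset V := L.filter fun b => b + α ∈ L

/-- Index set of the `1`-cochains. -/
def Q1 : Finset (Fin 3 × V) :=
  (Finset.univ ×ˢ L).filter fun p => p.2 + α + ez p.1 ∈ L

/-- Index set of the `2`-cochains (component `l` pairs the directions `l+1`, `l+2`). -/
def Q2 : Finset (Fin 3 × V) :=
  (Finset.univ ×ˢ L).filter fun p => p.2 + α + ez (p.1 + 1) + ez (p.1 + 2) ∈ L

/-- Index set of the `3`-cochains. -/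
def Q3 : Finset V := L.filter fun b => b + α + 1 ∈ L

variable {L α}

lemma mem_Q0 {b : V} : b ∈ Q0 L α ↔ b ∈ L ∧ b + α ∈ L := by
  simp [Q0]

lemma mem_Q1 {l : Fin 3} {b : V} : (l, b) ∈ Q1 L α ↔ b ∈ L ∧ b + α + ez l ∈ L := by
  simp [Q1]

lemma mem_Q2 {l : Fin 3} {b : V} :
    (l, b) ∈ Q2 L α ↔ b ∈ L ∧ b + α + ez (l + 1) + ez (l + 2) ∈ L := by
  simp [Q2]

lemma mem_Q3 {b : V} : b ∈ Q3 L α ↔ b ∈ L ∧ b + α + 1 ∈ L := by
  simp [Q3]

end sets

section matrices

variable {k : Type*} [Field k] (L : Finset V) (α : V)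

/-- Extension by zero of a `0`-cochain. -/
noncomputable def ext0 {L : Finset V} {α : V} (f : Q0 L α → k) (b : V) : k :=
  if h : b ∈ Q0 L α then f ⟨b, h⟩ else 0

/-- Extension by zero of a `1`-cochain. -/
noncomputable def ext1 {L : Finset V} {α : V} (g : Q1 L α → k) (l : Fin 3) (b : V) : k :=
  if h : (l, b) ∈ Q1 L α then g ⟨(l, b), h⟩ else 0

/-- The grad matrix. -/
noncomputable def G : Matrix (Q1 L α) (Q0 L α) k := fun p q =>
  (if (q : V) = p.1.2 then 1 else 0) - (if (q : V) = p.1.2 + ez p.1.1 then 1 else 0)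

/-- The curl matrix. -/
noncomputable def C : Matrix (Q2 L α) (Q1 L α) k := fun p q =>
  (if (q : Fin 3 × V) = (p.1.1 + 2, p.1.2) then 1 else 0)
    - (if (q : Fin 3 × V) = (p.1.1 + 2, p.1.2 + ez (p.1.1 + 1)) then 1 else 0)
    - (if (q : Fin 3 × V) = (p.1.1 + 1, p.1.2) then 1 else 0)
    + (if (q : Fin 3 × V) = (p.1.1 + 1, p.1.2 + ez (p.1.1 + 2)) then 1 else 0)

lemma sum_ite_subtype {T : Type*} [DecidableEq T] (s : Finset T) (g : s → k) (x : T) :
    ∑ q : s, (if (q : T) = x then (1 : k) else 0) * g q = if h : x ∈ s then g ⟨x, h⟩ else 0 := by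
  by_cases h : x ∈ s
  · rw [dif_pos h, Finset.sum_eq_single (⟨x, h⟩ : s)]
    · simp
    · intro q _ hq
      rw [if_neg, zero_mul]
      intro hq'
      exact hq (Subtype.ext hq')
    · intro hh
      exact absurd (Finset.mem_univ _) hh
  · rw [dif_neg h]
    apply Finset.sum_eq_zero
    intro q _
    rw [if_neg, zero_mul]
    intro hq
    exact h (hq ▸ q.2)

variable {L α}

lemma G_mulVec (f : Q0 L α → k) (p : Q1 L α) :
    (G L α).mulVec f p = ext0 f p.1.2 - ext0 f (p.1.2 + ez p.1.1) := by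
  simp only [Matrix.mulVec, dotProduct, G, sub_mul, Finset.sum_sub_distrib]
  rw [sum_ite_subtype, sum_ite_subtype]
  rfl

lemma C_mulVec (g : Q1 L α → k) (p : Q2 L α) :
    (C L α).mulVec g p = ext1 g (p.1.1 + 2) p.1.2 - ext1 g (p.1.1 + 2) (p.1.2 + ez (p.1.1 + 1))
      - ext1 g (p.1.1 + 1) p.1.2 + ext1 g (p.1.1 + 1) (p.1.2 + ez (p.1.1 + 2)) := by
  simp only [Matrix.mulVec, dotProduct, C, sub_mul, add_mul, Finset.sum_sub_distrib,
    Finset.sum_add_distrib]
  rw [sum_ite_subtype, sum_ite_subtype, sum_ite_subtype, sum_ite_subtype]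
  rfl

lemma ext0_of_mem (f : Q0 L α → k) {b : V} (h : b ∈ Q0 L α) : ext0 f b = f ⟨b, h⟩ := by
  rw [ext0, dif_pos h]

lemma ext0_of_not_mem (f : Q0 L α → k) {b : V} (h : b ∉ Q0 L α) : ext0 f b = 0 := by
  rw [ext0, dif_neg h]

lemma ext1_of_mem (g : Q1 L α → k) {l : Fin 3} {b : V} (h : (l, b) ∈ Q1 L α) :
    ext1 g l b = g ⟨(l, b), h⟩ := by
  rw [ext1, dif_pos h]

lemma ext1_of_not_mem (g : Q1 L α → k) {l : Fin 3} {b : V} (h : (l, b) ∉ Q1 L α) :
    ext1 g l b = 0 := by
  rw [ext1, dif_neg h]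

lemma ext1_add (g g' : Q1 L α → k) (l : Fin 3) (b : V) :
    ext1 (g + g') l b = ext1 g l b + ext1 g' l b := by
  unfold ext1
  split_ifs <;> simp

lemma ext1_smul (c : k) (g : Q1 L α → k) (l : Fin 3) (b : V) :
    ext1 (c • g) l b = c * ext1 g l b := by
  unfold ext1
  split_ifs <;> simp

end matrices

end Groth.Agent.Lib.Helper92.Kos
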