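import Groth.Agent.Lib.Helper92.KosA

set_option linter.unusedSectionVars false
set_option linter.unusedSimpArgs false
set_option linter.unusedVariables false
set_option linter.style.haveILetI false
set_option linter.unnecessarySimpa false
set_option autoImplicit false

/-!
# The Koszul complex of a staircase, part B: duality (helper92)

The curl matrix in degree `-α-1` is the reindexed transpose of the curl matrix in degree `α`.
-/

namespace Groth.Agent.Lib.Helper92.Kos

open Groth.Agent.Lib.Helper92.HilbTgt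

/-- The dual multidegree `-α - 1`. -/
def dual (α : V) : V := -α - 1

@[simp] lemma dual_apply (α : V) (i : Fin 3) : dual α i = -α i - 1 := by simp [dual]

lemma dual_dual (α : V) : dual (dual α) = α := by
  funext i
  simp only [dual_apply]
  ring

/-- sum of the three unit vectors -/
lemma ez_sum (m : Fin 3) : (ez m : V) + ez (m + 1) + ez (m + 2) = 1 := by
  funext j
  fin_cases m <;> fin_cases j <;> simp [ez_apply]

lemma vec_id1 (b α : V) (m : Fin 3) :
    b + α + ez m + dual α + ez (m + 1) + ez (m + 2) = b := by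
  have h := ez_sum m
  funext j
  have hj := congrFun h j
  simp only [Pi.add_apply, dual_apply, Pi.one_apply] at hj ⊢
  omega

lemma vec_id2 (μ α : V) (m : Fin 3) :
    μ - α - ez m = μ + dual α + ez (m + 1) + ez (m + 2) := by
  have h := ez_sum m
  funext j
  have hj := congrFun h j
  simp only [Pi.add_apply, Pi.sub_apply, dual_apply, Pi.one_apply] at hj ⊢
  omega

lemma vec_id3 (b α : V) (l : Fin 3) :
    b + α + ez (l + 1) + ez (l + 2) + dual α + ez l = b := by
  have h := ez_sum l
  funext j
  have hj := congrFun h j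
  simp only [Pi.add_apply, dual_apply, Pi.one_apply] at hj ⊢
  omega

lemma vec_id4 (μ α : V) (l : Fin 3) :
    μ - α - ez (l + 1) - ez (l + 2) = μ + dual α + ez l := by
  have h := ez_sum l
  funext j
  have hj := congrFun h j
  simp only [Pi.add_apply, Pi.sub_apply, dual_apply, Pi.one_apply] at hj ⊢
  omega

variable (L : Finset V) (α : V)

/-- `Q1 α ≃ Q2 (-α-1)`. -/
def eQ12 : Q1 L α ≃ Q2 L (dual α) where
  toFun q := ⟨(q.1.1, q.1.2 + α + ez q.1.1), by
    obtain ⟨⟨m, b⟩, hq⟩ := q
    rw [mem_Q1] at hq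
    rw [mem_Q2]
    refine ⟨hq.2, ?_⟩
    show b + α + ez m + dual α + ez (m + 1) + ez (m + 2) ∈ L
    rw [vec_id1]
    exact hq.1⟩
  invFun p := ⟨(p.1.1, p.1.2 - α - ez p.1.1), by
    obtain ⟨⟨m, μ⟩, hp⟩ := p
    rw [mem_Q2] at hp
    rw [mem_Q1]
    refine ⟨?_, ?_⟩
    · show μ - α - ez m ∈ L
      rw [vec_id2]
      exact hp.2
    · show μ - α - ez m + α + ez m ∈ L
      have : μ - α - ez m + α + ez m = μ := by
        funext j
        simp only [Pi.add_apply, Pi.sub_apply]
        ring
      rw [this]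
      exact hp.1⟩
  left_inv q := by
    obtain ⟨⟨m, b⟩, hq⟩ := q
    apply Subtype.ext
    show (m, b + α + ez m - α - ez m) = (m, b)
    congr 1
    funext j
    simp only [Pi.add_apply, Pi.sub_apply]
    ring
  right_inv p := by
    obtain ⟨⟨m, μ⟩, hp⟩ := p
    apply Subtype.ext
    show (m, μ - α - ez m + α + ez m) = (m, μ)
    congr 1
    funext j
    simp only [Pi.add_apply, Pi.sub_apply]
    ring

/-- `Q2 α ≃ Q1 (-α-1)`. -/
def eQ21 : Q2 L α ≃ Q1 L (dual α) where
  toFun p := ⟨(p.1.1, p.1.2 + α + ez (p.1.1 + 1) + ez (p.1.1 + 2)), by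
    obtain ⟨⟨l, b⟩, hp⟩ := p
    rw [mem_Q2] at hp
    rw [mem_Q1]
    refine ⟨hp.2, ?_⟩
    show b + α + ez (l + 1) + ez (l + 2) + dual α + ez l ∈ L
    rw [vec_id3]
    exact hp.1⟩
  invFun q := ⟨(q.1.1, q.1.2 - α - ez (q.1.1 + 1) - ez (q.1.1 + 2)), by
    obtain ⟨⟨l, μ⟩, hq⟩ := q
    rw [mem_Q1] at hq
    rw [mem_Q2]
    refine ⟨?_, ?_⟩
    · show μ - α - ez (l + 1) - ez (l + 2) ∈ L
      rw [vec_id4]
      exact hq.2
    · show μ - α - ez (l + 1) - ez (l + 2) + α + ez (l + 1) + ez (l + 2) ∈ L
      have : μ - α - ez (l + 1) - ez (l + 2) + α + ez (l + 1) + ez (l + 2) = μ := by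
        funext j
        simp only [Pi.add_apply, Pi.sub_apply]
        ring
      rw [this]
      exact hq.1⟩
  left_inv p := by
    obtain ⟨⟨l, b⟩, hp⟩ := p
    apply Subtype.ext
    show (l, b + α + ez (l + 1) + ez (l + 2) - α - ez (l + 1) - ez (l + 2)) = (l, b)
    congr 1
    funext j
    simp only [Pi.add_apply, Pi.sub_apply]
    ring
  right_inv q := by
    obtain ⟨⟨l, μ⟩, hq⟩ := q
    apply Subtype.ext
    show (l, μ - α - ez (l + 1) - ez (l + 2) + α + ez (l + 1) + ez (l + 2)) = (l, μ)
    congr 1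
    funext j
    simp only [Pi.add_apply, Pi.sub_apply]
    ring

lemma card_Q1_dual : (Q1 L (dual α)).card = (Q2 L α).card := by
  have := Fintype.card_congr (eQ21 L α)
  simpa using this.symm

/-- `Q0 (-α-1) ≃ Q3 α`. -/
def eQ03 : Q0 L (dual α) ≃ Q3 L α where
  toFun q := ⟨q.1 + dual α, by
    obtain ⟨μ, hq⟩ := q
    rw [mem_Q0] at hq
    rw [mem_Q3]
    refine ⟨hq.2, ?_⟩
    have : μ + dual α + α + 1 = μ := by
      funext j
      simp only [Pi.add_apply, dual_apply, Pi.one_apply]
      ring
    rw [this]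
    exact hq.1⟩
  invFun p := ⟨p.1 + α + 1, by
    obtain ⟨b, hp⟩ := p
    rw [mem_Q3] at hp
    rw [mem_Q0]
    refine ⟨hp.2, ?_⟩
    have : b + α + 1 + dual α = b := by
      funext j
      simp only [Pi.add_apply, dual_apply, Pi.one_apply]
      ring
    rw [this]
    exact hp.1⟩
  left_inv q := by
    apply Subtype.ext
    show q.1 + dual α + α + 1 = q.1
    funext j
    simp only [Pi.add_apply, dual_apply, Pi.one_apply]
    ring
  right_inv p := by
    apply Subtype.ext
    show p.1 + α + 1 + dual α = p.1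
    funext j
    simp only [Pi.add_apply, dual_apply, Pi.one_apply]
    ring

lemma card_Q0_dual : (Q0 L (dual α)).card = (Q3 L α).card := by
  have := Fintype.card_congr (eQ03 L α)
  simpa using this

variable {k : Type*} [Field k]

/-- helper: equality of vectors after cancelling -/
lemma vec_eq_iff {x y : V} : x = y ↔ x 0 = y 0 ∧ x 1 = y 1 ∧ x 2 = y 2 := by
  constructor
  · rintro rfl
    exact ⟨rfl, rfl, rfl⟩
  · rintro ⟨h0, h1, h2⟩
    funext j
    fin_cases j
    · exact h0
    · exact h1
    · exact h2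

/-- The curl matrix in the dual degree is the reindexed transpose. -/
theorem C_dual (p : Q2 L α) (q : Q1 L α) :
    C (k := k) L (dual α) (eQ12 L α q) (eQ21 L α p) = C L α p q := by
  obtain ⟨⟨l, b⟩, hp⟩ := p
  obtain ⟨⟨m, b'⟩, hq⟩ := q
  simp only [C, eQ12, eQ21, Equiv.coe_fn_mk, Prod.mk.injEq]
  fin_cases l <;> fin_cases m <;>
    simp [vec_eq_iff, ez_apply, Fin.ext_iff]
  all_goals (split_ifs <;> first | ring1 | (exfalso; omega))

end Groth.Agent.Lib.Helper92.Kos

namespace Groth.Agent.Lib.Helper92.Kos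

variable (L : Finset V) (α : V) {k : Type*} [Field k]

theorem C_dual_eq : (C (k := k) L (dual α)).submatrix (eQ12 L α) (eQ21 L α) = (C L α).transpose := by
  ext q p
  simp only [Matrix.submatrix_apply, Matrix.transpose_apply]
  exact C_dual L α p q

/-- **Duality**: the curl matrices in degrees `α` and `-α-1` have the same rank. -/
theorem rank_C_dual : (C (k := k) L (dual α)).rank = (C (k := k) L α).rank := by
  rw [← Matrix.rank_submatrix (C (k := k) L (dual α)) (eQ12 L α) (eQ21 L α), C_dual_eq,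
    Matrix.rank_transpose]

end Groth.Agent.Lib.Helper92.Kos
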