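import Groth.Agent.Lib.Helper92.KosB

set_option linter.unusedSectionVars false
set_option linter.unusedSimpArgs false
set_option linter.unusedVariables false
set_option linter.style.haveILetI false
set_option linter.unnecessarySimpa false
set_option autoImplicit false

/-!
# The Koszul complex of a staircase, part C: `H⁰` (helper92)
-/

namespace Groth.Agent.Lib.Helper92.Kos

open Groth.Agent.Lib.Helper92.HilbTgt

variable {L : Finset V} {α : V} {k : Type*} [Field k]

lemma sub_ez_add (b : V) (i : Fin 3) : b - ez i + ez i = b := sub_add_cancel b (ez i)

lemma ker_G_const (hL : Stair L) (f : Q0 L α → k) (hf : (G L α).mulVec f = 0) :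
    ∀ (n : ℕ) (b : V), b ∈ Q0 L α → (∑ i, b i).toNat = n → ext0 f b = ext0 f 0 := by
  intro n
  induction n with
  | zero =>
    intro b hb hn
    have hbL := (mem_Q0.1 hb).1
    have hnn : ∀ i ∈ Finset.univ, 0 ≤ b i := fun i _ => hL.nonneg b hbL i
    have hs : ∑ i, b i = 0 := by
      have : 0 ≤ ∑ i, b i := Finset.sum_nonneg hnn
      omega
    have hz := (Finset.sum_eq_zero_iff_of_nonneg hnn).1 hs
    have : b = 0 := by
      funext i
      exact hz i (Finset.mem_univ i)
    rw [this]
  | succ n ih =>
    intro b hb hn
    obtain ⟨hbL, hbα⟩ := mem_Q0.1 hb
    have hex : ∃ i, 0 < b i := by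
      by_contra hcon
      push Not at hcon
      have : ∑ i, b i = 0 := by
        apply Finset.sum_eq_zero
        intro i _
        have := hcon i
        have := hL.nonneg b hbL i
        omega
      rw [this] at hn
      simp at hn
    obtain ⟨i, hi⟩ := hex
    have hb'L : b - ez i ∈ L := hL.down b hbL i hi
    have hQ1 : (i, b - ez i) ∈ Q1 L α := by
      rw [mem_Q1]
      refine ⟨hb'L, ?_⟩
      have : b - ez i + α + ez i = b + α := by
        funext j
        simp only [Pi.add_apply, Pi.sub_apply]
        ring
      rw [this]
      exact hbα
    have h1 := congrFun hf ⟨(i, b - ez i), hQ1⟩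
    rw [G_mulVec] at h1
    simp only [Pi.zero_apply] at h1
    rw [sub_ez_add] at h1
    have h2 : ext0 f b = ext0 f (b - ez i) := (sub_eq_zero.1 h1).symm
    rw [h2]
    by_cases hb' : b - ez i ∈ Q0 L α
    · apply ih _ hb'
      have hsum : ∑ j, (b - ez i) j = ∑ j, b j - 1 := by
        simp only [Pi.sub_apply, Finset.sum_sub_distrib]
        congr 1
        simp [ez_apply]
      rw [hsum]
      omega
    · rw [ext0_of_not_mem f hb']
      by_cases h0 : (0 : V) ∈ Q0 L α
      · exfalso
        apply hb'
        rw [mem_Q0]
        refine ⟨hb'L, ?_⟩
        have hα : α ∈ L := by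
          have := (mem_Q0.1 h0).2
          rwa [zero_add] at this
        have h3 : b + α - ez i ∈ L := by
          apply hL.down _ hbα i
          have := hL.nonneg α hα i
          simp only [Pi.add_apply]
          omega
        have : b - ez i + α = b + α - ez i := by
          funext j
          simp only [Pi.add_apply, Pi.sub_apply]
          ring
        rw [this]
        exact h3
      · rw [ext0_of_not_mem f h0]

theorem finrank_ker_G (hL : Stair L) (α : V) :
    Module.finrank k (LinearMap.ker (G (k := k) L α).mulVecLin) = if α ∈ L then 1 else 0 := by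
  by_cases hα : α ∈ L
  · rw [if_pos hα]
    have hαnn := hL.nonneg α hα
    have h0L : (0 : V) ∈ L := hL.mem_of_le' hα (fun i => le_refl _) hαnn
    have h0 : (0 : V) ∈ Q0 L α := by
      rw [mem_Q0]
      exact ⟨h0L, by rwa [zero_add]⟩
    have hker : LinearMap.ker (G (k := k) L α).mulVecLin
        = Submodule.span k {(fun _ => 1 : Q0 L α → k)} := by
      apply le_antisymm
      · intro f hf
        rw [LinearMap.mem_ker, Matrix.mulVecLin_apply] at hf
        rw [Submodule.mem_span_singleton]
        refine ⟨ext0 f 0, ?_⟩
        funext b
        have := ker_G_const hL f hf _ b.1 b.2 rfl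
        rw [ext0_of_mem f b.2] at this
        simp only [Pi.smul_apply, smul_eq_mul, mul_one]
        exact this.symm
      · rw [Submodule.span_singleton_le_iff_mem, LinearMap.mem_ker, Matrix.mulVecLin_apply]
        funext p
        obtain ⟨⟨l, b⟩, hp⟩ := p
        rw [G_mulVec]
        obtain ⟨hbL, hbα⟩ := mem_Q1.1 hp
        have hbnn := hL.nonneg b hbL
        have hb0 : b ∈ Q0 L α := by
          rw [mem_Q0]
          refine ⟨hbL, hL.mem_of_add hbα ?_⟩
          have := hbnn l
          have := hαnn l
          simp only [Pi.add_apply]
          omega
        have hb1 : b + ez l ∈ Q0 L α := by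
          rw [mem_Q0]
          constructor
          · apply hL.mem_of_le' hbα
            · intro j
              have := hbnn j
              simp only [Pi.add_apply, ez_apply]
              split_ifs <;> omega
            · intro j
              have := hαnn j
              simp only [Pi.add_apply]
              omega
          · have : b + ez l + α = b + α + ez l := by
              funext j
              simp only [Pi.add_apply]
              ring
            rw [this]
            exact hbα
        show ext0 _ b - ext0 _ (b + ez l) = 0
        rw [ext0_of_mem _ hb0, ext0_of_mem _ hb1]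
        simp
    rw [hker, finrank_span_singleton]
    intro h
    have := congrFun h ⟨0, h0⟩
    simp at this
  · rw [if_neg hα]
    have h0 : (0 : V) ∉ Q0 L α := by
      rw [mem_Q0]
      rintro ⟨_, h⟩
      rw [zero_add] at h
      exact hα h
    have hker : LinearMap.ker (G (k := k) L α).mulVecLin = ⊥ := by
      rw [eq_bot_iff]
      intro f hf
      rw [LinearMap.mem_ker, Matrix.mulVecLin_apply] at hf
      rw [Submodule.mem_bot]
      funext b
      have := ker_G_const hL f hf _ b.1 b.2 rfl
      rw [ext0_of_mem f b.2, ext0_of_not_mem f h0] at this
      exact this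
    rw [hker, finrank_bot]

end Groth.Agent.Lib.Helper92.Kos
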