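import Groth.Agent.Lib.Helper92.KosC

set_option linter.unusedSectionVars false
set_option linter.unusedSimpArgs false
set_option linter.unusedVariables false
set_option linter.style.haveILetI false
set_option linter.unnecessarySimpa false
set_option autoImplicit false

/-!
# The Koszul complex of a staircase, part D: integrating a cocycle (helper92)
-/

namespace Groth.Agent.Lib.Helper92.Kos

open Groth.Agent.Lib.Helper92.HilbTgt

variable {L : Finset V} {α : V} {k : Type*} [Field k]

/-- The complement of the (nonnegative) exponent set: staircase points and points with a negative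
coordinate. -/
def inD (L : Finset V) (γ : V) : Prop := γ ∈ L ∨ ∃ i, γ i < 0

lemma inD_of_le (hL : Stair L) {γ δ : V} (hγ : inD L γ) (hle : ∀ i, δ i ≤ γ i) : inD L δ := by
  rcases hγ with h | ⟨j, hj⟩
  · by_cases hδ : ∀ i, 0 ≤ δ i
    · exact Or.inl (hL.mem_of_le' h hδ hle)
    · push Not at hδ
      exact Or.inr hδ
  · exact Or.inr ⟨j, lt_of_le_of_lt (hle j) hj⟩

lemma ext1_eq_zero_of_not_mem_L (g : Q1 L α → k) (m : Fin 3) {b : V} (hb : b ∉ L) :
    ext1 g m b = 0 := by
  apply ext1_of_not_mem
  rw [mem_Q1]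
  exact fun h => hb h.1

lemma ext1_eq_zero_of_not_mem_L' (g : Q1 L α → k) (m : Fin 3) {b : V}
    (hb : b + α + ez m ∉ L) : ext1 g m b = 0 := by
  apply ext1_of_not_mem
  rw [mem_Q1]
  exact fun h => hb h.2

lemma not_mem_of_neg (hL : Stair L) {γ : V} (h : ∃ j, γ j < 0) : γ ∉ L := by
  obtain ⟨j, hj⟩ := h
  intro hγ
  have := hL.nonneg γ hγ j
  omega

/-- The cocycle condition, extended to all squares whose top corner is not an exponent of the
ideal. -/
lemma cocycle_ext (hL : Stair L) (g : Q1 L α → k) (hg : (C L α).mulVec g = 0) (l : Fin 3)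
    (b : V) (hb : ∀ i, 0 ≤ b i) (hD : inD L (b + α + ez (l + 1) + ez (l + 2))) :
    ext1 g (l + 2) b - ext1 g (l + 2) (b + ez (l + 1)) - ext1 g (l + 1) b
      + ext1 g (l + 1) (b + ez (l + 2)) = 0 := by
  by_cases hQ : (l, b) ∈ Q2 L α
  · have := congrFun hg ⟨(l, b), hQ⟩
    rw [C_mulVec] at this
    exact this
  · rw [mem_Q2] at hQ
    by_cases hbL : b ∈ L
    · have htop : b + α + ez (l + 1) + ez (l + 2) ∉ L := fun h => hQ ⟨hbL, h⟩
      have hneg : ∃ j, (b + α + ez (l + 1) + ez (l + 2) : V) j < 0 := by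
        rcases hD with h | h
        · exact absurd h htop
        · exact h
      obtain ⟨j, hj⟩ := hneg
      have h1 : ext1 g (l + 2) b = 0 := by
        apply ext1_eq_zero_of_not_mem_L'
        apply not_mem_of_neg hL
        refine ⟨j, ?_⟩
        simp only [Pi.add_apply, ez_apply] at hj ⊢
        split_ifs at hj ⊢ <;> omega
      have h2 : ext1 g (l + 2) (b + ez (l + 1)) = 0 := by
        apply ext1_eq_zero_of_not_mem_L'
        have : b + ez (l + 1) + α + ez (l + 2) = b + α + ez (l + 1) + ez (l + 2) := by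
          funext i
          simp only [Pi.add_apply]
          ring
        rw [this]
        exact htop
      have h3 : ext1 g (l + 1) b = 0 := by
        apply ext1_eq_zero_of_not_mem_L'
        apply not_mem_of_neg hL
        refine ⟨j, ?_⟩
        simp only [Pi.add_apply, ez_apply] at hj ⊢
        split_ifs at hj ⊢ <;> omega
      have h4 : ext1 g (l + 1) (b + ez (l + 2)) = 0 := by
        apply ext1_eq_zero_of_not_mem_L'
        have : b + ez (l + 2) + α + ez (l + 1) = b + α + ez (l + 1) + ez (l + 2) := by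
          funext i
          simp only [Pi.add_apply]
          ring
        rw [this]
        exact htop
      rw [h1, h2, h3, h4]
      ring
    · have h1 : ext1 g (l + 2) b = 0 := ext1_eq_zero_of_not_mem_L g _ hbL
      have h3 : ext1 g (l + 1) b = 0 := ext1_eq_zero_of_not_mem_L g _ hbL
      have h2 : ext1 g (l + 2) (b + ez (l + 1)) = 0 := by
        apply ext1_eq_zero_of_not_mem_L
        exact fun h => hbL (hL.mem_of_add h (hb _))
      have h4 : ext1 g (l + 1) (b + ez (l + 2)) = 0 := by
        apply ext1_eq_zero_of_not_mem_L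
        exact fun h => hbL (hL.mem_of_add h (hb _))
      rw [h1, h2, h3, h4]
      ring

/-- The point `(a, b, c)`. -/
def pt (a b c : ℕ) : V := ![(a : ℤ), (b : ℤ), (c : ℤ)]

@[simp] lemma pt_zero (a b c : ℕ) : pt a b c 0 = a := rfl
@[simp] lemma pt_one (a b c : ℕ) : pt a b c 1 = b := rfl
@[simp] lemma pt_two (a b c : ℕ) : pt a b c 2 = c := rfl

lemma pt_nonneg (a b c : ℕ) (i : Fin 3) : 0 ≤ pt a b c i := by
  fin_cases i <;> simp [pt]

lemma pt_add_ez0 (a b c : ℕ) : pt a b c + ez 0 = pt (a + 1) b c := by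
  funext j
  fin_cases j <;> simp [pt, ez_apply]

lemma pt_add_ez1 (a b c : ℕ) : pt a b c + ez 1 = pt a (b + 1) c := by
  funext j
  fin_cases j <;> simp [pt, ez_apply]

lemma pt_add_ez2 (a b c : ℕ) : pt a b c + ez 2 = pt a b (c + 1) := by
  funext j
  fin_cases j <;> simp [pt, ez_apply]

lemma pt_le {a b c a' b' c' : ℕ} (ha : a ≤ a') (hb : b ≤ b') (hc : c ≤ c') (i : Fin 3) :
    pt a b c i ≤ pt a' b' c' i := by
  fin_cases i <;> simp [pt] <;> omega

lemma eq_pt {β : V} (hβ : ∀ i, 0 ≤ β i) : β = pt (β 0).toNat (β 1).toNat (β 2).toNat := by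
  funext j
  have h0 := hβ 0
  have h1 := hβ 1
  have h2 := hβ 2
  fin_cases j <;> simp [pt] <;> omega

/-- The path sum of a `1`-cochain along the lexicographic path from `0` to `(a, b, c)`. -/
noncomputable def cgN (g : Q1 L α → k) (a b c : ℕ) : k :=
  ∑ t ∈ Finset.range a, ext1 g 0 (pt t 0 0) + ∑ t ∈ Finset.range b, ext1 g 1 (pt a t 0)
    + ∑ t ∈ Finset.range c, ext1 g 2 (pt a b t)

lemma cgN_add (g g' : Q1 L α → k) (a b c : ℕ) : cgN (g + g') a b c = cgN g a b c + cgN g' a b c := by
  simp only [cgN, ext1_add, Finset.sum_add_distrib]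
  ring

lemma cgN_smul (r : k) (g : Q1 L α → k) (a b c : ℕ) : cgN (r • g) a b c = r * cgN g a b c := by
  simp only [cgN, ext1_smul, ← Finset.mul_sum]
  ring

lemma cgN_zero (g : Q1 L α → k) : cgN g 0 0 0 = 0 := by
  simp [cgN]

lemma cgN_succ2 (g : Q1 L α → k) (a b c : ℕ) :
    cgN g a b (c + 1) = cgN g a b c + ext1 g 2 (pt a b c) := by
  simp only [cgN, Finset.sum_range_succ]
  ring

section grad

variable (hL : Stair L) (g : Q1 L α → k) (hg : (C L α).mulVec g = 0)
include hL hg

lemma tele12 (a b : ℕ) : ∀ c : ℕ, inD L (pt a (b + 1) c + α) →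
    ext1 g 1 (pt a b 0) + ∑ t ∈ Finset.range c, (ext1 g 2 (pt a (b + 1) t) - ext1 g 2 (pt a b t))
      = ext1 g 1 (pt a b c) := by
  intro c
  induction c with
  | zero => intro _; simp
  | succ c ih =>
    intro hD
    have hD' : inD L (pt a (b + 1) c + α) := by
      apply inD_of_le hL hD
      intro i
      have := pt_le (le_refl a) (le_refl (b + 1)) (Nat.le_add_right c 1) i
      simp only [Pi.add_apply]
      omega
    rw [Finset.sum_range_succ, ← add_assoc, ih hD']
    have h1 : ((0 : Fin 3) + 1) = 1 := rfl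
    have h2 : ((0 : Fin 3) + 2) = 2 := rfl
    have hc := cocycle_ext hL g hg 0 (pt a b c) (pt_nonneg a b c) (by
      have : pt a b c + α + ez (0 + 1) + ez (0 + 2) = pt a (b + 1) (c + 1) + α := by
        rw [← pt_add_ez2, ← pt_add_ez1, h1, h2]
        funext i
        simp only [Pi.add_apply]
        ring
      rw [this]
      exact hD)
    rw [h1, h2, pt_add_ez1, pt_add_ez2] at hc
    linear_combination -hc

lemma tele01 (a : ℕ) : ∀ b : ℕ, inD L (pt (a + 1) b 0 + α) →
    ext1 g 0 (pt a 0 0) + ∑ t ∈ Finset.range b, (ext1 g 1 (pt (a + 1) t 0) - ext1 g 1 (pt a t 0))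
      = ext1 g 0 (pt a b 0) := by
  intro b
  induction b with
  | zero => intro _; simp
  | succ b ih =>
    intro hD
    have hD' : inD L (pt (a + 1) b 0 + α) := by
      apply inD_of_le hL hD
      intro i
      have := pt_le (le_refl (a + 1)) (Nat.le_add_right b 1) (le_refl 0) i
      simp only [Pi.add_apply]
      omega
    rw [Finset.sum_range_succ, ← add_assoc, ih hD']
    have hc := cocycle_ext hL g hg 2 (pt a b 0) (pt_nonneg a b 0) (by
      have : pt a b 0 + α + ez (2 + 1) + ez (2 + 2) = pt (a + 1) (b + 1) 0 + α := by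
        rw [← pt_add_ez1, ← pt_add_ez0]
        funext i
        simp only [Pi.add_apply]
        have h1 : ((2 : Fin 3) + 1) = 0 := rfl
        have h2 : ((2 : Fin 3) + 2) = 1 := rfl
        rw [h1, h2]
        ring
      rw [this]
      exact hD)
    have h1 : ((2 : Fin 3) + 1) = 0 := rfl
    have h2 : ((2 : Fin 3) + 2) = 1 := rfl
    rw [h1, h2, pt_add_ez0, pt_add_ez1] at hc
    linear_combination -hc

lemma tele20 (a b : ℕ) : ∀ c : ℕ, inD L (pt (a + 1) b c + α) →
    ext1 g 0 (pt a b 0) + ∑ t ∈ Finset.range c, (ext1 g 2 (pt (a + 1) b t) - ext1 g 2 (pt a b t))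
      = ext1 g 0 (pt a b c) := by
  intro c
  induction c with
  | zero => intro _; simp
  | succ c ih =>
    intro hD
    have hD' : inD L (pt (a + 1) b c + α) := by
      apply inD_of_le hL hD
      intro i
      have := pt_le (le_refl (a + 1)) (le_refl b) (Nat.le_add_right c 1) i
      simp only [Pi.add_apply]
      omega
    rw [Finset.sum_range_succ, ← add_assoc, ih hD']
    have hc := cocycle_ext hL g hg 1 (pt a b c) (pt_nonneg a b c) (by
      have : pt a b c + α + ez (1 + 1) + ez (1 + 2) = pt (a + 1) b (c + 1) + α := by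
        rw [← pt_add_ez2, ← pt_add_ez0]
        funext i
        simp only [Pi.add_apply]
        have h1 : ((1 : Fin 3) + 1) = 2 := rfl
        have h2 : ((1 : Fin 3) + 2) = 0 := rfl
        rw [h1, h2]
        ring
      rw [this]
      exact hD)
    have h1 : ((1 : Fin 3) + 1) = 2 := rfl
    have h2 : ((1 : Fin 3) + 2) = 0 := rfl
    rw [h1, h2, pt_add_ez0, pt_add_ez2] at hc
    linear_combination hc

lemma cgN_succ1 (a b c : ℕ) (hD : inD L (pt a (b + 1) c + α)) :
    cgN g a (b + 1) c = cgN g a b c + ext1 g 1 (pt a b c) := by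
  have h := tele12 hL g hg a b c hD
  simp only [cgN, Finset.sum_range_succ]
  rw [Finset.sum_sub_distrib] at h
  linear_combination h

lemma cgN_succ0 (a b c : ℕ) (hD : inD L (pt (a + 1) b c + α)) :
    cgN g (a + 1) b c = cgN g a b c + ext1 g 0 (pt a b c) := by
  have hD0 : inD L (pt (a + 1) b 0 + α) := by
    apply inD_of_le hL hD
    intro i
    have := pt_le (le_refl (a + 1)) (le_refl b) (Nat.zero_le c) i
    simp only [Pi.add_apply]
    omega
  have h1 := tele01 hL g hg a b hD0
  have h2 := tele20 hL g hg a b c hD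
  simp only [cgN, Finset.sum_range_succ]
  rw [Finset.sum_sub_distrib] at h1 h2
  linear_combination h1 + h2

end grad

/-- The path-sum function on integer vectors. -/
noncomputable def cg (g : Q1 L α → k) (β : V) : k :=
  cgN g (β 0).toNat (β 1).toNat (β 2).toNat

lemma cg_pt (g : Q1 L α → k) (a b c : ℕ) : cg g (pt a b c) = cgN g a b c := by
  simp [cg, pt]

lemma cg_zero (g : Q1 L α → k) : cg g 0 = 0 := by
  have : (0 : V) = pt 0 0 0 := by
    funext j
    fin_cases j <;> simp [pt]
  rw [this, cg_pt, cgN_zero]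

lemma cg_add (g g' : Q1 L α → k) (β : V) : cg (g + g') β = cg g β + cg g' β := cgN_add _ _ _ _ _

lemma cg_smul (r : k) (g : Q1 L α → k) (β : V) : cg (r • g) β = r * cg g β := cgN_smul _ _ _ _ _

/-- **Discrete Poincaré lemma**: the path sum of a cocycle has the cocycle as its gradient. -/
theorem cg_add_ez (hL : Stair L) (g : Q1 L α → k) (hg : (C L α).mulVec g = 0) {β : V}
    (hβ : ∀ i, 0 ≤ β i) (i : Fin 3) (hD : inD L (β + ez i + α)) :
    cg g (β + ez i) = cg g β + ext1 g i β := by
  rw [eq_pt hβ] at hD ⊢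
  set a := (β 0).toNat
  set b := (β 1).toNat
  set c := (β 2).toNat
  fin_cases i
  · show cg g (pt a b c + ez 0) = cg g (pt a b c) + ext1 g 0 (pt a b c)
    change inD L (pt a b c + ez 0 + α) at hD
    rw [pt_add_ez0] at hD ⊢
    rw [cg_pt, cg_pt]
    exact cgN_succ0 hL g hg a b c hD
  · show cg g (pt a b c + ez 1) = cg g (pt a b c) + ext1 g 1 (pt a b c)
    change inD L (pt a b c + ez 1 + α) at hD
    rw [pt_add_ez1] at hD ⊢
    rw [cg_pt, cg_pt]
    exact cgN_succ1 hL g hg a b c hD
  · show cg g (pt a b c + ez 2) = cg g (pt a b c) + ext1 g 2 (pt a b c)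
    rw [pt_add_ez2]
    rw [cg_pt, cg_pt]
    exact cgN_succ2 g a b c

end Groth.Agent.Lib.Helper92.Kos
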