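import Groth.Agent.Lib.Helper92.KosD
import Groth.Agent.Lib.Helper92.HilbTgtDecomp

set_option linter.unusedSectionVars false
set_option linter.unusedSimpArgs false
set_option linter.unusedVariables false
set_option linter.style.haveILetI false
set_option linter.unnecessarySimpa false
set_option autoImplicit false

/-!
# The Koszul complex of a staircase, part E: the staircase of a monomial ideal and the region graph
(helper92)
-/

namespace Groth.Agent.Lib.Helper92.Kos

open MvPolynomial W4c1hilbpn Groth.Agent.Lib.Helper92.HilbTgt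

universe u

variable {k : Type u} [Field k] {I : Ideal (MvPolynomial (Fin 3) k)}

/-- Cast of an exponent vector to an integer vector. -/
def castZ (β : Fin 3 →₀ ℕ) : V := fun i => (β i : ℤ)

lemma castZ_injective : Function.Injective castZ := by
  intro β β' h
  ext i
  have := congrFun h i
  simp only [castZ] at this
  exact_mod_cast this

lemma natPart_castZ (β : Fin 3 →₀ ℕ) : natPart (castZ β) = β := by
  ext i
  simp [castZ]

lemma castZ_natPart {γ : V} (h : ∀ i, 0 ≤ γ i) : castZ (natPart γ) = γ := by
  funext i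
  have := h i
  simp only [castZ, natPart_apply]
  omega

/-- The staircase of a monomial ideal of finite colength. -/
noncomputable def LI (hI : IsMonomial I) [Module.Finite k (MvPolynomial (Fin 3) k ⧸ I)] :
    Finset V :=
  (finite_compl_exps hI).toFinset.image castZ

variable (hI : IsMonomial I) [Module.Finite k (MvPolynomial (Fin 3) k ⧸ I)]

lemma mem_LI {γ : V} : γ ∈ LI hI ↔ (∀ i, 0 ≤ γ i) ∧ natPart γ ∉ exps I := by
  simp only [LI, Finset.mem_image, Set.Finite.mem_toFinset, Set.mem_ofPred_eq]
  constructor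
  · rintro ⟨β, hβ, rfl⟩
    refine ⟨fun i => by simp [castZ], ?_⟩
    rwa [natPart_castZ]
  · rintro ⟨h0, h1⟩
    exact ⟨natPart γ, h1, castZ_natPart h0⟩

open Groth.Agent.Lib.Helper92.HilbTgtDecomp in
/-- `S/I` has the monomials outside `I` as a basis. -/
noncomputable def quotEquiv : (MvPolynomial (Fin 3) k ⧸ I) ≃ₗ[k] (↥(Nfin hI) → k) where
  toFun q γ := cf I γ.1 q
  map_add' q q' := by
    funext γ
    exact cf_add hI ((mem_Nfin hI).1 γ.2) q q'
  map_smul' c q := by
    funext γ
    simp only [Pi.smul_apply, RingHom.id_apply, smul_eq_mul]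
    exact cf_smul hI ((mem_Nfin hI).1 γ.2) c q
  invFun c := ∑ γ : ↥(Nfin hI), c γ • Ideal.Quotient.mk I (monomial γ.1 (1 : k))
  left_inv q := by
    conv_rhs => rw [expand hI q]
    rw [← Finset.sum_coe_sort (Nfin hI)]
  right_inv c := by
    classical
    funext γ
    have hγ := (mem_Nfin hI).1 γ.2
    show cfL hI hγ (∑ γ' : ↥(Nfin hI), c γ' • Ideal.Quotient.mk I (monomial γ'.1 (1 : k))) = c γ
    rw [map_sum]
    simp only [map_smul, cfL_apply, cf_mk_monomial hI hγ, smul_eq_mul, mul_ite, mul_one, mul_zero]
    rw [Finset.sum_eq_single γ]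
    · simp
    · intro b _ hb
      rw [if_neg]
      exact fun h => hb (Subtype.ext h)
    · intro h
      exact absurd (Finset.mem_univ _) h

open Groth.Agent.Lib.Helper92.HilbTgtDecomp in
lemma card_LI : (LI hI).card = Module.finrank k (MvPolynomial (Fin 3) k ⧸ I) := by
  rw [(quotEquiv hI).finrank_eq, Module.finrank_fintype_fun_eq_card, Fintype.card_coe]
  unfold LI
  rw [Finset.card_image_of_injective _ castZ_injective]
  rfl

lemma stair_LI : Stair (LI hI) := by
  constructor
  · intro γ hγ i
    exact ((mem_LI hI).1 hγ).1 i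
  · intro γ hγ i hi
    obtain ⟨h0, h1⟩ := (mem_LI hI).1 hγ
    rw [mem_LI]
    have hnn : ∀ j, 0 ≤ (γ - ez i) j := by
      intro j
      have := h0 j
      simp only [Pi.sub_apply, ez_apply]
      split_ifs with hj
      · subst hj; omega
      · omega
    refine ⟨hnn, ?_⟩
    intro hmem
    apply h1
    have : natPart γ = natPart (γ - ez i) + Finsupp.single i 1 := by
      rw [← natPart_add_ez i (hnn i), sub_add_cancel]
    rw [this]
    exact exps_add hmem _

/-- Description of the region in terms of the staircase. -/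
lemma mem_region_iff {α γ : V} :
    γ ∈ region I α ↔ ((∀ i, 0 ≤ (γ - α) i) ∧ γ - α ∉ LI hI) ∧ inD (LI hI) γ := by
  rw [mem_region]
  constructor
  · rintro ⟨⟨β, hβ, rfl⟩, h2⟩
    have e : toZ β α - α = castZ β := by
      funext i
      simp only [Pi.sub_apply, toZ_apply, castZ]
      ring
    refine ⟨⟨?_, ?_⟩, ?_⟩
    · intro i
      rw [e]
      simp [castZ]
    · rw [e, mem_LI, natPart_castZ]
      exact fun h => h.2 hβ
    · by_cases hnn : ∀ i, 0 ≤ toZ β α i
      · left
        rw [mem_LI]
        exact ⟨hnn, fun h => h2 ⟨hnn, h⟩⟩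
      · push Not at hnn
        exact Or.inr hnn
  · rintro ⟨⟨h0, h1⟩, hD⟩
    refine ⟨⟨natPart (γ - α), ?_, ?_⟩, ?_⟩
    · by_contra hcon
      exact h1 ((mem_LI hI).2 ⟨h0, hcon⟩)
    · funext i
      have := h0 i
      simp only [toZ_apply, natPart_apply, Pi.sub_apply] at this ⊢
      omega
    · rintro ⟨hnn, hmem⟩
      rcases hD with h | ⟨j, hj⟩
      · exact ((mem_LI hI).1 h).2 hmem
      · have := hnn j
        omega

end Groth.Agent.Lib.Helper92.Kos
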