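import Groth.Agent.Lib.Helper92.KosE

set_option linter.unusedSectionVars false
set_option linter.unusedSimpArgs false
set_option linter.unusedVariables false
set_option linter.style.haveILetI false
set_option linter.unnecessarySimpa false
set_option autoImplicit false

/-!
# The Koszul complex of a staircase, part F: potentials (helper92)
-/

namespace Groth.Agent.Lib.Helper92.Kos

open Groth.Agent.Lib.Helper92.HilbTgt

variable {L : Finset V} {α : V} {k : Type*} [Field k]

lemma pt_zero_eq : pt 0 0 0 = 0 := by
  funext j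
  fin_cases j <;> simp [pt]

/-- Induction over nonnegative integer vectors. -/
lemma nonneg_induction {P : V → Prop} (h0 : P 0)
    (hs : ∀ β i, (∀ j, 0 ≤ β j) → P β → P (β + ez i)) : ∀ β : V, (∀ j, 0 ≤ β j) → P β := by
  have hpt : ∀ a b c, P (pt a b c) := by
    intro a b c
    induction c with
    | zero =>
      induction b with
      | zero =>
        induction a with
        | zero => rw [pt_zero_eq]; exact h0
        | succ a ih => rw [← pt_add_ez0]; exact hs _ 0 (pt_nonneg _ _ _) ih
      | succ b ih => rw [← pt_add_ez1]; exact hs _ 1 (pt_nonneg _ _ _) ih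
    | succ c ih => rw [← pt_add_ez2]; exact hs _ 2 (pt_nonneg _ _ _) ih
  intro β hβ
  rw [eq_pt hβ]
  exact hpt _ _ _

lemma ez_nonneg (i j : Fin 3) : 0 ≤ (ez i : V) j := by
  rw [ez_apply]
  split_ifs <;> norm_num

lemma cg_eq_zero_of_neg (hL : Stair L) (g : Q1 L α → k) (hg : (C L α).mulVec g = 0) (j : Fin 3) :
    ∀ β : V, (∀ i, 0 ≤ β i) → (β + α) j < 0 → cg g β = 0 := by
  apply nonneg_induction
  · intro _
    exact cg_zero g
  · intro β i hβ ih hneg
    have h2 := ez_nonneg i j
    have h1 : (β + α) j < 0 := by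
      have : (β + ez i + α) j = (β + α) j + (ez i : V) j := by
        simp only [Pi.add_apply]
        ring
      omega
    rw [cg_add_ez hL g hg hβ i (Or.inr ⟨j, hneg⟩), ih h1, zero_add]
    apply ext1_eq_zero_of_not_mem_L'
    apply not_mem_of_neg hL
    refine ⟨j, ?_⟩
    have : (β + α + ez i) j = (β + ez i + α) j := by
      simp only [Pi.add_apply]
      ring
    omega

/-- The `1`-cochain which is the gradient of a potential. -/
def gradP (L : Finset V) (α : V) (P : V → k) : Q1 L α → k :=
  fun p => P (p.1.2 + ez p.1.1) - P p.1.2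

/-- A potential is admissible if it is locally constant across the edges not in `Q1`. -/
def Adm (L : Finset V) (α : V) (P : V → k) : Prop :=
  ∀ β i, (∀ j, 0 ≤ β j) → inD L (β + ez i + α) → (i, β) ∉ Q1 L α → P (β + ez i) = P β

lemma ext1_gradP {P : V → k} (hP : Adm L α P) (β : V) (i : Fin 3) (hβ : ∀ j, 0 ≤ β j)
    (hD : inD L (β + ez i + α)) : ext1 (gradP L α P) i β = P (β + ez i) - P β := by
  by_cases hQ : (i, β) ∈ Q1 L α
  · rw [ext1_of_mem _ hQ]
    rfl
  · rw [ext1_of_not_mem _ hQ, hP β i hβ hD hQ, sub_self]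

lemma add_nonneg_ez {β : V} (hβ : ∀ j, 0 ≤ β j) (i : Fin 3) : ∀ j, 0 ≤ (β + ez i) j := by
  intro j
  have := ez_nonneg i j
  have := hβ j
  simp only [Pi.add_apply]
  omega

lemma cocycle_gradP (hL : Stair L) {P : V → k} (hP : Adm L α P) :
    (C L α).mulVec (gradP L α P) = 0 := by
  funext p
  obtain ⟨⟨l, b⟩, hp⟩ := p
  have hp' := mem_Q2.1 hp
  obtain ⟨hbL, htop⟩ := hp'
  have hb : ∀ j, 0 ≤ b j := hL.nonneg b hbL
  rw [C_mulVec]
  show ext1 (gradP L α P) (l + 2) b - ext1 (gradP L α P) (l + 2) (b + ez (l + 1))
      - ext1 (gradP L α P) (l + 1) b + ext1 (gradP L α P) (l + 1) (b + ez (l + 2)) = 0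
  have hT : inD L (b + α + ez (l + 1) + ez (l + 2)) := Or.inl htop
  have e1 : inD L (b + ez (l + 2) + α) := by
    apply inD_of_le hL hT
    intro i
    have := ez_nonneg (l + 1) i
    simp only [Pi.add_apply]
    omega
  have e2 : inD L (b + ez (l + 1) + ez (l + 2) + α) := by
    apply inD_of_le hL hT
    intro i
    simp only [Pi.add_apply]
    omega
  have e3 : inD L (b + ez (l + 1) + α) := by
    apply inD_of_le hL hT
    intro i
    have := ez_nonneg (l + 2) i
    simp only [Pi.add_apply]
    omega
  have e4 : inD L (b + ez (l + 2) + ez (l + 1) + α) := by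
    apply inD_of_le hL hT
    intro i
    simp only [Pi.add_apply]
    omega
  rw [ext1_gradP hP b (l + 2) hb e1, ext1_gradP hP (b + ez (l + 1)) (l + 2) (add_nonneg_ez hb _) e2,
    ext1_gradP hP b (l + 1) hb e3, ext1_gradP hP (b + ez (l + 2)) (l + 1) (add_nonneg_ez hb _) e4]
  rw [add_right_comm b (ez (l + 2)) (ez (l + 1))]
  ring

lemma cg_gradP (hL : Stair L) {P : V → k} (hP : Adm L α P) :
    ∀ β : V, (∀ j, 0 ≤ β j) → inD L (β + α) → cg (gradP L α P) β = P β - P 0 := by
  apply nonneg_induction
  · intro _
    rw [cg_zero, sub_self]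
  · intro β i hβ ih hD
    have hD' : inD L (β + α) := by
      apply inD_of_le hL hD
      intro j
      have := ez_nonneg i j
      simp only [Pi.add_apply]
      omega
    rw [cg_add_ez hL _ (cocycle_gradP hL hP) hβ i hD, ih hD', ext1_gradP hP β i hβ hD]
    ring

/-- Coboundaries are gradients of admissible potentials. -/
lemma G_eq_gradP (f : Q0 L α → k) : (G L α).mulVec f = gradP L α (fun β => - ext0 f β) := by
  funext p
  rw [G_mulVec]
  simp only [gradP]
  ring

lemma adm_ext0 (hL : Stair L) (f : Q0 L α → k) : Adm L α (fun β => - ext0 f β) := by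
  intro β i hβ hD hQ
  rw [mem_Q1] at hQ
  have key : ext0 f (β + ez i) = 0 ∧ ext0 f β = 0 := by
    by_cases hbL : β ∈ L
    · have htop : β + α + ez i ∉ L := fun h => hQ ⟨hbL, h⟩
      have e : β + ez i + α = β + α + ez i := add_right_comm _ _ _
      rw [e] at hD
      rcases hD with h | ⟨j, hj⟩
      · exact absurd h htop
      · constructor
        · apply ext0_of_not_mem
          rw [mem_Q0, e]
          exact fun h => htop h.2
        · apply ext0_of_not_mem
          rw [mem_Q0]
          intro h
          have h1 := hL.nonneg _ h.2 j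
          have := ez_nonneg i j
          simp only [Pi.add_apply] at hj h1
          omega
    · constructor
      · apply ext0_of_not_mem
        rw [mem_Q0]
        exact fun h => hbL (hL.mem_of_add h.1 (hβ i))
      · apply ext0_of_not_mem
        rw [mem_Q0]
        exact fun h => hbL h.1
  show - ext0 f (β + ez i) = - ext0 f β
  rw [key.1, key.2]

end Groth.Agent.Lib.Helper92.Kos
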