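import Groth.Agent.Lib.Helper92.KosF

set_option linter.unusedSectionVars false
set_option linter.unusedSimpArgs false
set_option linter.unusedVariables false
set_option linter.style.haveILetI false
set_option linter.unnecessarySimpa false
set_option autoImplicit false

/-!
# The Koszul complex of a staircase, part G: `H¹` and bounded components (helper92)
-/

namespace Groth.Agent.Lib.Helper92.Kos

open MvPolynomial W4c1hilbpn Groth.Agent.Lib.Helper92.HilbTgt

universe u

variable {k : Type u} [Field k] {I : Ideal (MvPolynomial (Fin 3) k)}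
variable (hI : IsMonomial I) [Module.Finite k (MvPolynomial (Fin 3) k ⧸ I)] {α : V}

open Classical in
/-- The function on the region attached to a `1`-cochain. -/
noncomputable def F (g : Q1 (LI hI) α → k) (v : ↥(region I α)) : k :=
  if ∀ i, 0 ≤ v.1 i then cg g (v.1 - α) else 0

lemma F_of_nonneg (g : Q1 (LI hI) α → k) {v : ↥(region I α)} (h : ∀ i, 0 ≤ v.1 i) :
    F hI g v = cg g (v.1 - α) := by
  rw [F, if_pos h]

lemma F_of_neg (g : Q1 (LI hI) α → k) {v : ↥(region I α)} {j : Fin 3} (h : v.1 j < 0) :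
    F hI g v = 0 := by
  rw [F, if_neg]
  intro hh
  have := hh j
  omega

lemma F_add (g g' : Q1 (LI hI) α → k) (v : ↥(region I α)) :
    F hI (g + g') v = F hI g v + F hI g' v := by
  by_cases h : ∀ i, 0 ≤ v.1 i
  · rw [F_of_nonneg hI _ h, F_of_nonneg hI _ h, F_of_nonneg hI _ h, cg_add]
  · push Not at h
    obtain ⟨j, hj⟩ := h
    rw [F_of_neg hI _ hj, F_of_neg hI _ hj, F_of_neg hI _ hj, add_zero]

lemma F_smul (r : k) (g : Q1 (LI hI) α → k) (v : ↥(region I α)) :
    F hI (r • g) v = r * F hI g v := by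
  by_cases h : ∀ i, 0 ≤ v.1 i
  · rw [F_of_nonneg hI _ h, F_of_nonneg hI _ h, cg_smul]
  · push Not at h
    obtain ⟨j, hj⟩ := h
    rw [F_of_neg hI _ hj, F_of_neg hI _ hj, mul_zero]

lemma F_step (g : Q1 (LI hI) α → k) (hg : (C (LI hI) α).mulVec g = 0) (v w : ↥(region I α))
    (i : Fin 3) (hw : w.1 = v.1 + ez i) : F hI g w = F hI g v := by
  have hL := stair_LI hI
  obtain ⟨⟨hv0, hv1⟩, hvD⟩ := (mem_region_iff hI).1 v.2
  obtain ⟨⟨hw0, hw1⟩, hwD⟩ := (mem_region_iff hI).1 w.2
  have e1 : w.1 - α = (v.1 - α) + ez i := by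
    rw [hw]
    abel
  have e2 : (v.1 - α) + ez i + α = w.1 := by
    rw [hw]
    abel
  have hstep : cg g (w.1 - α) = cg g (v.1 - α) := by
    rw [e1, cg_add_ez hL g hg hv0 i (by rw [e2]; exact hwD),
      ext1_eq_zero_of_not_mem_L g i hv1, add_zero]
  by_cases hwn : ∀ j, 0 ≤ w.1 j
  · rw [F_of_nonneg hI _ hwn, hstep]
    by_cases hvn : ∀ j, 0 ≤ v.1 j
    · rw [F_of_nonneg hI _ hvn]
    · push Not at hvn
      obtain ⟨j, hj⟩ := hvn
      rw [F_of_neg hI _ hj]
      apply cg_eq_zero_of_neg hL g hg j _ hv0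
      rw [sub_add_cancel]
      exact hj
  · push Not at hwn
    obtain ⟨j, hj⟩ := hwn
    have hvj : v.1 j < 0 := by
      have := congrFun hw j
      have := ez_nonneg i j
      simp only [Pi.add_apply] at *
      omega
    rw [F_of_neg hI _ hj, F_of_neg hI _ hvj]

lemma F_adj (g : Q1 (LI hI) α → k) (hg : (C (LI hI) α).mulVec g = 0) {v w : ↥(region I α)}
    (h : (RG I α).Adj v w) : F hI g v = F hI g w := by
  obtain ⟨i, hi | hi⟩ := step_adj_cases (show (stepGraph (Fin 3)).Adj v.1 w.1 from h)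
  · exact (F_step hI g hg v w i hi).symm
  · exact F_step hI g hg w v i hi

lemma F_reachable (g : Q1 (LI hI) α → k) (hg : (C (LI hI) α).mulVec g = 0) {v w : ↥(region I α)}
    (h : (RG I α).Reachable v w) : F hI g v = F hI g w := by
  rw [SimpleGraph.reachable_iff_reflTransGen] at h
  induction h with
  | refl => rfl
  | tail _ hadj ih => exact ih.trans (F_adj hI g hg hadj)

/-- A representative of a bounded component. -/
noncomputable def rep (c : BC I α) : ↥(region I α) := Classical.choose c.1.exists_rep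

lemma rep_spec (c : BC I α) : (RG I α).connectedComponentMk (rep c) = c.1 :=
  Classical.choose_spec c.1.exists_rep

include hI in
lemma rep_nonneg (c : BC I α) : ∀ i, 0 ≤ (rep c).1 i :=
  (supp_finite_iff (by norm_num) hI c.1).1 c.2 _ (rep_spec c)

/-- The map from `1`-cochains to functions on bounded components. -/
noncomputable def Om : (Q1 (LI hI) α → k) →ₗ[k] (BC I α → k) where
  toFun g c := F hI g (rep c)
  map_add' g g' := by
    funext c
    exact F_add hI g g' _
  map_smul' r g := by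
    funext c
    simp only [Pi.smul_apply, RingHom.id_apply, smul_eq_mul]
    exact F_smul hI r g _

lemma Om_apply (g : Q1 (LI hI) α → k) (c : BC I α) : Om hI g c = F hI g (rep c) := rfl

/-- If `Ω g = 0` for a cocycle `g`, then `F g` vanishes identically. -/
lemma F_eq_zero (g : Q1 (LI hI) α → k) (hg : (C (LI hI) α).mulVec g = 0) (h0 : Om hI g = 0)
    (v : ↥(region I α)) : F hI g v = 0 := by
  by_cases hfin : ((RG I α).connectedComponentMk v).supp.Finite
  · have h1 := congrFun h0 ⟨_, hfin⟩
    rw [Om_apply] at h1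
    have hr : (RG I α).Reachable (rep ⟨_, hfin⟩) v :=
      SimpleGraph.ConnectedComponent.exact (rep_spec ⟨_, hfin⟩)
    rw [← F_reachable hI g hg hr]
    exact h1
  · have := (supp_finite_iff (by norm_num) hI _).not.mp hfin
    push Not at this
    obtain ⟨w, hw, i, hi⟩ := this
    have hr : (RG I α).Reachable w v := SimpleGraph.ConnectedComponent.exact hw
    rw [← F_reachable hI g hg hr, F_of_neg hI g hi]

/-- Exactness: a cocycle killed by `Ω` is a coboundary. -/
lemma exists_of_Om_eq_zero (g : Q1 (LI hI) α → k) (hg : (C (LI hI) α).mulVec g = 0)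
    (h0 : Om hI g = 0) : ∃ f : Q0 (LI hI) α → k, (G (LI hI) α).mulVec f = g := by
  have hL := stair_LI hI
  refine ⟨fun q => - cg g q.1, ?_⟩
  funext p
  obtain ⟨⟨l, b⟩, hp⟩ := p
  obtain ⟨hbL, htop⟩ := mem_Q1.1 hp
  have hb : ∀ j, 0 ≤ b j := hL.nonneg b hbL
  rw [G_mulVec]
  show ext0 _ b - ext0 _ (b + ez l) = g ⟨(l, b), hp⟩
  have e : b + ez l + α = b + α + ez l := add_right_comm _ _ _
  have h1 : cg g (b + ez l) = cg g b + g ⟨(l, b), hp⟩ := by
    rw [cg_add_ez hL g hg hb l (by rw [e]; exact Or.inl htop), ext1_of_mem g hp]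
  have h2 : ext0 (fun q : Q0 (LI hI) α => - cg g q.1) b = - cg g b := by
    by_cases hq : b ∈ Q0 (LI hI) α
    · rw [ext0_of_mem _ hq]
    · rw [ext0_of_not_mem _ hq]
      rw [mem_Q0] at hq
      have hnot : b + α ∉ LI hI := fun h => hq ⟨hbL, h⟩
      have hD : inD (LI hI) (b + α) := by
        apply inD_of_le hL (Or.inl htop)
        intro j
        have := ez_nonneg l j
        simp only [Pi.add_apply]
        omega
      rcases hD with h | ⟨j, hj⟩
      · exact absurd h hnot
      · rw [cg_eq_zero_of_neg hL g hg j b hb hj, neg_zero]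
  have h3 : ext0 (fun q : Q0 (LI hI) α => - cg g q.1) (b + ez l) = - cg g (b + ez l) := by
    by_cases hq : b + ez l ∈ Q0 (LI hI) α
    · rw [ext0_of_mem _ hq]
    · rw [ext0_of_not_mem _ hq]
      rw [mem_Q0, e] at hq
      have hnot : b + ez l ∉ LI hI := fun h => hq ⟨h, htop⟩
      have hreg : b + α + ez l ∈ region I α := by
        rw [mem_region_iff hI]
        have e' : b + α + ez l - α = b + ez l := by abel
        rw [e']
        exact ⟨⟨add_nonneg_ez hb l, hnot⟩, Or.inl htop⟩
      have hF := F_eq_zero hI g hg h0 ⟨_, hreg⟩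
      rw [F_of_nonneg hI g (hL.nonneg _ htop)] at hF
      have e' : b + α + ez l - α = b + ez l := by abel
      simp only [e'] at hF
      rw [hF, neg_zero]
  rw [h2, h3, h1]
  ring

/-- Coboundaries are killed by `Ω`. -/
lemma Om_G (f : Q0 (LI hI) α → k) : Om hI ((G (LI hI) α).mulVec f) = 0 := by
  have hL := stair_LI hI
  funext c
  rw [Om_apply, G_eq_gradP]
  have hv := rep_nonneg hI c
  obtain ⟨⟨hv0, hv1⟩, hvD⟩ := (mem_region_iff hI).1 (rep c).2
  rw [F_of_nonneg hI _ hv, cg_gradP hL (adm_ext0 hL f) _ hv0 (by rw [sub_add_cancel]; exact hvD)]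
  have h1 : ext0 f ((rep c).1 - α) = 0 := by
    apply ext0_of_not_mem
    rw [mem_Q0]
    exact fun h => hv1 h.1
  have h2 : ext0 f 0 = 0 := by
    apply ext0_of_not_mem
    rw [mem_Q0, zero_add]
    rintro ⟨-, hα⟩
    apply hv1
    have hvL : (rep c).1 ∈ LI hI := by
      rcases hvD with h | ⟨j, hj⟩
      · exact h
      · have := hv j
        omega
    apply hL.mem_of_le' hvL hv0
    intro i
    have := hL.nonneg _ hα i
    simp only [Pi.sub_apply]
    omega
  simp only [h1, h2]
  simp

end Groth.Agent.Lib.Helper92.Kos
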