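import Groth.Agent.Lib.Helper92.KosG

set_option linter.unusedSectionVars false
set_option linter.unusedSimpArgs false
set_option linter.unusedVariables false
set_option linter.style.haveILetI false
set_option linter.unnecessarySimpa false
set_option autoImplicit false

/-!
# The Koszul complex of a staircase, part H: surjectivity of `Ω` and the rank formula (helper92)
-/

namespace Groth.Agent.Lib.Helper92.Kos

open MvPolynomial W4c1hilbpn Groth.Agent.Lib.Helper92.HilbTgt

universe u

variable {k : Type u} [Field k] {I : Ideal (MvPolynomial (Fin 3) k)}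
variable (hI : IsMonomial I) [Module.Finite k (MvPolynomial (Fin 3) k ⧸ I)] {α : V}

open Classical in
/-- The function on `ℤ³` attached to a function on bounded components. -/
noncomputable def chi (ω : BC I α → k) (γ : V) : k :=
  if h : γ ∈ region I α then cval I α ω ((RG I α).connectedComponentMk ⟨γ, h⟩) else 0

lemma chi_of_mem (ω : BC I α → k) {γ : V} (h : γ ∈ region I α) :
    chi ω γ = cval I α ω ((RG I α).connectedComponentMk ⟨γ, h⟩) := by
  rw [chi, dif_pos h]

lemma chi_of_not_mem (ω : BC I α → k) {γ : V} (h : γ ∉ region I α) : chi ω γ = 0 := by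
  rw [chi, dif_neg h]

lemma cval_of_infinite (ω : BC I α → k) {c : (RG I α).ConnectedComponent}
    (h : c.supp.Infinite) : cval I α ω c = 0 := by
  unfold cval
  rw [dif_neg h]

lemma chi_of_neg (ω : BC I α → k) {γ : V} {j : Fin 3} (hj : γ j < 0) : chi ω γ = 0 := by
  by_cases h : γ ∈ region I α
  · rw [chi_of_mem ω h]
    exact cval_of_infinite ω (infinite_supp_of_neg (by norm_num) ⟨γ, h⟩ hj)
  · exact chi_of_not_mem ω h

lemma chi_step (ω : BC I α → k) {γ : V} (i : Fin 3) (h : γ ∈ region I α)
    (h' : γ + ez i ∈ region I α) : chi ω (γ + ez i) = chi ω γ := by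
  rw [chi_of_mem ω h, chi_of_mem ω h']
  congr 1
  apply SimpleGraph.ConnectedComponent.sound
  apply SimpleGraph.Adj.reachable
  show (stepGraph (Fin 3)).Adj (γ + ez i) γ
  exact (step_adj_add_ez γ i).symm

include hI in
lemma mem_LI_of_chi_ne_zero (ω : BC I α → k) {γ : V} (h : chi ω γ ≠ 0) : γ ∈ LI hI := by
  have hreg : γ ∈ region I α := by
    by_contra hcon
    exact h (chi_of_not_mem ω hcon)
  have hnn : ∀ j, 0 ≤ γ j := by
    intro j
    by_contra hcon
    push Not at hcon
    exact h (chi_of_neg ω hcon)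
  rcases ((mem_region_iff hI).1 hreg).2 with h1 | ⟨j, hj⟩
  · exact h1
  · have := hnn j
    omega

/-- The potential attached to a function on bounded components. -/
noncomputable def PP (ω : BC I α → k) (β : V) : k :=
  if β ∈ LI hI then 0 else chi ω (β + α)

lemma PP_zero (ω : BC I α → k) : PP hI ω 0 = 0 := by
  have hL := stair_LI hI
  unfold PP
  split_ifs with h0
  · rfl
  · by_contra hne
    rw [zero_add] at hne
    have hα := mem_LI_of_chi_ne_zero hI ω hne
    apply h0
    apply hL.mem_of_le' hα (fun i => le_refl _)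
    intro i
    exact hL.nonneg _ hα i

lemma adm_PP (ω : BC I α → k) : Adm (LI hI) α (PP hI ω) := by
  have hL := stair_LI hI
  intro β i hβ hD hQ
  rw [mem_Q1] at hQ
  have e : β + ez i + α = β + α + ez i := add_right_comm _ _ _
  by_cases hbL : β ∈ LI hI
  · have htop : β + α + ez i ∉ LI hI := fun h => hQ ⟨hbL, h⟩
    rw [e] at hD
    rcases hD with h | ⟨j, hj⟩
    · exact absurd h htop
    · unfold PP
      rw [if_pos hbL]
      split_ifs with h1
      · rfl
      · rw [e]
        exact chi_of_neg ω hj
  · have hbL' : β + ez i ∉ LI hI := fun h => hbL (hL.mem_of_add h (hβ i))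
    unfold PP
    rw [if_neg hbL, if_neg hbL', e]
    have hD' : inD (LI hI) (β + α) := by
      apply inD_of_le hL hD
      intro j
      have := ez_nonneg i j
      simp only [Pi.add_apply]
      omega
    apply chi_step ω i
    · rw [mem_region_iff hI, add_sub_cancel_right]
      exact ⟨⟨hβ, hbL⟩, hD'⟩
    · rw [mem_region_iff hI]
      have e' : β + α + ez i - α = β + ez i := by abel
      rw [e', ← e]
      exact ⟨⟨add_nonneg_ez hβ i, hbL'⟩, hD⟩

/-- `Ω` is surjective on cocycles. -/
lemma Om_gradP_PP (ω : BC I α → k) : Om hI (gradP (LI hI) α (PP hI ω)) = ω := by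
  have hL := stair_LI hI
  funext c
  rw [Om_apply]
  have hv := rep_nonneg hI c
  obtain ⟨⟨hv0, hv1⟩, hvD⟩ := (mem_region_iff hI).1 (rep c).2
  rw [F_of_nonneg hI _ hv, cg_gradP hL (adm_PP hI ω) _ hv0 (by rw [sub_add_cancel]; exact hvD),
    PP_zero, sub_zero]
  unfold PP
  rw [if_neg hv1, sub_add_cancel, chi_of_mem ω (rep c).2]
  have : (RG I α).connectedComponentMk ⟨(rep c).1, (rep c).2⟩ = c.1 := rep_spec c
  rw [this]
  exact cval_of_finite I α ω c

/-- **The rank formula for `H¹`.** -/
theorem card_Q1_eq :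
    (Q1 (LI hI) α).card = (C (LI hI) α : Matrix _ _ k).rank + (G (LI hI) α : Matrix _ _ k).rank
      + Nat.card (BC I α) := by
  classical
  have hL := stair_LI hI
  haveI : Finite (BC I α) := finite_BC (by norm_num) hI
  haveI : Fintype (BC I α) := Fintype.ofFinite _
  set K := LinearMap.ker (C (LI hI) α : Matrix _ _ k).mulVecLin with hK
  set Ω' := (Om hI (α := α)).domRestrict K with hΩ'
  -- rank-nullity for `C`
  have h1 := LinearMap.finrank_range_add_finrank_ker (C (LI hI) α : Matrix _ _ k).mulVecLin
  rw [Module.finrank_fintype_fun_eq_card, Fintype.card_coe] at h1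
  -- rank-nullity for `Ω'`
  have h2 := LinearMap.finrank_range_add_finrank_ker Ω'
  have hsurj : LinearMap.range Ω' = ⊤ := by
    rw [LinearMap.range_eq_top]
    intro ω
    refine ⟨⟨gradP (LI hI) α (PP hI ω), ?_⟩, ?_⟩
    · rw [hK, LinearMap.mem_ker, Matrix.mulVecLin_apply]
      exact cocycle_gradP hL (adm_PP hI ω)
    · exact Om_gradP_PP hI ω
  have hker : Submodule.map K.subtype (LinearMap.ker Ω') =
      LinearMap.range (G (LI hI) α : Matrix _ _ k).mulVecLin := by
    ext g
    constructor
    · rintro ⟨x, hx, rfl⟩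
      have hx1 : (C (LI hI) α).mulVec x.1 = 0 := by
        have := LinearMap.mem_ker.1 x.2
        rwa [Matrix.mulVecLin_apply] at this
      have hx2 : Om hI x.1 = 0 := hx
      obtain ⟨f, hf⟩ := exists_of_Om_eq_zero hI x.1 hx1 hx2
      exact ⟨f, hf⟩
    · rintro ⟨f, rfl⟩
      have hmem : (G (LI hI) α).mulVecLin f ∈ K := by
        rw [hK, LinearMap.mem_ker, Matrix.mulVecLin_apply, Matrix.mulVecLin_apply, G_eq_gradP]
        exact cocycle_gradP hL (adm_ext0 hL f)
      refine ⟨⟨_, hmem⟩, ?_, rfl⟩
      show Om hI ((G (LI hI) α).mulVecLin f) = 0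
      rw [Matrix.mulVecLin_apply]
      exact Om_G hI f
  have h3 : Module.finrank k ↥(LinearMap.ker Ω') = (G (LI hI) α : Matrix _ _ k).rank := by
    rw [Matrix.rank, ← hker]
    exact (Submodule.equivMapOfInjective K.subtype K.injective_subtype _).finrank_eq
  rw [hsurj, finrank_top, Module.finrank_fintype_fun_eq_card, h3] at h2
  rw [Nat.card_eq_fintype_card]
  have h4 : Module.finrank k ↥(LinearMap.range (C (LI hI) α : Matrix _ _ k).mulVecLin) =
      (C (LI hI) α : Matrix _ _ k).rank := rfl
  have h5 : Module.finrank k ↥(LinearMap.range (C (LI hI) α : Matrix _ _ k).mulVecLin) +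
      Module.finrank k ↥K = (Q1 (LI hI) α).card := h1
  omega

end Groth.Agent.Lib.Helper92.Kos
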