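import Groth.Agent.Lib.Helper92.KosH

set_option linter.unusedSectionVars false
set_option linter.unusedSimpArgs false
set_option linter.unusedVariables false
set_option linter.style.haveILetI false
set_option linter.unnecessarySimpa false
set_option autoImplicit false

/-!
# The Koszul complex of a staircase, part I: the master duality formula (helper92)
-/

namespace Groth.Agent.Lib.Helper92.Kos

open MvPolynomial W4c1hilbpn Groth.Agent.Lib.Helper92.HilbTgt

universe u

variable {k : Type u} [Field k] {I : Ideal (MvPolynomial (Fin 3) k)}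
variable (hI : IsMonomial I) [Module.Finite k (MvPolynomial (Fin 3) k ⧸ I)]

/-- rank-nullity for `G`. -/
lemma card_Q0_eq (α : V) :
    (Q0 (LI hI) α).card = (G (LI hI) α : Matrix _ _ k).rank + (if α ∈ LI hI then 1 else 0) := by
  have h1 := LinearMap.finrank_range_add_finrank_ker (G (LI hI) α : Matrix _ _ k).mulVecLin
  rw [Module.finrank_fintype_fun_eq_card, Fintype.card_coe, finrank_ker_G (stair_LI hI) α] at h1
  rw [← h1]
  rfl

include hI in
lemma finrank_tPiece_eq (α : V) :
    Module.finrank k ↥(tPiece I α) = Nat.card (BC I α) :=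
  finrank_tPiece (by norm_num) hI α

/-- **Master duality formula.** -/
theorem master (α : V) :
    Module.finrank k ↥(tPiece I α) + (Q2 (LI hI) α).card + (Q0 (LI hI) α).card
        + (if dual α ∈ LI hI then 1 else 0) =
      Module.finrank k ↥(tPiece I (dual α)) + (Q1 (LI hI) α).card + (Q3 (LI hI) α).card
        + (if α ∈ LI hI then 1 else 0) := by
  have a1 := card_Q1_eq (k := k) hI (α := α)
  have a2 := card_Q1_eq (k := k) hI (α := dual α)
  rw [rank_C_dual, card_Q1_dual] at a2
  have b1 := card_Q0_eq (k := k) hI α
  have b2 := card_Q0_eq (k := k) hI (dual α)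
  rw [card_Q0_dual] at b2
  rw [finrank_tPiece_eq hI α, finrank_tPiece_eq hI (dual α)]
  omega

end Groth.Agent.Lib.Helper92.Kos
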