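import Groth.Agent.Lib.Helper92.KosI
import Groth.Agent.Lib.Helper92.HilbTgtPow3

set_option linter.unusedSectionVars false
set_option linter.unusedSimpArgs false
set_option linter.unusedVariables false
set_option linter.style.haveILetI false
set_option linter.unnecessarySimpa false
set_option autoImplicit false

/-!
# The Koszul complex of a staircase, part J: finite support of the grading of `T(I)` (helper92)
-/

namespace Groth.Agent.Lib.Helper92.Kos

open MvPolynomial W4c1hilbpn Groth.Agent.Lib.Helper92.HilbTgt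
  Groth.Agent.Lib.Helper92.HilbTgtDecomp Groth.Agent.Lib.Helper92.HilbTgtPow3

universe u

variable {k : Type u} [Field k] {I : Ideal (MvPolynomial (Fin 3) k)}
variable (hI : IsMonomial I) [Module.Finite k (MvPolynomial (Fin 3) k ⧸ I)]

include hI in
/-- A uniform finite set of multidegrees supporting every element of `T(I)`. -/
lemma exists_finset_decomp :
    ∃ A : Finset V, ∀ φ : Tgt I, φ = ∑ α ∈ A, PhiD hI φ α := by
  classical
  obtain ⟨G, hG1, hG2⟩ := exists_gens hI
  refine ⟨Finset.image₂ dif G (Nfin hI), fun φ => ?_⟩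
  refine tgt_ext_of_le _ _ ((fun β => monomial β (1 : k)) '' (G : Set (Fin 3 →₀ ℕ))) ?_ hG2 ?_
  · rintro _ ⟨β, hβ, rfl⟩; exact hG1 β hβ
  · rintro _ ⟨β, hβ, rfl⟩
    have hβI : β ∈ exps I := hG1 β hβ
    rw [LinearMap.sum_apply]
    rw [Finset.sum_congr rfl fun α _ => PhiD_monomial hI φ α hβI]
    rw [sum_famD hI φ hβI _ fun γ hγ => Finset.mem_image₂_of_mem hβ hγ]
    exact (ev_of_mem φ hβI).symm

include hI in
lemma exists_finset_top : ∃ A : Finset V, (⨆ α ∈ A, tPiece I α) = ⊤ := by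
  obtain ⟨A, hA⟩ := exists_finset_decomp hI
  refine ⟨A, ?_⟩
  rw [eq_top_iff]
  intro φ _
  rw [hA φ]
  exact Submodule.sum_mem _ fun α hα =>
    Submodule.mem_iSup_of_mem α (Submodule.mem_iSup_of_mem hα (PhiD_mem hI φ α))

include hI in
lemma exists_finset_supp : ∃ A : Finset V, ∀ α, tPiece I α ≠ ⊥ → α ∈ A := by
  obtain ⟨A, hA⟩ := exists_finset_top hI
  refine ⟨A, fun α hα => ?_⟩
  by_contra hmem
  apply hα
  have hd := (iSupIndep_tPiece hI).disjoint_biSup (x := α) (y := (A : Set V))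
    (by simpa using hmem)
  have e : (⨆ i ∈ (A : Set V), tPiece I i) = ⊤ := by
    rw [← hA]
    simp only [Finset.mem_coe]
  rw [e] at hd
  exact disjoint_top.1 hd

include hI in
lemma finite_Tgt : Module.Finite k (Tgt I) := by
  obtain ⟨A, hA⟩ := exists_finset_top hI
  have h := (finrank_biSup_of_indep (fun α => tPiece I α) (iSupIndep_tPiece hI)
    (fun α => finite_tPiece (by norm_num) hI α) A).1
  rw [hA] at h
  exact Module.Finite.equiv (Submodule.topEquiv : (⊤ : Submodule k (Tgt I)) ≃ₗ[k] Tgt I)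

include hI in
/-- A common bound for the staircase and the support of the grading. -/
lemma exists_bound : ∃ N : ℕ, (∀ γ ∈ LI hI, ∀ m, γ m < N) ∧
    (∀ α, tPiece I α ≠ ⊥ → ∀ m, -(N : ℤ) ≤ α m ∧ α m < N) := by
  obtain ⟨A, hA⟩ := exists_finset_supp hI
  set w : V → ℕ := fun γ => (γ 0).natAbs + (γ 1).natAbs + (γ 2).natAbs with hw
  have hwm : ∀ (γ : V) (m : Fin 3), (γ m).natAbs ≤ w γ := by
    intro γ m
    have e : ∀ m : Fin 3, m = 0 ∨ m = 1 ∨ m = 2 := by decide
    rcases e m with rfl | rfl | rfl <;> simp only [hw] <;> omega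
  refine ⟨(LI hI ∪ A).sup w + 1, ?_, ?_⟩
  · intro γ hγ m
    have h1 : w γ ≤ (LI hI ∪ A).sup w := Finset.le_sup (Finset.mem_union_left _ hγ)
    have h2 := hwm γ m
    push_cast
    omega
  · intro α hα m
    have h1 : w α ≤ (LI hI ∪ A).sup w := Finset.le_sup (Finset.mem_union_right _ (hA α hα))
    have h2 := hwm α m
    push_cast
    omega

section sums

variable {Y : Type*} (P : V → Prop) (Q : Finset Y) (f : Y → V)

include hI in
lemma iSup_pred_eq (hP : ∀ y ∈ Q, P (f y))
    (hcov : ∀ α, P α → tPiece I α ≠ ⊥ → ∃ y ∈ Q, f y = α) :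
    (⨆ α : {α : V // P α}, tPiece I α.1) = ⨆ y ∈ Q, tPiece I (f y) := by
  apply le_antisymm
  · refine iSup_le fun ⟨α, hα⟩ => ?_
    by_cases hc : tPiece I α = ⊥
    · show tPiece I α ≤ _
      rw [hc]
      exact bot_le
    · obtain ⟨y, hy, rfl⟩ := hcov α hα hc
      exact le_biSup (fun y => tPiece I (f y)) hy
  · refine iSup₂_le fun y hy => ?_
    exact le_iSup (fun α' : {α : V // P α} => tPiece I α'.1) ⟨f y, hP y hy⟩

include hI in
/-- Dimension of the span of the graded pieces with multidegree satisfying `P`. -/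
lemma finrank_iSup_pred (hinj : Set.InjOn f (Q : Set Y)) (hP : ∀ y ∈ Q, P (f y))
    (hcov : ∀ α, P α → tPiece I α ≠ ⊥ → ∃ y ∈ Q, f y = α) :
    Module.finrank k ↥(⨆ α : {α : V // P α}, tPiece I α.1) =
      ∑ y ∈ Q, Module.finrank k ↥(tPiece I (f y)) := by
  rw [iSup_pred_eq hI P Q f hP hcov]
  exact finrank_biSup_comp (fun α => tPiece I α) (iSupIndep_tPiece hI)
    (fun α => finite_tPiece (by norm_num) hI α) f Q hinj

include hI in
/-- Dimension of `T(I)`. -/
lemma finrank_Tgt_eq (hinj : Set.InjOn f (Q : Set Y))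
    (hcov : ∀ α, tPiece I α ≠ ⊥ → ∃ y ∈ Q, f y = α) :
    Module.finrank k (Tgt I) = ∑ y ∈ Q, Module.finrank k ↥(tPiece I (f y)) := by
  have h := finrank_iSup_pred hI (fun _ => True) Q f hinj (fun _ _ => trivial)
    (fun α _ hα => hcov α hα)
  have e : (⨆ α : {α : V // True}, tPiece I α.1) = ⊤ := by
    rw [← iSup_tPiece_eq_top hI]
    apply le_antisymm
    · exact iSup_le fun α => le_iSup (fun α => tPiece I α) α.1
    · exact iSup_le fun α => le_iSup (fun α' : {α : V // True} => tPiece I α'.1) ⟨α, trivial⟩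
  rw [e, finrank_top] at h
  exact h

end sums

end Groth.Agent.Lib.Helper92.Kos
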