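import Groth.Agent.Lib.Helper92.KosJ

set_option linter.unusedSectionVars false
set_option linter.unusedSimpArgs false
set_option linter.unusedVariables false
set_option linter.style.haveILetI false
set_option linter.unnecessarySimpa false
set_option autoImplicit false

/-!
# The Koszul complex of a staircase, part K: Euler characteristic and telescoping (helper92)
-/

namespace Groth.Agent.Lib.Helper92.Kos

open MvPolynomial W4c1hilbpn Groth.Agent.Lib.Helper92.HilbTgt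
  Groth.Agent.Lib.Helper92.HilbTgtDecomp Groth.Agent.Lib.Helper92.HilbTgtPow3

universe u

section comb

variable (L : Finset V)

/-- Number of pairs of staircase points with difference `δ`. -/
def NN (δ : V) : ℤ := ((Q0 L δ).card : ℤ)

/-- The Euler characteristic of the degree-`α` Koszul complex. -/
def chiZ (α : V) : ℤ :=
  ((Q0 L α).card : ℤ) - (Q1 L α).card + (Q2 L α).card - (Q3 L α).card

lemma card_Q1_sum (α : V) : (Q1 L α).card = ∑ l, (Q0 L (α + ez l)).card := by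
  unfold Q1 Q0
  rw [Finset.card_filter, Finset.sum_product]
  refine Finset.sum_congr rfl fun l _ => ?_
  rw [Finset.card_filter]
  refine Finset.sum_congr rfl fun b _ => ?_
  simp only [add_assoc]

lemma card_Q2_sum (α : V) :
    (Q2 L α).card = ∑ l, (Q0 L (α + ez (l + 1) + ez (l + 2))).card := by
  unfold Q2 Q0
  rw [Finset.card_filter, Finset.sum_product]
  refine Finset.sum_congr rfl fun l _ => ?_
  rw [Finset.card_filter]
  refine Finset.sum_congr rfl fun b _ => ?_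
  simp only [add_assoc]

lemma card_Q3_eq (α : V) : (Q3 L α).card = (Q0 L (α + 1)).card := by
  unfold Q3 Q0
  simp only [add_assoc]

lemma sum_cyc {A : Type*} [AddCommMonoid A] (g : Fin 3 → A) (i : Fin 3) :
    ∑ l, g l = g i + g (i + 1) + g (i + 2) := by
  have e : ∀ m : Fin 3, m = 0 ∨ m = 1 ∨ m = 2 := by decide
  rw [Fin.sum_univ_three]
  rcases e i with rfl | rfl | rfl
  · rfl
  · have h1 : (1 : Fin 3) + 1 = 2 := rfl
    have h2 : (1 : Fin 3) + 2 = 0 := rfl
    rw [h1, h2]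
    abel
  · have h1 : (2 : Fin 3) + 1 = 0 := rfl
    have h2 : (2 : Fin 3) + 2 = 1 := rfl
    rw [h1, h2]
    abel

lemma cyc11 (i : Fin 3) : i + 1 + 1 = i + 2 := by
  have e : ∀ m : Fin 3, m + 1 + 1 = m + 2 := by decide
  exact e i
lemma cyc12 (i : Fin 3) : i + 1 + 2 = i := by
  have e : ∀ m : Fin 3, m + 1 + 2 = m := by decide
  exact e i
lemma cyc21 (i : Fin 3) : i + 2 + 1 = i := by
  have e : ∀ m : Fin 3, m + 2 + 1 = m := by decide
  exact e i
lemma cyc22 (i : Fin 3) : i + 2 + 2 = i + 1 := by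
  have e : ∀ m : Fin 3, m + 2 + 2 = m + 1 := by decide
  exact e i

lemma vec_add_ez0 (i : Fin 3) (x y z : ℤ) : vec i x y z + ez i = vec i (x + 1) y z := by
  funext m
  rcases cases3 i m with rfl | rfl | rfl
  · simp only [Pi.add_apply, vec_self, ez_self]
  · simp only [Pi.add_apply, vec_succ, ez_apply, if_neg (succ_ne i), add_zero]
  · simp only [Pi.add_apply, vec_succ2, ez_apply, if_neg (succ2_ne i), add_zero]

lemma vec_add_ez1 (i : Fin 3) (x y z : ℤ) : vec i x y z + ez (i + 1) = vec i x (y + 1) z := by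
  funext m
  rcases cases3 i m with rfl | rfl | rfl
  · simp only [Pi.add_apply, vec_self, ez_apply, if_neg (succ_ne m).symm, add_zero]
  · simp only [Pi.add_apply, vec_succ, ez_self]
  · simp only [Pi.add_apply, vec_succ2, ez_apply, if_neg (succ2_ne_succ i), add_zero]

lemma vec_add_ez2 (i : Fin 3) (x y z : ℤ) : vec i x y z + ez (i + 2) = vec i x y (z + 1) := by
  funext m
  rcases cases3 i m with rfl | rfl | rfl
  · simp only [Pi.add_apply, vec_self, ez_apply, if_neg (succ2_ne m).symm, add_zero]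
  · simp only [Pi.add_apply, vec_succ, ez_apply, if_neg (succ2_ne_succ i).symm, add_zero]
  · simp only [Pi.add_apply, vec_succ2, ez_self]

lemma vec_add_one (i : Fin 3) (x y z : ℤ) : vec i x y z + 1 = vec i (x + 1) (y + 1) (z + 1) := by
  funext m
  rcases cases3 i m with rfl | rfl | rfl
  · simp only [Pi.add_apply, vec_self, Pi.one_apply]
  · simp only [Pi.add_apply, vec_succ, Pi.one_apply]
  · simp only [Pi.add_apply, vec_succ2, Pi.one_apply]

lemma dual_vec (i : Fin 3) (x y z : ℤ) :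
    dual (vec i x y z) = vec i (-x - 1) (-y - 1) (-z - 1) := by
  funext m
  rcases cases3 i m with rfl | rfl | rfl
  · simp only [dual_apply, vec_self]
  · simp only [dual_apply, vec_succ]
  · simp only [dual_apply, vec_succ2]

/-- `N(vec i x y z)`. -/
def phi (i : Fin 3) (x y z : ℤ) : ℤ := NN L (vec i x y z)

/-- First difference. -/
def EE (i : Fin 3) (x y z : ℤ) : ℤ := phi L i x y z - phi L i (x + 1) y z

/-- Second difference. -/
def DD (i : Fin 3) (x y z : ℤ) : ℤ := EE L i x y z - EE L i x (y + 1) z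

lemma chiZ_vec (i : Fin 3) (x y z : ℤ) :
    chiZ L (vec i x y z) = DD L i x y z - DD L i x y (z + 1) := by
  unfold chiZ
  rw [card_Q1_sum, card_Q2_sum, card_Q3_eq, sum_cyc _ i, sum_cyc _ i]
  simp only [cyc11, cyc12, cyc21, cyc22]
  simp only [vec_add_ez0, vec_add_ez1, vec_add_ez2, vec_add_one]
  unfold DD EE phi NN
  push_cast
  ring

variable {L}

lemma NN_eq_zero (hL : Stair L) {N : ℕ} (hN : ∀ γ ∈ L, ∀ m, γ m < N) {δ : V} (m : Fin 3)
    (h : (N : ℤ) ≤ δ m ∨ δ m ≤ -(N : ℤ)) : NN L δ = 0 := by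
  unfold NN
  rw [Nat.cast_eq_zero, Finset.card_eq_zero]
  unfold Q0
  rw [Finset.filter_eq_empty_iff]
  intro b hb hbd
  have h1 := hL.nonneg b hb m
  have h2 := hN b hb m
  have h3 := hL.nonneg _ hbd m
  have h4 := hN _ hbd m
  simp only [Pi.add_apply] at h3 h4
  omega

lemma NN_zero : NN L 0 = L.card := by
  unfold NN Q0
  rw [Finset.filter_true_of_mem]
  intro b hb
  rwa [add_zero]

lemma phi_zero_first (hL : Stair L) {N : ℕ} (hN : ∀ γ ∈ L, ∀ m, γ m < N) (i : Fin 3)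
    {x : ℤ} (y z : ℤ) (h : (N : ℤ) ≤ x ∨ x ≤ -(N : ℤ)) : phi L i x y z = 0 := by
  apply NN_eq_zero hL hN i
  rwa [vec_self]

lemma phi_zero_second (hL : Stair L) {N : ℕ} (hN : ∀ γ ∈ L, ∀ m, γ m < N) (i : Fin 3)
    (x : ℤ) {y : ℤ} (z : ℤ) (h : (N : ℤ) ≤ y ∨ y ≤ -(N : ℤ)) : phi L i x y z = 0 := by
  apply NN_eq_zero hL hN (i + 1)
  rwa [vec_succ]

lemma phi_zero_third (hL : Stair L) {N : ℕ} (hN : ∀ γ ∈ L, ∀ m, γ m < N) (i : Fin 3)
    (x y : ℤ) {z : ℤ} (h : (N : ℤ) ≤ z ∨ z ≤ -(N : ℤ)) : phi L i x y z = 0 := by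
  apply NN_eq_zero hL hN (i + 2)
  rwa [vec_succ2]

lemma DD_zero_third (hL : Stair L) {N : ℕ} (hN : ∀ γ ∈ L, ∀ m, γ m < N) (i : Fin 3)
    (x y : ℤ) {z : ℤ} (h : (N : ℤ) ≤ z ∨ z ≤ -(N : ℤ)) : DD L i x y z = 0 := by
  unfold DD EE
  rw [phi_zero_third hL hN i _ _ h, phi_zero_third hL hN i _ _ h, phi_zero_third hL hN i _ _ h,
    phi_zero_third hL hN i _ _ h]
  ring

lemma EE_zero_second (hL : Stair L) {N : ℕ} (hN : ∀ γ ∈ L, ∀ m, γ m < N) (i : Fin 3)
    (x : ℤ) {y : ℤ} (z : ℤ) (h : (N : ℤ) ≤ y ∨ y ≤ -(N : ℤ)) : EE L i x y z = 0 := by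
  unfold EE
  rw [phi_zero_second hL hN i _ _ h, phi_zero_second hL hN i _ _ h]
  ring

/-- Sums of the Euler characteristic over a full line vanish. -/
lemma sum_chiZ_line (hL : Stair L) {N : ℕ} (hN : ∀ γ ∈ L, ∀ m, γ m < N) (i : Fin 3) (x y : ℤ) :
    ∑ t ∈ Finset.range (2 * N), chiZ L (vec i x y (-(N : ℤ) + (t : ℤ))) = 0 := by
  have e : ∀ t : ℕ, chiZ L (vec i x y (-(N : ℤ) + (t : ℤ))) =
      DD L i x y (-(N : ℤ) + (t : ℤ)) - DD L i x y (-(N : ℤ) + ((t + 1 : ℕ) : ℤ)) := by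
    intro t
    rw [chiZ_vec]
    congr 2
    push_cast
    ring
  rw [Finset.sum_congr rfl fun t _ => e t]
  rw [Finset.sum_range_sub' (fun t : ℕ => DD L i x y (-(N : ℤ) + (t : ℤ)))]
  rw [DD_zero_third hL hN i x y (Or.inr (by push_cast; omega)),
    DD_zero_third hL hN i x y (Or.inl (by push_cast; omega))]
  ring

/-- Sum over a half line starting at `0` (third slot). -/
lemma sum_chiZ_half (hL : Stair L) {N : ℕ} (hN : ∀ γ ∈ L, ∀ m, γ m < N) (i : Fin 3) (x y : ℤ) :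
    ∑ t ∈ Finset.range N, chiZ L (vec i x y (t : ℤ)) = DD L i x y 0 := by
  have e : ∀ t : ℕ, chiZ L (vec i x y (t : ℤ)) =
      DD L i x y (t : ℤ) - DD L i x y ((t + 1 : ℕ) : ℤ) := by
    intro t
    rw [chiZ_vec]
    congr 2
  rw [Finset.sum_congr rfl fun t _ => e t]
  rw [Finset.sum_range_sub' (fun t : ℕ => DD L i x y (t : ℤ))]
  rw [DD_zero_third hL hN i x y (Or.inl (le_refl _))]
  simp

lemma sum_DD_half (hL : Stair L) {N : ℕ} (hN : ∀ γ ∈ L, ∀ m, γ m < N) (i : Fin 3) (x z : ℤ) :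
    ∑ t ∈ Finset.range N, DD L i x (t : ℤ) z = EE L i x 0 z := by
  have e : ∀ t : ℕ, DD L i x (t : ℤ) z =
      EE L i x (t : ℤ) z - EE L i x ((t + 1 : ℕ) : ℤ) z := by
    intro t
    unfold DD
    congr 2
  rw [Finset.sum_congr rfl fun t _ => e t]
  rw [Finset.sum_range_sub' (fun t : ℕ => EE L i x (t : ℤ) z)]
  rw [EE_zero_second hL hN i x z (Or.inl (le_refl _))]
  simp

lemma sum_EE_neg (hL : Stair L) {N : ℕ} (hN : ∀ γ ∈ L, ∀ m, γ m < N) (i : Fin 3) (y z : ℤ) :
    ∑ t ∈ Finset.range N, EE L i (-1 - (t : ℤ)) y z = - phi L i 0 y z := by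
  have e : ∀ t : ℕ, EE L i (-1 - (t : ℤ)) y z =
      phi L i (-((t + 1 : ℕ) : ℤ)) y z - phi L i (-(t : ℤ)) y z := by
    intro t
    unfold EE
    have h1 : -1 - (t : ℤ) = -((t + 1 : ℕ) : ℤ) := by push_cast; ring
    have h2 : -1 - (t : ℤ) + 1 = -(t : ℤ) := by ring
    rw [h2, h1]
  rw [Finset.sum_congr rfl fun t _ => e t]
  rw [Finset.sum_range_sub (fun t : ℕ => phi L i (-(t : ℤ)) y z)]
  rw [phi_zero_first hL hN i y z (Or.inr (le_refl _))]
  simp

/-- The box sum over the sign pattern `{i}`. -/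
lemma sum_chiZ_box (hL : Stair L) {N : ℕ} (hN : ∀ γ ∈ L, ∀ m, γ m < N) (i : Fin 3) :
    ∑ a ∈ Finset.range N, ∑ b ∈ Finset.range N, ∑ c ∈ Finset.range N,
      chiZ L (vec i (-1 - (a : ℤ)) (b : ℤ) (c : ℤ)) = -(L.card : ℤ) := by
  simp only [sum_chiZ_half hL hN, sum_DD_half hL hN, sum_EE_neg hL hN]
  unfold phi
  have : vec i 0 0 0 = 0 := by
    funext m
    rcases cases3 i m with rfl | rfl | rfl
    · rw [vec_self]; rfl
    · rw [vec_succ]; rfl
    · rw [vec_succ2]; rfl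
  rw [this, NN_zero]

end comb

section master

variable {k : Type u} [Field k] {I : Ideal (MvPolynomial (Fin 3) k)}
variable (hI : IsMonomial I) [Module.Finite k (MvPolynomial (Fin 3) k ⧸ I)]

/-- The master formula over `ℤ`. -/
theorem masterZ (α : V) :
    (Module.finrank k ↥(tPiece I α) : ℤ) - Module.finrank k ↥(tPiece I (dual α)) =
      - chiZ (LI hI) α + (if α ∈ LI hI then 1 else 0) - (if dual α ∈ LI hI then 1 else 0) := by
  have h := master hI α
  unfold chiZ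
  split_ifs at h ⊢ <;> omega

end master

end Groth.Agent.Lib.Helper92.Kos
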