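import Groth.Agent.Lib.Helper92.KosK

set_option linter.unusedSectionVars false
set_option linter.unusedSimpArgs false
set_option linter.unusedVariables false
set_option linter.style.haveILetI false
set_option linter.unnecessarySimpa false
set_option autoImplicit false

/-!
# Sign-pattern duality for `T(I)` in three variables (helper92)

`dim T(I)_{i} = dim T(I)_{{i}ᶜ} + colength`.
-/

namespace Groth.Agent.Lib.Helper92.Kos

open MvPolynomial W4c1hilbpn Groth.Agent.Lib.Helper92.HilbTgt
  Groth.Agent.Lib.Helper92.HilbTgtDecomp Groth.Agent.Lib.Helper92.HilbTgtPow3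

universe u

lemma dual_injective : Function.Injective dual := by
  intro a b h
  rw [← dual_dual a, h, dual_dual]

/-- Parametrisation of the box of sign pattern `{i}`. -/
def fbox (i : Fin 3) (y : ℕ × ℕ × ℕ) : V := vec i (-1 - (y.1 : ℤ)) (y.2.1 : ℤ) (y.2.2 : ℤ)

lemma fbox_injective (i : Fin 3) : Function.Injective (fbox i) := by
  rintro ⟨a, b, c⟩ ⟨a', b', c'⟩ h
  have h0 := congrFun h i
  have h1 := congrFun h (i + 1)
  have h2 := congrFun h (i + 2)
  simp only [fbox, vec_self, vec_succ, vec_succ2] at h0 h1 h2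
  have : a = a' := by omega
  have : b = b' := by omega
  have : c = c' := by omega
  subst_vars
  rfl

lemma fbox_sign (i : Fin 3) (y : ℕ × ℕ × ℕ) (m : Fin 3) :
    fbox i y m < 0 ↔ m ∈ ({i} : Set (Fin 3)) := by
  rw [Set.mem_singleton_iff]
  rcases cases3 i m with rfl | rfl | rfl
  · simp only [fbox, vec_self]
    constructor
    · intro _; trivial
    · intro _; omega
  · simp only [fbox, vec_succ]
    constructor
    · intro h; omega
    · intro h; exact absurd h (succ_ne i)
  · simp only [fbox, vec_succ2]
    constructor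
    · intro h; omega
    · intro h; exact absurd h (succ2_ne i)

lemma fbox_cover (i : Fin 3) {N : ℕ} {α : V} (hb : ∀ m, -(N : ℤ) ≤ α m ∧ α m < N)
    (h0 : α i < 0) (h1 : 0 ≤ α (i + 1)) (h2 : 0 ≤ α (i + 2)) :
    ∃ y ∈ Finset.range N ×ˢ Finset.range N ×ˢ Finset.range N, fbox i y = α := by
  refine ⟨((-1 - α i).toNat, (α (i + 1)).toNat, (α (i + 2)).toNat), ?_, ?_⟩
  · have b0 := hb i
    have b1 := hb (i + 1)
    have b2 := hb (i + 2)
    simp only [Finset.mem_product, Finset.mem_range]
    refine ⟨?_, ?_, ?_⟩ <;> omega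
  · conv_rhs => rw [eq_vec i α]
    simp only [fbox]
    congr 1 <;> omega

lemma dual_sign_compl (i : Fin 3) {α : V} (h : ∀ m, α m < 0 ↔ m ∈ ({i}ᶜ : Set (Fin 3))) :
    ∀ m, dual α m < 0 ↔ m ∈ ({i} : Set (Fin 3)) := by
  intro m
  have := h m
  rw [Set.mem_compl_iff] at this
  rw [dual_apply]
  constructor
  · intro h1
    by_contra hcon
    have := this.2 hcon
    omega
  · intro h1
    have h2 : ¬ α m < 0 := fun h3 => (this.1 h3) h1
    omega

section main

variable {k : Type u} [Field k] {I : Ideal (MvPolynomial (Fin 3) k)}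
variable (hI : IsMonomial I) [Module.Finite k (MvPolynomial (Fin 3) k ⧸ I)]

include hI in
lemma not_mem_LI_of_neg {γ : V} {m : Fin 3} (h : γ m < 0) : γ ∉ LI hI := by
  intro hγ
  have := (stair_LI hI).nonneg γ hγ m
  omega

include hI in
theorem finrank_sigPiece_singleton (i : Fin 3) :
    Module.finrank k ↥(sigPiece I {i}) =
      Module.finrank k ↥(sigPiece I ({i}ᶜ : Set (Fin 3))) +
        Module.finrank k (MvPolynomial (Fin 3) k ⧸ I) := by
  obtain ⟨N, hN1, hN2⟩ := exists_bound hI
  have hL := stair_LI hI
  set Q := Finset.range N ×ˢ Finset.range N ×ˢ Finset.range N with hQ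
  -- the piece `{i}`
  have h1 : Module.finrank k ↥(sigPiece I {i}) =
      ∑ y ∈ Q, Module.finrank k ↥(tPiece I (fbox i y)) := by
    apply finrank_iSup_pred hI (fun α => ∀ m, α m < 0 ↔ m ∈ ({i} : Set (Fin 3))) Q (fbox i)
    · exact (fbox_injective i).injOn
    · exact fun y _ => fbox_sign i y
    · intro α hα hne
      have hb := hN2 α hne
      refine fbox_cover i hb ((hα i).2 rfl) ?_ ?_
      · by_contra hcon
        push Not at hcon
        exact succ_ne i ((hα (i + 1)).1 hcon)
      · by_contra hcon
        push Not at hcon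
        exact succ2_ne i ((hα (i + 2)).1 hcon)
  -- the piece `{i}ᶜ`
  have h2 : Module.finrank k ↥(sigPiece I ({i}ᶜ : Set (Fin 3))) =
      ∑ y ∈ Q, Module.finrank k ↥(tPiece I (dual (fbox i y))) := by
    apply finrank_iSup_pred hI (fun α => ∀ m, α m < 0 ↔ m ∈ ({i}ᶜ : Set (Fin 3))) Q
      (fun y => dual (fbox i y))
    · exact (dual_injective.comp (fbox_injective i)).injOn
    · intro y _ m
      have := fbox_sign i y m
      rw [Set.mem_compl_iff, dual_apply]
      constructor
      · intro h3 h4
        have := this.2 h4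
        omega
      · intro h3
        have h4 : ¬ fbox i y m < 0 := fun h5 => h3 (this.1 h5)
        omega
    · intro α hα hne
      have hb := hN2 α hne
      have hα' := dual_sign_compl i hα
      have hb' : ∀ m, -(N : ℤ) ≤ dual α m ∧ dual α m < N := by
        intro m
        have := hb m
        rw [dual_apply]
        omega
      obtain ⟨y, hy, hy'⟩ := fbox_cover i hb' ((hα' i).2 rfl)
        (by
          by_contra hcon
          push Not at hcon
          exact succ_ne i ((hα' (i + 1)).1 hcon))
        (by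
          by_contra hcon
          push Not at hcon
          exact succ2_ne i ((hα' (i + 2)).1 hcon))
      refine ⟨y, hy, ?_⟩
      show dual (fbox i y) = α
      rw [hy', dual_dual]
  -- the master formula summed over the box
  have key : ∀ y ∈ Q, (Module.finrank k ↥(tPiece I (fbox i y)) : ℤ) =
      Module.finrank k ↥(tPiece I (dual (fbox i y))) - chiZ (LI hI) (fbox i y) := by
    intro y _
    have h := masterZ hI (fbox i y)
    have e1 : fbox i y ∉ LI hI := not_mem_LI_of_neg hI ((fbox_sign i y i).2 rfl)
    have e2 : dual (fbox i y) ∉ LI hI := by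
      apply not_mem_LI_of_neg hI (m := i + 1)
      rw [dual_apply]
      simp only [fbox, vec_succ]
      omega
    rw [if_neg e1, if_neg e2] at h
    linarith
  have hsum : ∑ y ∈ Q, chiZ (LI hI) (fbox i y) = -((LI hI).card : ℤ) := by
    rw [hQ, Finset.sum_product]
    simp only [Finset.sum_product]
    exact sum_chiZ_box hL hN1 i
  have h3 : ((∑ y ∈ Q, Module.finrank k ↥(tPiece I (fbox i y)) : ℕ) : ℤ) =
      ((∑ y ∈ Q, Module.finrank k ↥(tPiece I (dual (fbox i y))) : ℕ) : ℤ) + (LI hI).card := by
    rw [Nat.cast_sum, Nat.cast_sum, Finset.sum_congr rfl key, Finset.sum_sub_distrib, hsum]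
    ring
  rw [h1, h2, ← card_LI hI]
  exact_mod_cast h3

end main

end Groth.Agent.Lib.Helper92.Kos
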