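import Groth.Agent.Lib.Helper92.KosL

set_option linter.unusedSectionVars false
set_option linter.unusedSimpArgs false
set_option linter.unusedVariables false
set_option linter.style.haveILetI false
set_option linter.unnecessarySimpa false
set_option autoImplicit false

/-!
# Line duality and parity for `T(I)` in three variables (helper92)
-/

namespace Groth.Agent.Lib.Helper92.Kos

open MvPolynomial W4c1hilbpn Groth.Agent.Lib.Helper92.HilbTgt
  Groth.Agent.Lib.Helper92.HilbTgtDecomp Groth.Agent.Lib.Helper92.HilbTgtPow3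

universe u

lemma vec0_zero (x y z : ℤ) : vec 0 x y z 0 = x := vec_self 0 x y z
lemma vec0_one (x y z : ℤ) : vec 0 x y z 1 = y := vec_succ 0 x y z
lemma vec0_two (x y z : ℤ) : vec 0 x y z 2 = z := vec_succ2 0 x y z

lemma eq_vec0 (α : V) : α = vec 0 (α 0) (α 1) (α 2) := eq_vec 0 α

lemma vec0_injective {x y z x' y' z' : ℤ} (h : vec 0 x y z = vec 0 x' y' z') :
    x = x' ∧ y = y' ∧ z = z' := by
  have h0 := congrFun h 0
  have h1 := congrFun h 1
  have h2 := congrFun h 2
  rw [vec0_zero, vec0_zero] at h0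
  rw [vec0_one, vec0_one] at h1
  rw [vec0_two, vec0_two] at h2
  exact ⟨h0, h1, h2⟩

/-- Parametrisation of a line in the third direction. -/
def fline (N : ℕ) (x y : ℤ) (t : ℕ) : V := vec 0 x y (-(N : ℤ) + (t : ℤ))

lemma fline_injective (N : ℕ) (x y : ℤ) : Function.Injective (fline N x y) := by
  intro t t' h
  have := (vec0_injective h).2.2
  omega

lemma fline_cover {N : ℕ} {x y : ℤ} {α : V} (hb : ∀ m, -(N : ℤ) ≤ α m ∧ α m < N)
    (h0 : α 0 = x) (h1 : α 1 = y) : ∃ t ∈ Finset.range (2 * N), fline N x y t = α := by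
  refine ⟨(α 2 + N).toNat, ?_, ?_⟩
  · have := hb 2
    rw [Finset.mem_range]
    omega
  · conv_rhs => rw [eq_vec0 α]
    have := hb 2
    simp only [fline]
    rw [h0, h1]
    congr 1
    omega

lemma natPart_vec0 (a b : ℕ) (z : ℤ) : natPart (vec 0 (a : ℤ) (b : ℤ) z) = e3 a b z.toNat := by
  ext m
  have e : ∀ m : Fin 3, m = 0 ∨ m = 1 ∨ m = 2 := by decide
  rcases e m with rfl | rfl | rfl
  · rw [natPart_apply, vec0_zero]
    simp [e3]
  · rw [natPart_apply, vec0_one]
    simp [e3]
  · rw [natPart_apply, vec0_two]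
    simp [e3]

section main

variable {k : Type u} [Field k] {I : Ideal (MvPolynomial (Fin 3) k)}
variable (hI : IsMonomial I) [Module.Finite k (MvPolynomial (Fin 3) k ⧸ I)]

lemma vec0_mem_LI (a b : ℕ) (z : ℤ) :
    vec 0 (a : ℤ) (b : ℤ) z ∈ LI hI ↔ 0 ≤ z ∧ e3 a b z.toNat ∉ exps I := by
  rw [mem_LI, natPart_vec0]
  constructor
  · rintro ⟨h1, h2⟩
    have := h1 2
    rw [vec0_two] at this
    exact ⟨this, h2⟩
  · rintro ⟨h1, h2⟩
    refine ⟨?_, h2⟩
    intro m
    have e : ∀ m : Fin 3, m = 0 ∨ m = 1 ∨ m = 2 := by decide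
    rcases e m with rfl | rfl | rfl
    · rw [vec0_zero]; exact Int.natCast_nonneg a
    · rw [vec0_one]; exact Int.natCast_nonneg b
    · rw [vec0_two]; exact h1

include hI in
/-- The staircase number as a finite sum of indicators. -/
lemma stairZ_eq_sum {N : ℕ} (hN : ∀ γ ∈ LI hI, ∀ m, γ m < N) (a b : ℕ) :
    (stairZ I a b : ℤ) =
      ∑ t ∈ Finset.range (2 * N), (if fline N a b t ∈ LI hI then (1 : ℤ) else 0) := by
  classical
  set s := (Finset.range N).filter (fun c => e3 a b c ∉ exps I) with hs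
  have hmem : ∀ c : ℕ, c ∈ s ↔ e3 a b c ∉ exps I := by
    intro c
    rw [hs, Finset.mem_filter, Finset.mem_range]
    constructor
    · exact fun h => h.2
    · intro h
      refine ⟨?_, h⟩
      have h1 : vec 0 (a : ℤ) (b : ℤ) (c : ℤ) ∈ LI hI := by
        rw [vec0_mem_LI]
        exact ⟨Int.natCast_nonneg c, by simpa using h⟩
      have := hN _ h1 2
      rw [vec0_two] at this
      exact_mod_cast this
  have h1 : stairZ I a b = s.card := by
    unfold stairZ
    rw [Nat.card_congr (Equiv.subtypeEquivRight (fun c => (hmem c).symm)),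
      Nat.card_eq_fintype_card, Fintype.card_coe]
  rw [h1, two_mul, Finset.sum_range_add]
  have z1 : ∑ t ∈ Finset.range N, (if fline N a b t ∈ LI hI then (1 : ℤ) else 0) = 0 := by
    apply Finset.sum_eq_zero
    intro t ht
    rw [Finset.mem_range] at ht
    rw [if_neg]
    simp only [fline]
    rw [vec0_mem_LI]
    intro h
    omega
  rw [z1, zero_add, hs, Finset.card_filter]
  push_cast
  refine Finset.sum_congr rfl fun c _ => ?_
  have e : fline N a b (N + c) = vec 0 (a : ℤ) (b : ℤ) (c : ℤ) := by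
    simp only [fline]
    congr 1
    push_cast
    ring
  rw [e]
  by_cases h : e3 a b c ∉ exps I
  · rw [if_pos h, if_pos]
    rw [vec0_mem_LI]
    exact ⟨Int.natCast_nonneg c, by simpa using h⟩
  · rw [if_neg h, if_neg]
    rw [vec0_mem_LI]
    rintro ⟨-, h2⟩
    apply h
    simpa using h2

include hI in
theorem finrank_line (i j : ℕ) :
    Module.finrank k ↥(⨆ α : {α : Fin 3 → ℤ // α 0 = (i : ℤ) ∧ α 1 = (j : ℤ)}, tPiece I α.1) =
      stairZ I i j +
        Module.finrank k ↥(⨆ α : {α : Fin 3 → ℤ // α 0 = -(i : ℤ) - 1 ∧ α 1 = -(j : ℤ) - 1},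
          tPiece I α.1) := by
  obtain ⟨N, hN1, hN2⟩ := exists_bound hI
  have hL := stair_LI hI
  set Q := Finset.range (2 * N) with hQ
  have h1 : Module.finrank k
      ↥(⨆ α : {α : Fin 3 → ℤ // α 0 = (i : ℤ) ∧ α 1 = (j : ℤ)}, tPiece I α.1) =
      ∑ t ∈ Q, Module.finrank k ↥(tPiece I (fline N i j t)) := by
    apply finrank_iSup_pred hI (fun α => α 0 = (i : ℤ) ∧ α 1 = (j : ℤ)) Q (fline N i j)
    · exact (fline_injective N i j).injOn
    · intro t _
      exact ⟨vec0_zero _ _ _, vec0_one _ _ _⟩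
    · intro α hα hne
      exact fline_cover (hN2 α hne) hα.1 hα.2
  have h2 : Module.finrank k
      ↥(⨆ α : {α : Fin 3 → ℤ // α 0 = -(i : ℤ) - 1 ∧ α 1 = -(j : ℤ) - 1}, tPiece I α.1) =
      ∑ t ∈ Q, Module.finrank k ↥(tPiece I (dual (fline N i j t))) := by
    apply finrank_iSup_pred hI (fun α => α 0 = -(i : ℤ) - 1 ∧ α 1 = -(j : ℤ) - 1) Q
      (fun t => dual (fline N i j t))
    · exact (dual_injective.comp (fline_injective N i j)).injOn
    · intro t _
      constructor
      · rw [dual_apply]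
        simp only [fline, vec0_zero]
      · rw [dual_apply]
        simp only [fline, vec0_one]
    · intro α hα hne
      have hb := hN2 α hne
      have hb' : ∀ m, -(N : ℤ) ≤ dual α m ∧ dual α m < N := by
        intro m
        have := hb m
        rw [dual_apply]
        omega
      obtain ⟨t, ht, ht'⟩ := fline_cover (x := i) (y := j) hb'
        (by rw [dual_apply, hα.1]; ring) (by rw [dual_apply, hα.2]; ring)
      refine ⟨t, ht, ?_⟩
      show dual (fline N i j t) = α
      rw [ht', dual_dual]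
  have key : ∀ t ∈ Q, (Module.finrank k ↥(tPiece I (fline N i j t)) : ℤ) =
      Module.finrank k ↥(tPiece I (dual (fline N i j t))) - chiZ (LI hI) (fline N i j t)
        + (if fline N i j t ∈ LI hI then (1 : ℤ) else 0) := by
    intro t _
    have h := masterZ hI (fline N i j t)
    have e2 : dual (fline N i j t) ∉ LI hI := by
      apply not_mem_LI_of_neg hI (m := 0)
      rw [dual_apply]
      simp only [fline, vec0_zero]
      omega
    rw [if_neg e2] at h
    linarith
  have hsum : ∑ t ∈ Q, chiZ (LI hI) (fline N i j t) = 0 := sum_chiZ_line hL hN1 0 i j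
  have h3 : ((∑ t ∈ Q, Module.finrank k ↥(tPiece I (fline N i j t)) : ℕ) : ℤ) =
      (stairZ I i j : ℤ) +
        ((∑ t ∈ Q, Module.finrank k ↥(tPiece I (dual (fline N i j t))) : ℕ) : ℤ) := by
    rw [Nat.cast_sum, Nat.cast_sum, Finset.sum_congr rfl key, Finset.sum_add_distrib,
      Finset.sum_sub_distrib, hsum, stairZ_eq_sum hI hN1 i j]
    ring
  rw [h1, h2]
  exact_mod_cast h3

end main

end Groth.Agent.Lib.Helper92.Kos
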