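import Groth.Agent.Lib.Helper92.KosM

set_option linter.unusedSectionVars false
set_option linter.unusedSimpArgs false
set_option linter.unusedVariables false
set_option linter.style.haveILetI false
set_option linter.unnecessarySimpa false
set_option autoImplicit false

/-!
# Parity of `dim T(I)` in three variables (helper92)
-/

namespace Groth.Agent.Lib.Helper92.Kos

open MvPolynomial W4c1hilbpn Groth.Agent.Lib.Helper92.HilbTgt
  Groth.Agent.Lib.Helper92.HilbTgtDecomp Groth.Agent.Lib.Helper92.HilbTgtPow3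

universe u

/-- Parametrisation of the half box `α 0 ≥ 0`. -/
def fhalf (N : ℕ) (y : ℕ × ℕ × ℕ) : V :=
  vec 0 (y.1 : ℤ) (-(N : ℤ) + (y.2.1 : ℤ)) (-(N : ℤ) + (y.2.2 : ℤ))

lemma fhalf_injective (N : ℕ) : Function.Injective (fhalf N) := by
  rintro ⟨a, b, c⟩ ⟨a', b', c'⟩ h
  obtain ⟨h0, h1, h2⟩ := vec0_injective h
  simp only at h0 h1 h2
  have : a = a' := by omega
  have : b = b' := by omega
  have : c = c' := by omega
  subst_vars
  rfl

lemma fhalf_cover {N : ℕ} {α : V} (hb : ∀ m, -(N : ℤ) ≤ α m ∧ α m < N) (h0 : 0 ≤ α 0) :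
    ∃ y ∈ Finset.range N ×ˢ Finset.range (2 * N) ×ˢ Finset.range (2 * N), fhalf N y = α := by
  refine ⟨((α 0).toNat, (α 1 + N).toNat, (α 2 + N).toNat), ?_, ?_⟩
  · have b0 := hb 0
    have b1 := hb 1
    have b2 := hb 2
    simp only [Finset.mem_product, Finset.mem_range]
    refine ⟨?_, ?_, ?_⟩ <;> omega
  · conv_rhs => rw [eq_vec0 α]
    have b1 := hb 1
    have b2 := hb 2
    simp only [fhalf]
    congr 1 <;> omega

section main

variable {k : Type u} [Field k] {I : Ideal (MvPolynomial (Fin 3) k)}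
variable (hI : IsMonomial I) [Module.Finite k (MvPolynomial (Fin 3) k ⧸ I)]

include hI in
theorem finrank_Tgt_mod_two :
    Module.finrank k (Tgt I) % 2 = Module.finrank k (MvPolynomial (Fin 3) k ⧸ I) % 2 := by
  classical
  obtain ⟨N, hN1, hN2⟩ := exists_bound hI
  have hL := stair_LI hI
  set Q := Finset.range N ×ˢ Finset.range (2 * N) ×ˢ Finset.range (2 * N) with hQ
  have hdual_b : ∀ α : V, (∀ m, -(N : ℤ) ≤ α m ∧ α m < N) →
      ∀ m, -(N : ℤ) ≤ dual α m ∧ dual α m < N := by
    intro α hb m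
    have := hb m
    rw [dual_apply]
    omega
  have h1 : Module.finrank k (Tgt I) =
      ∑ x ∈ Q.disjSum Q, Module.finrank k
        ↥(tPiece I (Sum.elim (fhalf N) (fun y => dual (fhalf N y)) x)) := by
    apply finrank_Tgt_eq hI (Q.disjSum Q) (Sum.elim (fhalf N) (fun y => dual (fhalf N y)))
    · rintro (y | y) _ (y' | y') _ h
      · exact congrArg Sum.inl (fhalf_injective N h)
      · exfalso
        have h0 := congrFun h 0
        simp only [Sum.elim_inl, Sum.elim_inr, dual_apply, fhalf, vec0_zero] at h0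
        omega
      · exfalso
        have h0 := congrFun h 0
        simp only [Sum.elim_inl, Sum.elim_inr, dual_apply, fhalf, vec0_zero] at h0
        omega
      · exact congrArg Sum.inr (fhalf_injective N (dual_injective h))
    · intro α hne
      have hb := hN2 α hne
      by_cases h0 : 0 ≤ α 0
      · obtain ⟨y, hy, e⟩ := fhalf_cover hb h0
        exact ⟨Sum.inl y, Finset.inl_mem_disjSum.2 hy, e⟩
      · have h0' : 0 ≤ dual α 0 := by
          rw [dual_apply]
          omega
        obtain ⟨y, hy, e⟩ := fhalf_cover (hdual_b α hb) h0'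
        refine ⟨Sum.inr y, Finset.inr_mem_disjSum.2 hy, ?_⟩
        show dual (fhalf N y) = α
        rw [e, dual_dual]
  rw [Finset.sum_disjSum] at h1
  simp only [Sum.elim_inl, Sum.elim_inr] at h1
  have key : ∀ y ∈ Q, (Module.finrank k ↥(tPiece I (fhalf N y)) : ℤ) =
      Module.finrank k ↥(tPiece I (dual (fhalf N y))) - chiZ (LI hI) (fhalf N y)
        + (if fhalf N y ∈ LI hI then (1 : ℤ) else 0) := by
    intro y _
    have h := masterZ hI (fhalf N y)
    have e2 : dual (fhalf N y) ∉ LI hI := by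
      apply not_mem_LI_of_neg hI (m := 0)
      rw [dual_apply]
      simp only [fhalf, vec0_zero]
      omega
    rw [if_neg e2] at h
    linarith
  have hsum : ∑ y ∈ Q, chiZ (LI hI) (fhalf N y) = 0 := by
    rw [hQ, Finset.sum_product]
    simp only [Finset.sum_product]
    apply Finset.sum_eq_zero
    intro a _
    apply Finset.sum_eq_zero
    intro b _
    exact sum_chiZ_line hL hN1 0 a (-(N : ℤ) + (b : ℤ))
  have hind : ∑ y ∈ Q, (if fhalf N y ∈ LI hI then (1 : ℤ) else 0) = ((LI hI).card : ℤ) := by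
    rw [Finset.sum_boole]
    congr 1
    apply Finset.card_bij (fun y _ => fhalf N y)
    · intro y hy
      exact (Finset.mem_filter.1 hy).2
    · intro y _ y' _ h
      exact fhalf_injective N h
    · intro γ hγ
      have hb : ∀ m, -(N : ℤ) ≤ γ m ∧ γ m < N := by
        intro m
        have h1 := hL.nonneg γ hγ m
        have h2 := hN1 γ hγ m
        omega
      obtain ⟨y, hy, e⟩ := fhalf_cover hb (hL.nonneg γ hγ 0)
      exact ⟨y, Finset.mem_filter.2 ⟨hy, by rw [e]; exact hγ⟩, e⟩
  have h3 : ((∑ y ∈ Q, Module.finrank k ↥(tPiece I (fhalf N y)) : ℕ) : ℤ) =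
      ((∑ y ∈ Q, Module.finrank k ↥(tPiece I (dual (fhalf N y))) : ℕ) : ℤ) + (LI hI).card := by
    rw [Nat.cast_sum, Nat.cast_sum, Finset.sum_congr rfl key, Finset.sum_add_distrib,
      Finset.sum_sub_distrib, hsum, hind]
    ring
  have h1' : Module.finrank k (Tgt I) =
      (∑ y ∈ Q, Module.finrank k ↥(tPiece I (fhalf N y))) +
        ∑ y ∈ Q, Module.finrank k ↥(tPiece I (dual (fhalf N y))) := h1
  rw [h1', ← card_LI hI]
  omega

end main

end Groth.Agent.Lib.Helper92.Kos
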