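import Mathlib

set_option autoImplicit false
universe u

open MvPolynomial

namespace Groth.Agent.Lib.Helper92.LurothLine

noncomputable section

variable {k : Type u} [Field k]

/-- restriction of a polynomial to the line `a + b s` -/
def ev₀ {n : ℕ} (a b : Fin n → k) : MvPolynomial (Fin n) k →ₐ[k] Polynomial k :=
  MvPolynomial.aeval (fun i => Polynomial.C (a i) + Polynomial.C (b i) * Polynomial.X)

lemma eval_ev₀ {n : ℕ} (a b : Fin n → k) (s : k) (r : MvPolynomial (Fin n) k) :
    Polynomial.eval s (ev₀ a b r) = MvPolynomial.eval (fun i => a i + b i * s) r := by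
  induction r using MvPolynomial.induction_on with
  | C c => simp [ev₀]
  | add p q hp hq => simp [map_add, hp, hq]
  | mul_X p i hp =>
    rw [map_mul, Polynomial.eval_mul, hp, map_mul, MvPolynomial.eval_X]
    congr 1
    simp [ev₀]

/-- restriction to the line, valued in rational functions -/
def ev {n : ℕ} (a b : Fin n → k) : MvPolynomial (Fin n) k →ₐ[k] RatFunc k :=
  (IsScalarTower.toAlgHom k (Polynomial k) (RatFunc k)).comp (ev₀ a b)

lemma ev_apply {n : ℕ} (a b : Fin n → k) (r : MvPolynomial (Fin n) k) :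
    ev a b r = algebraMap (Polynomial k) (RatFunc k) (ev₀ a b r) := rfl

lemma ev_ne_zero_of_eval {n : ℕ} (a b : Fin n → k) (r : MvPolynomial (Fin n) k)
    (h : MvPolynomial.eval a r ≠ 0) : ev a b r ≠ 0 := by
  rw [ev_apply]
  intro h0
  rw [map_eq_zero_iff _ (RatFunc.algebraMap_injective k)] at h0
  apply h
  have := eval_ev₀ a b 0 r
  rw [h0] at this
  simpa using this.symm

variable {K : Type u} [Field K] [Algebra k K] {n : ℕ}
  (φ : K →ₐ[k] FractionRing (MvPolynomial (Fin n) k)) (a b : Fin n → k)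

/-- the subalgebra of elements of `K` that are regular along the line -/
def O : Subalgebra k K where
  carrier := {z | ∃ p q : MvPolynomial (Fin n) k, ev a b q ≠ 0 ∧
    φ z * algebraMap _ (FractionRing (MvPolynomial (Fin n) k)) q =
      algebraMap _ (FractionRing (MvPolynomial (Fin n) k)) p}
  mul_mem' := by
    rintro z₁ z₂ ⟨p₁, q₁, h₁, e₁⟩ ⟨p₂, q₂, h₂, e₂⟩
    refine ⟨p₁ * p₂, q₁ * q₂, ?_, ?_⟩
    · rw [map_mul]; exact mul_ne_zero h₁ h₂
    · rw [map_mul, map_mul, map_mul, ← e₁, ← e₂]; ring
  add_mem' := by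
    rintro z₁ z₂ ⟨p₁, q₁, h₁, e₁⟩ ⟨p₂, q₂, h₂, e₂⟩
    refine ⟨p₁ * q₂ + p₂ * q₁, q₁ * q₂, ?_, ?_⟩
    · rw [map_mul]; exact mul_ne_zero h₁ h₂
    · simp only [map_add, map_mul]; rw [← e₁, ← e₂]; ring
  algebraMap_mem' := by
    intro c
    refine ⟨MvPolynomial.C c, 1, ?_, ?_⟩
    · rw [map_one]; exact one_ne_zero
    · rw [map_one, mul_one, AlgHom.commutes,
        IsScalarTower.algebraMap_apply k (MvPolynomial (Fin n) k)
          (FractionRing (MvPolynomial (Fin n) k))]
      rfl

lemma mem_O {z : K} : z ∈ O φ a b ↔ ∃ p q : MvPolynomial (Fin n) k, ev a b q ≠ 0 ∧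
    φ z * algebraMap _ (FractionRing (MvPolynomial (Fin n) k)) q =
      algebraMap _ (FractionRing (MvPolynomial (Fin n) k)) p := Iff.rfl

open Classical in
/-- the value along the line -/
def ψfun (z : K) : RatFunc k :=
  if h : ∃ p q : MvPolynomial (Fin n) k, ev a b q ≠ 0 ∧
    φ z * algebraMap _ (FractionRing (MvPolynomial (Fin n) k)) q =
      algebraMap _ (FractionRing (MvPolynomial (Fin n) k)) p then
    ev a b h.choose / ev a b h.choose_spec.choose
  else 0

lemma ψfun_eq (z : K) (p q : MvPolynomial (Fin n) k) (hq : ev a b q ≠ 0)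
    (h : φ z * algebraMap _ (FractionRing (MvPolynomial (Fin n) k)) q =
      algebraMap _ (FractionRing (MvPolynomial (Fin n) k)) p) :
    ψfun φ a b z = ev a b p / ev a b q := by
  have hex : ∃ p q : MvPolynomial (Fin n) k, ev a b q ≠ 0 ∧
    φ z * algebraMap _ (FractionRing (MvPolynomial (Fin n) k)) q =
      algebraMap _ (FractionRing (MvPolynomial (Fin n) k)) p := ⟨p, q, hq, h⟩
  rw [ψfun, dif_pos hex]
  have hinj := IsFractionRing.injective (MvPolynomial (Fin n) k)
    (FractionRing (MvPolynomial (Fin n) k))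
  have key : ∀ p' q' : MvPolynomial (Fin n) k, ev a b q' ≠ 0 →
      φ z * algebraMap _ (FractionRing (MvPolynomial (Fin n) k)) q' =
        algebraMap _ (FractionRing (MvPolynomial (Fin n) k)) p' →
      ev a b p' / ev a b q' = ev a b p / ev a b q := by
    intro p' q' hq' h'
    have : p' * q = p * q' := by
      apply hinj
      rw [map_mul, map_mul, ← h', ← h]; ring
    rw [div_eq_div_iff hq' hq, ← map_mul, ← map_mul, this]
  exact key _ _ hex.choose_spec.choose_spec.1 hex.choose_spec.choose_spec.2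

/-- the restriction homomorphism on `O` -/
def ψO : O φ a b →ₐ[k] RatFunc k where
  toFun z := ψfun φ a b z.1
  map_one' := by
    show ψfun φ a b (1 : K) = 1
    rw [ψfun_eq φ a b _ 1 1 (by rw [map_one]; exact one_ne_zero) (by simp)]; simp
  map_mul' := by
    rintro ⟨z₁, p₁, q₁, h₁, e₁⟩ ⟨z₂, p₂, q₂, h₂, e₂⟩
    show ψfun φ a b (z₁ * z₂) = ψfun φ a b z₁ * ψfun φ a b z₂
    rw [ψfun_eq φ a b z₁ p₁ q₁ h₁ e₁, ψfun_eq φ a b z₂ p₂ q₂ h₂ e₂,
      ψfun_eq φ a b (z₁ * z₂) (p₁ * p₂) (q₁ * q₂) (by rw [map_mul]; exact mul_ne_zero h₁ h₂)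
        (by rw [map_mul, map_mul, map_mul, ← e₁, ← e₂]; ring),
      map_mul, map_mul, div_mul_div_comm]
  map_zero' := by
    show ψfun φ a b (0 : K) = 0
    rw [ψfun_eq φ a b _ 0 1 (by rw [map_one]; exact one_ne_zero) (by simp)]; simp
  map_add' := by
    rintro ⟨z₁, p₁, q₁, h₁, e₁⟩ ⟨z₂, p₂, q₂, h₂, e₂⟩
    show ψfun φ a b (z₁ + z₂) = ψfun φ a b z₁ + ψfun φ a b z₂
    rw [ψfun_eq φ a b z₁ p₁ q₁ h₁ e₁, ψfun_eq φ a b z₂ p₂ q₂ h₂ e₂,
      ψfun_eq φ a b (z₁ + z₂) (p₁ * q₂ + p₂ * q₁) (q₁ * q₂)
        (by rw [map_mul]; exact mul_ne_zero h₁ h₂)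
        (by simp only [map_add, map_mul]; rw [← e₁, ← e₂]; ring),
      map_add, map_mul, map_mul, map_mul, div_add_div _ _ h₁ h₂]
    ring
  commutes' := by
    intro c
    show ψfun φ a b (algebraMap k K c) = algebraMap k (RatFunc k) c
    rw [ψfun_eq φ a b _ (MvPolynomial.C c) 1 (by rw [map_one]; exact one_ne_zero)
      (by
        rw [map_one, mul_one, AlgHom.commutes,
          IsScalarTower.algebraMap_apply k (MvPolynomial (Fin n) k)
            (FractionRing (MvPolynomial (Fin n) k))]
        rfl), map_one, div_one]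
    exact (ev a b).commutes c

lemma ψO_apply (z : O φ a b) (p q : MvPolynomial (Fin n) k) (hq : ev a b q ≠ 0)
    (h : φ z.1 * algebraMap _ (FractionRing (MvPolynomial (Fin n) k)) q =
      algebraMap _ (FractionRing (MvPolynomial (Fin n) k)) p) :
    ψO φ a b z = ev a b p / ev a b q := ψfun_eq φ a b z.1 p q hq h

open scoped IntermediateField.algebraAdjoinAdjoin in
/-- A field of transcendence degree one inside a purely transcendental extension embeds into
the rational function field in one variable (restriction to a generic line). -/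
theorem exists_algHom [Infinite k] (S : Finset K)
    (hS : IntermediateField.adjoin k (S : Set K) = ⊤)
    (x : K) (hx : Transcendental k x)
    (halg : Algebra.IsAlgebraic ↥(IntermediateField.adjoin k {x}) K)
    (φ : K →ₐ[k] FractionRing (MvPolynomial (Fin n) k)) :
    Nonempty (K →ₐ[k] RatFunc k) := by
  classical
  have hinjF := IsFractionRing.injective (MvPolynomial (Fin n) k)
    (FractionRing (MvPolynomial (Fin n) k))
  have hC : ∀ c : k, algebraMap (MvPolynomial (Fin n) k) (FractionRing (MvPolynomial (Fin n) k))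
      (MvPolynomial.C c) = algebraMap k (FractionRing (MvPolynomial (Fin n) k)) c := by
    intro c
    rw [IsScalarTower.algebraMap_apply k (MvPolynomial (Fin n) k)
      (FractionRing (MvPolynomial (Fin n) k))]
    rfl
  -- representations
  have hrep : ∀ z : K, ∃ p q : MvPolynomial (Fin n) k, q ≠ 0 ∧
      φ z * algebraMap _ (FractionRing (MvPolynomial (Fin n) k)) q =
        algebraMap _ (FractionRing (MvPolynomial (Fin n) k)) p := by
    intro z
    obtain ⟨p, q, hq, h⟩ := IsFractionRing.div_surjective (A := MvPolynomial (Fin n) k) (φ z)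
    have hq0 : q ≠ 0 := nonZeroDivisors.ne_zero hq
    refine ⟨p, q, hq0, ?_⟩
    rw [← h, div_mul_cancel₀]
    exact fun h0 => hq0 (hinjF (by rw [h0, map_zero]))
  choose num den hden hnd using hrep
  -- the product of denominators
  set Q := (∏ z ∈ S, den z) * den x with hQ
  have hQ0 : Q ≠ 0 := mul_ne_zero (Finset.prod_ne_zero_iff.mpr fun z _ => hden z) (hden x)
  obtain ⟨a, ha⟩ : ∃ a : Fin n → k, MvPolynomial.eval a Q ≠ 0 := by
    by_contra hcon
    push Not at hcon
    exact hQ0 (MvPolynomial.funext fun v => by rw [hcon v, map_zero])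
  have hax : MvPolynomial.eval a (den x) ≠ 0 := by
    intro h0; apply ha; rw [hQ, map_mul, h0, mul_zero]
  have haS : ∀ z ∈ S, MvPolynomial.eval a (den z) ≠ 0 := by
    intro z hz h0; apply ha
    rw [hQ, map_mul, map_prod, Finset.prod_eq_zero hz h0, zero_mul]
  -- φ x is not constant
  have hxc : ∀ c : k, φ x ≠ algebraMap k (FractionRing (MvPolynomial (Fin n) k)) c := by
    intro c hc
    apply hx
    have : x = algebraMap k K c := φ.toRingHom.injective (by
      show φ x = φ (algebraMap k K c)
      rw [hc, AlgHom.commutes])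
    rw [this]; exact isAlgebraic_algebraMap c
  set P := num x * MvPolynomial.C (MvPolynomial.eval a (den x)) -
    den x * MvPolynomial.C (MvPolynomial.eval a (num x)) with hP
  have hP0 : P ≠ 0 := by
    intro h0
    apply hxc (MvPolynomial.eval a (num x) / MvPolynomial.eval a (den x))
    have h1 : num x * MvPolynomial.C (MvPolynomial.eval a (den x)) =
        den x * MvPolynomial.C (MvPolynomial.eval a (num x)) := sub_eq_zero.mp h0
    have h2 := congrArg (algebraMap _ (FractionRing (MvPolynomial (Fin n) k))) h1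
    rw [map_mul, map_mul, ← hnd x, hC, hC] at h2
    have hdenF : algebraMap _ (FractionRing (MvPolynomial (Fin n) k)) (den x) ≠ 0 :=
      fun h0 => hden x (hinjF (by rw [h0, map_zero]))
    have hqa : algebraMap k (FractionRing (MvPolynomial (Fin n) k))
        (MvPolynomial.eval a (den x)) ≠ 0 := by
      rw [Ne, map_eq_zero_iff _ (algebraMap k (FractionRing (MvPolynomial (Fin n) k))).injective]
      exact hax
    rw [map_div₀, eq_div_iff hqa]
    apply mul_left_cancel₀ hdenF
    linear_combination h2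
  obtain ⟨c', hc'⟩ : ∃ c' : Fin n → k, MvPolynomial.eval c' P ≠ 0 := by
    by_contra hcon
    push Not at hcon
    exact hP0 (MvPolynomial.funext fun v => by rw [hcon v, map_zero])
  set b : Fin n → k := c' - a with hb
  -- memberships
  have hmem : ∀ z : K, MvPolynomial.eval a (den z) ≠ 0 → z ∈ O φ a b := fun z hz =>
    ⟨num z, den z, ev_ne_zero_of_eval a b _ hz, hnd z⟩
  have hxO : x ∈ O φ a b := hmem x hax
  -- ψ x is not constant
  have hψx : ¬ ∃ c : k, ψO φ a b ⟨x, hxO⟩ = RatFunc.C c := by
    rintro ⟨c, hc⟩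
    rw [ψO_apply φ a b ⟨x, hxO⟩ (num x) (den x) (ev_ne_zero_of_eval a b _ hax) (hnd x),
      div_eq_iff (ev_ne_zero_of_eval a b _ hax)] at hc
    have h1 : ev₀ a b (num x) = Polynomial.C c * ev₀ a b (den x) := by
      apply RatFunc.algebraMap_injective k
      rw [map_mul, ← ev_apply, ← ev_apply, hc, RatFunc.algebraMap_C]
    have e0 := congrArg (Polynomial.eval 0) h1
    have e1 := congrArg (Polynomial.eval 1) h1
    rw [Polynomial.eval_mul, Polynomial.eval_C, eval_ev₀, eval_ev₀] at e0 e1
    have hc1 : (fun i => a i + b i * 1) = c' := by ext i; simp [hb]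
    have hc0 : (fun i => a i + b i * 0) = a := by ext i; simp
    rw [hc0] at e0; rw [hc1] at e1
    apply hc'
    rw [hP]; simp only [map_sub, map_mul, MvPolynomial.eval_C]
    rw [e0, e1]; ring
  have htr : Transcendental k (ψO φ a b ⟨x, hxO⟩) := RatFunc.transcendental_of_ne_C _ hψx
  have hA : Algebra.adjoin k {x} ≤ O φ a b :=
    Algebra.adjoin_le (Set.singleton_subset_iff.mpr hxO)
  -- closure under inverses
  have hinv : ∀ y ∈ O φ a b, y⁻¹ ∈ O φ a b := by
    intro y hy
    by_cases hy0 : y = 0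
    · rw [hy0, inv_zero]; exact (O φ a b).zero_mem
    have hy' := hy
    obtain ⟨p, q, hq, hpq⟩ := hy'
    by_cases hp : ev a b p = 0
    · exfalso
      have hψy : ψO φ a b ⟨y, hy⟩ = 0 := by
        rw [ψO_apply φ a b ⟨y, hy⟩ p q hq hpq, hp, zero_div]
      have hyalg : IsAlgebraic (Algebra.adjoin k {x}) y :=
        (IsFractionRing.isAlgebraic_iff (Algebra.adjoin k {x})
          (IntermediateField.adjoin k {x}) K).mpr (halg.isAlgebraic y)
      obtain ⟨g, hg0, hg⟩ := hyalg.exists_nonzero_coeff_and_aeval_eq_zero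
        (mem_nonZeroDivisors_of_ne_zero hy0)
      set T : O φ a b := ∑ i ∈ Finset.range (g.natDegree + 1),
        (⟨(g.coeff i : K), hA (g.coeff i).2⟩ : O φ a b) * (⟨y, hy⟩ : O φ a b) ^ i with hT
      have hT0 : T = 0 := by
        apply Subtype.ext
        rw [Polynomial.aeval_eq_sum_range] at hg
        rw [hT, ZeroMemClass.coe_zero, ← hg, AddSubmonoidClass.coe_finsetSum]
        refine Finset.sum_congr rfl fun i _ => ?_
        rw [Algebra.smul_def]
        rfl
      have h3 := congrArg (ψO φ a b) hT0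
      rw [hT, map_sum, map_zero] at h3
      simp only [map_mul, map_pow, hψy] at h3
      rw [Finset.sum_eq_single 0 (fun i _ hi => by rw [zero_pow hi, mul_zero])
        (fun h => absurd (Finset.mem_range.mpr (Nat.succ_pos _)) h), pow_zero, mul_one] at h3
      have hmemr : (g.coeff 0 : K) ∈ (Polynomial.aeval (R := k) x).range := by
        rw [← Algebra.adjoin_singleton_eq_range_aeval]; exact (g.coeff 0).2
      obtain ⟨a₀, ha₀⟩ := hmemr
      have ha₀0 : a₀ ≠ 0 := by
        rintro rfl
        apply hg0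
        apply Subtype.ext
        rw [← ha₀]; simp
      have h4 : (⟨(g.coeff 0 : K), hA (g.coeff 0).2⟩ : O φ a b) =
          Polynomial.aeval (⟨x, hxO⟩ : O φ a b) a₀ := by
        apply Subtype.ext
        rw [← Subalgebra.aeval_coe]
        exact ha₀.symm
      rw [h4, ← Polynomial.aeval_algHom_apply] at h3
      exact htr ⟨a₀, ha₀0, h3⟩
    · refine ⟨q, p, hp, ?_⟩
      have hφy : φ y ≠ 0 := (map_ne_zero φ.toRingHom).mpr hy0
      rw [map_inv₀, ← hpq]
      field_simp
  have hO : ∀ z : K, z ∈ O φ a b := by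
    intro z
    have hle : (⊤ : IntermediateField k K) ≤ (O φ a b).toIntermediateField hinv := by
      rw [← hS, IntermediateField.adjoin_le_iff]
      intro s hs
      exact hmem s (haS s (Finset.mem_coe.mp hs))
    exact hle IntermediateField.mem_top
  exact ⟨(ψO φ a b).comp (AlgHom.codRestrict (AlgHom.id k K) (O φ a b) hO)⟩

end

end Groth.Agent.Lib.Helper92.LurothLine
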