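import Mathlib
import Groth.Prelude.Def_W4c5spincurvestfNode

/-!
# A `ℤ`-indexed basis of `R[x, y]/(xy - π)` (helper92)

`e m = x^m` for `m ≥ 0` and `y^(-m)` for `m < 0`; `nodeBasis R π : Basis ℤ R (PolyNodeRing R π)`.
-/

set_option autoImplicit false
set_option linter.unusedSectionVars false
universe u

namespace Groth.Agent.Lib.Helper92.Node

open MvPolynomial SpinCurv

variable (R : Type u) [CommRing R] (π : R)

/-- the generator of the ideal -/
noncomputable abbrev gen : MvPolynomial (Fin 2) R := X 0 * X 1 - C π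

/-- the normal-form map on polynomials -/
noncomputable def Npoly : MvPolynomial (Fin 2) R →ₗ[R] (ℤ →₀ R) :=
  (basisMonomials (Fin 2) R).constr R
    (fun m => Finsupp.single ((m 0 : ℤ) - (m 1 : ℤ)) (π ^ min (m 0) (m 1)))

theorem Npoly_monomial (m : Fin 2 →₀ ℕ) (r : R) :
    Npoly R π (monomial m r) = Finsupp.single ((m 0 : ℤ) - (m 1 : ℤ)) (r * π ^ min (m 0) (m 1)) := by
  have h : monomial m r = r • (basisMonomials (Fin 2) R) m := by
    rw [coe_basisMonomials, smul_monomial, smul_eq_mul, mul_one]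
  rw [h, map_smul, Npoly, Module.Basis.constr_basis, Finsupp.smul_single, smul_eq_mul]

theorem Npoly_gen_mul (P : MvPolynomial (Fin 2) R) : Npoly R π (gen R π * P) = 0 := by
  have key : (Npoly R π) ∘ₗ (LinearMap.mulLeft R (gen R π)) = 0 := by
    apply (basisMonomials (Fin 2) R).ext
    intro m
    rw [coe_basisMonomials, LinearMap.comp_apply, LinearMap.mulLeft_apply, LinearMap.zero_apply]
    have h1 : gen R π * monomial m 1 =
        monomial (Finsupp.single 0 1 + Finsupp.single 1 1 + m) 1 - monomial m π := by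
      unfold gen
      rw [sub_mul, X, X, monomial_mul, monomial_mul, C_mul_monomial, mul_one, mul_one, mul_one]
    rw [h1, map_sub, Npoly_monomial, Npoly_monomial]
    simp only [Finsupp.add_apply, Finsupp.single_apply]
    simp only [Fin.isValue, ↓reduceIte, one_ne_zero, zero_ne_one, add_zero, zero_add]
    have e1 : ((1 + m 0 : ℕ) : ℤ) - ((1 + m 1 : ℕ) : ℤ) = (m 0 : ℤ) - (m 1 : ℤ) := by
      push_cast; ring
    have e2 : min (1 + m 0) (1 + m 1) = min (m 0) (m 1) + 1 := by omega
    rw [e1, e2, one_mul, pow_succ, mul_comm, sub_self]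
  exact LinearMap.congr_fun key P

/-- the ideal, as an `R`-submodule, is killed by `Npoly` -/
theorem ideal_le_ker :
    (Ideal.span {gen R π}).restrictScalars R ≤ LinearMap.ker (Npoly R π) := by
  intro P hP
  rw [Submodule.restrictScalars_mem, Ideal.mem_span_singleton'] at hP
  obtain ⟨Q, rfl⟩ := hP
  rw [LinearMap.mem_ker, mul_comm]
  exact Npoly_gen_mul R π Q

/-- the normal-form map on the quotient -/
noncomputable def Nbar : PolyNodeRing R π →ₗ[R] (ℤ →₀ R) :=
  (Submodule.liftQ _ (Npoly R π) (ideal_le_ker R π)) ∘ₗ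
    (Submodule.Quotient.restrictScalarsEquiv R (Ideal.span {gen R π})).symm.toLinearMap

theorem Nbar_mk (P : MvPolynomial (Fin 2) R) :
    Nbar R π (Ideal.Quotient.mk _ P) = Npoly R π P := rfl

/-- the basis vectors -/
noncomputable def e (m : ℤ) : PolyNodeRing R π :=
  if 0 ≤ m then PolyNodeRing.x R π ^ m.toNat else PolyNodeRing.y R π ^ (-m).toNat

theorem Nbar_x_pow (n : ℕ) : Nbar R π (PolyNodeRing.x R π ^ n) = Finsupp.single (n : ℤ) 1 := by
  rw [← map_pow, Nbar_mk, X_pow_eq_monomial, Npoly_monomial]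
  simp

theorem Nbar_y_pow (n : ℕ) : Nbar R π (PolyNodeRing.y R π ^ n) = Finsupp.single (-(n : ℤ)) 1 := by
  rw [← map_pow, Nbar_mk, X_pow_eq_monomial, Npoly_monomial]
  simp

theorem Nbar_e (m : ℤ) : Nbar R π (e R π m) = Finsupp.single m 1 := by
  unfold e
  split_ifs with h
  · rw [Nbar_x_pow, Int.toNat_of_nonneg h]
  · rw [Nbar_y_pow, Int.toNat_of_nonneg (by omega), neg_neg]

theorem x_mul_y : PolyNodeRing.x R π * PolyNodeRing.y R π = algebraMap R _ π := by
  rw [← map_mul, ← sub_eq_zero]
  have : algebraMap R (PolyNodeRing R π) π = Ideal.Quotient.mk _ (C π) := rfl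
  rw [this, ← map_sub, Ideal.Quotient.eq_zero_iff_mem]
  exact Ideal.subset_span rfl

theorem smul_eq' (r : R) (a : PolyNodeRing R π) : r • a = algebraMap R (PolyNodeRing R π) r * a :=
  Algebra.smul_def r a

theorem x_pow_mul_y_pow (a b : ℕ) :
    PolyNodeRing.x R π ^ a * PolyNodeRing.y R π ^ b = (π ^ min a b) • e R π ((a : ℤ) - b) := by
  rcases le_total b a with h | h
  · obtain ⟨d, rfl⟩ := Nat.exists_eq_add_of_le h
    have e1 : ((b + d : ℕ) : ℤ) - b = d := by push_cast; ring
    rw [e1, e, if_pos (by omega), Int.toNat_natCast, min_eq_right h, pow_add,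
      mul_comm (PolyNodeRing.x R π ^ b), mul_assoc, ← mul_pow, x_mul_y,
      smul_eq', mul_comm, map_pow]
  · obtain ⟨d, rfl⟩ := Nat.exists_eq_add_of_le h
    rw [min_eq_left h]
    by_cases hd : d = 0
    · subst hd
      rw [add_zero, sub_self, e, if_pos le_rfl, Int.toNat_zero, pow_zero, ← mul_pow, x_mul_y,
        ← map_pow, smul_eq', mul_one]
    · have e1 : ((a : ℕ) : ℤ) - ((a + d : ℕ) : ℤ) = -(d : ℤ) := by push_cast; ring
      rw [e1, e, if_neg (by omega), neg_neg, Int.toNat_natCast, pow_add, ← mul_assoc, ← mul_pow,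
        x_mul_y, ← map_pow, smul_eq']

/-- the inverse map -/
noncomputable def Sbar : (ℤ →₀ R) →ₗ[R] PolyNodeRing R π := Finsupp.linearCombination R (e R π)

theorem Sbar_single (m : ℤ) (r : R) : Sbar R π (Finsupp.single m r) = r • e R π m := by
  rw [Sbar, Finsupp.linearCombination_single]

theorem Nbar_Sbar : (Nbar R π) ∘ₗ (Sbar R π) = LinearMap.id := by
  apply Finsupp.lhom_ext
  intro m r
  rw [LinearMap.comp_apply, Sbar_single, map_smul, Nbar_e, LinearMap.id_apply, Finsupp.smul_single,
    smul_eq_mul, mul_one]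

theorem mk_monomial (m : Fin 2 →₀ ℕ) (r : R) :
    (Ideal.Quotient.mk (Ideal.span {gen R π}) (monomial m r) : PolyNodeRing R π) =
      r • (PolyNodeRing.x R π ^ m 0 * PolyNodeRing.y R π ^ m 1) := by
  have h : monomial m r = C r * (X 0 ^ m 0 * X 1 ^ m 1) := by
    rw [monomial_eq, Finsupp.prod_fintype _ _ (fun _ => pow_zero _), Fin.prod_univ_two]
  rw [h, map_mul, map_mul, map_pow, map_pow, smul_eq']
  rfl

theorem Sbar_Nbar : (Sbar R π) ∘ₗ (Nbar R π) = LinearMap.id := by
  apply LinearMap.ext
  intro a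
  obtain ⟨P, rfl⟩ := Ideal.Quotient.mk_surjective a
  rw [LinearMap.comp_apply, LinearMap.id_apply, Nbar_mk]
  induction P using MvPolynomial.induction_on' with
  | monomial m r =>
    rw [Npoly_monomial, Sbar_single, mk_monomial, x_pow_mul_y_pow, smul_smul]
  | add P Q hP hQ =>
    rw [map_add, map_add, hP, hQ, map_add]

/-- the linear equivalence with `ℤ →₀ R` -/
noncomputable def nodeEquiv : PolyNodeRing R π ≃ₗ[R] (ℤ →₀ R) :=
  LinearEquiv.ofLinearMap (Nbar R π) (Sbar R π) (Nbar_Sbar R π) (Sbar_Nbar R π)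

/-- the `ℤ`-indexed basis -/
noncomputable def nodeBasis : Module.Basis ℤ R (PolyNodeRing R π) := Module.Basis.ofRepr (nodeEquiv R π)

theorem nodeBasis_apply (m : ℤ) : nodeBasis R π m = e R π m := by
  rw [nodeBasis, Module.Basis.coe_ofRepr]
  show (nodeEquiv R π).symm (Finsupp.single m 1) = _
  show Sbar R π (Finsupp.single m 1) = _
  rw [Sbar_single, one_smul]

theorem nodeBasis_repr (a : PolyNodeRing R π) : (nodeBasis R π).repr a = Nbar R π a := rfl


theorem e_nonneg {m : ℤ} (h : 0 ≤ m) : e R π m = PolyNodeRing.x R π ^ m.toNat := by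
  rw [e, if_pos h]

theorem e_neg {m : ℤ} (h : m < 0) : e R π m = PolyNodeRing.y R π ^ (-m).toNat := by
  rw [e, if_neg (by omega)]

theorem e_zero : e R π 0 = 1 := by
  rw [e_nonneg R π le_rfl, Int.toNat_zero, pow_zero]

theorem y_mul_e (m : ℤ) :
    PolyNodeRing.y R π * e R π m = if m ≤ 0 then e R π (m - 1) else π • e R π (m - 1) := by
  split_ifs with h
  · rcases eq_or_lt_of_le h with h0 | h0
    · subst h0
      rw [e_zero, mul_one, e_neg R π (by omega)]
      simp
    · rw [e_neg R π h0, e_neg R π (by omega), ← pow_succ']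
      congr 1
      omega
  · push Not at h
    rw [e_nonneg R π h.le, e_nonneg R π (by omega)]
    have h1 : m.toNat = (m - 1).toNat + 1 := by omega
    rw [h1, pow_succ, mul_comm (PolyNodeRing.y R π), mul_assoc, x_mul_y, smul_eq',
      mul_comm]

theorem x_mul_e (m : ℤ) :
    PolyNodeRing.x R π * e R π m = if 0 ≤ m then e R π (m + 1) else π • e R π (m + 1) := by
  split_ifs with h
  · rw [e_nonneg R π h, e_nonneg R π (by omega), ← pow_succ']
    congr 1
    omega
  · push Not at h
    rw [e_neg R π h]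
    have h1 : (-m).toNat = (-(m + 1)).toNat + 1 := by omega
    rw [h1, pow_succ, mul_comm _ (PolyNodeRing.y R π), ← mul_assoc, x_mul_y, smul_eq']
    congr 1
    rcases eq_or_lt_of_le (show m + 1 ≤ 0 by omega) with h0 | h0
    · rw [h0, e_zero]
      simp
    · rw [e_neg R π h0]

/-- expansion of an element in the basis -/
theorem eq_sum (a : PolyNodeRing R π) :
    a = (Nbar R π a).sum (fun m r => r • e R π m) := by
  have := LinearMap.congr_fun (Sbar_Nbar R π) a
  rw [LinearMap.comp_apply, LinearMap.id_apply, Sbar, Finsupp.linearCombination_apply] at this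
  exact this.symm

theorem Nbar_injective : Function.Injective (Nbar R π) := (nodeEquiv R π).injective

/-- linear maps out of the node ring are determined on the basis -/
theorem lhom_ext {M : Type*} [AddCommMonoid M] [Module R M] {φ ψ : PolyNodeRing R π →ₗ[R] M}
    (h : ∀ m, φ (e R π m) = ψ (e R π m)) : φ = ψ := by
  apply (nodeBasis R π).ext
  intro m
  rw [nodeBasis_apply]
  exact h m

/-- coefficient of `T^j` in a Laurent polynomial -/
noncomputable def cL (j : ℤ) : LaurentPolynomial R →ₗ[R] R :=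
  (Finsupp.lapply j) ∘ₗ (AddMonoidAlgebra.coeffLinearEquiv R).toLinearMap

theorem cL_apply (j : ℤ) (z : LaurentPolynomial R) : cL R j z = z.coeff j := rfl

theorem cL_T (j n : ℤ) : cL R j (LaurentPolynomial.T n) = if n = j then 1 else 0 := by
  rw [cL_apply, LaurentPolynomial.T, AddMonoidAlgebra.coeff_single, Finsupp.single_apply]

theorem cL_C_mul_T (j n : ℤ) (r : R) :
    cL R j (LaurentPolynomial.C r * LaurentPolynomial.T n) = if n = j then r else 0 := by
  rw [cL_apply, ← LaurentPolynomial.single_eq_C_mul_T, AddMonoidAlgebra.coeff_single,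
    Finsupp.single_apply]

theorem cL_T_mul (j n : ℤ) (z : LaurentPolynomial R) :
    cL R j (LaurentPolynomial.T n * z) = cL R (j - n) z := by
  induction z using AddMonoidAlgebra.induction_linear with
  | zero => simp
  | add x y hx hy => rw [mul_add, map_add, map_add, hx, hy]
  | single a r =>
    rw [LaurentPolynomial.T, AddMonoidAlgebra.single_mul_single, cL_apply, cL_apply,
      AddMonoidAlgebra.coeff_single, AddMonoidAlgebra.coeff_single, Finsupp.single_apply,
      Finsupp.single_apply, one_mul]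
    congr 1
    rw [eq_iff_iff]
    constructor <;> intro h <;> omega

theorem laurent_ext {z w : LaurentPolynomial R} (h : ∀ j, cL R j z = cL R j w) : z = w :=
  LaurentPolynomial.ext h


/-- the weight `π^{max(-j,0)}` -/
def wt (j : ℤ) : R := if 0 ≤ j then 1 else π ^ (-j).toNat

theorem wt_nonneg {j : ℤ} (h : 0 ≤ j) : wt R π j = 1 := if_pos h

theorem wt_neg {j : ℤ} (h : j < 0) : wt R π j = π ^ (-j).toNat := if_neg (by omega)

theorem algHom_e_pos (φ : PolyNodeRing R π →ₐ[R] LaurentPolynomial R)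
    (hx : φ (PolyNodeRing.x R π) = LaurentPolynomial.T 1)
    (hy : φ (PolyNodeRing.y R π) = LaurentPolynomial.C π * LaurentPolynomial.T (-1)) (j : ℤ) :
    φ (e R π j) = LaurentPolynomial.C (wt R π j) * LaurentPolynomial.T j := by
  by_cases h : 0 ≤ j
  · rw [e_nonneg R π h, wt_nonneg R π h, map_pow, hx, LaurentPolynomial.T_pow, mul_one,
      Int.toNat_of_nonneg h, map_one, one_mul]
  · push Not at h
    rw [e_neg R π h, wt_neg R π h, map_pow, hy, mul_pow, LaurentPolynomial.T_pow, ← map_pow,
      Int.toNat_of_nonneg (by omega)]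
    congr 2
    ring

theorem algHom_e_neg (φ : PolyNodeRing R π →ₐ[R] LaurentPolynomial R)
    (hx : φ (PolyNodeRing.x R π) = LaurentPolynomial.T (-1))
    (hy : φ (PolyNodeRing.y R π) = LaurentPolynomial.C π * LaurentPolynomial.T 1) (j : ℤ) :
    φ (e R π j) = LaurentPolynomial.C (wt R π j) * LaurentPolynomial.T (-j) := by
  by_cases h : 0 ≤ j
  · rw [e_nonneg R π h, wt_nonneg R π h, map_pow, hx, LaurentPolynomial.T_pow,
      Int.toNat_of_nonneg h, map_one, one_mul]
    congr 1
    ring
  · push Not at h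
    rw [e_neg R π h, wt_neg R π h, map_pow, hy, mul_pow, LaurentPolynomial.T_pow, ← map_pow,
      Int.toNat_of_nonneg (by omega), mul_one]

end Groth.Agent.Lib.Helper92.Node
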