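import Mathlib
import Groth.Prelude.Def_W4c5spincurvestfNode
import Groth.Agent.Lib.Helper92.NodeBasis

/-!
# Sections of the twisting sheaves on the two-chart curve over a node (helper92)

Refactoring of the proof of S18436: the pairs `(g, f)` with `gU g = T^n * gV f` are exactly the
`R`-linear combinations of the family `vfam R p q n`, and that family is linearly independent.
-/

set_option autoImplicit false
set_option linter.unusedSectionVars false
universe u

namespace Groth.Agent.Lib.Helper92.Node

open SpinCurv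

/-- the basis of the module of sections of `O(n)` -/
noncomputable def vfam (R : Type u) [CommRing R] (p q : R) (n : ℤ) :
    ℤ → SpinCurv.PolyNodeRing R q × SpinCurv.PolyNodeRing R p := fun j =>
  if 0 ≤ j then (wt R p (n - j) • e R q j, e R p (n - j)) else (e R q j, wt R q j • e R p (n - j))

theorem twist_sections (R : Type u) [CommRing R] (p q : R)
    (gU : SpinCurv.PolyNodeRing R q →ₐ[R] LaurentPolynomial R)
    (hgUs : gU (SpinCurv.PolyNodeRing.x R q) = LaurentPolynomial.T 1)
    (hgUy : gU (SpinCurv.PolyNodeRing.y R q) = LaurentPolynomial.C q * LaurentPolynomial.T (-1))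
    (gV : SpinCurv.PolyNodeRing R p →ₐ[R] LaurentPolynomial R)
    (hgVt : gV (SpinCurv.PolyNodeRing.x R p) = LaurentPolynomial.T (-1))
    (hgVx : gV (SpinCurv.PolyNodeRing.y R p) = LaurentPolynomial.C p * LaurentPolynomial.T 1)
    (n : ℤ) (hn : -1 ≤ n) :
    (∀ (g : SpinCurv.PolyNodeRing R q) (f : SpinCurv.PolyNodeRing R p),
      gU g = LaurentPolynomial.T n * gV f →
        ∃ c : ℤ →₀ R, Finsupp.linearCombination R (vfam R p q n) c = (g, f)) ∧
    (∀ c : ℤ →₀ R, Finsupp.linearCombination R (vfam R p q n) c = 0 → c = 0) := by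
  classical
  set Λ : SpinCurv.PolyNodeRing R q × SpinCurv.PolyNodeRing R p →ₗ[R] LaurentPolynomial R :=
    gU.toLinearMap.comp (LinearMap.fst R _ _) -
      (LinearMap.mulLeft R (LaurentPolynomial.T n)).comp (gV.toLinearMap.comp (LinearMap.snd R _ _))
    with hΛ
  have hΛ1 : ∀ j : ℤ, Λ (e R q j, 0) = LaurentPolynomial.C (wt R q j) * LaurentPolynomial.T j := by
    intro j
    simp only [hΛ, LinearMap.sub_apply, LinearMap.comp_apply, LinearMap.fst_apply,
      LinearMap.snd_apply, AlgHom.toLinearMap_apply, map_zero, sub_zero]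
    exact algHom_e_pos R q gU hgUs hgUy j
  have hΛ2 : ∀ m : ℤ, Λ (0, e R p m) =
      -(LaurentPolynomial.C (wt R p m) * LaurentPolynomial.T (n - m)) := by
    intro m
    simp only [hΛ, LinearMap.sub_apply, LinearMap.comp_apply, LinearMap.fst_apply,
      LinearMap.snd_apply, AlgHom.toLinearMap_apply, map_zero, zero_sub, LinearMap.mulLeft_apply]
    rw [algHom_e_neg R p gV hgVt hgVx m, mul_left_comm, ← LaurentPolynomial.T_add]
    rfl
  -- the maps
  let v : ℤ → SpinCurv.PolyNodeRing R q × SpinCurv.PolyNodeRing R p := vfam R p q n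
  have hvdef : ∀ j, v j = if 0 ≤ j then (wt R p (n - j) • e R q j, e R p (n - j)) else (e R q j, wt R q j • e R p (n - j)) := fun j => rfl
  let Ψ : (ℤ →₀ R) →ₗ[R] SpinCurv.PolyNodeRing R q × SpinCurv.PolyNodeRing R p :=
    Finsupp.linearCombination R v
  have hΨ : ∀ j, Ψ (Finsupp.single j 1) = v j := by
    intro j
    simp [Ψ]
  let Θ₁ : SpinCurv.PolyNodeRing R q →ₗ[R] (ℤ →₀ R) :=
    (nodeBasis R q).constr R (fun j => if j < 0 then Finsupp.single j 1 else 0)
  let Θ₂ : SpinCurv.PolyNodeRing R p →ₗ[R] (ℤ →₀ R) :=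
    (nodeBasis R p).constr R (fun m => if 0 ≤ n - m then Finsupp.single (n - m) 1 else 0)
  have hΘ₁ : ∀ j, Θ₁ (e R q j) = if j < 0 then Finsupp.single j 1 else 0 := by
    intro j
    rw [← nodeBasis_apply, Module.Basis.constr_basis]
  have hΘ₂ : ∀ m, Θ₂ (e R p m) = if 0 ≤ n - m then Finsupp.single (n - m) 1 else 0 := by
    intro m
    rw [← nodeBasis_apply, Module.Basis.constr_basis]
  let Θ : SpinCurv.PolyNodeRing R q × SpinCurv.PolyNodeRing R p →ₗ[R] (ℤ →₀ R) :=
    Θ₁.coprod Θ₂
  let w : ℤ → SpinCurv.PolyNodeRing R q × SpinCurv.PolyNodeRing R p := fun j =>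
    if 0 ≤ j then (e R q j, 0) else (0, -e R p (n - j))
  let Γ : LaurentPolynomial R →ₗ[R] SpinCurv.PolyNodeRing R q × SpinCurv.PolyNodeRing R p :=
    (Finsupp.linearCombination R w) ∘ₗ (AddMonoidAlgebra.coeffLinearEquiv R).toLinearMap
  have hΓ : ∀ (r : R) (j : ℤ), Γ (LaurentPolynomial.C r * LaurentPolynomial.T j) = r • w j := by
    intro r j
    rw [← LaurentPolynomial.single_eq_C_mul_T]
    show Finsupp.linearCombination R w ((AddMonoidAlgebra.single j r : LaurentPolynomial R).coeff) = _
    rw [AddMonoidAlgebra.coeff_single, Finsupp.linearCombination_single]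
  -- Λ ∘ Ψ = 0
  have h1 : Λ ∘ₗ Ψ = 0 := by
    apply Finsupp.lhom_ext
    intro j r
    have : Finsupp.single j r = r • Finsupp.single j (1 : R) := by
      rw [Finsupp.smul_single, smul_eq_mul, mul_one]
    rw [this, map_smul, LinearMap.comp_apply, hΨ, LinearMap.zero_apply]
    have hv : Λ (v j) = 0 := by
      simp only [hvdef]
      split_ifs with hj
      · have e1 : (wt R p (n - j) • e R q j, e R p (n - j)) =
            wt R p (n - j) • (e R q j, (0 : SpinCurv.PolyNodeRing R p)) + ((0 : SpinCurv.PolyNodeRing R q), e R p (n - j)) := by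
          simp
        rw [e1, map_add, map_smul, hΛ1, hΛ2, wt_nonneg R q hj, sub_sub_cancel, map_one, one_mul,
          LaurentPolynomial.smul_eq_C_mul, add_neg_cancel]
      · push Not at hj
        have e1 : (e R q j, wt R q j • e R p (n - j)) =
            (e R q j, (0 : SpinCurv.PolyNodeRing R p)) + wt R q j • ((0 : SpinCurv.PolyNodeRing R q), e R p (n - j)) := by
          simp
        rw [e1, map_add, map_smul, hΛ1, hΛ2, wt_nonneg R p (show 0 ≤ n - j by omega), sub_sub_cancel,
          map_one, one_mul, LaurentPolynomial.smul_eq_C_mul, mul_neg, mul_comm, add_neg_cancel]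
    rw [hv, smul_zero]
  -- Θ ∘ Ψ = id
  have h2 : Θ ∘ₗ Ψ = LinearMap.id := by
    apply Finsupp.lhom_ext
    intro j r
    have : Finsupp.single j r = r • Finsupp.single j (1 : R) := by
      rw [Finsupp.smul_single, smul_eq_mul, mul_one]
    rw [this, map_smul, LinearMap.comp_apply, hΨ, LinearMap.id_apply]
    congr 1
    simp only [hvdef, Θ]
    split_ifs with hj
    · rw [LinearMap.coprod_apply, map_smul, hΘ₁, hΘ₂, if_neg (by omega), smul_zero, zero_add,
        if_pos (by omega), sub_sub_cancel]
    · rw [LinearMap.coprod_apply, map_smul, hΘ₁, hΘ₂, if_pos (by omega), sub_sub_cancel,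
        if_neg hj, smul_zero, add_zero]
  -- Ψ ∘ Θ + Γ ∘ Λ = id
  have h3 : Ψ ∘ₗ Θ + Γ ∘ₗ Λ = LinearMap.id := by
    apply LinearMap.prod_ext
    · apply lhom_ext
      intro j
      simp only [LinearMap.comp_apply, LinearMap.add_apply, LinearMap.inl_apply, LinearMap.id_apply]
      rw [hΛ1, hΓ]
      simp only [Θ]
      rw [LinearMap.coprod_apply, map_zero, add_zero, hΘ₁]
      by_cases hj : 0 ≤ j
      · rw [if_neg (by omega), map_zero, zero_add, wt_nonneg R q hj, one_smul]
        simp only [w]
        rw [if_pos hj]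
      · rw [if_pos (by omega), hΨ]
        simp only [hvdef, w]
        rw [if_neg hj, if_neg hj]
        simp
    · apply lhom_ext
      intro m
      simp only [LinearMap.comp_apply, LinearMap.add_apply, LinearMap.inr_apply, LinearMap.id_apply]
      rw [hΛ2, map_neg, hΓ]
      simp only [Θ]
      rw [LinearMap.coprod_apply, map_zero, zero_add, hΘ₂]
      by_cases hj : 0 ≤ n - m
      · rw [if_pos hj, hΨ]
        simp only [hvdef, w]
        rw [if_pos hj, if_pos hj, sub_sub_cancel]
        simp
      · rw [if_neg hj, map_zero, zero_add]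
        simp only [w]
        rw [if_neg hj, sub_sub_cancel, wt_nonneg R p (show 0 ≤ m by omega)]
        simp
  constructor
  · intro g f hgf
    have hk : Λ (g, f) = 0 := by
      simp only [hΛ, LinearMap.sub_apply, LinearMap.comp_apply, LinearMap.fst_apply,
        LinearMap.snd_apply, AlgHom.toLinearMap_apply, LinearMap.mulLeft_apply]
      rw [hgf, sub_self]
    refine ⟨Θ (g, f), ?_⟩
    have := LinearMap.congr_fun h3 (g, f)
    simp only [LinearMap.add_apply, LinearMap.comp_apply, LinearMap.id_apply] at this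
    rw [hk, map_zero, add_zero] at this
    exact this
  · intro c hc
    have := LinearMap.congr_fun h2 c
    simp only [LinearMap.comp_apply, LinearMap.id_apply] at this
    rw [← this]
    show Θ (Finsupp.linearCombination R (vfam R p q n) c) = 0
    rw [hc, map_zero]

end Groth.Agent.Lib.Helper92.Node
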