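import Mathlib

set_option linter.unusedSectionVars false
set_option linter.unusedSimpArgs false
set_option linter.unusedVariables false
set_option linter.style.haveILetI false
set_option autoImplicit false

/-!
# Perfect algebras: compactness dictionary (for S14261)

`PerfSystem p φ` : a directed system of perfect `B`-algebras (unbundled) with a cocone to `R`
satisfying the filtered colimit criteria. `Compact p φ` : every such system admits a section.
-/

namespace Groth.Agent.Lib.Helper92.PerfFP

universe u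

open CategoryTheory Limits

/-- A directed system of perfect `B`-algebras with colimit `R` (unbundled form). -/
structure PerfSystem (p : ℕ) {B R : Type u} [CommRing B] [CommRing R] (φ : B →+* R) where
  J : Type u
  [pre : Preorder J]
  [dir : IsDirected J (· ≤ ·)]
  [ne : Nonempty J]
  T : J → Type u
  [ring : ∀ j, CommRing (T j)]
  ψ : ∀ j, B →+* T j
  char : ∀ j, (p : T j) = 0
  frob : ∀ j, Function.Bijective fun y : T j => y ^ p
  tr : ∀ {i j : J}, i ≤ j → (T i →+* T j)
  tr_ψ : ∀ {i j : J} (h : i ≤ j), (tr h).comp (ψ i) = ψ j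
  tr_id : ∀ (i : J) (x : T i), tr (le_refl i) x = x
  tr_comp : ∀ {i j k : J} (h : i ≤ j) (h' : j ≤ k) (x : T i), tr h' (tr h x) = tr (h.trans h') x
  leg : ∀ j, T j →+* R
  leg_ψ : ∀ j, (leg j).comp (ψ j) = φ
  leg_tr : ∀ {i j : J} (h : i ≤ j) (x : T i), leg j (tr h x) = leg i x
  surj : ∀ x : R, ∃ j y, leg j y = x
  inj : ∀ (j : J) (y y' : T j), leg j y = leg j y' → ∃ k, ∃ h : j ≤ k, tr h y = tr h y'

attribute [instance] PerfSystem.pre PerfSystem.dir PerfSystem.ne PerfSystem.ring

/-- Compactness in unbundled form. -/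
def Compact (p : ℕ) {B R : Type u} [CommRing B] [CommRing R] (φ : B →+* R) : Prop :=
  ∀ s : PerfSystem p φ, ∃ (j : s.J) (g : R →+* s.T j), g.comp φ = s.ψ j ∧ ∀ x, s.leg j (g x) = x

section Cat

variable (p : ℕ) (B : CommRingCat.{u})

abbrev PerfCat : Type (u + 1) :=
  ObjectProperty.FullSubcategory fun Y : Under B =>
    (p : Y.right) = 0 ∧ Function.Bijective fun y : Y.right => y ^ p

variable {p B}

/-- Build an object. -/
def mkObj (T : Type u) [CommRing T] (ψ : B →+* T) (h0 : (p : T) = 0)
    (hb : Function.Bijective fun y : T => y ^ p) : PerfCat p B :=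
  ⟨Under.mk (CommRingCat.ofHom ψ : B ⟶ CommRingCat.of T), ⟨h0, hb⟩⟩

/-- Underlying ring hom of a morphism. -/
def toRingHom {X Y : PerfCat p B} (f : X ⟶ Y) : X.obj.right →+* Y.obj.right := f.hom.right.hom

theorem toRingHom_comp_hom {X Y : PerfCat p B} (f : X ⟶ Y) :
    (toRingHom f).comp X.obj.hom.hom = Y.obj.hom.hom := by
  have h1 : X.obj.hom ≫ f.hom.right = Y.obj.hom := Under.w f.hom
  have h2 := congrArg CommRingCat.Hom.hom h1
  exact h2

/-- Build a morphism. -/
def mkHom {X Y : PerfCat p B} (f : X.obj.right →+* Y.obj.right)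
    (hf : f.comp X.obj.hom.hom = Y.obj.hom.hom) : X ⟶ Y :=
  ObjectProperty.homMk (Under.homMk (CommRingCat.ofHom f) (by
    ext x
    exact RingHom.congr_fun hf x))

@[simp] theorem toRingHom_mkHom {X Y : PerfCat p B} (f : X.obj.right →+* Y.obj.right)
    (hf : f.comp X.obj.hom.hom = Y.obj.hom.hom) : toRingHom (mkHom f hf) = f := rfl

theorem hom_ext' {X Y : PerfCat p B} {f g : X ⟶ Y} (h : toRingHom f = toRingHom g) : f = g := by
  apply ObjectProperty.hom_ext
  apply Under.UnderMorphism.ext
  apply CommRingCat.hom_ext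
  exact h

theorem toRingHom_comp {X Y Z : PerfCat p B} (f : X ⟶ Y) (g : Y ⟶ Z) :
    toRingHom (f ≫ g) = (toRingHom g).comp (toRingHom f) := rfl

theorem toRingHom_id (X : PerfCat p B) : toRingHom (𝟙 X) = RingHom.id _ := rfl

end Cat

end Groth.Agent.Lib.Helper92.PerfFP
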