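import Groth.Agent.Lib.Helper92.PerfFP1

set_option linter.unusedSectionVars false
set_option linter.unusedSimpArgs false
set_option linter.unusedVariables false
set_option linter.style.haveILetI false
set_option autoImplicit false

/-!
# Perfect algebras: finitely presentable objects are `Compact`
-/

namespace Groth.Agent.Lib.Helper92.PerfFP

universe u

open CategoryTheory Limits

variable {p : ℕ} {B : CommRingCat.{u}} {A : PerfCat p B}

namespace PerfSystem

variable (s : PerfSystem p (A.obj.hom.hom))

/-- The objects of the system. -/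
def obj (j : s.J) : PerfCat p B := mkObj (s.T j) (s.ψ j) (s.char j) (s.frob j)

/-- The functor of the system. -/
def functor : s.J ⥤ PerfCat p B where
  obj := s.obj
  map {i j} f := mkHom (X := s.obj i) (Y := s.obj j) (s.tr (leOfHom f)) (s.tr_ψ _)
  map_id i := by
    apply hom_ext'
    ext x
    exact s.tr_id i x
  map_comp f g := by
    apply hom_ext'
    ext x
    exact (s.tr_comp _ _ x).symm

/-- The cocone of the system. -/
def cocone : Cocone s.functor where
  pt := A
  ι :=
    { app := fun j => mkHom (X := s.obj j) (Y := A) (s.leg j) (s.leg_ψ j)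
      naturality := fun i j f => by
        apply hom_ext'
        ext x
        exact s.leg_tr _ x }

/-- Forget everything. -/
abbrev forgetAll (p : ℕ) (B : CommRingCat.{u}) : PerfCat p B ⥤ Type u :=
  ObjectProperty.ι _ ⋙ Under.forget B ⋙ forget CommRingCat

attribute [local instance] IsFiltered.isConnected

instance : ReflectsColimitsOfShape s.J (forget CommRingCat.{u}) :=
  reflectsColimitsOfShape_of_reflectsIsomorphisms

instance : ReflectsColimitsOfShape s.J (forgetAll p B) := by
  unfold forgetAll
  infer_instance

/-- The cocone is a colimit. -/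
noncomputable def isColimit : IsColimit s.cocone := by
  refine isColimitOfReflects (forgetAll p B) ?_
  refine Types.FilteredColimit.isColimitOf _ _ ?_ ?_
  · intro x
    obtain ⟨j, y, hy⟩ := s.surj x
    exact ⟨j, y, hy.symm⟩
  · intro i j xi xj h
    obtain ⟨k, hik, hjk⟩ := exists_ge_ge i j
    have h1 : s.leg k (s.tr hik xi) = s.leg k (s.tr hjk xj) := by
      rw [s.leg_tr, s.leg_tr]
      exact h
    obtain ⟨k', hkk', h2⟩ := s.inj k _ _ h1
    refine ⟨k', homOfLE (hik.trans hkk'), homOfLE (hjk.trans hkk'), ?_⟩
    rw [s.tr_comp, s.tr_comp] at h2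
    exact h2

end PerfSystem

theorem compact_of_isFinitelyPresentable (A : PerfCat p B) [IsFinitelyPresentable.{u} A] :
    Compact p (A.obj.hom.hom) := by
  intro s
  obtain ⟨j, g, hg⟩ := IsFinitelyPresentable.exists_hom_of_isColimit s.isColimit (𝟙 A)
  refine ⟨j, toRingHom g, toRingHom_comp_hom g, ?_⟩
  intro x
  have h1 := congrArg toRingHom hg
  exact RingHom.congr_fun h1 x

end Groth.Agent.Lib.Helper92.PerfFP
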