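import Groth.Agent.Lib.Helper92.PerfFP1

set_option linter.unusedSectionVars false
set_option linter.unusedSimpArgs false
set_option linter.unusedVariables false
set_option linter.style.haveILetI false
set_option autoImplicit false

/-!
# Perfect closure lemmas (for S14261)
-/

namespace Groth.Agent.Lib.Helper92.PerfFP

universe u

section PC

variable {K : Type u} [CommRing K] (p : ℕ) [Fact p.Prime] [CharP K p]

theorem exists_pow_eq_of (y : PerfectClosure K p) :
    ∃ n a, y ^ p ^ n = PerfectClosure.of K p a := by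
  induction y using PerfectClosure.induction_on with
  | h x =>
    obtain ⟨n, a⟩ := x
    refine ⟨n, a, ?_⟩
    rw [← iterate_frobenius]
    exact PerfectClosure.iterate_frobenius_mk K p n a

theorem of_eq_of_iff (a b : K) :
    PerfectClosure.of K p a = PerfectClosure.of K p b ↔ ∃ n, a ^ p ^ n = b ^ p ^ n := by
  rw [PerfectClosure.of_apply, PerfectClosure.of_apply, PerfectClosure.mk_eq_iff]
  simp only [zero_add, iterate_frobenius]

theorem injective_pow_p_pow {L : Type*} [CommRing L]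
    (hL : Function.Injective fun y : L => y ^ p) (n : ℕ) :
    Function.Injective fun y : L => y ^ p ^ n := by
  have := hL.iterate n
  rwa [pow_iterate] at this

/-- Two ring homs out of the perfect closure agreeing on `of` are equal when the `p`-th power map
is injective on the target. -/
theorem ringHom_ext_of {L : Type*} [CommRing L] (hL : Function.Injective fun y : L => y ^ p)
    (f g : PerfectClosure K p →+* L)
    (h : f.comp (PerfectClosure.of K p) = g.comp (PerfectClosure.of K p)) : f = g := by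
  ext y
  obtain ⟨n, a, hy⟩ := exists_pow_eq_of p y
  apply injective_pow_p_pow p hL n
  show f y ^ p ^ n = g y ^ p ^ n
  rw [← map_pow, ← map_pow, hy]
  exact RingHom.congr_fun h a

/-- The descent property. -/
def DescP (𝔞 : Ideal K) (y : PerfectClosure K p) : Prop :=
  ∃ n w, w ∈ 𝔞 ∧ y ^ p ^ n = PerfectClosure.of K p w

variable {p}

theorem DescP.zero (𝔞 : Ideal K) : DescP p 𝔞 0 := ⟨0, 0, 𝔞.zero_mem, by simp⟩

theorem DescP.add {𝔞 : Ideal K} {y y' : PerfectClosure K p} (h : DescP p 𝔞 y)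
    (h' : DescP p 𝔞 y') : DescP p 𝔞 (y + y') := by
  obtain ⟨n, w, hw, hy⟩ := h
  obtain ⟨m, w', hw', hy'⟩ := h'
  have hp : 0 < p := (Fact.out : p.Prime).pos
  refine ⟨n + m, w ^ p ^ m + w' ^ p ^ n, 𝔞.add_mem (Ideal.pow_mem_of_mem _ hw _ (pow_pos hp _))
    (Ideal.pow_mem_of_mem _ hw' _ (pow_pos hp _)), ?_⟩
  rw [add_pow_char_pow, map_add, map_pow, map_pow, ← hy, ← hy', ← pow_mul, ← pow_mul, ← pow_add,
    ← pow_add, add_comm m n]

theorem DescP.mul {𝔞 : Ideal K} (c : PerfectClosure K p) {y : PerfectClosure K p}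
    (h : DescP p 𝔞 y) : DescP p 𝔞 (c * y) := by
  obtain ⟨n, w, hw, hy⟩ := h
  obtain ⟨m, a, hc⟩ := exists_pow_eq_of p c
  have hp : 0 < p := (Fact.out : p.Prime).pos
  refine ⟨n + m, a ^ p ^ n * w ^ p ^ m,
    𝔞.mul_mem_left _ (Ideal.pow_mem_of_mem _ hw _ (pow_pos hp _)), ?_⟩
  rw [mul_pow, map_mul, map_pow, map_pow, ← hy, ← hc, ← pow_mul, ← pow_mul, ← pow_add,
    ← pow_add, add_comm m n]

theorem DescP.of_pow_p_pow {𝔞 : Ideal K} {y : PerfectClosure K p} (M : ℕ)
    (h : DescP p 𝔞 (y ^ p ^ M)) : DescP p 𝔞 y := by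
  obtain ⟨n, w, hw, hy⟩ := h
  refine ⟨M + n, w, hw, ?_⟩
  rw [← hy, ← pow_mul, ← pow_add]

theorem DescP.of_pow {𝔞 : Ideal K} {y : PerfectClosure K p} (N : ℕ)
    (h : DescP p 𝔞 (y ^ N)) : DescP p 𝔞 y := by
  have hp : 1 < p := (Fact.out : p.Prime).one_lt
  have hN : N ≤ p ^ N := (Nat.lt_pow_self hp).le
  apply DescP.of_pow_p_pow N
  have : y ^ p ^ N = y ^ (p ^ N - N) * y ^ N := by
    rw [← pow_add, Nat.sub_add_cancel hN]
  rw [this]
  exact DescP.mul _ h

theorem descP_of_mem_radical (𝔞 : Ideal K) (G : Set (PerfectClosure K p))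
    (hG : ∀ t ∈ G, DescP p 𝔞 t) (y : PerfectClosure K p)
    (hy : y ∈ (Ideal.span G).radical) : DescP p 𝔞 y := by
  obtain ⟨N, hN⟩ := hy
  apply DescP.of_pow N
  have key : ∀ z ∈ Ideal.span G, DescP p 𝔞 z := by
    intro z hz
    induction hz using Submodule.span_induction with
    | mem x hx => exact hG x hx
    | zero => exact DescP.zero 𝔞
    | add x y _ _ hx hy => exact hx.add hy
    | smul c x _ hx => exact DescP.mul c hx
  exact key _ hN

theorem pow_mem_of_of_mem_radical (𝔞 : Ideal K) (G : Set (PerfectClosure K p))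
    (hG : ∀ t ∈ G, DescP p 𝔞 t) (z : K)
    (hz : PerfectClosure.of K p z ∈ (Ideal.span G).radical) : ∃ M, z ^ p ^ M ∈ 𝔞 := by
  obtain ⟨n, w, hw, h⟩ := descP_of_mem_radical 𝔞 G hG _ hz
  rw [← map_pow, of_eq_of_iff] at h
  obtain ⟨m, hm⟩ := h
  have hp : 0 < p := (Fact.out : p.Prime).pos
  refine ⟨n + m, ?_⟩
  rw [pow_add, pow_mul, hm]
  exact Ideal.pow_mem_of_mem _ hw _ (pow_pos hp _)

end PC

end Groth.Agent.Lib.Helper92.PerfFP
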