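import Groth.Agent.Lib.Helper92.PerfFP1

set_option linter.unusedSectionVars false
set_option linter.unusedSimpArgs false
set_option linter.unusedVariables false
set_option linter.style.haveILetI false
set_option autoImplicit false
set_option linter.unnecessarySimpa false

/-!
# Step 1: a compact perfect algebra is perfectly finitely generated
-/

namespace Groth.Agent.Lib.Helper92.PerfFP

universe u

section Step1

variable {B R : Type u} [CommRing B] [CommRing R] [Algebra B R] (p : ℕ) [Fact p.Prime] [CharP R p]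

/-- The perfect hull inside `R` of the subalgebra generated by `S`. -/
def U (S : Set R) : Subalgebra B R where
  carrier := {x | ∃ n, x ^ p ^ n ∈ Algebra.adjoin B S}
  mul_mem' := by
    rintro x y ⟨n, hn⟩ ⟨m, hm⟩
    refine ⟨n + m, ?_⟩
    have h1 : x ^ p ^ (n + m) = (x ^ p ^ n) ^ p ^ m := by rw [← pow_mul, ← pow_add]
    have h2 : y ^ p ^ (n + m) = (y ^ p ^ m) ^ p ^ n := by rw [← pow_mul, ← pow_add, add_comm]
    rw [mul_pow, h1, h2]
    exact mul_mem (pow_mem hn _) (pow_mem hm _)
  add_mem' := by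
    rintro x y ⟨n, hn⟩ ⟨m, hm⟩
    refine ⟨n + m, ?_⟩
    have h1 : x ^ p ^ (n + m) = (x ^ p ^ n) ^ p ^ m := by rw [← pow_mul, ← pow_add]
    have h2 : y ^ p ^ (n + m) = (y ^ p ^ m) ^ p ^ n := by rw [← pow_mul, ← pow_add, add_comm]
    rw [add_pow_char_pow, h1, h2]
    exact add_mem (pow_mem hn _) (pow_mem hm _)
  algebraMap_mem' := by
    intro b
    exact ⟨0, by simpa using Subalgebra.algebraMap_mem _ b⟩

variable {p}

theorem mem_U {S : Set R} {x : R} : x ∈ U (B := B) p S ↔ ∃ n, x ^ p ^ n ∈ Algebra.adjoin B S :=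
  Iff.rfl

theorem U_mono {S S' : Set R} (h : S ⊆ S') : U (B := B) p S ≤ U p S' := by
  rintro x ⟨n, hn⟩
  exact ⟨n, Algebra.adjoin_mono h hn⟩

theorem mem_U_self (x : R) : x ∈ U (B := B) p ({x} : Set R) :=
  ⟨0, by simpa using Algebra.subset_adjoin (Set.mem_singleton x)⟩


/-- Transition maps. -/
def trU {S S' : Set R} (h : S ⊆ S') : ↥(U (B := B) p S) →+* ↥(U (B := B) p S') :=
  ((U (B := B) p S).val.toRingHom).codRestrict (U (B := B) p S') (fun x => U_mono h x.2)

@[simp] theorem trU_coe {S S' : Set R} (h : S ⊆ S') (x : ↥(U (B := B) p S)) :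
    ((trU h x : ↥(U (B := B) p S')) : R) = x :=
  RingHom.codRestrict_apply _ _ _ _

theorem trU_algebraMap {S S' : Set R} (h : S ⊆ S') (b : B) :
    trU h (algebraMap B ↥(U (B := B) p S) b) = algebraMap B ↥(U (B := B) p S') b :=
  Subtype.ext rfl

/-- Legs. -/
def legU (S : Set R) : ↥(U (B := B) p S) →+* R := (U (B := B) p S).val.toRingHom

@[simp] theorem legU_apply (S : Set R) (x : ↥(U (B := B) p S)) : legU S x = (x : R) := rfl

theorem legU_algebraMap (S : Set R) (b : B) :
    legU S (algebraMap B ↥(U (B := B) p S) b) = algebraMap B R b := rfl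

theorem natCast_U_eq_zero (S : Set R) : ((p : ℕ) : ↥(U (B := B) p S)) = 0 := by
  apply Subtype.ext
  push_cast
  exact CharP.cast_eq_zero R p

theorem frob_U (hRb : Function.Bijective fun y : R => y ^ p) (S : Set R) :
    Function.Bijective fun y : ↥(U (B := B) p S) => y ^ p := by
  constructor
  · intro y y' h
    apply Subtype.ext
    apply hRb.1
    exact congrArg Subtype.val h
  · intro y
    obtain ⟨z, hz⟩ := hRb.2 y.1
    obtain ⟨n, hn⟩ := y.2
    refine ⟨⟨z, ⟨n + 1, ?_⟩⟩, Subtype.ext hz⟩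
    have : z ^ p ^ (n + 1) = (z ^ p) ^ p ^ n := by rw [← pow_mul, pow_succ']
    rw [this]
    change (fun y : R => y ^ p) z = y.1 at hz
    simp only at hz
    rw [hz]
    exact hn

variable (p) (B)

/-- The system of perfect subalgebras. -/
def step1System (hRb : Function.Bijective fun y : R => y ^ p) :
    PerfSystem p (algebraMap B R) where
  J := Finset R
  T S := ↥(U (B := B) p (S : Set R))
  ψ S := algebraMap B _
  char S := natCast_U_eq_zero _
  frob S := frob_U hRb _
  tr h := trU (Finset.coe_subset.2 h)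
  tr_ψ h := RingHom.ext fun b => trU_algebraMap (Finset.coe_subset.2 h) b
  tr_id i x := Subtype.ext (trU_coe _ x)
  tr_comp h h' x := Subtype.ext (by rw [trU_coe, trU_coe, trU_coe])
  leg S := legU _
  leg_ψ S := RingHom.ext fun b => legU_algebraMap (S : Set R) b
  leg_tr h x := by rw [legU_apply, legU_apply, trU_coe]
  surj x := ⟨{x}, ⟨x, by
    have := mem_U_self (B := B) (p := p) x
    rwa [← Finset.coe_singleton] at this⟩, rfl⟩
  inj S y y' h := ⟨S, le_refl S, by
    have : y = y' := Subtype.ext h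
    rw [this]⟩

theorem exists_finset_adjoin (hRb : Function.Bijective fun y : R => y ^ p)
    (hc : Compact p (algebraMap B R)) :
    ∃ S : Finset R, ∀ x : R, ∃ n, x ^ p ^ n ∈ Algebra.adjoin B (S : Set R) := by
  obtain ⟨S, g, -, hg⟩ := hc (step1System B p hRb)
  let S' : Finset R := S
  refine ⟨S', fun x => ?_⟩
  let gx : ↥(U (B := B) p (S' : Set R)) := g x
  have h1 : ∃ n, (gx : R) ^ p ^ n ∈ Algebra.adjoin B (S' : Set R) := gx.2
  have h2 : (gx : R) = x := hg x
  rw [h2] at h1
  exact h1

end Step1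

end Groth.Agent.Lib.Helper92.PerfFP
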