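import Groth.Agent.Lib.Helper92.PerfFP3

set_option linter.unusedSectionVars false
set_option linter.unusedSimpArgs false
set_option linter.unusedVariables false
set_option linter.style.haveILetI false
set_option linter.unnecessarySimpa false
set_option autoImplicit false

/-!
# Step 2: a compact perfectly finitely generated perfect algebra is perfectly finitely presented
-/

namespace Groth.Agent.Lib.Helper92.PerfFP

universe u

section Quot

variable {Q : Type u} [CommRing Q] (p : ℕ) [Fact p.Prime] [CharP Q p] [PerfectRing Q p]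

theorem natCast_quot_eq_zero (I : Ideal Q) : ((p : ℕ) : Q ⧸ I) = 0 := by
  rw [← map_natCast (Ideal.Quotient.mk I), CharP.cast_eq_zero, map_zero]

theorem frob_quot (I : Ideal Q) (hI : I.IsRadical) :
    Function.Bijective fun y : Q ⧸ I => y ^ p := by
  constructor
  · intro y y' h
    obtain ⟨q, rfl⟩ := Ideal.Quotient.mk_surjective y
    obtain ⟨q', rfl⟩ := Ideal.Quotient.mk_surjective y'
    simp only [← map_pow] at h
    rw [Ideal.Quotient.eq] at h ⊢
    rw [← sub_pow_char] at h
    exact hI ⟨p, h⟩
  · intro y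
    obtain ⟨q, rfl⟩ := Ideal.Quotient.mk_surjective y
    obtain ⟨q', hq'⟩ := surjective_frobenius Q p q
    refine ⟨Ideal.Quotient.mk I q', ?_⟩
    simp only [← map_pow]
    rw [← frobenius_def, hq']

end Quot

section Step2

variable {B R : Type u} [CommRing B] [CommRing R] [Algebra B R] (p : ℕ) [Fact p.Prime]
  [CharP B p] [CharP R p] [PerfectRing R p]
variable {σ : Type u} (v : σ → R)

/-- The perfect polynomial ring. -/
abbrev Qv (B : Type u) [CommRing B] (p : ℕ) [Fact p.Prime] [CharP B p] (σ : Type u) : Type u :=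
  PerfectClosure (MvPolynomial σ B) p

/-- The evaluation map on the perfect polynomial ring. -/
noncomputable def rho : Qv B p σ →+* R :=
  PerfectClosure.lift (MvPolynomial σ B) p R
    (MvPolynomial.aeval v : MvPolynomial σ B →ₐ[B] R).toRingHom

theorem rho_of (a : MvPolynomial σ B) :
    rho p v (PerfectClosure.of _ p a) = MvPolynomial.aeval v a := by
  have h := (PerfectClosure.lift (MvPolynomial σ B) p R).symm_apply_apply
    (MvPolynomial.aeval v : MvPolynomial σ B →ₐ[B] R).toRingHom
  exact RingHom.congr_fun h a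

/-- The structure map of the perfect polynomial ring. -/
noncomputable def beta (B : Type u) [CommRing B] (p : ℕ) [Fact p.Prime] [CharP B p]
    (σ : Type u) : B →+* Qv B p σ :=
  (PerfectClosure.of _ p).comp MvPolynomial.C

theorem rho_beta (b : B) : rho p v (beta B p σ b) = algebraMap B R b := by
  rw [beta, RingHom.comp_apply, rho_of, MvPolynomial.aeval_C]

theorem injective_pow_p : Function.Injective fun y : R => y ^ p :=
  fun a b h => injective_frobenius R p h

theorem ker_rho_isRadical : (RingHom.ker (rho (B := B) p v)).IsRadical := by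
  intro y hy
  obtain ⟨n, hn⟩ := hy
  rw [RingHom.mem_ker] at hn ⊢
  rw [map_pow] at hn
  have hp : 1 < p := (Fact.out : p.Prime).one_lt
  have hN : n ≤ p ^ n := (Nat.lt_pow_self hp).le
  have h1 : (rho (B := B) p v y) ^ p ^ n = 0 := by
    rw [← Nat.sub_add_cancel hN, pow_add, hn, mul_zero]
  apply injective_pow_p_pow p (injective_pow_p p) n
  show (rho (B := B) p v y) ^ p ^ n = 0 ^ p ^ n
  rw [h1, zero_pow (pow_ne_zero _ (Fact.out : p.Prime).ne_zero)]

/-- The ideals of the system. -/
noncomputable def genI (T : Finset ↥(RingHom.ker (rho (B := B) p v))) : Ideal (Qv B p σ) :=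
  (Ideal.span (Subtype.val '' (T : Set ↥(RingHom.ker (rho (B := B) p v))))).radical

theorem genI_isRadical (T : Finset ↥(RingHom.ker (rho (B := B) p v))) :
    (genI p v T).IsRadical := Ideal.radical_isRadical _

theorem genI_mono {T T' : Finset ↥(RingHom.ker (rho (B := B) p v))} (h : T ≤ T') :
    genI p v T ≤ genI p v T' := by
  apply Ideal.radical_mono
  apply Ideal.span_mono
  apply Set.image_mono
  exact Finset.coe_subset.2 h

theorem genI_le_ker (T : Finset ↥(RingHom.ker (rho (B := B) p v))) :
    genI p v T ≤ RingHom.ker (rho (B := B) p v) := by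
  rw [genI, (ker_rho_isRadical p v).radical_le_iff, Ideal.span_le]
  rintro _ ⟨t, _, rfl⟩
  exact t.2

theorem mem_genI_of_mem {T : Finset ↥(RingHom.ker (rho (B := B) p v))}
    (t : ↥(RingHom.ker (rho (B := B) p v))) (ht : t ∈ T) : (t : Qv B p σ) ∈ genI p v T :=
  Ideal.le_radical (Ideal.subset_span ⟨t, Finset.mem_coe.2 ht, rfl⟩)

/-- Legs. -/
noncomputable def legQ (T : Finset ↥(RingHom.ker (rho (B := B) p v))) :
    Qv B p σ ⧸ genI p v T →+* R :=
  Ideal.Quotient.lift (genI p v T) (rho p v) (fun a ha => genI_le_ker p v T ha)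

theorem legQ_mk (T : Finset ↥(RingHom.ker (rho (B := B) p v))) (q : Qv B p σ) :
    legQ p v T (Ideal.Quotient.mk _ q) = rho p v q :=
  Ideal.Quotient.lift_mk _ _ _

theorem rho_surjective (hS : ∀ x : R, ∃ n a, MvPolynomial.aeval (R := B) v a = x ^ p ^ n) :
    Function.Surjective (rho (B := B) p v) := by
  intro x
  obtain ⟨n, a, ha⟩ := hS x
  refine ⟨PerfectClosure.mk _ p (n, a), ?_⟩
  apply injective_pow_p_pow p (injective_pow_p p) n
  show (rho (B := B) p v _) ^ p ^ n = x ^ p ^ n
  rw [← map_pow, ← iterate_frobenius, PerfectClosure.iterate_frobenius_mk, rho_of, ha]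

/-- The system of quotients of the perfect polynomial ring. -/
noncomputable def step2System
    (hS : ∀ x : R, ∃ n a, MvPolynomial.aeval (R := B) v a = x ^ p ^ n) :
    PerfSystem p (algebraMap B R) where
  J := Finset ↥(RingHom.ker (rho (B := B) p v))
  T t := Qv B p σ ⧸ genI p v t
  ψ t := (Ideal.Quotient.mk (genI p v t)).comp (beta B p σ)
  char t := natCast_quot_eq_zero p _
  frob t := frob_quot p _ (genI_isRadical p v t)
  tr h := Ideal.Quotient.factor (genI_mono p v h)
  tr_ψ h := by
    apply RingHom.ext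
    intro b
    rw [RingHom.comp_apply, RingHom.comp_apply, Ideal.Quotient.factor_mk, RingHom.comp_apply]
  tr_id i x := by
    obtain ⟨q, rfl⟩ := Ideal.Quotient.mk_surjective x
    exact Ideal.Quotient.factor_mk _ _
  tr_comp h h' x := Ideal.Quotient.factor_comp_apply _ _ _
  leg t := legQ p v t
  leg_ψ t := by
    apply RingHom.ext
    intro b
    rw [RingHom.comp_apply, RingHom.comp_apply, legQ_mk, rho_beta]
  leg_tr h x := by
    obtain ⟨q, rfl⟩ := Ideal.Quotient.mk_surjective x
    rw [Ideal.Quotient.factor_mk, legQ_mk, legQ_mk]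
  surj x := by
    obtain ⟨q, hq⟩ := rho_surjective p v hS x
    exact ⟨∅, Ideal.Quotient.mk _ q, by rw [legQ_mk, hq]⟩
  inj t y y' h := by
    classical
    obtain ⟨q, rfl⟩ := Ideal.Quotient.mk_surjective y
    obtain ⟨q', rfl⟩ := Ideal.Quotient.mk_surjective y'
    rw [legQ_mk, legQ_mk] at h
    have hk : q - q' ∈ RingHom.ker (rho (B := B) p v) := by
      rw [RingHom.mem_ker, map_sub, h, sub_self]
    refine ⟨insert (⟨q - q', hk⟩ : ↥(RingHom.ker (rho (B := B) p v))) t,
      Finset.subset_insert _ _, ?_⟩
    rw [Ideal.Quotient.factor_mk, Ideal.Quotient.factor_mk, Ideal.Quotient.eq]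
    exact mem_genI_of_mem p v ⟨q - q', hk⟩ (Finset.mem_insert_self _ _)

end Step2

end Groth.Agent.Lib.Helper92.PerfFP
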