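import Groth.Agent.Lib.Helper92.PerfFP5

set_option linter.unusedSectionVars false
set_option linter.unusedSimpArgs false
set_option linter.unusedVariables false
set_option linter.style.haveILetI false
set_option linter.unnecessarySimpa false
set_option autoImplicit false

/-!
# Step 2 (continued): the kernel is the radical of a finitely generated ideal
-/

namespace Groth.Agent.Lib.Helper92.PerfFP

universe u

section Step2

variable {B R : Type u} [CommRing B] [CommRing R] [Algebra B R] (p : ℕ) [Fact p.Prime]
  [CharP B p] [CharP R p] [PerfectRing R p]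
variable {σ : Type u} [Fintype σ] (v : σ → R)

theorem exists_finset_ker (hc : Compact p (algebraMap B R))
    (hS : ∀ x : R, ∃ n a, MvPolynomial.aeval (R := B) v a = x ^ p ^ n) :
    ∃ G : Finset (Qv B p σ), (∀ t ∈ G, rho (B := B) p v t = 0) ∧
      RingHom.ker (rho (B := B) p v) ≤ (Ideal.span (G : Set (Qv B p σ))).radical := by
  classical
  obtain ⟨T₀, g, hgψ, hg⟩ := hc (step2System p v hS)
  -- unfold the types
  let T₀' : Finset ↥(RingHom.ker (rho (B := B) p v)) := T₀
  let g' : R →+* Qv B p σ ⧸ genI p v T₀' := g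
  have hgψ' : ∀ b : B, g' (algebraMap B R b) = Ideal.Quotient.mk _ (beta B p σ b) :=
    fun b => RingHom.congr_fun hgψ b
  have hg' : ∀ x : R, legQ p v T₀' (g' x) = x := hg
  -- the variables
  let x : σ → Qv B p σ := fun s => PerfectClosure.of _ p (MvPolynomial.X s)
  have hd : ∀ s : σ, ∃ d : Qv B p σ, Ideal.Quotient.mk (genI p v T₀') d = g' (rho p v (x s)) :=
    fun s => Ideal.Quotient.mk_surjective _
  choose d hd using hd
  have hc' : ∀ s : σ, x s - d s ∈ RingHom.ker (rho (B := B) p v) := by
    intro s
    rw [RingHom.mem_ker, map_sub, sub_eq_zero]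
    have h1 := hg' (rho p v (x s))
    rw [← hd s, legQ_mk] at h1
    exact h1.symm
  let T' : Finset ↥(RingHom.ker (rho (B := B) p v)) :=
    T₀' ∪ Finset.univ.image (fun s : σ => (⟨x s - d s, hc' s⟩ : ↥(RingHom.ker (rho (B := B) p v))))
  have hT : T₀' ≤ T' := Finset.subset_union_left
  -- the two maps
  let f₁ : Qv B p σ →+* Qv B p σ ⧸ genI p v T' := Ideal.Quotient.mk _
  let f₂ : Qv B p σ →+* Qv B p σ ⧸ genI p v T' :=
    (Ideal.Quotient.factor (genI_mono p v hT)).comp (g'.comp (rho p v))
  have hf : f₁ = f₂ := by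
    apply ringHom_ext_of p (frob_quot p _ (genI_isRadical p v T')).1
    apply MvPolynomial.ringHom_ext
    · intro b
      show Ideal.Quotient.mk _ (PerfectClosure.of _ p (MvPolynomial.C b)) =
        Ideal.Quotient.factor (genI_mono p v hT) (g' (rho p v (PerfectClosure.of _ p (MvPolynomial.C b))))
      rw [rho_of, MvPolynomial.aeval_C, hgψ', Ideal.Quotient.factor_mk]
      rfl
    · intro s
      show Ideal.Quotient.mk _ (x s) =
        Ideal.Quotient.factor (genI_mono p v hT) (g' (rho p v (x s)))
      rw [← hd s, Ideal.Quotient.factor_mk, Ideal.Quotient.eq]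
      exact mem_genI_of_mem p v ⟨x s - d s, hc' s⟩
        (Finset.mem_union_right _ (Finset.mem_image_of_mem _ (Finset.mem_univ s)))
  refine ⟨T'.image Subtype.val, ?_, ?_⟩
  · intro t ht
    obtain ⟨t', _, rfl⟩ := Finset.mem_image.1 ht
    exact t'.2
  · intro z hz
    have h1 : f₁ z = f₂ z := by rw [hf]
    have h2 : f₂ z = 0 := by
      show Ideal.Quotient.factor (genI_mono p v hT) (g' (rho p v z)) = 0
      rw [RingHom.mem_ker] at hz
      rw [hz, map_zero, map_zero]
    rw [h2] at h1
    have h3 : z ∈ genI p v T' := Ideal.Quotient.eq_zero_iff_mem.1 h1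
    rw [Finset.coe_image]
    exact h3

end Step2

end Groth.Agent.Lib.Helper92.PerfFP
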