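import Groth.Agent.Lib.Helper92.PerfFP4
import Groth.Agent.Lib.Helper92.PerfFP6

set_option linter.unusedSectionVars false
set_option linter.unusedSimpArgs false
set_option linter.unusedVariables false
set_option linter.style.haveILetI false
set_option linter.unnecessarySimpa false
set_option autoImplicit false

/-!
# Compact perfect algebras are perfectly finitely presented
-/

namespace Groth.Agent.Lib.Helper92.PerfFP

universe u

theorem exists_model_of_subsingleton {B R : Type u} [CommRing B] [CommRing R] [Algebra B R]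
    (p : ℕ) [Subsingleton R] :
    ∃ (A₀ : Type u) (_ : CommRing A₀) (_ : Algebra B A₀) (_ : Algebra.FinitePresentation B A₀)
      (k : A₀ →+* R), k.comp (algebraMap B A₀) = algebraMap B R ∧ IsPRadical k p := by
  haveI : Subsingleton (B ⧸ (⊤ : Ideal B)) := Ideal.Quotient.subsingleton_iff.2 rfl
  refine ⟨B ⧸ (⊤ : Ideal B), inferInstance, inferInstance, ?_,
    Ideal.Quotient.lift ⊤ (algebraMap B R) (fun a _ => Subsingleton.elim _ _), ?_, ?_⟩
  · exact Algebra.FinitePresentation.quotient ⟨{1}, by simp⟩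
  · ext b
    exact Subsingleton.elim _ _
  · exact ⟨fun x => ⟨0, 0, Subsingleton.elim _ _⟩,
      fun x _ => (mem_pNilradical).2 ⟨0, Subsingleton.elim _ _⟩⟩

theorem exists_model {B R : Type u} [CommRing B] [CommRing R] [Algebra B R] (p : ℕ)
    [Fact p.Prime] [CharP B p]
    (hR0 : (p : R) = 0) (hRb : Function.Bijective fun y : R => y ^ p)
    (hc : Compact p (algebraMap B R)) :
    ∃ (A₀ : Type u) (_ : CommRing A₀) (_ : Algebra B A₀) (_ : Algebra.FinitePresentation B A₀)
      (k : A₀ →+* R), k.comp (algebraMap B A₀) = algebraMap B R ∧ IsPRadical k p := by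
  classical
  rcases subsingleton_or_nontrivial R with hsub | hnt
  · exact exists_model_of_subsingleton p
  haveI : CharP R p := (CharP.charP_iff_prime_eq_zero (Fact.out : p.Prime)).2 hR0
  haveI : PerfectRing R p := ⟨hRb⟩
  obtain ⟨S, hS⟩ := exists_finset_adjoin B p hRb hc
  -- the polynomial ring
  let v : ↥S → R := Subtype.val
  have hS' : ∀ x : R, ∃ n a, MvPolynomial.aeval (R := B) v a = x ^ p ^ n := by
    intro x
    obtain ⟨n, hn⟩ := hS x
    have h1 : Algebra.adjoin B (S : Set R) = (MvPolynomial.aeval (R := B) v).range := by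
      rw [← Algebra.adjoin_range_eq_range_aeval]
      congr 1
      exact (Subtype.range_coe).symm
    rw [h1] at hn
    obtain ⟨a, ha⟩ := hn
    exact ⟨n, a, ha⟩
  obtain ⟨G, hG0, hGK⟩ := exists_finset_ker p v hc hS'
  choose n F hF using fun t : Qv B p ↥S => exists_pow_eq_of p t
  let 𝔞 : Ideal (MvPolynomial ↥S B) := Ideal.span ((G.image F : Finset _) : Set (MvPolynomial ↥S B))
  have h𝔞 : ∀ a ∈ 𝔞, MvPolynomial.aeval (R := B) v a = 0 := by
    intro a ha
    have : 𝔞 ≤ RingHom.ker (MvPolynomial.aeval (R := B) v).toRingHom := by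
      rw [Ideal.span_le]
      intro a ha
      obtain ⟨t, ht, rfl⟩ := Finset.mem_image.1 (Finset.mem_coe.1 ha)
      show MvPolynomial.aeval (R := B) v (F t) = 0
      rw [← rho_of p v, ← hF t, map_pow, hG0 t ht,
        zero_pow (pow_ne_zero _ (Fact.out : p.Prime).ne_zero)]
    exact this ha
  have hGdesc : ∀ t ∈ (G : Set (Qv B p ↥S)), DescP p 𝔞 t := by
    intro t ht
    exact ⟨n t, F t, Ideal.subset_span (Finset.mem_coe.2 (Finset.mem_image_of_mem F ht)), hF t⟩
  refine ⟨MvPolynomial ↥S B ⧸ 𝔞, inferInstance, inferInstance, ?_,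
    Ideal.Quotient.lift 𝔞 (MvPolynomial.aeval (R := B) v).toRingHom h𝔞, ?_, ?_⟩
  · exact Algebra.FinitePresentation.quotient ⟨G.image F, rfl⟩
  · ext b
    rw [RingHom.comp_apply]
    have : algebraMap B (MvPolynomial ↥S B ⧸ 𝔞) b
        = Ideal.Quotient.mk 𝔞 (algebraMap B (MvPolynomial ↥S B) b) := rfl
    rw [this, Ideal.Quotient.lift_mk]
    exact (MvPolynomial.aeval (R := B) v).commutes b
  · refine ⟨?_, ?_⟩
    · intro x
      obtain ⟨m, a, ha⟩ := hS' x
      exact ⟨m, Ideal.Quotient.mk 𝔞 a, by rw [Ideal.Quotient.lift_mk]; exact ha⟩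
    · intro z hz
      obtain ⟨a, rfl⟩ := Ideal.Quotient.mk_surjective z
      rw [RingHom.mem_ker, Ideal.Quotient.lift_mk] at hz
      have h1 : PerfectClosure.of _ p a ∈ RingHom.ker (rho (B := B) p v) := by
        rw [RingHom.mem_ker, rho_of]
        exact hz
      obtain ⟨M, hM⟩ := pow_mem_of_of_mem_radical 𝔞 (G : Set (Qv B p ↥S)) hGdesc a (hGK h1)
      rw [mem_pNilradical]
      refine ⟨M, ?_⟩
      rw [← map_pow]
      exact Ideal.Quotient.eq_zero_iff_mem.2 hM

end Groth.Agent.Lib.Helper92.PerfFP
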