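import Mathlib
import Groth.Prelude.Def_W4c5quivmodgenus0Quiv

/-!
# Lemmas for the quivers `Q`, `P` of `PtQuiv` (helper92)
-/

set_option autoImplicit false
set_option linter.unusedSectionVars false
universe u v

namespace Groth.Agent.Lib.Helper92.PQ

open PtQuiv

variable {K : Type u} [Field K] {κ : Type v} [Fintype κ] [DecidableEq κ] (a b : κ) (hab : a ≠ b)
  (s : κ → (Fin 2 → K)) (θ : κ → ℚ)

/-- the embedding of the complement of `{a, b}` -/
def emb : {i : κ // i ≠ a ∧ i ≠ b} ↪ κ := Function.Embedding.subtype _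

/-- push a finset of the complement forward -/
def up (I' : Finset {i : κ // i ≠ a ∧ i ≠ b}) : Finset κ := I'.map (emb a b)

/-- restrict a finset to the complement -/
def down (I : Finset κ) : Finset {i : κ // i ≠ a ∧ i ≠ b} := I.subtype (fun i => i ≠ a ∧ i ≠ b)

theorem mem_up (I' : Finset {i : κ // i ≠ a ∧ i ≠ b}) (i : κ) :
    i ∈ up a b I' ↔ ∃ h : i ≠ a ∧ i ≠ b, (⟨i, h⟩ : {i : κ // i ≠ a ∧ i ≠ b}) ∈ I' := by
  unfold up emb
  rw [Finset.mem_map]
  constructor
  · rintro ⟨x, hx, rfl⟩
    exact ⟨x.2, hx⟩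
  · rintro ⟨h, hx⟩
    exact ⟨⟨i, h⟩, hx, rfl⟩

theorem a_not_mem_up (I' : Finset {i : κ // i ≠ a ∧ i ≠ b}) : a ∉ up a b I' := by
  rw [mem_up]
  rintro ⟨h, _⟩
  exact h.1 rfl

theorem b_not_mem_up (I' : Finset {i : κ // i ≠ a ∧ i ≠ b}) : b ∉ up a b I' := by
  rw [mem_up]
  rintro ⟨h, _⟩
  exact h.2 rfl

theorem sum_up (I' : Finset {i : κ // i ≠ a ∧ i ≠ b}) :
    ∑ i ∈ up a b I', θ i = ∑ i ∈ I', θ i.1 := by
  unfold up
  rw [Finset.sum_map]
  rfl

theorem mem_down (I : Finset κ) (i : {i : κ // i ≠ a ∧ i ≠ b}) : i ∈ down a b I ↔ i.1 ∈ I := by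
  unfold down
  rw [Finset.mem_subtype]

include hab in
theorem sum_split (I : Finset κ) :
    ∑ i ∈ I, θ i = ∑ i ∈ down a b I, θ i.1 + (if a ∈ I then θ a else 0) +
      (if b ∈ I then θ b else 0) := by
  unfold down
  rw [Finset.sum_subtype_eq_sum_filter]
  have h1 : ∑ i ∈ I, θ i = ∑ i ∈ I.filter (fun i => i ≠ a ∧ i ≠ b), θ i +
      ∑ i ∈ I.filter (fun i => ¬ (i ≠ a ∧ i ≠ b)), θ i :=
    (Finset.sum_filter_add_sum_filter_not I _ _).symm
  rw [h1, add_assoc]
  congr 1
  have h2 : I.filter (fun i => ¬ (i ≠ a ∧ i ≠ b)) =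
      (if a ∈ I then {a} else ∅) ∪ (if b ∈ I then {b} else ∅) := by
    ext i
    simp only [Finset.mem_filter, Finset.mem_union]
    constructor
    · rintro ⟨hi, hn⟩
      by_cases hia : i = a
      · left; subst hia; rw [if_pos hi]; exact Finset.mem_singleton_self _
      · have hib : i = b := by
          by_contra hib
          exact hn ⟨hia, hib⟩
        right; subst hib; rw [if_pos hi]; exact Finset.mem_singleton_self _
    · rintro (h | h)
      · split_ifs at h with ha
        · rw [Finset.mem_singleton] at h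
          subst h
          exact ⟨ha, fun hh => hh.1 rfl⟩
        · exact absurd h (Finset.notMem_empty _)
      · split_ifs at h with hb
        · rw [Finset.mem_singleton] at h
          subst h
          exact ⟨hb, fun hh => hh.2 rfl⟩
        · exact absurd h (Finset.notMem_empty _)
  rw [h2, Finset.sum_union]
  · congr 1
    · split_ifs <;> simp
    · split_ifs <;> simp
  · rw [Finset.disjoint_left]
    intro i h1 h2
    split_ifs at h1 with ha
    · split_ifs at h2 with hb
      · rw [Finset.mem_singleton] at h1 h2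
        exact hab (h1.symm.trans h2)
      · exact absurd h2 (Finset.notMem_empty _)
    · exact absurd h1 (Finset.notMem_empty _)

theorem submodule_bot_or_top (U : Submodule K K) : U = ⊥ ∨ U = ⊤ :=
  Ideal.eq_bot_or_top U

theorem finrank_top_KK : Module.finrank K (⊤ : Submodule K K) = 1 := by
  rw [finrank_top, Module.finrank_self]

theorem finrank_bot_KK : Module.finrank K (⊥ : Submodule K K) = 0 := finrank_bot K K

theorem finrank_top_K2 : Module.finrank K (⊤ : Submodule K (Fin 2 → K)) = 2 := by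
  rw [finrank_top, Module.finrank_fin_fun]

/-- the simplified `P`-weight -/
noncomputable def pw (U : Fin 2 → Submodule K K) (I' : Finset {i : κ // i ≠ a ∧ i ≠ b}) : ℚ :=
  (θ a - 1) * (Module.finrank K (U 0) : ℚ) + (θ b - 1) * (Module.finrank K (U 1) : ℚ) +
    ∑ i ∈ I', θ i.1

theorem PWt_eq (c : ℚ) (U : Fin 2 → Submodule K K) (I' : Finset {i : κ // i ≠ a ∧ i ≠ b}) :
    PWt K ![c * (θ a - 1), c * (θ b - 1)] (fun i : {i : κ // i ≠ a ∧ i ≠ b} => c * θ i.1) U I' =
      c * pw a b θ U I' := by
  unfold PWt pw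
  rw [Fin.sum_univ_two, ← Finset.mul_sum]
  simp only [Matrix.cons_val_zero, Matrix.cons_val_one]
  ring

theorem QWt_eq (L : Submodule K (Fin 2 → K)) (I : Finset κ) :
    QWt K (-1) θ L I = - (Module.finrank K L : ℚ) + ∑ i ∈ I, θ i := by
  unfold QWt
  ring


theorem up_eq_empty (I' : Finset {i : κ // i ≠ a ∧ i ≠ b}) (h : up a b I' = ∅) : I' = ∅ := by
  unfold up at h
  exact Finset.map_eq_empty.mp h

theorem pi_eq_bot (U : Fin 2 → Submodule K K) (h0 : U 0 = ⊥) (h1 : U 1 = ⊥) : U = ⊥ := by
  funext j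
  fin_cases j
  · exact h0
  · exact h1

theorem pi_eq_top (U : Fin 2 → Submodule K K) (h0 : U 0 = ⊤) (h1 : U 1 = ⊤) : U = ⊤ := by
  funext j
  fin_cases j
  · exact h0
  · exact h1

theorem KK_bot_ne_top : (⊥ : Submodule K K) ≠ ⊤ := bot_ne_top

theorem K2_bot_ne_top : (⊥ : Submodule K (Fin 2 → K)) ≠ ⊤ := bot_ne_top

theorem span_singleton_ne_top (v : Fin 2 → K) (hv : v ≠ 0) : Submodule.span K {v} ≠ ⊤ := by
  intro h
  have h1 := finrank_span_singleton (K := K) hv
  rw [h, finrank_top_K2] at h1
  exact absurd h1 (by norm_num)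

include hab in
/-- From a subrepresentation of `t` (quiver `P`) to a subrepresentation of `s` (quiver `Q`)
of the same weight. -/
theorem exists_Q_of_P (hsa : s a ≠ 0) (hsb : s b ≠ 0)
    (t : {i : κ // i ≠ a ∧ i ≠ b} → (Fin 2 → K))
    (ht : ∀ i, s i.1 = t i 0 • s a + t i 1 • s b)
    (U : Fin 2 → Submodule K K) (I' : Finset {i : κ // i ≠ a ∧ i ≠ b}) (hU : PSubrep t U I') :
    ∃ (L : Submodule K (Fin 2 → K)) (I : Finset κ), QSubrep s L I ∧
      QWt K (-1) θ L I = pw a b θ U I' ∧
      ((L = ⊥ ∧ I = ∅) → (U = ⊥ ∧ I' = ∅)) ∧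
      ((L = ⊤ ∧ I = Finset.univ) → (U = ⊤ ∧ I' = Finset.univ)) := by
  have hsi : ∀ i ∈ up a b I', ∃ h : i ≠ a ∧ i ≠ b, t ⟨i, h⟩ 0 ∈ U 0 ∧ t ⟨i, h⟩ 1 ∈ U 1 ∧
      s i = t ⟨i, h⟩ 0 • s a + t ⟨i, h⟩ 1 • s b := by
    intro i hi
    obtain ⟨h, hm⟩ := (mem_up a b I' i).1 hi
    exact ⟨h, hU _ hm 0, hU _ hm 1, ht ⟨i, h⟩⟩
  rcases submodule_bot_or_top (U 0) with h0 | h0 <;> rcases submodule_bot_or_top (U 1) with h1 | h1
  · -- (⊥, ⊥)
    refine ⟨⊥, up a b I', ?_, ?_, ?_, ?_⟩
    · intro i hi
      obtain ⟨h, m0, m1, e⟩ := hsi i hi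
      rw [h0, Submodule.mem_bot] at m0
      rw [h1, Submodule.mem_bot] at m1
      rw [e, m0, m1, zero_smul, zero_smul, add_zero]
      exact Submodule.zero_mem _
    · rw [QWt_eq, pw, h0, h1, finrank_bot, finrank_bot_KK, sum_up]
      simp
    · rintro ⟨-, hI⟩
      exact ⟨pi_eq_bot U h0 h1, up_eq_empty a b I' hI⟩
    · rintro ⟨hL, -⟩
      exact absurd hL K2_bot_ne_top
  · -- (⊥, ⊤)
    refine ⟨Submodule.span K {s b}, insert b (up a b I'), ?_, ?_, ?_, ?_⟩
    · intro i hi
      rw [Finset.mem_insert] at hi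
      rcases hi with rfl | hi
      · exact Submodule.mem_span_singleton_self _
      · obtain ⟨h, m0, m1, e⟩ := hsi i hi
        rw [h0, Submodule.mem_bot] at m0
        rw [e, m0, zero_smul, zero_add]
        exact Submodule.smul_mem _ _ (Submodule.mem_span_singleton_self _)
    · rw [QWt_eq, pw, h0, h1, finrank_span_singleton hsb, finrank_bot_KK, finrank_top_KK,
        Finset.sum_insert (b_not_mem_up a b I'), sum_up]
      push_cast
      ring
    · rintro ⟨hL, -⟩
      rw [Submodule.span_singleton_eq_bot] at hL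
      exact absurd hL hsb
    · rintro ⟨hL, -⟩
      exact absurd hL (span_singleton_ne_top _ hsb)
  · -- (⊤, ⊥)
    refine ⟨Submodule.span K {s a}, insert a (up a b I'), ?_, ?_, ?_, ?_⟩
    · intro i hi
      rw [Finset.mem_insert] at hi
      rcases hi with rfl | hi
      · exact Submodule.mem_span_singleton_self _
      · obtain ⟨h, m0, m1, e⟩ := hsi i hi
        rw [h1, Submodule.mem_bot] at m1
        rw [e, m1, zero_smul, add_zero]
        exact Submodule.smul_mem _ _ (Submodule.mem_span_singleton_self _)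
    · rw [QWt_eq, pw, h0, h1, finrank_span_singleton hsa, finrank_bot_KK, finrank_top_KK,
        Finset.sum_insert (a_not_mem_up a b I'), sum_up]
      push_cast
      ring
    · rintro ⟨hL, -⟩
      rw [Submodule.span_singleton_eq_bot] at hL
      exact absurd hL hsa
    · rintro ⟨hL, -⟩
      exact absurd hL (span_singleton_ne_top _ hsa)
  · -- (⊤, ⊤)
    refine ⟨⊤, insert a (insert b (up a b I')), ?_, ?_, ?_, ?_⟩
    · intro i _
      exact Submodule.mem_top
    · have hnot : a ∉ insert b (up a b I') := by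
        rw [Finset.mem_insert]
        rintro (h | h)
        · exact hab h
        · exact a_not_mem_up a b I' h
      rw [QWt_eq, pw, h0, h1, finrank_top_K2, finrank_top_KK,
        Finset.sum_insert hnot, Finset.sum_insert (b_not_mem_up a b I'), sum_up]
      push_cast
      ring
    · rintro ⟨hL, -⟩
      exact absurd hL.symm K2_bot_ne_top
    · rintro ⟨-, hI⟩
      refine ⟨pi_eq_top U h0 h1, ?_⟩
      rw [Finset.eq_univ_iff_forall]
      intro i
      have hi : i.1 ∈ insert a (insert b (up a b I')) := by rw [hI]; exact Finset.mem_univ _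
      rw [Finset.mem_insert, Finset.mem_insert] at hi
      rcases hi with h | h | h
      · exact absurd h i.2.1
      · exact absurd h i.2.2
      · obtain ⟨_, hm⟩ := (mem_up a b I' i.1).1 h
        exact hm


theorem down_univ : down a b (Finset.univ : Finset κ) = Finset.univ := by
  ext i
  rw [mem_down]
  simp

include hab in
theorem sum_down_le (h0 : ∀ i, 0 ≤ θ i) (h2 : ∑ i, θ i = 2) (I : Finset κ) :
    ∑ i ∈ down a b I, θ i.1 ≤ 2 - θ a - θ b := by
  have h := sum_split a b hab θ (Finset.univ : Finset κ)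
  rw [down_univ, if_pos (Finset.mem_univ a), if_pos (Finset.mem_univ b), h2] at h
  have hle : ∑ i ∈ down a b I, θ i.1 ≤ ∑ i : {i : κ // i ≠ a ∧ i ≠ b}, θ i.1 :=
    Finset.sum_le_univ_sum_of_nonneg (fun i => h0 i.1)
  linarith

theorem finrank_pos_of_ne_bot (L : Submodule K (Fin 2 → K)) (hL : L ≠ ⊥) :
    1 ≤ Module.finrank K L := by
  rw [Nat.one_le_iff_ne_zero]
  intro h
  exact hL (Submodule.finrank_eq_zero.mp h)

theorem finrank_le_one_of_ne_top (L : Submodule K (Fin 2 → K)) (hL : L ≠ ⊤) :
    Module.finrank K L ≤ 1 := by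
  have := Submodule.finrank_lt hL
  rw [Module.finrank_fin_fun] at this
  omega

theorem ite_le_of_nonneg (P : Prop) [Decidable P] (x : ℚ) (hx : 0 ≤ x) : (if P then x else 0) ≤ x := by
  split_ifs
  · exact le_refl _
  · exact hx

include hab in
/-- From a subrepresentation of `s` (quiver `Q`) to a subrepresentation of `t` (quiver `P`)
of at least the same weight, unless the weight is negative. -/
theorem exists_P_of_Q (hli : LinearIndependent K ![s a, s b])
    (t : {i : κ // i ≠ a ∧ i ≠ b} → (Fin 2 → K))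
    (ht : ∀ i, s i.1 = t i 0 • s a + t i 1 • s b)
    (h0 : ∀ i, 0 ≤ θ i) (h1 : ∀ i, θ i ≤ 1) (h2 : ∑ i, θ i = 2) (hθ : 1 < θ a + θ b)
    (L : Submodule K (Fin 2 → K)) (I : Finset κ) (hLI : QSubrep s L I) :
    QWt K (-1) θ L I < 0 ∨
    ∃ (U : Fin 2 → Submodule K K) (I' : Finset {i : κ // i ≠ a ∧ i ≠ b}), PSubrep t U I' ∧
      QWt K (-1) θ L I ≤ pw a b θ U I' ∧
      ((U = ⊥ ∧ I' = ∅) → (L = ⊥ ∧ I = ∅)) ∧
      ((U = ⊤ ∧ I' = Finset.univ) → QWt K (-1) θ L I = pw a b θ U I' →
        (L = ⊤ ∧ I = Finset.univ)) := by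
  have hsa : s a ≠ 0 := hli.ne_zero 0
  have hsb : s b ≠ 0 := hli.ne_zero 1
  have hpair := LinearIndependent.pair_iff.mp hli
  have hθa : 0 < θ a := by have := h1 b; linarith
  have hθb : 0 < θ b := by have := h1 a; linarith
  have htop : s a ∈ L → s b ∈ L → L = ⊤ := by
    intro ha hb
    have hspan : Submodule.span K (Set.range ![s a, s b]) = ⊤ :=
      hli.span_eq_top_of_card_eq_finrank' (by simp)
    rw [eq_top_iff, ← hspan, Submodule.span_le]
    rintro _ ⟨j, rfl⟩
    fin_cases j
    · exact ha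
    · exact hb
  have hsplit := sum_split a b hab θ I
  have hdown := sum_down_le a b hab θ h0 h2 I
  by_cases ha : s a ∈ L <;> by_cases hb : s b ∈ L
  · -- both
    right
    have hL := htop ha hb
    refine ⟨⊤, down a b I, ?_, ?_, ?_, ?_⟩
    · intro i _ j
      exact Submodule.mem_top
    · rw [QWt_eq, pw, hL, finrank_top_K2]
      show _ ≤ (θ a - 1) * (Module.finrank K (⊤ : Submodule K K) : ℚ) +
        (θ b - 1) * (Module.finrank K (⊤ : Submodule K K) : ℚ) + _
      rw [finrank_top_KK, hsplit]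
      have e1 := ite_le_of_nonneg (a ∈ I) (θ a) hθa.le
      have e2 := ite_le_of_nonneg (b ∈ I) (θ b) hθb.le
      push_cast
      linarith
    · rintro ⟨hU, -⟩
      have : (⊤ : Submodule K K) = ⊥ := congrFun hU 0
      exact absurd this.symm KK_bot_ne_top
    · rintro ⟨-, hI'⟩ hw
      refine ⟨hL, ?_⟩
      rw [QWt_eq, pw, hL, finrank_top_K2] at hw
      change _ = (θ a - 1) * (Module.finrank K (⊤ : Submodule K K) : ℚ) +
        (θ b - 1) * (Module.finrank K (⊤ : Submodule K K) : ℚ) + _ at hw
      rw [finrank_top_KK, hsplit] at hw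
      have haI : a ∈ I := by
        by_contra hcon
        rw [if_neg hcon] at hw
        have e2 := ite_le_of_nonneg (b ∈ I) (θ b) hθb.le
        push_cast at hw
        linarith
      have hbI : b ∈ I := by
        by_contra hcon
        rw [if_neg hcon] at hw
        have e1 := ite_le_of_nonneg (a ∈ I) (θ a) hθa.le
        push_cast at hw
        linarith
      rw [Finset.eq_univ_iff_forall]
      intro i
      by_cases hia : i = a
      · rw [hia]; exact haI
      by_cases hib : i = b
      · rw [hib]; exact hbI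
      have : (⟨i, hia, hib⟩ : {i : κ // i ≠ a ∧ i ≠ b}) ∈ down a b I := by
        rw [hI']; exact Finset.mem_univ _
      exact (mem_down a b I _).1 this
  · -- s a ∈ L, s b ∉ L
    right
    have hbI : b ∉ I := fun h => hb (hLI b h)
    have hLtop : L ≠ ⊤ := fun h => hb (h ▸ Submodule.mem_top)
    have hLbot : L ≠ ⊥ := fun h => hsa (by rw [h, Submodule.mem_bot] at ha; exact ha)
    have hrank : Module.finrank K L = 1 :=
      le_antisymm (finrank_le_one_of_ne_top L hLtop) (finrank_pos_of_ne_bot L hLbot)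
    refine ⟨![⊤, ⊥], down a b I, ?_, ?_, ?_, ?_⟩
    · intro i hi j
      fin_cases j
      · exact Submodule.mem_top
      · show t i 1 ∈ (⊥ : Submodule K K)
        rw [Submodule.mem_bot]
        by_contra hne
        have hs : s i.1 ∈ L := hLI _ ((mem_down a b I i).1 hi)
        rw [ht i] at hs
        have h3 : t i 1 • s b ∈ L := by
          have := L.sub_mem hs (L.smul_mem (t i 0) ha)
          rwa [add_sub_cancel_left] at this
        have h4 := L.smul_mem (t i 1)⁻¹ h3
        rw [smul_smul, inv_mul_cancel₀ hne, one_smul] at h4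
        exact hb h4
    · rw [QWt_eq, pw, hrank, hsplit, if_neg hbI]
      show _ ≤ (θ a - 1) * (Module.finrank K (⊤ : Submodule K K) : ℚ) +
        (θ b - 1) * (Module.finrank K (⊥ : Submodule K K) : ℚ) + _
      rw [finrank_top_KK, finrank_bot_KK]
      have e1 := ite_le_of_nonneg (a ∈ I) (θ a) hθa.le
      push_cast
      linarith
    · rintro ⟨hU, -⟩
      have : (⊤ : Submodule K K) = ⊥ := congrFun hU 0
      exact absurd this.symm KK_bot_ne_top
    · rintro ⟨hU, -⟩
      have : (⊥ : Submodule K K) = ⊤ := congrFun hU 1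
      exact absurd this KK_bot_ne_top
  · -- s a ∉ L, s b ∈ L
    right
    have haI : a ∉ I := fun h => ha (hLI a h)
    have hLtop : L ≠ ⊤ := fun h => ha (h ▸ Submodule.mem_top)
    have hLbot : L ≠ ⊥ := fun h => hsb (by rw [h, Submodule.mem_bot] at hb; exact hb)
    have hrank : Module.finrank K L = 1 :=
      le_antisymm (finrank_le_one_of_ne_top L hLtop) (finrank_pos_of_ne_bot L hLbot)
    refine ⟨![⊥, ⊤], down a b I, ?_, ?_, ?_, ?_⟩
    · intro i hi j
      fin_cases j
      · show t i 0 ∈ (⊥ : Submodule K K)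
        rw [Submodule.mem_bot]
        by_contra hne
        have hs : s i.1 ∈ L := hLI _ ((mem_down a b I i).1 hi)
        rw [ht i] at hs
        have h3 : t i 0 • s a ∈ L := by
          have := L.sub_mem hs (L.smul_mem (t i 1) hb)
          rwa [add_sub_cancel_right] at this
        have h4 := L.smul_mem (t i 0)⁻¹ h3
        rw [smul_smul, inv_mul_cancel₀ hne, one_smul] at h4
        exact ha h4
      · exact Submodule.mem_top
    · rw [QWt_eq, pw, hrank, hsplit, if_neg haI]
      show _ ≤ (θ a - 1) * (Module.finrank K (⊥ : Submodule K K) : ℚ) +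
        (θ b - 1) * (Module.finrank K (⊤ : Submodule K K) : ℚ) + _
      rw [finrank_top_KK, finrank_bot_KK]
      have e1 := ite_le_of_nonneg (b ∈ I) (θ b) hθb.le
      push_cast
      linarith
    · rintro ⟨hU, -⟩
      have : (⊤ : Submodule K K) = ⊥ := congrFun hU 1
      exact absurd this.symm KK_bot_ne_top
    · rintro ⟨hU, -⟩
      have : (⊥ : Submodule K K) = ⊤ := congrFun hU 0
      exact absurd this KK_bot_ne_top
  · -- neither
    have haI : a ∉ I := fun h => ha (hLI a h)
    have hbI : b ∉ I := fun h => hb (hLI b h)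
    rw [if_neg haI, if_neg hbI, add_zero, add_zero] at hsplit
    by_cases hL : L = ⊥
    · right
      refine ⟨⊥, down a b I, ?_, ?_, ?_, ?_⟩
      · intro i hi j
        have hs : s i.1 ∈ L := hLI _ ((mem_down a b I i).1 hi)
        rw [hL, Submodule.mem_bot, ht i] at hs
        obtain ⟨e0, e1⟩ := hpair _ _ hs
        show t i j ∈ (⊥ : Submodule K K)
        rw [Submodule.mem_bot]
        fin_cases j
        · exact e0
        · exact e1
      · rw [QWt_eq, pw, hL, finrank_bot, hsplit]
        show _ ≤ (θ a - 1) * (Module.finrank K (⊥ : Submodule K K) : ℚ) +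
          (θ b - 1) * (Module.finrank K (⊥ : Submodule K K) : ℚ) + _
        rw [finrank_bot_KK]
        simp
      · rintro ⟨-, hI'⟩
        refine ⟨hL, ?_⟩
        rw [Finset.eq_empty_iff_forall_notMem]
        intro i hi
        have hia : i ≠ a := fun h => haI (h ▸ hi)
        have hib : i ≠ b := fun h => hbI (h ▸ hi)
        have : (⟨i, hia, hib⟩ : {i : κ // i ≠ a ∧ i ≠ b}) ∈ down a b I :=
          (mem_down a b I _).2 hi
        rw [hI'] at this
        exact absurd this (Finset.notMem_empty _)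
      · rintro ⟨hU, -⟩
        have : (⊥ : Submodule K K) = ⊤ := congrFun hU 0
        exact absurd this KK_bot_ne_top
    · left
      have hr := finrank_pos_of_ne_bot L hL
      rw [QWt_eq, hsplit]
      have : (1 : ℚ) ≤ (Module.finrank K L : ℚ) := by exact_mod_cast hr
      linarith


include hab in
theorem sum_compl (h2 : ∑ i, θ i = 2) :
    ∑ i : {i : κ // i ≠ a ∧ i ≠ b}, θ i.1 = 2 - θ a - θ b := by
  have h := sum_split a b hab θ (Finset.univ : Finset κ)
  rw [down_univ, if_pos (Finset.mem_univ a), if_pos (Finset.mem_univ b), h2] at h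
  linarith

/-- coordinates in the basis `s a, s b` -/
theorem exists_coords (hli : LinearIndependent K ![s a, s b]) :
    ∃ t : {i : κ // i ≠ a ∧ i ≠ b} → (Fin 2 → K), ∀ i, s i.1 = t i 0 • s a + t i 1 • s b := by
  let B := basisOfLinearIndependentOfCardEqFinrank hli (by simp)
  have hB : ⇑B = ![s a, s b] := coe_basisOfLinearIndependentOfCardEqFinrank hli _
  refine ⟨fun i j => B.repr (s i.1) j, fun i => ?_⟩
  have := B.sum_repr (s i.1)
  rw [Fin.sum_univ_two, hB] at this
  exact this.symm

include hab in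
/-- total weight of the `P`-side -/
theorem P_total (h2 : ∑ i, θ i = 2) (c : ℚ) :
    (∑ j, ![c * (θ a - 1), c * (θ b - 1)] j) +
      ∑ i : {i : κ // i ≠ a ∧ i ≠ b}, c * θ i.1 = 0 := by
  rw [Fin.sum_univ_two, ← Finset.mul_sum, sum_compl a b hab θ h2]
  simp only [Matrix.cons_val_zero, Matrix.cons_val_one]
  ring

include hab in
/-- semistability on the `Q`-side forces `s a`, `s b` to be independent -/
theorem li_of_Qsemistable (hθ : 1 < θ a + θ b) (hQ : QSemistable (-1) θ s) :
    LinearIndependent K ![s a, s b] := by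
  by_contra hnot
  have hr : Module.finrank K (Submodule.span K (Set.range ![s a, s b])) ≤ 1 := by
    by_contra hgt
    push Not at hgt
    have hle : Module.finrank K (Submodule.span K (Set.range ![s a, s b])) ≤ 2 := by
      have := finrank_range_le_card (R := K) ![s a, s b]
      rw [Fintype.card_fin] at this
      exact this
    have h2' : Module.finrank K (Submodule.span K (Set.range ![s a, s b])) = 2 :=
      le_antisymm hle hgt
    apply hnot
    rw [linearIndependent_iff_card_eq_finrank_span, Fintype.card_fin]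
    exact h2'.symm
  have hsub : QSubrep s (Submodule.span K (Set.range ![s a, s b])) {a, b} := by
    intro i hi
    rw [Finset.mem_insert, Finset.mem_singleton] at hi
    rcases hi with rfl | rfl
    · exact Submodule.subset_span ⟨0, rfl⟩
    · exact Submodule.subset_span ⟨1, rfl⟩
  have := hQ.2 _ _ hsub
  rw [QWt_eq, Finset.sum_pair hab] at this
  have hr' : (Module.finrank K (Submodule.span K (Set.range ![s a, s b])) : ℚ) ≤ 1 := by
    exact_mod_cast hr
  linarith

end Groth.Agent.Lib.Helper92.PQ
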