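import Mathlib
import Groth.Agent.S12915

/-!
# Binary forms: the multiplication pairing and trisecants of rational quintics
-/

namespace Groth.Agent.Lib.Helper92.RatQuintic
open MvPolynomial Module

universe u
variable {K : Type u} [Field K]

/-- binary forms of degree `n` -/
abbrev P (K : Type u) [Field K] (n : ℕ) : Submodule K (MvPolynomial (Fin 2) K) :=
  homogeneousSubmodule (Fin 2) K n

lemma finrank_P (n : ℕ) : finrank K (P K n) = n + 1 := by
  rw [Groth.Agent.S12915.finrank_homogeneousSubmodule K 1 n]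
  simp

instance finite_P (n : ℕ) : Module.Finite K (P K n) :=
  Module.finite_of_finrank_pos (by rw [finrank_P]; omega)

/-- multiplication of binary forms -/
noncomputable def mulHom (m n : ℕ) : P K m →ₗ[K] P K n →ₗ[K] P K (m + n) :=
  LinearMap.mk₂ K
    (fun g h => ⟨g.1 * h.1, (mem_homogeneousSubmodule _ _).mpr
      (((mem_homogeneousSubmodule _ _).mp g.2).mul ((mem_homogeneousSubmodule _ _).mp h.2))⟩)
    (fun g g' h => by ext1; simp [add_mul])
    (fun c g h => by ext1; simp)
    (fun g h h' => by ext1; simp [mul_add])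
    (fun c g h => by ext1; simp)

@[simp] lemma mulHom_apply (m n : ℕ) (g : P K m) (h : P K n) :
    ((mulHom m n g h : P K (m + n)) : MvPolynomial (Fin 2) K) = g.1 * h.1 := rfl

/-- a hyperplane of quintics contains `g · (quadrics)` for some nonzero cubic `g` -/
theorem exists_cubic_mul_mem (W : Submodule K (P K 5)) (hW : finrank K W = 5) :
    ∃ g : P K 3, g ≠ 0 ∧ ∀ h : P K 2, mulHom 3 2 g h ∈ W := by
  set Λ : P K 3 →ₗ[K] P K 2 →ₗ[K] (P K 5 ⧸ W) := (mulHom 3 2).compr₂ W.mkQ with hΛ
  have hq : finrank K (P K 5 ⧸ W) = 1 := by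
    have := Submodule.finrank_quotient_add_finrank W
    rw [hW, finrank_P] at this
    omega
  have hlt : finrank K (P K 2 →ₗ[K] (P K 5 ⧸ W)) < finrank K (P K 3) := by
    rw [Module.finrank_linearMap, finrank_P, finrank_P, hq]; norm_num
  have hker := LinearMap.ker_ne_bot_of_finrank_lt (f := Λ) hlt
  obtain ⟨g, hgker, hg0⟩ := Submodule.exists_mem_ne_zero_of_ne_bot hker
  refine ⟨g, hg0, fun h => ?_⟩
  have : Λ g h = 0 := by rw [LinearMap.mem_ker.mp hgker]; rfl
  rw [hΛ, LinearMap.compr₂_apply, Submodule.mkQ_apply, Submodule.Quotient.mk_eq_zero] at this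
  exact this

/-- the unique trisecant line of a rational quintic in `P^4` -/
theorem existsUnique_trisecant (V : Submodule K (MvPolynomial (Fin 2) K))
    (hV : V ≤ P K 5) (hdim : finrank K ↥V = 5)
    (hsep : ∀ e ∈ P K 2, e ≠ 0 → ∀ F ∈ P K 5, ∃ v ∈ V, ∃ h ∈ P K 3, F = v + e * h) :
    ∃ g ∈ P K 3, g ≠ 0 ∧ (∀ h ∈ P K 2, g * h ∈ V) ∧
      ∀ g' ∈ P K 3, (∀ h ∈ P K 2, g' * h ∈ V) → ∃ c : K, g' = c • g := by
  set W : Submodule K (P K 5) := V.comap (P K 5).subtype with hWdef
  have hW : finrank K W = 5 :=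
    (Submodule.comapSubtypeEquivOfLe hV).finrank_eq.trans hdim
  have : Module.Finite K V := Module.finite_of_finrank_pos (by rw [hdim]; norm_num)
  have hmemW : ∀ x : P K 5, x ∈ W ↔ (x : MvPolynomial (Fin 2) K) ∈ V := fun x => Iff.rfl
  obtain ⟨g, hg0, hg⟩ := exists_cubic_mul_mem W hW
  have hq : finrank K (P K 5 ⧸ W) = 1 := by
    have := Submodule.finrank_quotient_add_finrank W
    rw [hW, finrank_P] at this
    omega
  let e : (P K 5 ⧸ W) ≃ₗ[K] K := LinearEquiv.ofFinrankEq _ _ (by rw [hq, finrank_self])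
  set B : P K 3 →ₗ[K] P K 2 →ₗ[K] K := (mulHom 3 2).compr₂ (e.toLinearMap ∘ₗ W.mkQ) with hB
  have hBzero : ∀ (a : P K 3) (h : P K 2), B a h = 0 ↔ a.1 * h.1 ∈ V := by
    intro a h
    rw [hB, LinearMap.compr₂_apply, LinearMap.comp_apply, LinearEquiv.coe_coe,
      LinearEquiv.map_eq_zero_iff, Submodule.mkQ_apply, Submodule.Quotient.mk_eq_zero, hmemW]
    rfl
  -- the flipped pairing is injective
  have hflip : Function.Injective B.flip := by
    rw [injective_iff_map_eq_zero]
    intro e₂ he₂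
    by_contra hne
    have hne' : (e₂ : MvPolynomial (Fin 2) K) ≠ 0 := fun h => hne (Subtype.ext h)
    have hall : ∀ a : P K 3, a.1 * e₂.1 ∈ V := by
      intro a
      rw [← hBzero]
      have := LinearMap.congr_fun he₂ a
      simpa using this
    have hle : P K 5 ≤ V := by
      intro F hF
      obtain ⟨v, hv, h, hh, rfl⟩ := hsep e₂.1 e₂.2 hne' F hF
      refine V.add_mem hv ?_
      have := hall ⟨h, hh⟩
      rwa [mul_comm] at this
    have := Submodule.finrank_mono hle
    rw [finrank_P, hdim] at this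
    omega
  have hsurj : Function.Surjective B := LinearMap.flip_injective_iff₁.mp hflip
  have hker : finrank K (LinearMap.ker B) = 1 := by
    have h1 := LinearMap.finrank_range_add_finrank_ker B
    rw [LinearMap.range_eq_top.mpr hsurj, finrank_top, Subspace.dual_finrank_eq, finrank_P,
      finrank_P] at h1
    omega
  have hgker : g ∈ LinearMap.ker B := by
    rw [LinearMap.mem_ker]
    ext h
    rw [LinearMap.zero_apply, hBzero]
    exact (hmemW _).mp (hg h)
  refine ⟨g.1, g.2, fun h => hg0 (Subtype.ext h), ?_, ?_⟩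
  · intro h hh
    exact (hmemW _).mp (hg ⟨h, hh⟩)
  · intro g' hg' hg'V
    have hg'ker : (⟨g', hg'⟩ : P K 3) ∈ LinearMap.ker B := by
      rw [LinearMap.mem_ker]
      ext h
      rw [LinearMap.zero_apply, hBzero]
      exact hg'V h.1 h.2
    let gk : LinearMap.ker B := ⟨g, hgker⟩
    have hne : gk ≠ 0 := fun h => hg0 (by simpa [gk] using h)
    obtain ⟨c, hc⟩ := (finrank_eq_one_iff_of_nonzero' gk hne).mp hker ⟨⟨g', hg'⟩, hg'ker⟩
    refine ⟨c, ?_⟩
    have := congrArg (fun x : LinearMap.ker B => ((x : P K 3) : MvPolynomial (Fin 2) K)) hc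
    simpa using this.symm

end Groth.Agent.Lib.Helper92.RatQuintic
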