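import Mathlib
import Groth.Agent.Lib.Helper92.RatQuintic
import Groth.Agent.S16515

/-!
# Trisecant lines of a rational quintic in `P^3`
-/

namespace Groth.Agent.Lib.Helper92.RatQuintic
open MvPolynomial Module

universe u
variable {K : Type u} [Field K]

lemma mon_eq (d j : ℕ) :
    Groth.Agent.S16515.mon K d j = (X 0 : MvPolynomial (Fin 2) K) ^ j * X 1 ^ (d - j) := by
  unfold Groth.Agent.S16515.mon Groth.Agent.S16515.ex
  rw [monomial_eq]
  simp [Finsupp.prod_add_index', pow_add]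

/-- a binary cubic in terms of its coefficients -/
lemma exists_coeffs3 {g : MvPolynomial (Fin 2) K} (hg : g ∈ P K 3) :
    ∃ c₀ c₁ c₂ c₃ : K, g = C c₀ * X 1 ^ 3 + C c₁ * (X 0 * X 1 ^ 2) + C c₂ * (X 0 ^ 2 * X 1)
      + C c₃ * X 0 ^ 3 := by
  have h := Groth.Agent.S16515.mem_span_mon K 3 g hg
  obtain ⟨c, hc⟩ := (Submodule.mem_span_range_iff_exists_fun K).mp h
  refine ⟨c 0, c 1, c 2, c 3, ?_⟩
  rw [← hc, Fin.sum_univ_four]
  simp only [mon_eq, smul_eq_C_mul]
  norm_num

lemma isHomogeneous_lin (a b : K) :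
    (C a * X 0 + C b * X 1 : MvPolynomial (Fin 2) K).IsHomogeneous 1 :=
  ((isHomogeneous_X K 0).C_mul a).add ((isHomogeneous_X K 1).C_mul b)

lemma isHomogeneous_quad (a b c : K) :
    (C a * X 0 ^ 2 + C b * (X 0 * X 1) + C c * X 1 ^ 2 : MvPolynomial (Fin 2) K).IsHomogeneous 2 := by
  refine ((((isHomogeneous_X K 0).pow 2).C_mul a).add ?_).add (((isHomogeneous_X K 1).pow 2).C_mul c)
  · exact (((isHomogeneous_X K 0).mul (isHomogeneous_X K 1))).C_mul b
  
/-- over an algebraically closed field a binary cubic has a linear factor -/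
theorem exists_linear_factor [IsAlgClosed K] {g : MvPolynomial (Fin 2) K} (hg : g ∈ P K 3) :
    ∃ l ∈ P K 1, ∃ e ∈ P K 2, g = l * e := by
  obtain ⟨c₀, c₁, c₂, c₃, rfl⟩ := exists_coeffs3 hg
  by_cases h3 : c₃ = 0
  · refine ⟨C 0 * X 0 + C 1 * X 1, (mem_homogeneousSubmodule _ _).mpr (isHomogeneous_lin 0 1),
      C c₂ * X 0 ^ 2 + C c₁ * (X 0 * X 1) + C c₀ * X 1 ^ 2,
      (mem_homogeneousSubmodule _ _).mpr (isHomogeneous_quad _ _ _), ?_⟩
    rw [h3]
    simp only [map_zero, map_one]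
    ring
  · -- a root of the dehomogenised cubic
    let q : Polynomial K := Polynomial.C c₃ * Polynomial.X ^ 3 + Polynomial.C c₂ * Polynomial.X ^ 2
      + Polynomial.C c₁ * Polynomial.X + Polynomial.C c₀
    have hq : q.degree ≠ 0 := by
      have : q.degree = 3 := by
        simp only [q]
        compute_degree!
      rw [this]; norm_num
    obtain ⟨t, ht⟩ := IsAlgClosed.exists_root q hq
    have ht' : c₃ * t ^ 3 + c₂ * t ^ 2 + c₁ * t + c₀ = 0 := by
      have := ht
      simp only [q, Polynomial.IsRoot.def, Polynomial.eval_add, Polynomial.eval_mul,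
        Polynomial.eval_C, Polynomial.eval_pow, Polynomial.eval_X] at this
      exact this
    refine ⟨C 1 * X 0 + C (-t) * X 1, (mem_homogeneousSubmodule _ _).mpr (isHomogeneous_lin 1 (-t)),
      C c₃ * X 0 ^ 2 + C (c₂ + t * c₃) * (X 0 * X 1) + C (c₁ + t * c₂ + t ^ 2 * c₃) * X 1 ^ 2,
      (mem_homogeneousSubmodule _ _).mpr (isHomogeneous_quad _ _ _), ?_⟩
    have hc0 : c₀ = -(c₃ * t ^ 3 + c₂ * t ^ 2 + c₁ * t) := by linear_combination ht'
    rw [hc0]
    simp only [map_add, map_mul, map_neg, map_pow, map_one]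
    ring

section main
variable [IsAlgClosed K]

/-- the image of a space of forms under multiplication by a nonzero form -/
lemma finrank_map_mulLeft {g : MvPolynomial (Fin 2) K} (hg : g ≠ 0) (n : ℕ) :
    finrank K ((P K n).map (LinearMap.mulLeft K g)) = n + 1 := by
  have hinj : Function.Injective (LinearMap.mulLeft K g) := mul_right_injective₀ hg
  rw [← (Submodule.equivMapOfInjective _ hinj (P K n)).finrank_eq, finrank_P]

lemma finite_map_mulLeft {g : MvPolynomial (Fin 2) K} (hg : g ≠ 0) (n : ℕ) :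
    Module.Finite K ((P K n).map (LinearMap.mulLeft K g)) :=
  Module.finite_of_finrank_pos (by rw [finrank_map_mulLeft hg]; omega)

lemma map_mulLeft_le (m n : ℕ) {g : MvPolynomial (Fin 2) K} (hg : g ∈ P K m) :
    (P K n).map (LinearMap.mulLeft K g) ≤ P K (m + n) := by
  rintro _ ⟨h, hh, rfl⟩
  exact (mem_homogeneousSubmodule _ _).mpr
    (((mem_homogeneousSubmodule _ _).mp hg).mul ((mem_homogeneousSubmodule _ _).mp hh))

/-- no trisecant plane: `g · (quadrics)` is not contained in `V` -/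
theorem not_cubic_mul_le (V : Submodule K (MvPolynomial (Fin 2) K))
    (hV : V ≤ P K 5) (hdim : finrank K ↥V = 4)
    (hsep : ∀ e ∈ P K 2, e ≠ 0 → ∀ F ∈ P K 5, ∃ v ∈ V, ∃ h ∈ P K 3, F = v + e * h)
    {g : MvPolynomial (Fin 2) K} (hg : g ∈ P K 3) (hg0 : g ≠ 0)
    (hgV : ∀ h ∈ P K 2, g * h ∈ V) : False := by
  have hVfin : Module.Finite K V := Module.finite_of_finrank_pos (by rw [hdim]; norm_num)
  obtain ⟨l, hl, e, he, rfl⟩ := exists_linear_factor hg
  have he0 : e ≠ 0 := fun h => hg0 (by rw [h, mul_zero])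
  have hl0 : l ≠ 0 := fun h => hg0 (by rw [h, zero_mul])
  have hefin := finite_map_mulLeft he0 3
  -- V + e P_3 = P_5
  have hsup : V ⊔ (P K 3).map (LinearMap.mulLeft K e) = P K 5 := by
    apply le_antisymm
    · exact sup_le hV (map_mulLeft_le 2 3 he)
    · intro F hF
      obtain ⟨v, hv, h, hh, rfl⟩ := hsep e he he0 F hF
      exact Submodule.add_mem _ (Submodule.mem_sup_left hv)
        (Submodule.mem_sup_right ⟨h, hh, rfl⟩)
  have hdimf := Submodule.finrank_sup_add_finrank_inf_eq V ((P K 3).map (LinearMap.mulLeft K e))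
  rw [hsup, finrank_P, hdim, finrank_map_mulLeft he0] at hdimf
  -- (l e) P_2 is contained in the intersection
  have hle : (P K 2).map (LinearMap.mulLeft K (l * e)) ≤
      V ⊓ (P K 3).map (LinearMap.mulLeft K e) := by
    rintro _ ⟨h, hh, rfl⟩
    refine ⟨hgV h hh, l * h, ?_, ?_⟩
    · exact (mem_homogeneousSubmodule _ _).mpr
        (((mem_homogeneousSubmodule _ _).mp hl).mul ((mem_homogeneousSubmodule _ _).mp hh))
    · simp only [LinearMap.mulLeft_apply]; ring
  have hfin2 : Module.Finite K ↥(V ⊓ (P K 3).map (LinearMap.mulLeft K e)) :=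
    Submodule.finiteDimensional_inf_left _ _
  have h3 := Submodule.finrank_mono hle
  rw [finrank_map_mulLeft hg0] at h3
  omega

/-- a rational quintic in `P^3` has infinitely many trisecant lines -/
theorem infinite_trisecants (V : Submodule K (MvPolynomial (Fin 2) K))
    (hV : V ≤ P K 5) (hdim : finrank K ↥V = 4)
    (hsep : ∀ e ∈ P K 2, e ≠ 0 → ∀ F ∈ P K 5, ∃ v ∈ V, ∃ h ∈ P K 3, F = v + e * h)
    (Fs : Finset (MvPolynomial (Fin 2) K)) :
    ∃ g ∈ P K 3, g ≠ 0 ∧
      2 ≤ finrank K ↥(V ⊓ (P K 2).map (LinearMap.mulLeft K g)) ∧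
      ∀ g' ∈ Fs, ∀ c : K, g ≠ c • g' := by
  classical
  have hVfin : Module.Finite K V := Module.finite_of_finrank_pos (by rw [hdim]; norm_num)
  -- two quintics spanning a complement of V
  obtain ⟨F₁, hF₁P, hF₁⟩ : ∃ F₁ ∈ P K 5, F₁ ∉ V := by
    by_contra hcon
    push Not at hcon
    have hle : P K 5 ≤ V := hcon
    have := Submodule.finrank_mono hle
    rw [finrank_P, hdim] at this
    omega
  have hindep1 : ∀ c : K, c • F₁ ∈ V → c = 0 := by
    intro c hc
    by_contra hc0
    apply hF₁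
    have := V.smul_mem c⁻¹ hc
    rwa [smul_smul, inv_mul_cancel₀ hc0, one_smul] at this
  have hV1dim : finrank K ↥(V ⊔ Submodule.span K {F₁}) = 5 := by
    have h := Submodule.finrank_sup_add_finrank_inf_eq V (Submodule.span K {F₁})
    have hinf : V ⊓ Submodule.span K {F₁} = ⊥ := by
      rw [eq_bot_iff]
      rintro x ⟨hxV, hxs⟩
      obtain ⟨c, rfl⟩ := Submodule.mem_span_singleton.mp hxs
      rw [hindep1 c hxV, zero_smul]; exact Submodule.zero_mem _
    have hF₁0 : F₁ ≠ 0 := fun h => hF₁ (by rw [h]; exact V.zero_mem)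
    rw [hinf, finrank_bot, hdim, finrank_span_singleton hF₁0] at h
    omega
  have hV1le : V ⊔ Submodule.span K {F₁} ≤ P K 5 :=
    sup_le hV (by rw [Submodule.span_singleton_le_iff_mem]; exact hF₁P)
  obtain ⟨F₂, hF₂P, hF₂⟩ : ∃ F₂ ∈ P K 5, F₂ ∉ V ⊔ Submodule.span K {F₁} := by
    by_contra hcon
    push Not at hcon
    have hle : P K 5 ≤ V ⊔ Submodule.span K {F₁} := hcon
    have := Submodule.finrank_mono hle
    rw [finrank_P, hV1dim] at this
    omega
  -- independence modulo V
  have hindep : ∀ (v : MvPolynomial (Fin 2) K) (a b : K), v ∈ V → v + a • F₁ + b • F₂ = 0 →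
      a = 0 ∧ b = 0 := by
    intro v a b hv h0
    have hb : b = 0 := by
      by_contra hb0
      apply hF₂
      have e : F₂ = b⁻¹ • (-(v + a • F₁)) := by
        have : b • F₂ = -(v + a • F₁) := by
          rw [eq_neg_iff_add_eq_zero, add_comm]; exact h0
        rw [← this, smul_smul, inv_mul_cancel₀ hb0, one_smul]
      rw [e]
      refine Submodule.smul_mem _ _ (Submodule.neg_mem _ ?_)
      exact Submodule.add_mem _ (Submodule.mem_sup_left hv)
        (Submodule.mem_sup_right (Submodule.smul_mem _ _ (Submodule.subset_span rfl)))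
    refine ⟨?_, hb⟩
    rw [hb, zero_smul, add_zero] at h0
    apply hindep1
    have : a • F₁ = -v := by rw [eq_neg_iff_add_eq_zero, add_comm]; exact h0
    rw [this]; exact V.neg_mem hv
  -- the pencil of hyperplanes
  set Wt : K → Submodule K (MvPolynomial (Fin 2) K) :=
    fun t => V ⊔ Submodule.span K {F₁ + t • F₂} with hWt
  have hxt : ∀ t : K, F₁ + t • F₂ ∈ P K 5 := fun t =>
    Submodule.add_mem _ hF₁P (Submodule.smul_mem _ _ hF₂P)
  have hWle : ∀ t, Wt t ≤ P K 5 := fun t =>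
    sup_le hV (by rw [Submodule.span_singleton_le_iff_mem]; exact hxt t)
  have hWmem : ∀ t x, x ∈ Wt t ↔ ∃ v ∈ V, ∃ a : K, x = v + a • (F₁ + t • F₂) := by
    intro t x
    simp only [hWt, Submodule.mem_sup, Submodule.mem_span_singleton]
    constructor
    · rintro ⟨v, hv, _, ⟨a, rfl⟩, rfl⟩; exact ⟨v, hv, a, rfl⟩
    · rintro ⟨v, hv, a, rfl⟩; exact ⟨v, hv, _, ⟨a, rfl⟩, rfl⟩
  have hWdim : ∀ t, finrank K ↥(Wt t) = 5 := by
    intro t
    have h := Submodule.finrank_sup_add_finrank_inf_eq V (Submodule.span K {F₁ + t • F₂})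
    have hinf : V ⊓ Submodule.span K {F₁ + t • F₂} = ⊥ := by
      rw [eq_bot_iff]
      rintro x ⟨hxV, hxs⟩
      obtain ⟨c, rfl⟩ := Submodule.mem_span_singleton.mp hxs
      have h0 : (-(c • (F₁ + t • F₂))) + c • F₁ + (c * t) • F₂ = 0 := by
        rw [smul_add, smul_smul]; abel
      obtain ⟨hc, -⟩ := hindep _ _ _ (V.neg_mem hxV) h0
      rw [hc, zero_smul]; exact Submodule.zero_mem _
    have hx0 : F₁ + t • F₂ ≠ 0 := by
      intro h0
      have h0' : (0 : MvPolynomial (Fin 2) K) + (1 : K) • F₁ + t • F₂ = 0 := by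
        rw [zero_add, one_smul]; exact h0
      exact one_ne_zero (hindep 0 1 t V.zero_mem h0').1
    rw [hinf, finrank_bot, hdim, finrank_span_singleton hx0] at h
    show finrank K ↥(V ⊔ Submodule.span K {F₁ + t • F₂}) = 5
    omega
  have hWinter : ∀ t t' : K, t ≠ t' → ∀ x, x ∈ Wt t → x ∈ Wt t' → x ∈ V := by
    intro t t' htt x hx hx'
    obtain ⟨v, hv, a, rfl⟩ := (hWmem t x).mp hx
    obtain ⟨v', hv', a', h⟩ := (hWmem t' _).mp hx'
    have h0 : (v - v') + (a - a') • F₁ + (a * t - a' * t') • F₂ = 0 := by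
      have : v + a • (F₁ + t • F₂) - (v' + a' • (F₁ + t' • F₂)) = 0 := sub_eq_zero.mpr h
      rw [← this]
      simp only [smul_add, smul_smul, sub_smul]
      abel
    obtain ⟨h1, h2⟩ := hindep _ _ _ (V.sub_mem hv hv') h0
    have ha : a = a' := sub_eq_zero.mp h1
    rw [← ha] at h2
    have ha0 : a = 0 := by
      have : a * (t - t') = 0 := by linear_combination h2
      rcases mul_eq_zero.mp this with h | h
      · exact h
      · exact absurd (sub_eq_zero.mp h) htt
    rw [ha0, zero_smul, add_zero]; exact hv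
  -- a cubic for each hyperplane
  have hex : ∀ t : K, ∃ g ∈ P K 3, g ≠ 0 ∧ ∀ h ∈ P K 2, g * h ∈ Wt t := by
    intro t
    have hW' : finrank K ((Wt t).comap (P K 5).subtype) = 5 :=
      (Submodule.comapSubtypeEquivOfLe (hWle t)).finrank_eq.trans (hWdim t)
    obtain ⟨g, hg0, hg⟩ := exists_cubic_mul_mem _ hW'
    exact ⟨g.1, g.2, fun h => hg0 (Subtype.ext h), fun h hh => hg ⟨h, hh⟩⟩
  choose g hgP hg0 hgW using hex
  -- proportional cubics come from the same hyperplane
  have hprop : ∀ t t' : K, ∀ c : K, g t' = c • g t → t = t' := by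
    intro t t' c hc
    by_contra htt
    apply not_cubic_mul_le V hV hdim hsep (hgP t') (hg0 t')
    intro h hh
    apply hWinter t t' htt _ _ (hgW t' h hh)
    rw [hc, smul_mul_assoc]
    exact Submodule.smul_mem _ _ (hgW t h hh)
  -- avoid the finitely many bad parameters
  have hbad : {t : K | ∃ g' ∈ Fs, ∃ c : K, g t = c • g'}.Finite := by
    have : {t : K | ∃ g' ∈ Fs, ∃ c : K, g t = c • g'} =
        ⋃ g' ∈ (Fs : Set (MvPolynomial (Fin 2) K)), {t : K | ∃ c : K, g t = c • g'} := by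
      ext t; simp
    rw [this]
    refine Set.Finite.biUnion Fs.finite_toSet (fun g' _ => Set.Subsingleton.finite ?_)
    rintro t ⟨c, hc⟩ t' ⟨c', hc'⟩
    have hc0 : c ≠ 0 := by
      rintro rfl; rw [zero_smul] at hc; exact hg0 t hc
    apply hprop t t' (c' * c⁻¹)
    rw [hc', hc, smul_smul, mul_assoc, inv_mul_cancel₀ hc0, mul_one]
  obtain ⟨t, ht⟩ := hbad.infinite_compl.nonempty
  refine ⟨g t, hgP t, hg0 t, ?_, ?_⟩
  · have hgfin := finite_map_mulLeft (hg0 t) 2
    have h := Submodule.finrank_sup_add_finrank_inf_eq V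
      ((P K 2).map (LinearMap.mulLeft K (g t)))
    rw [hdim, finrank_map_mulLeft (hg0 t)] at h
    have hle : V ⊔ (P K 2).map (LinearMap.mulLeft K (g t)) ≤ Wt t := by
      refine sup_le le_sup_left ?_
      rintro _ ⟨h, hh, rfl⟩
      exact hgW t h hh
    have hWfin : Module.Finite K (Wt t) :=
      Module.finite_of_finrank_pos (by rw [hWdim]; norm_num)
    have h5 := Submodule.finrank_mono hle
    rw [hWdim] at h5
    omega
  · intro g' hg' c hc
    exact ht ⟨g', hg', c, hc⟩

end main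

end Groth.Agent.Lib.Helper92.RatQuintic
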