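import Mathlib.LinearAlgebra.RootSystem.Finite.Nondegenerate
import Mathlib.LinearAlgebra.RootSystem.Base
import Mathlib.LinearAlgebra.RootSystem.Reduced
import Mathlib.LinearAlgebra.RootSystem.Finite.Lemmas

/-!
# Root pairings: solving the "diagonal" system on the Dynkin diagram (helper92)

For a finite crystallographic root pairing with base `b`, every nonempty set `T` of simple roots
contains a vertex `u` with positive row sum `∑ v ∈ T, ⟨α_u, α_v^∨⟩ > 0` (positive definiteness of the
coroot form).  Such a vertex has at most one neighbour in `T`, with pairing `-1`.  By induction one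
solves `a_ij c_i - a_ji c_j = δ_ij` for antisymmetric `δ` vanishing on orthogonal pairs.
-/

set_option autoImplicit false
set_option linter.unusedSectionVars false

namespace Groth.Agent.Lib.Helper92.RootD

open Module Submodule Set

variable {ι R M N : Type*} [CommRing R] [IsDomain R] [CharZero R] [AddCommGroup M] [Module R M]
  [AddCommGroup N] [Module R N]

section Col

variable (P : RootPairing ι R M N) [Finite ι] [P.IsCrystallographic] (b : P.Base)

lemma two_mul_posForm (B : P.RootPositiveForm ℤ) (i j : ι) :
    2 * B.posForm (P.rootSpanMem ℤ i) (P.rootSpanMem ℤ j) =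
      P.pairingIn ℤ i j * B.rootLength j := by
  apply FaithfulSMul.algebraMap_injective ℤ R
  simp only [map_mul, B.algebraMap_posForm, P.algebraMap_pairingIn, B.algebraMap_rootLength]
  simpa using B.two_mul_apply_root_root i j

/-- Column sums: some vertex of `T` has positive column sum. -/
lemma exists_colSum_pos (T : Finset ι) (hT : T ⊆ b.support) (hne : T.Nonempty) :
    ∃ u ∈ T, 0 < ∑ v ∈ T, P.pairingIn ℤ v u := by
  classical
  have : Fintype ι := Fintype.ofFinite ι
  let B := P.posRootForm ℤ
  let x : P.rootSpan ℤ := ∑ v ∈ T, P.rootSpanMem ℤ v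
  have hx : x ≠ 0 := by
    intro h0
    have h1 : ((x : P.rootSpan ℤ) : M) = 0 := by rw [h0]; rfl
    have h2 : ∑ v ∈ T, (1 : ι → R) v • P.root v = 0 := by
      simp only [Pi.one_apply, one_smul]
      rw [← h1]
      simp [x]
    have hli : LinearIndepOn R P.root (T : Set ι) := b.linearIndepOn_root.mono (by exact_mod_cast hT)
    obtain ⟨v, hv⟩ := hne
    have := (linearIndepOn_finset_iff.mp hli) 1 h2 v hv
    simp at this
  have hpos : 0 < B.posForm x x := P.posRootForm_posForm_pos_of_ne_zero ℤ hx
  have hexp : 2 * B.posForm x x = ∑ u ∈ T, (∑ v ∈ T, P.pairingIn ℤ v u) * B.rootLength u := by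
    simp only [x, map_sum, LinearMap.coe_sum, Finset.sum_apply, Finset.mul_sum, two_mul_posForm,
      Finset.sum_mul]
  by_contra hcon
  push Not at hcon
  have : ∑ u ∈ T, (∑ v ∈ T, P.pairingIn ℤ v u) * B.rootLength u ≤ 0 := by
    apply Finset.sum_nonpos
    intro u hu
    exact mul_nonpos_of_nonpos_of_nonneg (hcon u hu) (B.rootLength_pos u).le
  linarith

end Col

section Row

variable (P : RootPairing ι R M N) [Finite ι] [P.IsCrystallographic] (b : P.Base)

/-- Row sums: some vertex of `T` has positive row sum. -/
lemma exists_rowSum_pos (T : Finset ι) (hT : T ⊆ b.support) (hne : T.Nonempty) :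
    ∃ u ∈ T, 0 < ∑ v ∈ T, P.pairingIn ℤ u v := by
  obtain ⟨u, hu, h⟩ := exists_colSum_pos P.flip b.flip T hT hne
  refine ⟨u, hu, ?_⟩
  convert h using 2
  apply FaithfulSMul.algebraMap_injective ℤ R
  rw [P.algebraMap_pairingIn, P.flip.algebraMap_pairingIn]
  rfl

end Row

end Groth.Agent.Lib.Helper92.RootD
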