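import Groth.Agent.Lib.Helper92.RootD1

/-!
# Root pairings: surjectivity of the codimension-two component map (helper92)
-/

set_option autoImplicit false
set_option linter.unusedSectionVars false

namespace Groth.Agent.Lib.Helper92.RootD

open Module Submodule Set

variable {ι R M N : Type*} [CommRing R] [IsDomain R] [CharZero R] [AddCommGroup M] [Module R M]
  [AddCommGroup N] [Module R N]
  (P : RootPairing ι R M N) [Finite ι] [P.IsCrystallographic] [P.IsReduced] (b : P.Base)

lemma pairingIn_zero_symm (i j : ι) : P.pairingIn ℤ i j = 0 ↔ P.pairingIn ℤ j i = 0 := by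
  have : Fintype ι := Fintype.ofFinite ι
  let B := P.posRootForm ℤ
  have h := B.pairingIn_mul_eq_pairingIn_mul_swap i j
  have hi := B.rootLength_pos i
  have hj := B.rootLength_pos j
  constructor
  · intro h0
    rw [h0, zero_mul] at h
    rcases mul_eq_zero.mp h with h1 | h1
    · exact h1
    · omega
  · intro h0
    rw [h0, zero_mul] at h
    rcases mul_eq_zero.mp h.symm with h1 | h1
    · exact h1
    · omega

/-- A vertex with positive row sum has at most one neighbour in `T`, with pairing `-1`. -/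
lemma leaf_props [DecidableEq ι] (T : Finset ι) (hT : T ⊆ b.support) (u : ι) (hu : u ∈ T)
    (hpos : 0 < ∑ v ∈ T, P.pairingIn ℤ u v) :
    ∀ v₀ ∈ T.erase u, P.pairingIn ℤ u v₀ ≠ 0 →
      P.pairingIn ℤ u v₀ = -1 ∧ ∀ v ∈ T.erase u, v ≠ v₀ → P.pairingIn ℤ u v = 0 := by
  have hle : ∀ v ∈ T.erase u, P.pairingIn ℤ u v ≤ 0 := by
    intro v hv
    have hvu : v ≠ u := Finset.ne_of_mem_erase hv
    exact b.pairingIn_le_zero_of_ne hvu.symm (hT hu) (hT (Finset.mem_of_mem_erase hv))
  have hsum : 0 < 2 + ∑ v ∈ T.erase u, P.pairingIn ℤ u v := by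
    rw [← Finset.add_sum_erase T _ hu, P.pairingIn_same ℤ u] at hpos
    exact hpos
  intro v₀ hv₀ hne
  have hv₀' : v₀ ∈ T.erase u := hv₀
  rw [← Finset.add_sum_erase (T.erase u) _ hv₀'] at hsum
  have hrest : ∀ v ∈ (T.erase u).erase v₀, P.pairingIn ℤ u v ≤ 0 :=
    fun v hv => hle v (Finset.mem_of_mem_erase hv)
  have hrest_sum : ∑ v ∈ (T.erase u).erase v₀, P.pairingIn ℤ u v ≤ 0 := Finset.sum_nonpos hrest
  have h0 : P.pairingIn ℤ u v₀ ≤ 0 := hle v₀ hv₀
  have h1 : P.pairingIn ℤ u v₀ = -1 := by omega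
  refine ⟨h1, ?_⟩
  have hrest_zero : ∑ v ∈ (T.erase u).erase v₀, P.pairingIn ℤ u v = 0 := by omega
  intro v hv hvne
  have hv' : v ∈ (T.erase u).erase v₀ := Finset.mem_erase.mpr ⟨hvne, hv⟩
  have := (Finset.sum_eq_zero_iff_of_nonpos hrest).mp hrest_zero v hv'
  exact this

/-- Solving the diagonal system on any set of simple roots. -/
theorem exists_diag (δ : ι → ι → ℤ) (hanti : ∀ i j, δ j i = -δ i j)
    (hδ : ∀ i ∈ b.support, ∀ j ∈ b.support, i ≠ j → P.pairingIn ℤ i j = 0 → δ i j = 0) :
    ∀ (n : ℕ) (T : Finset ι), T.card = n → T ⊆ b.support → ∃ c : ι → ℤ, ∀ i ∈ T, ∀ j ∈ T, i ≠ j →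
      P.pairingIn ℤ i j * c i - P.pairingIn ℤ j i * c j = δ i j := by
  classical
  intro n
  induction n with
  | zero =>
    intro T hcard _
    have : T = ∅ := Finset.card_eq_zero.mp hcard
    subst this
    exact ⟨fun _ => 0, by simp⟩
  | succ n ih =>
    intro T hcard hT
    have hne : T.Nonempty := by
      rw [← Finset.card_pos]; omega
    obtain ⟨u, hu, hpos⟩ := exists_rowSum_pos P b T hT hne
    have hleaf := leaf_props P b T hT u hu hpos
    obtain ⟨c, hc⟩ := ih (T.erase u) (by rw [Finset.card_erase_of_mem hu, hcard]; rfl)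
      ((Finset.erase_subset u T).trans hT)
    -- it suffices to produce a value at `u` compatible with all `(u, j)`
    suffices hval : ∃ t : ℤ, ∀ j ∈ T.erase u,
        P.pairingIn ℤ u j * t - P.pairingIn ℤ j u * c j = δ u j by
      obtain ⟨t, ht⟩ := hval
      refine ⟨Function.update c u t, ?_⟩
      intro i hi j hj hij
      by_cases hiu : i = u
      · subst hiu
        have hj' : j ∈ T.erase i := Finset.mem_erase.mpr ⟨hij.symm, hj⟩
        rw [Function.update_self, Function.update_of_ne hij.symm]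
        exact ht j hj'
      · by_cases hju : j = u
        · subst hju
          have hi' : i ∈ T.erase j := Finset.mem_erase.mpr ⟨hiu, hi⟩
          rw [Function.update_self, Function.update_of_ne hiu]
          have := ht i hi'
          rw [hanti j i]
          linarith
        · have hi' : i ∈ T.erase u := Finset.mem_erase.mpr ⟨hiu, hi⟩
          have hj' : j ∈ T.erase u := Finset.mem_erase.mpr ⟨hju, hj⟩
          rw [Function.update_of_ne hiu, Function.update_of_ne hju]
          exact hc i hi' j hj' hij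
    by_cases hnb : ∃ v₀ ∈ T.erase u, P.pairingIn ℤ u v₀ ≠ 0
    · obtain ⟨v₀, hv₀, hne₀⟩ := hnb
      obtain ⟨h1, hrest⟩ := hleaf v₀ hv₀ hne₀
      refine ⟨-δ u v₀ - P.pairingIn ℤ v₀ u * c v₀, ?_⟩
      intro j hj
      by_cases hjv : j = v₀
      · subst hjv
        rw [h1]; ring
      · have h0 := hrest j hj hjv
        have h0' := (pairingIn_zero_symm P u j).mp h0
        have hju : j ≠ u := Finset.ne_of_mem_erase hj
        rw [h0, h0', hδ u (hT hu) j (hT (Finset.mem_of_mem_erase hj)) hju.symm h0]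
        ring
    · push Not at hnb
      refine ⟨0, ?_⟩
      intro j hj
      have h0 := hnb j hj
      have h0' := (pairingIn_zero_symm P u j).mp h0
      have hju : j ≠ u := Finset.ne_of_mem_erase hj
      rw [h0, h0', hδ u (hT hu) j (hT (Finset.mem_of_mem_erase hj)) hju.symm h0]
      ring

/-- The main statement. -/
theorem main (d : ι → ι → ℤ)
    (hd : ∀ i ∈ b.support, ∀ j ∈ b.support, i ≠ j → P.pairingIn ℤ i j = 0 → d i j = d j i) :
    ∃ C : ι → ι → ℤ, ∀ i ∈ b.support, ∀ j ∈ b.support, i ≠ j →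
      C i j + C j i - P.pairingIn ℤ j i * C j j = d i j := by
  classical
  obtain ⟨c, hc⟩ := exists_diag P b (fun i j => d i j - d j i) (fun i j => by ring)
    (fun i hi j hj hij h0 => by rw [hd i hi j hj hij h0]; ring) b.support.card b.support rfl
    (Finset.Subset.refl _)
  obtain ⟨n, ⟨e⟩⟩ := Finite.exists_equiv_fin ι
  refine ⟨fun i j => if i = j then c i else if e i < e j then d i j + P.pairingIn ℤ j i * c j else 0,
    ?_⟩
  intro i hi j hj hij
  have hc1 := hc i hi j hj hij
  have hji : j ≠ i := hij.symm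
  have hne : e i ≠ e j := fun h => hij (e.injective h)
  simp only [hij, hji, if_true, if_false]
  rcases lt_or_gt_of_ne hne with hlt | hgt
  · have hnot : ¬ e j < e i := not_lt.mpr hlt.le
    simp only [hlt, hnot, if_true, if_false]
    ring
  · have hnot : ¬ e i < e j := not_lt.mpr hgt.le
    simp only [hgt, hnot, if_true, if_false]
    linarith

end Groth.Agent.Lib.Helper92.RootD
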