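import Mathlib
import Groth.Agent.Lib.Helper92.NodalLines

/-!
# Lines through a singular point of an irreducible cubic surface: polynomial tools
-/

namespace Groth.Agent.Lib.Helper92.Nodal
open Groth.Agent.Lib.Helper95 Module MvPolynomial

section poly
set_option linter.unusedSectionVars false
variable {K : Type*} [Field K] [CharZero K] {f : MvPolynomial (Fin 4) K}

/-- the linear polynomial of a linear functional -/
noncomputable def linPoly (l : (Fin 4 → K) →ₗ[K] K) : MvPolynomial (Fin 4) K :=
  ∑ j : Fin 4, C (l (Pi.single j 1)) * X j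

lemma eval_linPoly (l : (Fin 4 → K) →ₗ[K] K) (x : Fin 4 → K) : eval x (linPoly l) = l x := by
  unfold linPoly
  simp only [map_sum, map_mul, eval_C, eval_X]
  have := LinearMap.pi_apply_eq_sum_univ l x
  rw [this]
  refine Finset.sum_congr rfl fun j _ => ?_
  rw [single_eq, smul_eq_mul, mul_comm]

/-- the directional derivative polynomial -/
noncomputable def dirPoly (f : MvPolynomial (Fin 4) K) (w : Fin 4 → K) : MvPolynomial (Fin 4) K :=
  ∑ i : Fin 4, w i • pderiv i f

lemma eval_dirPoly (hf : f.IsHomogeneous 3) (w x : Fin 4 → K) :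
    eval x (dirPoly f w) = 3 * phi f x x w := by
  unfold dirPoly
  simp only [map_sum, smul_eval]
  rw [phi_right_eq_sum, Finset.mul_sum]
  refine Finset.sum_congr rfl fun j _ => ?_
  rw [eval_pderiv_eq_phi hf]; ring

lemma not_isUnit_of_eval_zero {g : MvPolynomial (Fin 4) K} (h : eval 0 g = 0) : ¬ IsUnit g := by
  intro hu
  have := hu.map (eval (0 : Fin 4 → K))
  rw [h] at this
  exact not_isUnit_zero this

/-- an irreducible cubic does not vanish on a hyperplane -/
theorem exists_ne_zero_on_ker (hf : f.IsHomogeneous 3) (hirr : Irreducible f)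
    {l : (Fin 4 → K) →ₗ[K] K} (hl : l ≠ 0) : ∃ h, l h = 0 ∧ eval h f ≠ 0 := by
  by_contra hcon
  push Not at hcon
  obtain ⟨w, hw⟩ : ∃ w, l w = 1 := by
    obtain ⟨w₀, hw₀⟩ : ∃ w₀, l w₀ ≠ 0 := by
      by_contra h
      push Not at h
      exact hl (LinearMap.ext h)
    exact ⟨(l w₀)⁻¹ • w₀, by rw [map_smul, smul_eq_mul, inv_mul_cancel₀ hw₀]⟩
  set G : MvPolynomial (Fin 4) K :=
    dirPoly f w - C 3 * linPoly l * linPoly (phiL f w w) + C (phi f w w w) * linPoly l ^ 2 with hG
  have hfac : f = linPoly l * G := by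
    apply MvPolynomial.funext
    intro x
    obtain ⟨s, hs⟩ : ∃ s, s = l x := ⟨_, rfl⟩
    obtain ⟨h, hh⟩ : ∃ h, h = x - s • w := ⟨_, rfl⟩
    have hlh : l h = 0 := by rw [hh, map_sub, map_smul, hw, hs]; simp
    have hx : x = h + s • w := by rw [hh]; abel
    have hFh := hcon h hlh
    simp only [hG, map_mul, map_sub, map_add, map_pow, eval_C, eval_linPoly, eval_dirPoly hf,
      phiL_apply, ← hs]
    rw [hx, eval_add_smul hf, hFh, eval_eq_phi hf w]
    have c1 : phi f h w w = phi f w w h := phi_comm13 ..
    have c2 : phi f h h w = phi f w h h := phi_comm13 ..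
    have c3 : phi f h w h = phi f w h h := phi_comm12 ..
    have c4 : phi f w h w = phi f w w h := phi_comm23 ..
    simp only [phi_add_left, phi_add_mid, phi_add_right, phi_smul_left, phi_smul_mid,
      phi_smul_right, c1, c2, c3, c4]
    ring
  rcases hirr.isUnit_or_isUnit hfac with h | h
  · exact not_isUnit_of_eval_zero (by rw [eval_linPoly, map_zero]) h
  · refine not_isUnit_of_eval_zero ?_ h
    have z : ∀ y z, phi f (0 : Fin 4 → K) y z = 0 := by
      intro y z
      have := phi_smul_left f (0 : K) (0 : Fin 4 → K) y z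
      simpa using this
    simp only [hG, map_mul, map_sub, map_add, map_pow, eval_C, eval_linPoly, eval_dirPoly hf,
      map_zero, z]
    ring

end poly

end Groth.Agent.Lib.Helper92.Nodal
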