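import Mathlib
import Groth.Agent.Lib.Helper92.SingLinesPoly
import Groth.Agent.Lib.Helper92.NodalResidual

/-!
# At most six lines through a singular point of an irreducible cubic surface which is not a cone
-/

namespace Groth.Agent.Lib.Helper92.Nodal
open Groth.Agent.Lib.Helper95 Module
open Groth.Agent.Lib.Helper92.Tritangent (pt finrank_span_pair exists_basis_of_line)

section roots
variable {K : Type*} [Field K]

open Polynomial in
lemma encard_roots_le {p : K[X]} (hp : p ≠ 0) {n : ℕ} (hn : p.natDegree ≤ n) :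
    {ρ : K | Polynomial.eval ρ p = 0}.encard ≤ n := by
  classical
  have hset : {ρ : K | Polynomial.eval ρ p = 0} = ↑(p.roots.toFinset) := by
    ext ρ
    simp [hp]
  rw [hset, Set.encard_coe_eq_coe_finsetCard]
  have h1 : p.roots.toFinset.card ≤ Multiset.card p.roots := Multiset.toFinset_card_le _
  have h2 := Polynomial.card_roots' p
  exact_mod_cast (h1.trans h2).trans hn

/-- a binary quadratic form over an algebraically closed field is a product of linear forms -/
lemma exists_factor2 [IsAlgClosed K] (α β γ : K) :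
    ∃ m₁ n₁ m₂ n₂ : K, ∀ y z : K,
      α * y ^ 2 + 2 * β * y * z + γ * z ^ 2 = (m₁ * y + n₁ * z) * (m₂ * y + n₂ * z) := by
  by_cases hα : α = 0
  · exact ⟨0, 1, 2 * β, γ, fun y z => by rw [hα]; ring⟩
  · obtain ⟨d, hd⟩ := IsAlgClosed.exists_pow_nat_eq (β ^ 2 - α * γ) (n := 2) (by norm_num)
    refine ⟨1, (β + d) / α, α, β - d, fun y z => ?_⟩
    field_simp
    linear_combination z ^ 2 * hd

end roots

section hyper
set_option linter.unusedSectionVars false
variable {K : Type*} [Field K] [CharZero K] {f : MvPolynomial (Fin 4) K}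

lemma eval_comb' (hf : f.IsHomogeneous 3) {a : Fin 4 → K} (sing : ∀ x, phi f a a x = 0)
    (s t : K) (w : Fin 4 → K) :
    MvPolynomial.eval (s • a + t • w) f = t ^ 3 * phi f w w w + 3 * s * t ^ 2 * phi f a w w := by
  rw [eval_eq_phi hf]
  have s2 : ∀ x, phi f a x a = 0 := fun x => by rw [phi_comm23]; exact sing x
  have s3 : ∀ x, phi f x a a = 0 := fun x => by rw [phi_comm13]; exact sing x
  have c1 : phi f w a w = phi f a w w := phi_comm12 ..
  have c2 : phi f w w a = phi f a w w := phi_comm13 ..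
  simp only [phi_add_left, phi_add_mid, phi_add_right, phi_smul_left, phi_smul_mid,
    phi_smul_right, sing, s2, s3, c1, c2]
  ring

/-- coordinates in a three-dimensional subspace -/
lemma exists_coords3 {H : Submodule K (Fin 4 → K)} (hH3 : finrank K ↥H = 3)
    {v : Fin 3 → Fin 4 → K} (hv : ∀ i, v i ∈ H) (hli : LinearIndependent K v)
    {x : Fin 4 → K} (hx : x ∈ H) : ∃ c : Fin 3 → K, x = ∑ i, c i • v i := by
  have hle : Submodule.span K (Set.range v) ≤ H := by
    rw [Submodule.span_le]; rintro _ ⟨i, rfl⟩; exact hv i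
  have hfr := finrank_span_eq_card hli
  rw [Fintype.card_fin] at hfr
  have heq : Submodule.span K (Set.range v) = H :=
    Submodule.eq_of_le_of_finrank_eq hle (by rw [hfr, hH3])
  rw [← heq] at hx
  obtain ⟨c, hc⟩ := (Submodule.mem_span_range_iff_exists_fun K).mp hx
  exact ⟨c, hc.symm⟩

open Polynomial in
/-- at most three lines through `a` in a hyperplane on which the polar quadric of `a` vanishes -/
theorem encard_lines_in_hyperplane_le_three (hf : f.IsHomogeneous 3) {a : Fin 4 → K} (ha : a ≠ 0)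
    (sing : ∀ x, phi f a a x = 0) {H : Submodule K (Fin 4 → K)} (haH : a ∈ H)
    (hH3 : finrank K ↥H = 3) (hq : ∀ w ∈ H, phi f a w w = 0)
    (hne : ∃ h ∈ H, MvPolynomial.eval h f ≠ 0) :
    {U : Submodule K (Fin 4 → K) | a ∈ U ∧ finrank K ↥U = 2 ∧
      (∀ u ∈ U, MvPolynomial.eval u f = 0) ∧ U ≤ H}.encard ≤ 3 := by
  classical
  obtain ⟨h, hhH, hFh⟩ := hne
  have hFa : MvPolynomial.eval a f = 0 := by rw [eval_eq_phi hf]; exact sing a
  -- h is not a multiple of a
  have hha : h ∉ Submodule.span K {a} := by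
    intro hmem
    obtain ⟨c, rfl⟩ := Submodule.mem_span_singleton.mp hmem
    apply hFh
    have := eval_comb' hf sing c 0 a
    simpa using this
  have hli2 : LinearIndependent K ![a, h] := by
    rw [LinearIndependent.pair_iff' ha]
    intro c hc
    exact hha (Submodule.mem_span_singleton.mpr ⟨c, hc⟩)
  -- a third vector
  obtain ⟨r, hrH, hr⟩ : ∃ r ∈ H, r ∉ Submodule.span K {a, h} := by
    by_contra hcon
    push Not at hcon
    have hle : H ≤ Submodule.span K {a, h} := hcon
    have h1 := Submodule.finrank_mono hle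
    rw [finrank_span_pair hli2] at h1
    omega
  have hrange2 : Set.range ![a, h] = {a, h} := by
    ext z; simp [eq_comm]; tauto
  have hli3 : LinearIndependent K (Fin.snoc ![a, h] r : Fin 3 → Fin 4 → K) := by
    rw [linearIndependent_finSnoc]
    refine ⟨hli2, ?_⟩
    rw [hrange2]; exact hr
  have hv : ∀ i, (Fin.snoc ![a, h] r : Fin 3 → Fin 4 → K) i ∈ H := by
    intro i
    fin_cases i
    · exact haH
    · exact hhH
    · exact hrH
  have hcoords : ∀ x ∈ H, ∃ x₀ x₁ x₂ : K, x = x₀ • a + x₁ • r + x₂ • h := by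
    intro x hx
    obtain ⟨c, hc⟩ := exists_coords3 hH3 hv hli3 hx
    rw [Fin.sum_univ_three] at hc
    refine ⟨c 0, c 2, c 1, ?_⟩
    rw [hc]
    have e0 : (Fin.snoc ![a, h] r : Fin 3 → Fin 4 → K) 0 = a := rfl
    have e1 : (Fin.snoc ![a, h] r : Fin 3 → Fin 4 → K) 1 = h := rfl
    have e2 : (Fin.snoc ![a, h] r : Fin 3 → Fin 4 → K) 2 = r := rfl
    rw [e0, e1, e2]; abel
  have hindep : ∀ x₀ x₁ x₂ : K, x₀ • a + x₁ • r + x₂ • h = 0 → x₀ = 0 ∧ x₁ = 0 ∧ x₂ = 0 := by
    intro x₀ x₁ x₂ h0
    have := Fintype.linearIndependent_iff.mp hli3 ![x₀, x₂, x₁] (by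
      rw [Fin.sum_univ_three]
      have e0 : (Fin.snoc ![a, h] r : Fin 3 → Fin 4 → K) 0 = a := rfl
      have e1 : (Fin.snoc ![a, h] r : Fin 3 → Fin 4 → K) 1 = h := rfl
      have e2 : (Fin.snoc ![a, h] r : Fin 3 → Fin 4 → K) 2 = r := rfl
      rw [e0, e1, e2]
      simp only [Matrix.cons_val_zero, Matrix.cons_val_one, Matrix.cons_val]
      rw [← h0]; abel)
    exact ⟨by simpa using this 0, by simpa using this 2, by simpa using this 1⟩
  -- the cubic polynomial
  set p : K[X] := C (phi f r r r) + C (3 * phi f r r h) * X + C (3 * phi f r h h) * X ^ 2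
    + C (phi f h h h) * X ^ 3 with hp
  have hc3 : phi f h h h ≠ 0 := by rw [← eval_eq_phi hf]; exact hFh
  have hpdeg : p.natDegree ≤ 3 := by rw [hp]; compute_degree
  have hp3 : p.coeff 3 = phi f h h h := by
    simp only [hp, coeff_add, coeff_C_mul, coeff_X_pow, coeff_C, coeff_X]
    norm_num
  have hp0 : p ≠ 0 := by
    intro h0; rw [h0, coeff_zero] at hp3; exact hc3 hp3.symm
  have hevalp : ∀ ρ : K, Polynomial.eval ρ p =
      phi f r r r + 3 * ρ * phi f r r h + 3 * ρ ^ 2 * phi f r h h + ρ ^ 3 * phi f h h h := by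
    intro ρ
    simp only [hp, eval_add, eval_mul, eval_pow, eval_C, eval_X]
    ring
  -- evaluation of the cubic on H
  have hevalH : ∀ x₀ x₁ x₂ : K, MvPolynomial.eval (x₀ • a + x₁ • r + x₂ • h) f =
      x₁ ^ 3 * phi f r r r + 3 * x₁ ^ 2 * x₂ * phi f r r h + 3 * x₁ * x₂ ^ 2 * phi f r h h
        + x₂ ^ 3 * phi f h h h := by
    intro x₀ x₁ x₂
    have hw : x₁ • r + x₂ • h ∈ H := H.add_mem (H.smul_mem _ hrH) (H.smul_mem _ hhH)
    have e : x₀ • a + x₁ • r + x₂ • h = x₀ • a + (1 : K) • (x₁ • r + x₂ • h) := by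
      rw [one_smul, add_assoc]
    rw [e, eval_comb' hf sing, hq _ hw, ← eval_eq_phi hf, eval_pair hf]
    ring
  -- the set of lines is contained in the image of the roots
  have hsub : {U : Submodule K (Fin 4 → K) | a ∈ U ∧ finrank K ↥U = 2 ∧
      (∀ u ∈ U, MvPolynomial.eval u f = 0) ∧ U ≤ H} ⊆
      (fun ρ : K => Submodule.span K {a, r + ρ • h}) '' {ρ : K | Polynomial.eval ρ p = 0} := by
    rintro U ⟨haU, hU2, hUS, hUH⟩
    obtain ⟨v, hvU, hva⟩ : ∃ v ∈ U, v ∉ Submodule.span K {a} := by
      by_contra hcon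
      push Not at hcon
      have hle : U ≤ Submodule.span K {a} := hcon
      have h1 := Submodule.finrank_mono hle
      rw [finrank_span_singleton ha] at h1
      omega
    obtain ⟨x₀, x₁, x₂, rfl⟩ := hcoords v (hUH hvU)
    have hFv := hUS _ hvU
    rw [hevalH] at hFv
    have hx₁ : x₁ ≠ 0 := by
      intro h0
      rw [h0] at hFv
      have : x₂ ^ 3 * phi f h h h = 0 := by linear_combination hFv
      rcases mul_eq_zero.mp this with h' | h'
      · apply hva
        rw [h0, pow_eq_zero_iff (three_ne_zero) |>.mp h', zero_smul, zero_smul, add_zero, add_zero]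
        exact Submodule.smul_mem _ _ (Submodule.subset_span rfl)
      · exact hc3 h'
    refine ⟨x₂ / x₁, ?_, ?_⟩
    · rw [Set.mem_ofPred_eq, hevalp]
      have h3 : x₁ ^ 3 ≠ 0 := pow_ne_zero 3 hx₁
      field_simp
      linear_combination hFv
    · show Submodule.span K {a, r + (x₂ / x₁) • h} = U
      have hmem : r + (x₂ / x₁) • h ∈ U := by
        have : r + (x₂ / x₁) • h = x₁⁻¹ • ((x₀ • a + x₁ • r + x₂ • h) - x₀ • a) := by
          have e : x₀ • a + x₁ • r + x₂ • h - x₀ • a = x₁ • r + x₂ • h := by abel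
          rw [e, smul_add, smul_smul, smul_smul, inv_mul_cancel₀ hx₁, one_smul, div_eq_inv_mul]
        rw [this]
        exact U.smul_mem _ (U.sub_mem hvU (U.smul_mem _ haU))
      have hli : LinearIndependent K ![a, r + (x₂ / x₁) • h] := by
        rw [LinearIndependent.pair_iff]
        intro s t hst
        have : s • a + t • r + (t * (x₂ / x₁)) • h = 0 := by
          rw [← hst, smul_add, smul_smul]; abel
        obtain ⟨h1, h2, -⟩ := hindep _ _ _ this
        exact ⟨h1, h2⟩
      apply Submodule.eq_of_le_of_finrank_eq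
      · rw [Submodule.span_le]
        intro z hz
        rcases hz with rfl | rfl
        · exact haU
        · exact hmem
      · rw [finrank_span_pair hli, hU2]
  calc _ ≤ ((fun ρ : K => Submodule.span K {a, r + ρ • h}) ''
        {ρ : K | Polynomial.eval ρ p = 0}).encard := Set.encard_le_encard hsub
    _ ≤ {ρ : K | Polynomial.eval ρ p = 0}.encard := Set.encard_image_le _ _
    _ ≤ 3 := by exact_mod_cast encard_roots_le hp0 hpdeg

end hyper

end Groth.Agent.Lib.Helper92.Nodal
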