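import Mathlib
import Groth.Agent.Lib.Helper92.SingLines

/-!
# At most six lines through a singular point of an irreducible cubic surface which is not a cone
-/

namespace Groth.Agent.Lib.Helper92.Nodal
open Groth.Agent.Lib.Helper95 Module
open Groth.Agent.Lib.Helper92.Tritangent (pt finrank_span_pair exists_basis_of_line)

section caseI
set_option linter.unusedSectionVars false
variable {K : Type*} [Field K] [CharZero K] {f : MvPolynomial (Fin 4) K}
variable {p e1 e2 e3 : Fin 4 → K}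

open Polynomial in
lemma coeff_Dq_all (e1 e2 e3 : Fin 4 → K) :
    (Dq f e1 e2 e3).coeff 0 = phi f e1 e1 e1 ∧
    (Dq f e1 e2 e3).coeff 1 = 3 * phi f e1 e1 e2 ∧
    (Dq f e1 e2 e3).coeff 2 = 3 * phi f e1 e2 e2 + 3 * phi f e1 e1 e3 ∧
    (Dq f e1 e2 e3).coeff 3 = phi f e2 e2 e2 + 6 * phi f e1 e2 e3 ∧
    (Dq f e1 e2 e3).coeff 4 = 3 * phi f e2 e2 e3 + 3 * phi f e1 e3 e3 ∧
    (Dq f e1 e2 e3).coeff 5 = 3 * phi f e2 e3 e3 ∧
    (Dq f e1 e2 e3).coeff 6 = phi f e3 e3 e3 := by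
  refine ⟨?_, ?_, ?_, ?_, ?_, ?_, ?_⟩ <;>
  · simp only [Dq, coeff_add, coeff_C_mul, coeff_X_pow, coeff_C, coeff_X]
    norm_num

/-- if the cubic vanishes on the whole tangent cone, it is reducible -/
theorem Frame.not_irreducible_of_Dq_eq_zero (F : Frame f p e1 e2 e3) (hf : f.IsHomogeneous 3)
    (hD : Dq f e1 e2 e3 = 0) : ¬ Irreducible f := by
  intro hirr
  obtain ⟨h0, h1, h2, h3, h4, h5, h6⟩ := coeff_Dq_all (f := f) e1 e2 e3
  rw [hD, Polynomial.coeff_zero] at h0 h1 h2 h3 h4 h5 h6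
  let b := basisOfLinearIndependentOfCardEqFinrank F.linearIndependent (by simp)
  have hb : ∀ i, b i = (![p, e1, e2, e3] : Fin 4 → Fin 4 → K) i := by
    intro i; simp [b]
  have hx : ∀ x : Fin 4 → K, x = cmb p e1 e2 e3 (fun i => b.coord i x) := by
    intro x
    rw [cmb_eq_sum]
    conv_lhs => rw [← b.sum_repr x]
    refine Finset.sum_congr rfl fun i _ => ?_
    rw [hb i]; rfl
  set Q : MvPolynomial (Fin 4) K :=
    linPoly (b.coord 1) * linPoly (b.coord 3) - linPoly (b.coord 2) ^ 2 with hQ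
  set L : MvPolynomial (Fin 4) K :=
    MvPolynomial.C 6 * linPoly (b.coord 0) + MvPolynomial.C (3 * phi f e1 e1 e3) * linPoly (b.coord 1)
      + MvPolynomial.C (6 * phi f e1 e2 e3) * linPoly (b.coord 2)
      + MvPolynomial.C (3 * phi f e1 e3 e3) * linPoly (b.coord 3) with hL
  have hfac : f = Q * L := by
    apply MvPolynomial.funext
    intro x
    simp only [hQ, hL, map_mul, map_sub, map_add, map_pow, MvPolynomial.eval_C, eval_linPoly]
    obtain ⟨c, hc⟩ : ∃ c : Fin 4 → K, c = fun i => b.coord i x := ⟨_, rfl⟩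
    have hc' : ∀ i, b.coord i x = c i := fun i => by rw [hc]
    rw [hc' 0, hc' 1, hc' 2, hc' 3]
    conv_lhs => rw [hx x, ← hc]
    have e : cmb p e1 e2 e3 c = c 0 • p + (1 : K) • pt e1 e2 e3 ![c 1, c 2, c 3] := by
      simp [cmb, pt]; abel
    have e' : pt e1 e2 e3 ![c 1, c 2, c 3] = cmb p e1 e2 e3 ![0, c 1, c 2, c 3] := by
      simp [cmb, pt]
    rw [e, F.eval_comb hf, phi_pt3]
    conv_lhs => rw [e', F.B_cmb]
    simp only [Matrix.cons_val_zero, Matrix.cons_val_one, Matrix.cons_val]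
    linear_combination -((c 1) ^ 3 * h0) - (c 1) ^ 2 * c 2 * h1 - c 1 * (c 2) ^ 2 * h2
      - (c 2) ^ 3 * h3 - (c 2) ^ 2 * c 3 * h4 - c 2 * (c 3) ^ 2 * h5 - (c 3) ^ 3 * h6
  rcases hirr.isUnit_or_isUnit hfac with h | h
  · refine not_isUnit_of_eval_zero ?_ h
    simp only [hQ, map_mul, map_sub, map_pow, eval_linPoly, map_zero]
    ring
  · refine not_isUnit_of_eval_zero ?_ h
    simp only [hL, map_mul, map_add, MvPolynomial.eval_C, eval_linPoly, map_zero]
    ring

open Polynomial in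
/-- a frame whose third vector is not on the cubic -/
theorem Frame.exists_good_of_ne_zero (F : Frame f p e1 e2 e3) (hD0 : Dq f e1 e2 e3 ≠ 0) :
    ∃ e1' e2' e3', Frame f p e1' e2' e3' ∧ phi f e3' e3' e3' ≠ 0 := by
  obtain ⟨r₀, hr₀⟩ : ∃ r₀, Polynomial.eval r₀ (Dq f e1 e2 e3) ≠ 0 := by
    by_contra hcon
    push Not at hcon
    apply hD0
    apply Polynomial.funext
    intro r
    rw [hcon, Polynomial.eval_zero]
  rw [eval_Dq] at hr₀
  refine ⟨e3, -e2 - (2 * r₀) • e3, vv e1 e2 e3 r₀,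
    ⟨F.hp, F.sing, F.g33, ?_, ?_, ?_, ?_, F.q_vv r₀⟩, hr₀⟩
  · have a1 : e3 = cmb p e1 e2 e3 ![0, 0, 0, 1] := by simp [cmb]
    have a2 : -e2 - (2 * r₀) • e3 = cmb p e1 e2 e3 ![0, 0, -1, -(2 * r₀)] := by
      simp [cmb]; abel
    rw [a2]
    conv_lhs => arg 3; rw [a1]
    rw [F.B_cmb]; simp
  · rw [phi_comm23]; exact F.B_vv_e3 r₀
  · have a2 : -e2 - (2 * r₀) • e3 = cmb p e1 e2 e3 ![0, 0, -1, -(2 * r₀)] := by
      simp [cmb]; abel
    rw [a2, F.B_cmb]; simp
  · have a2 : -e2 - (2 * r₀) • e3 = cmb p e1 e2 e3 ![0, 0, -1, -(2 * r₀)] := by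
      simp [cmb]; abel
    rw [phi_comm23, a2, F.B_vv_cmb]; simp

theorem encard_le_six_of_nondeg [IsAlgClosed K] (hf : f.IsHomogeneous 3) (hirr : Irreducible f)
    {a : Fin 4 → K} (ha : a ≠ 0) (sing : ∀ x, phi f a a x = 0)
    (nondeg : ∀ x, (∀ y, phi f a x y = 0) → x ∈ Submodule.span K {a}) :
    {U : Submodule K (Fin 4 → K) | a ∈ U ∧ finrank K ↥U = 2 ∧
      ∀ u ∈ U, MvPolynomial.eval u f = 0}.encard ≤ 6 := by
  obtain ⟨e1, e2, e3, F0⟩ := exists_frame ha sing nondeg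
  have hD0 : Dq f e1 e2 e3 ≠ 0 := fun h => F0.not_irreducible_of_Dq_eq_zero hf h hirr
  obtain ⟨e1', e2', e3', F, h333⟩ := F0.exists_good_of_ne_zero hD0
  rw [F.linesThrough_eq hf h333]
  have hD : Dq f e1' e2' e3' ≠ 0 := by
    intro h
    have := coeff_Dq (f := f) e1' e2' e3'
    rw [h, Polynomial.coeff_zero] at this
    exact h333 this.symm
  calc _ ≤ {r : K | Polynomial.eval r (Dq f e1' e2' e3') = 0}.encard := Set.encard_image_le _ _
    _ ≤ 6 := by exact_mod_cast encard_roots_le hD (natDegree_Dq e1' e2' e3')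

end caseI

section caseII
set_option linter.unusedSectionVars false
variable {K : Type*} [Field K] [CharZero K] {f : MvPolynomial (Fin 4) K}

/-- a degenerate polar quadric is a product of two linear forms -/
theorem exists_factor_polar [IsAlgClosed K] {a r : Fin 4 → K} (ha : a ≠ 0)
    (sing : ∀ x, phi f a a x = 0) (hr : r ∉ Submodule.span K {a}) (hrad : ∀ y, phi f a r y = 0) :
    ∃ l₁ l₂ : (Fin 4 → K) →ₗ[K] K, l₁ a = 0 ∧ l₂ a = 0 ∧ ∀ x, phi f a x x = l₁ x * l₂ x := by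
  have hli : LinearIndependent K ![a, r] := by
    rw [LinearIndependent.pair_iff' ha]
    intro c hc
    exact hr (Submodule.mem_span_singleton.mpr ⟨c, hc⟩)
  obtain ⟨b, hb⟩ := exists_basis_of_line (Submodule.span K {a, r}) (finrank_span_pair hli)
  -- the span of a, r lies in the radical
  have hradL : ∀ n ∈ Submodule.span K {a, r}, ∀ y, phi f a n y = 0 := by
    intro n hn y
    obtain ⟨α, β, rfl⟩ := Submodule.mem_span_pair.mp hn
    rw [phi_add_mid, phi_smul_mid, phi_smul_mid, sing, hrad]; ring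
  have hb0 : ∀ y, phi f a (b 0) y = 0 :=
    hradL _ (by rw [hb]; exact Submodule.subset_span (by simp))
  have hb1 : ∀ y, phi f a (b 1) y = 0 :=
    hradL _ (by rw [hb]; exact Submodule.subset_span (by simp))
  have hb0' : ∀ y, phi f a y (b 0) = 0 := fun y => by rw [phi_comm23]; exact hb0 y
  have hb1' : ∀ y, phi f a y (b 1) = 0 := fun y => by rw [phi_comm23]; exact hb1 y
  obtain ⟨m₁, n₁, m₂, n₂, hfac⟩ := exists_factor2 (phi f a (b 2) (b 2)) (phi f a (b 2) (b 3))
    (phi f a (b 3) (b 3))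
  have hcoord : ∀ (i : Fin 4) (x : Fin 4 → K), x ∈ Submodule.span K {b 0, b 1} → i ≠ 0 → i ≠ 1 →
      b.coord i x = 0 := by
    intro i x hx h0 h1
    obtain ⟨α, β, rfl⟩ := Submodule.mem_span_pair.mp hx
    simp [Basis.coord_apply, h0.symm, h1.symm]
  have haL : a ∈ Submodule.span K {b 0, b 1} := by
    rw [← hb]; exact Submodule.subset_span (by simp)
  refine ⟨m₁ • b.coord 2 + n₁ • b.coord 3, m₂ • b.coord 2 + n₂ • b.coord 3, ?_, ?_, ?_⟩
  · simp [hcoord 2 a haL (by decide) (by decide), hcoord 3 a haL (by decide) (by decide)]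
  · simp [hcoord 2 a haL (by decide) (by decide), hcoord 3 a haL (by decide) (by decide)]
  · intro x
    have hx : x = b.coord 0 x • b 0 + b.coord 1 x • b 1 + b.coord 2 x • b 2 + b.coord 3 x • b 3 := by
      conv_lhs => rw [← b.sum_repr x, Fin.sum_univ_four]
      rfl
    obtain ⟨c0, h0⟩ : ∃ c0, c0 = b.coord 0 x := ⟨_, rfl⟩
    obtain ⟨c1, h1⟩ : ∃ c1, c1 = b.coord 1 x := ⟨_, rfl⟩
    obtain ⟨c2, h2⟩ : ∃ c2, c2 = b.coord 2 x := ⟨_, rfl⟩
    obtain ⟨c3, h3⟩ : ∃ c3, c3 = b.coord 3 x := ⟨_, rfl⟩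
    simp only [LinearMap.add_apply, LinearMap.smul_apply, smul_eq_mul, ← h2, ← h3]
    rw [← h0, ← h1, ← h2, ← h3] at hx
    rw [hx]
    have c23 : phi f a (b 3) (b 2) = phi f a (b 2) (b 3) := phi_comm23 ..
    simp only [phi_add_mid, phi_add_right, phi_smul_mid, phi_smul_right, hb0, hb1, hb0', hb1', c23]
    rw [← hfac c2 c3]; ring

theorem encard_le_six_of_deg [IsAlgClosed K] (hf : f.IsHomogeneous 3) (hirr : Irreducible f)
    {a r : Fin 4 → K} (ha : a ≠ 0) (sing : ∀ x, phi f a a x = 0)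
    (hq0 : ∃ x, phi f a x x ≠ 0)
    (hr : r ∉ Submodule.span K {a}) (hrad : ∀ y, phi f a r y = 0) :
    {U : Submodule K (Fin 4 → K) | a ∈ U ∧ finrank K ↥U = 2 ∧
      ∀ u ∈ U, MvPolynomial.eval u f = 0}.encard ≤ 6 := by
  obtain ⟨l₁, l₂, hl₁a, hl₂a, hq⟩ := exists_factor_polar ha sing hr hrad
  have hl₁ : l₁ ≠ 0 := by
    rintro rfl
    obtain ⟨x, hx⟩ := hq0
    apply hx; rw [hq]; simp
  have hl₂ : l₂ ≠ 0 := by
    rintro rfl
    obtain ⟨x, hx⟩ := hq0
    apply hx; rw [hq]; simp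
  have key : ∀ l : (Fin 4 → K) →ₗ[K] K, l ≠ 0 → l a = 0 → (∀ w, l w = 0 → phi f a w w = 0) →
      {U : Submodule K (Fin 4 → K) | a ∈ U ∧ finrank K ↥U = 2 ∧
        (∀ u ∈ U, MvPolynomial.eval u f = 0) ∧ U ≤ LinearMap.ker l}.encard ≤ 3 := by
    intro l hl hla hlq
    have h3 : finrank K (LinearMap.ker l) = 3 := by
      have := Module.Dual.finrank_ker_add_one_of_ne_zero (f := l) hl
      rw [Module.finrank_fintype_fun_eq_card, Fintype.card_fin] at this
      omega
    obtain ⟨h, hlh, hFh⟩ := exists_ne_zero_on_ker hf hirr hl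
    exact encard_lines_in_hyperplane_le_three hf ha sing (LinearMap.mem_ker.mpr hla) h3
      (fun w hw => hlq w (LinearMap.mem_ker.mp hw)) ⟨h, LinearMap.mem_ker.mpr hlh, hFh⟩
  have k1 := key l₁ hl₁ hl₁a (fun w hw => by rw [hq, hw, zero_mul])
  have k2 := key l₂ hl₂ hl₂a (fun w hw => by rw [hq, hw, mul_zero])
  have hsub : {U : Submodule K (Fin 4 → K) | a ∈ U ∧ finrank K ↥U = 2 ∧
      ∀ u ∈ U, MvPolynomial.eval u f = 0} ⊆
      {U : Submodule K (Fin 4 → K) | a ∈ U ∧ finrank K ↥U = 2 ∧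
        (∀ u ∈ U, MvPolynomial.eval u f = 0) ∧ U ≤ LinearMap.ker l₁} ∪
      {U : Submodule K (Fin 4 → K) | a ∈ U ∧ finrank K ↥U = 2 ∧
        (∀ u ∈ U, MvPolynomial.eval u f = 0) ∧ U ≤ LinearMap.ker l₂} := by
    rintro U ⟨haU, hU2, hUS⟩
    obtain ⟨v, hvU, hva⟩ : ∃ v ∈ U, v ∉ Submodule.span K {a} := by
      by_contra hcon
      push Not at hcon
      have hle : U ≤ Submodule.span K {a} := hcon
      have h1 := Submodule.finrank_mono hle
      rw [finrank_span_singleton ha] at h1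
      omega
    have hqv := (line_facts hf U haU hvU hUS).1
    rw [hq] at hqv
    have hspan := span_pair_eq_of_finrank_two U hU2 ha haU hvU hva
    rcases mul_eq_zero.mp hqv with h | h
    · left
      refine ⟨haU, hU2, hUS, ?_⟩
      rw [← hspan, Submodule.span_le]
      intro z hz
      rcases hz with rfl | rfl
      · exact LinearMap.mem_ker.mpr hl₁a
      · exact LinearMap.mem_ker.mpr h
    · right
      refine ⟨haU, hU2, hUS, ?_⟩
      rw [← hspan, Submodule.span_le]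
      intro z hz
      rcases hz with rfl | rfl
      · exact LinearMap.mem_ker.mpr hl₂a
      · exact LinearMap.mem_ker.mpr h
  calc _ ≤ _ := Set.encard_le_encard hsub
    _ ≤ _ + _ := Set.encard_union_le _ _
    _ ≤ 3 + 3 := add_le_add k1 k2
    _ = 6 := by norm_num

/-- at most six lines pass through a singular point of an irreducible cubic surface which is not
a cone -/
theorem encard_lines_through_singular_le_six [IsAlgClosed K] (hf : f.IsHomogeneous 3)
    (hirr : Irreducible f)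
    (hcone : ¬ ∃ v : Fin 4 → K, v ≠ 0 ∧ ∑ i : Fin 4, v i • MvPolynomial.pderiv i f = 0)
    (a : Fin 4 → K) (ha : a ≠ 0)
    (hsing : ∀ i : Fin 4, MvPolynomial.eval a (MvPolynomial.pderiv i f) = 0) :
    {U : Submodule K (Fin 4 → K) | a ∈ U ∧ finrank K ↥U = 2 ∧
      ∀ u ∈ U, MvPolynomial.eval u f = 0}.encard ≤ 6 := by
  have sing := sing_of_pderiv hf hsing
  have hq0 : ∃ x, phi f a x x ≠ 0 := by
    by_contra hcon
    push Not at hcon
    apply hcone
    refine ⟨a, ha, ?_⟩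
    show dirPoly f a = 0
    apply MvPolynomial.funext
    intro x
    rw [eval_dirPoly hf, map_zero, phi_comm13, phi_comm23, hcon, mul_zero]
  by_cases nondeg : ∀ x, (∀ y, phi f a x y = 0) → x ∈ Submodule.span K {a}
  · exact encard_le_six_of_nondeg hf hirr ha sing nondeg
  · push Not at nondeg
    obtain ⟨r, hrad, hr⟩ := nondeg
    exact encard_le_six_of_deg hf hirr ha sing hq0 hr hrad

end caseII

end Groth.Agent.Lib.Helper92.Nodal
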