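import Mathlib

/-!
# Symmetric / alternating squares over `ZMod 2` (helper92)

For a `ZMod 2`-module `V`, `Na V` is the span of the tensors `v ⊗ v` and `Ns V` the span of the
tensors `x ⊗ y + y ⊗ x`.  Given a basis `b` of `V`, `Wb b` is the span of the `b i ⊗ b j`, `i ≠ j`
and `Db b` the span of the `b i ⊗ b i`.  Main facts: `Wb b ⊓ Na V = Ns V`, `Wb b ⊔ Na V = ⊤`.
-/

set_option autoImplicit false

namespace Groth.Agent.Lib.Helper92

open TensorProduct

universe v w

variable (V : Type v) [AddCommGroup V] [Module (ZMod 2) V]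

/-- span of the `v ⊗ v`. -/
abbrev Na : Submodule (ZMod 2) (V ⊗[ZMod 2] V) :=
  Submodule.span (ZMod 2) (Set.range fun v : V => v ⊗ₜ[ZMod 2] v)

/-- span of the `x ⊗ y + y ⊗ x`. -/
abbrev Ns : Submodule (ZMod 2) (V ⊗[ZMod 2] V) :=
  Submodule.span (ZMod 2) (Set.range fun p : V × V => p.1 ⊗ₜ[ZMod 2] p.2 + p.2 ⊗ₜ[ZMod 2] p.1)

theorem add_self_zmod2 {M : Type*} [AddCommGroup M] [Module (ZMod 2) M] (x : M) : x + x = 0 := by
  rw [← two_smul (ZMod 2) x]
  have : (2 : ZMod 2) = 0 := rfl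
  rw [this, zero_smul]

theorem Ns_le_Na : Ns V ≤ Na V := by
  rw [Submodule.span_le]
  rintro _ ⟨⟨x, y⟩, rfl⟩
  have : x ⊗ₜ[ZMod 2] y + y ⊗ₜ[ZMod 2] x
      = (x + y) ⊗ₜ[ZMod 2] (x + y) - x ⊗ₜ[ZMod 2] x - y ⊗ₜ[ZMod 2] y := by
    rw [TensorProduct.add_tmul, TensorProduct.tmul_add, TensorProduct.tmul_add]
    abel
  simp only
  rw [this]
  refine Submodule.sub_mem _ (Submodule.sub_mem _ ?_ ?_) ?_ <;>
    exact Submodule.subset_span ⟨_, rfl⟩

variable {V}
variable {ι : Type w} (b : Module.Basis ι (ZMod 2) V)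

/-- span of the off-diagonal basis tensors. -/
noncomputable abbrev Wb : Submodule (ZMod 2) (V ⊗[ZMod 2] V) :=
  Submodule.span (ZMod 2) ((b.tensorProduct b) '' {p : ι × ι | p.1 ≠ p.2})

/-- span of the diagonal basis tensors. -/
noncomputable abbrev Db : Submodule (ZMod 2) (V ⊗[ZMod 2] V) :=
  Submodule.span (ZMod 2) ((b.tensorProduct b) '' {p : ι × ι | p.1 = p.2})

theorem isCompl_Wb_Db : IsCompl (Wb b) (Db b) := by
  apply LinearIndependent.isCompl_span_image (b.tensorProduct b).linearIndependent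
    (b.tensorProduct b).span_eq
  constructor
  · rw [Set.disjoint_iff]
    rintro p ⟨h1, h2⟩
    exact h1 h2
  · rw [codisjoint_iff_le_sup]
    intro p _
    exact (em (p.1 = p.2)).symm

theorem tmul_mem_Wb {i j : ι} (h : i ≠ j) : b i ⊗ₜ[ZMod 2] b j ∈ Wb b := by
  apply Submodule.subset_span
  exact ⟨(i, j), h, by simp⟩

theorem tmul_mem_Db (i : ι) : b i ⊗ₜ[ZMod 2] b i ∈ Db b := by
  apply Submodule.subset_span
  exact ⟨(i, i), rfl, by simp⟩

theorem Ns_le_Wb : Ns V ≤ Wb b := by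
  rw [Submodule.span_le]
  rintro _ ⟨⟨x, y⟩, rfl⟩
  -- bilinear map T x y = x ⊗ y + y ⊗ x followed by the quotient by Wb
  let T : V →ₗ[ZMod 2] V →ₗ[ZMod 2] (V ⊗[ZMod 2] V) :=
    TensorProduct.mk (ZMod 2) V V + (TensorProduct.mk (ZMod 2) V V).flip
  have hT : ∀ x y : V, T x y = x ⊗ₜ[ZMod 2] y + y ⊗ₜ[ZMod 2] x := fun x y => rfl
  have hzero : T.compr₂ (Wb b).mkQ = 0 := by
    apply LinearMap.ext_basis b b
    intro i j
    simp only [LinearMap.compr₂_apply, LinearMap.zero_apply, Submodule.mkQ_apply,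
      Submodule.Quotient.mk_eq_zero, hT]
    by_cases hij : i = j
    · subst hij
      rw [add_self_zmod2]
      exact Submodule.zero_mem _
    · exact Submodule.add_mem _ (tmul_mem_Wb b hij) (tmul_mem_Wb b (Ne.symm hij))
  have := LinearMap.congr_fun (LinearMap.congr_fun hzero x) y
  simp only [LinearMap.compr₂_apply, LinearMap.zero_apply, Submodule.mkQ_apply,
    Submodule.Quotient.mk_eq_zero, hT] at this
  exact this

theorem Db_le_Na : Db b ≤ Na V := by
  rw [Submodule.span_le]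
  rintro _ ⟨⟨i, j⟩, hij, rfl⟩
  simp only [Set.mem_ofPred_eq] at hij
  subst hij
  rw [Module.Basis.tensorProduct_apply]
  exact Submodule.subset_span ⟨b i, rfl⟩

theorem Na_le_Ns_sup_Db : Na V ≤ Ns V ⊔ Db b := by
  rw [Submodule.span_le]
  rintro _ ⟨v, rfl⟩
  simp only
  have hv : v ∈ Submodule.span (ZMod 2) (Set.range b) := by rw [b.span_eq]; trivial
  induction hv using Submodule.span_induction with
  | mem x hx =>
    obtain ⟨i, rfl⟩ := hx
    exact Submodule.mem_sup_right (tmul_mem_Db b i)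
  | zero =>
    rw [TensorProduct.zero_tmul]
    exact Submodule.zero_mem _
  | add x y _ _ hx hy =>
    have : (x + y) ⊗ₜ[ZMod 2] (x + y)
        = x ⊗ₜ[ZMod 2] x + y ⊗ₜ[ZMod 2] y + (x ⊗ₜ[ZMod 2] y + y ⊗ₜ[ZMod 2] x) := by
      rw [TensorProduct.add_tmul, TensorProduct.tmul_add, TensorProduct.tmul_add]
      abel
    rw [this]
    refine Submodule.add_mem _ (Submodule.add_mem _ hx hy) ?_
    exact Submodule.mem_sup_left (Submodule.subset_span ⟨(x, y), rfl⟩)
  | smul c x _ hx =>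
    rw [TensorProduct.smul_tmul_smul]
    exact Submodule.smul_mem _ _ hx

theorem Wb_inf_Na : Wb b ⊓ Na V = Ns V := by
  apply le_antisymm
  · rintro t ⟨htW, htN⟩
    have := Na_le_Ns_sup_Db b htN
    rw [Submodule.mem_sup] at this
    obtain ⟨n, hn, d, hd, rfl⟩ := this
    have hnW : n ∈ Wb b := Ns_le_Wb b hn
    have hdW : d ∈ Wb b := by
      have : d = (n + d) - n := by abel
      rw [this]
      exact Submodule.sub_mem _ htW hnW
    have hd0 : d = 0 := by
      have := (isCompl_Wb_Db b).disjoint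
      rw [Submodule.disjoint_def] at this
      exact this d hdW hd
    rw [hd0, add_zero]
    exact hn
  · exact le_inf (Ns_le_Wb b) (Ns_le_Na V)

theorem Wb_sup_Na : Wb b ⊔ Na V = ⊤ := by
  rw [eq_top_iff, ← (isCompl_Wb_Db b).sup_eq_top]
  exact sup_le_sup_left (Db_le_Na b) _

end Groth.Agent.Lib.Helper92
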