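import Mathlib

set_option linter.unusedSectionVars false
set_option linter.unusedSimpArgs false
set_option linter.unusedVariables false

/-!
# Symmetric tensors and traces, part 1: weights of functions `Fin n → Fin r`
-/

namespace Groth.Agent.Lib.Helper92.SymTr

open Finset

variable {n r : ℕ}

/-- The weight (fibre cardinalities) of a function. -/
noncomputable def wt (p : Fin n → Fin r) : Fin r →₀ ℕ := ∑ k, Finsupp.single (p k) 1

theorem wt_apply (p : Fin n → Fin r) (i : Fin r) :
    wt p i = (univ.filter (fun k => p k = i)).card := by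
  classical
  simp only [wt, Finsupp.finset_sum_apply, Finsupp.single_apply, Finset.card_filter]

theorem wt_comp (p : Fin n → Fin r) (σ : Equiv.Perm (Fin n)) : wt (p ∘ σ) = wt p := by
  simp only [wt, Function.comp]
  exact Equiv.sum_comp σ (fun k => Finsupp.single (p k) 1)

theorem wt_mem (p : Fin n → Fin r) : wt p ∈ finsuppAntidiag (univ : Finset (Fin r)) n := by
  classical
  rw [mem_finsuppAntidiag]
  refine ⟨?_, subset_univ _⟩
  simp only [wt, Finsupp.finset_sum_apply]
  rw [Finset.sum_comm]
  simp [Finsupp.single_apply]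

theorem exists_perm_of_wt_eq (p q : Fin n → Fin r) (h : wt p = wt q) :
    ∃ σ : Equiv.Perm (Fin n), q = p ∘ σ := by
  classical
  have hc : ∀ i, Fintype.card {k // q k = i} = Fintype.card {k // p k = i} := by
    intro i
    have := DFunLike.congr_fun h i
    rw [wt_apply, wt_apply] at this
    rw [Fintype.card_subtype, Fintype.card_subtype, this]
  let e : ∀ i, {k // q k = i} ≃ {k // p k = i} := fun i => Fintype.equivOfCardEq (hc i)
  refine ⟨Equiv.ofFiberEquiv e, ?_⟩
  funext k
  exact (Equiv.ofFiberEquiv_map e k).symm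

theorem exists_wt_eq (m : Fin r →₀ ℕ) (hm : m ∈ finsuppAntidiag (univ : Finset (Fin r)) n) :
    ∃ p : Fin n → Fin r, wt p = m := by
  classical
  rw [mem_finsuppAntidiag] at hm
  have hsum : ∑ i, m i = n := hm.1
  let e : (Σ i : Fin r, Fin (m i)) ≃ Fin n := finSigmaFinEquiv.trans (finCongr hsum)
  refine ⟨fun k => (e.symm k).1, ?_⟩
  ext i
  rw [wt_apply, ← Fintype.card_subtype]
  have e1 : {k : Fin n // (e.symm k).1 = i} ≃ {x : Σ i : Fin r, Fin (m i) // x.1 = i} :=
    e.symm.subtypeEquiv (fun k => Iff.rfl)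
  rw [Fintype.card_congr e1, Fintype.card_congr (Equiv.sigmaSubtype i), Fintype.card_fin]

/-- Sum of values is invariant under permutations. -/
theorem sum_val_comp (p : Fin n → Fin r) (σ : Equiv.Perm (Fin n)) :
    ∑ k, ((p ∘ σ) k : ℕ) = ∑ k, (p k : ℕ) :=
  Equiv.sum_comp σ (fun k => (p k : ℕ))

/-- If `q` has the same weight as `p` and `q ≤ p` pointwise then `q = p`. -/
theorem eq_of_wt_eq_of_le (p q : Fin n → Fin r) (h : wt p = wt q) (hle : ∀ k, q k ≤ p k) :
    q = p := by
  obtain ⟨σ, rfl⟩ := exists_perm_of_wt_eq p q h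
  have hs := sum_val_comp p σ
  funext k
  by_contra hne
  have hlt : ((p ∘ σ) k : ℕ) < (p k : ℕ) := by
    have := hle k
    exact lt_of_le_of_ne this (fun h' => hne (Fin.ext h'))
  have : ∑ k, ((p ∘ σ) k : ℕ) < ∑ k, (p k : ℕ) :=
    Finset.sum_lt_sum (fun k _ => hle k) ⟨k, mem_univ _, hlt⟩
  omega

end Groth.Agent.Lib.Helper92.SymTr
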