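import Groth.Agent.Lib.Helper92.SymTr1

set_option linter.unusedSectionVars false
set_option linter.unusedSimpArgs false
set_option linter.unusedVariables false

/-!
# Symmetric tensors and traces, part 2: the trace of the induced map on symmetric tensors
-/

namespace Groth.Agent.Lib.Helper92.SymTr

open Finset TensorProduct PiTensorProduct Module

/-- The index type: weights of total degree `n`. -/
abbrev Idx (n r : ℕ) : Type := ↥(finsuppAntidiag (univ : Finset (Fin r)) n)

/-- The weight of a function as an element of `Idx`. -/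
noncomputable def wtI {n r : ℕ} (p : Fin n → Fin r) : Idx n r := ⟨wt p, wt_mem p⟩

/-- A chosen function of given weight. -/
noncomputable def rep {n r : ℕ} (m : Idx n r) : Fin n → Fin r := (exists_wt_eq m.1 m.2).choose

theorem wt_rep {n r : ℕ} (m : Idx n r) : wt (rep m) = m.1 := (exists_wt_eq m.1 m.2).choose_spec

theorem wtI_rep {n r : ℕ} (m : Idx n r) : wtI (rep m) = m := Subtype.ext (wt_rep m)

theorem wtI_comp {n r : ℕ} (p : Fin n → Fin r) (σ : Equiv.Perm (Fin n)) : wtI (p ∘ σ) = wtI p :=
  Subtype.ext (wt_comp p σ)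

open Classical in
/-- The universal trace polynomial. -/
noncomputable def Tn {A : Type*} [CommRing A] (n : ℕ) {r : ℕ} (a : Matrix (Fin r) (Fin r) A) : A :=
  ∑ m : Idx n r, ∑ p : Fin n → Fin r, if wtI p = m then ∏ k, a (rep m k) (p k) else 0

theorem map_Tn {A B : Type*} [CommRing A] [CommRing B] (φ : A →+* B) (n : ℕ) {r : ℕ}
    (a : Matrix (Fin r) (Fin r) A) : φ (Tn n a) = Tn n (a.map φ) := by
  classical
  simp only [Tn, map_sum, apply_ite φ, map_prod, map_zero, Matrix.map_apply]

section Trace

variable {A : Type*} [CommRing A] {M : Type*} [AddCommGroup M] [Module A M]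
variable {n r : ℕ} (b : Basis (Fin r) A M)

/-- The invariant submodule of symmetric tensors. -/
abbrev Gam (A : Type*) [CommRing A] (M : Type*) [AddCommGroup M] [Module A M] (n : ℕ) :
    Submodule A (⨂[A] _i : Fin n, M) :=
  ⨅ σ : Equiv.Perm (Fin n),
    LinearMap.eqLocus ((PiTensorProduct.reindex A (fun _ : Fin n => M) σ).toLinearMap) LinearMap.id

theorem mem_Gam {x : ⨂[A] _i : Fin n, M} :
    x ∈ Gam A M n ↔ ∀ σ : Equiv.Perm (Fin n), PiTensorProduct.reindex A (fun _ : Fin n => M) σ x = x := by
  simp only [Gam, Submodule.mem_iInf, LinearMap.mem_eqLocus, LinearEquiv.coe_coe, LinearMap.id_apply]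

/-- The tensor basis. -/
noncomputable abbrev TB : Basis (Fin n → Fin r) A (⨂[A] _i : Fin n, M) :=
  Basis.piTensorProduct (fun _ : Fin n => b)

theorem reindex_TB (σ : Equiv.Perm (Fin n)) (p : Fin n → Fin r) :
    PiTensorProduct.reindex A (fun _ : Fin n => M) σ (TB b p) = TB b (p ∘ σ.symm) := by
  simp only [TB, Basis.piTensorProduct_apply]
  rw [PiTensorProduct.reindex_tprod]
  rfl

theorem repr_reindex (σ : Equiv.Perm (Fin n)) (x : ⨂[A] _i : Fin n, M) (q : Fin n → Fin r) :
    (TB b).repr (PiTensorProduct.reindex A (fun _ : Fin n => M) σ x) q = (TB b).repr x (q ∘ σ) := by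
  classical
  let L1 : (⨂[A] _i : Fin n, M) →ₗ[A] A :=
    (Finsupp.lapply q) ∘ₗ ((TB b).repr.toLinearMap) ∘ₗ
      (PiTensorProduct.reindex A (fun _ : Fin n => M) σ).toLinearMap
  let L2 : (⨂[A] _i : Fin n, M) →ₗ[A] A :=
    (Finsupp.lapply (q ∘ σ)) ∘ₗ ((TB b).repr.toLinearMap)
  have h : L1 = L2 := by
    apply (TB b).ext
    intro p
    simp only [L1, L2, LinearMap.coe_comp, LinearEquiv.coe_coe, Function.comp_apply,
      Finsupp.lapply_apply]
    rw [reindex_TB, Basis.repr_self, Basis.repr_self, Finsupp.single_apply, Finsupp.single_apply]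
    have : (p ∘ σ.symm = q) ↔ (p = q ∘ σ) := by
      constructor
      · rintro rfl; funext k; simp
      · rintro rfl; funext k; simp
    simp only [this]
  exact LinearMap.congr_fun h x

theorem mem_Gam_iff_repr {x : ⨂[A] _i : Fin n, M} :
    x ∈ Gam A M n ↔ ∀ (σ : Equiv.Perm (Fin n)) (q : Fin n → Fin r),
      (TB b).repr x (q ∘ σ) = (TB b).repr x q := by
  rw [mem_Gam]
  constructor
  · intro h σ q
    rw [← repr_reindex, h σ]
  · intro h σ
    apply (TB b).repr.injective
    ext q
    rw [repr_reindex, h σ q]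

theorem repr_eq_of_wt_eq {x : ⨂[A] _i : Fin n, M} (hx : x ∈ Gam A M n) (p q : Fin n → Fin r)
    (h : wt p = wt q) : (TB b).repr x q = (TB b).repr x p := by
  obtain ⟨σ, rfl⟩ := exists_perm_of_wt_eq p q h
  exact (mem_Gam_iff_repr b).mp hx σ p

/-- The inverse coordinate map. -/
noncomputable def PsiInv0 : (Idx n r → A) →ₗ[A] (⨂[A] _i : Fin n, M) where
  toFun c := ∑ p : Fin n → Fin r, c (wtI p) • TB b p
  map_add' := by
    intro c d
    simp only [Pi.add_apply, add_smul, Finset.sum_add_distrib]
  map_smul' := by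
    intro t c
    simp only [Pi.smul_apply, smul_eq_mul, mul_smul, Finset.smul_sum, RingHom.id_apply]

theorem repr_PsiInv0 (c : Idx n r → A) (q : Fin n → Fin r) :
    (TB b).repr (PsiInv0 b c) q = c (wtI q) := by
  simp only [PsiInv0, LinearMap.coe_mk, AddHom.coe_mk]
  rw [Basis.repr_sum_self]

theorem PsiInv0_mem (c : Idx n r → A) : PsiInv0 b c ∈ Gam A M n := by
  rw [mem_Gam_iff_repr b]
  intro σ q
  rw [repr_PsiInv0, repr_PsiInv0, wtI_comp]

/-- The coordinate map. -/
noncomputable def Psi0 : (Gam A M n) →ₗ[A] (Idx n r → A) where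
  toFun x := fun m => (TB b).repr x.1 (rep m)
  map_add' := by
    intro x y
    funext m
    simp
  map_smul' := by
    intro t x
    funext m
    simp

/-- The coordinate equivalence. -/
noncomputable def Psi : (Gam A M n) ≃ₗ[A] (Idx n r → A) :=
  LinearEquiv.ofLinear (Psi0 b) ((PsiInv0 b).codRestrict (Gam A M n) (PsiInv0_mem b))
    (by
      apply LinearMap.ext
      intro c
      funext m
      simp only [LinearMap.coe_comp, Function.comp_apply, LinearMap.id_coe, id_eq, Psi0,
        LinearMap.coe_mk, AddHom.coe_mk, LinearMap.codRestrict_apply]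
      rw [repr_PsiInv0, wtI_rep])
    (by
      apply LinearMap.ext
      intro x
      apply Subtype.ext
      simp only [LinearMap.coe_comp, Function.comp_apply, LinearMap.id_coe, id_eq,
        LinearMap.codRestrict_apply]
      apply (TB b).repr.injective
      ext q
      rw [repr_PsiInv0]
      simp only [Psi0, LinearMap.coe_mk, AddHom.coe_mk]
      exact (repr_eq_of_wt_eq b x.2 q (rep (wtI q)) (by rw [wt_rep]; rfl)))

theorem Psi_apply (x : Gam A M n) (m : Idx n r) : Psi b x m = (TB b).repr x.1 (rep m) := rfl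

theorem Psi_symm_coe (c : Idx n r → A) : ((Psi b).symm c : ⨂[A] _i : Fin n, M) = PsiInv0 b c := rfl

theorem trace_eq_Tn (u : M →ₗ[A] M) (γ : Gam A M n →ₗ[A] Gam A M n)
    (hγ : ∀ x : Gam A M n, ((γ x : Gam A M n) : ⨂[A] _i : Fin n, M) =
      PiTensorProduct.map (fun _ : Fin n => u) (x : ⨂[A] _i : Fin n, M)) :
    LinearMap.trace A _ γ = Tn n (LinearMap.toMatrix b b u) := by
  classical
  rw [← LinearMap.trace_conj' γ (Psi b),
    LinearMap.trace_eq_matrix_trace A (Pi.basisFun A (Idx n r)), Matrix.trace]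
  simp only [Matrix.diag_apply, LinearMap.toMatrix_apply, Pi.basisFun_repr, Pi.basisFun_apply,
    LinearEquiv.conj_apply_apply, Tn]
  refine Finset.sum_congr rfl (fun m _ => ?_)
  rw [Psi_apply, hγ, Psi_symm_coe]
  simp only [PsiInv0, LinearMap.coe_mk, AddHom.coe_mk, map_sum, map_smul, Finsupp.coe_finset_sum,
    Finsupp.coe_smul, Finset.sum_apply, Pi.smul_apply, smul_eq_mul]
  refine Finset.sum_congr rfl (fun p _ => ?_)
  have h1 : (TB b).repr (PiTensorProduct.map (fun _ : Fin n => u) (TB b p)) (rep m) =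
      ∏ k, LinearMap.toMatrix b b u (rep m k) (p k) := by
    simp only [TB, Basis.piTensorProduct_apply, PiTensorProduct.map_tprod,
      Basis.piTensorProduct_repr_tprod_apply, LinearMap.toMatrix_apply]
  rw [h1, Pi.single_apply]
  by_cases h : wtI p = m
  · simp [h, LinearMap.toMatrix_apply]
  · simp [h]

end Trace

end Groth.Agent.Lib.Helper92.SymTr
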