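import Groth.Agent.Lib.Helper92.SymTr2
import Groth.Prelude.Def_SGA4hB

set_option linter.unusedSectionVars false
set_option linter.unusedSimpArgs false
set_option linter.unusedVariables false

/-!
# Symmetric tensors and traces, part 3: determinant side and the triangular case
-/

namespace Groth.Agent.Lib.Helper92.SymTr

open Finset Module Polynomial

section Det
universe u
variable {A : Type u} [CommRing A] {M : Type u} [AddCommGroup M] [Module A M] {r : ℕ}

open TensorProduct in
theorem detOneSub_eq (b : Basis (Fin r) A M) (u : M →ₗ[A] M) :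
    SGA4h.detOneSub (ModuleCat.of A M) (ModuleCat.ofHom u) =
      (LinearMap.toMatrix b b u).charpolyRev := by
  unfold SGA4h.detOneSub
  rw [ModuleCat.hom_ofHom]
  rw [← LinearMap.det_toMatrix (Algebra.TensorProduct.basis A[X] b)]
  have h1 := map_sub (LinearMap.toMatrix (Algebra.TensorProduct.basis A[X] b)
    (Algebra.TensorProduct.basis A[X] b)) LinearMap.id ((X : A[X]) • LinearMap.baseChange A[X] u)
  rw [h1]
  have h2 := map_smul (LinearMap.toMatrix (Algebra.TensorProduct.basis A[X] b)
    (Algebra.TensorProduct.basis A[X] b)) (X : A[X]) (LinearMap.baseChange A[X] u)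
  rw [h2, LinearMap.toMatrix_baseChange, LinearMap.toMatrix_id]
  rfl

end Det

section Tri
variable {K : Type*} [CommRing K] {r : ℕ}

theorem prod_comp_wt {n : ℕ} (f : Fin r → K) (p : Fin n → Fin r) :
    ∏ k, f (p k) = ∏ i, f i ^ (wt p i) := by
  classical
  rw [Finset.prod_comp]
  rw [Finset.prod_subset (Finset.subset_univ _)]
  · refine Finset.prod_congr rfl (fun i _ => ?_)
    rw [wt_apply]
  · intro i _ hi
    have : (univ.filter (fun k => p k = i)).card = 0 := by
      rw [Finset.card_eq_zero, Finset.filter_eq_empty_iff]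
      intro k _ hk
      exact hi (Finset.mem_image.mpr ⟨k, Finset.mem_univ _, hk⟩)
    rw [this, pow_zero]

theorem Tn_of_lower (a : Matrix (Fin r) (Fin r) K) (h : ∀ i j, i < j → a i j = 0) (n : ℕ) :
    Tn n a = ∑ m ∈ finsuppAntidiag (univ : Finset (Fin r)) n, ∏ i, a i i ^ (m i) := by
  classical
  rw [← Finset.sum_coe_sort]
  unfold Tn
  refine Finset.sum_congr rfl (fun m _ => ?_)
  rw [Finset.sum_eq_single (rep m)]
  · rw [if_pos (wtI_rep m), prod_comp_wt (fun i => a i i) (rep m), wt_rep]
  · intro p _ hp
    by_cases hw : wtI p = m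
    · rw [if_pos hw]
      have hex : ∃ k, rep m k < p k := by
        by_contra hcon
        push Not at hcon
        apply hp
        apply eq_of_wt_eq_of_le (rep m) p ?_ hcon
        rw [wt_rep, ← hw]; rfl
      obtain ⟨k, hk⟩ := hex
      exact Finset.prod_eq_zero (Finset.mem_univ k) (h _ _ hk)
    · rw [if_neg hw]
  · intro hne
    exact absurd (Finset.mem_univ _) hne

theorem charpolyRev_of_lower (a : Matrix (Fin r) (Fin r) K) (h : ∀ i j, i < j → a i j = 0) :
    a.charpolyRev = ∏ i, (1 - X * C (a i i)) := by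
  unfold Matrix.charpolyRev
  rw [Matrix.det_of_isLowerTriangular]
  · refine Finset.prod_congr rfl (fun i _ => ?_)
    simp
  · intro i j hij
    have hij' : i < j := hij
    have hne : i ≠ j := ne_of_lt hij'
    simp [h i j hij', Matrix.one_apply_ne hne]

theorem geom_mul (c : K) :
    ((1 - X * C c : K[X]) : PowerSeries K) * PowerSeries.mk (fun k => c ^ k) = 1 := by
  rw [Polynomial.coe_sub, Polynomial.coe_one, Polynomial.coe_mul, Polynomial.coe_X,
    Polynomial.coe_C]
  ext k
  rw [sub_mul, one_mul, map_sub, mul_assoc, PowerSeries.coeff_mk]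
  cases k with
  | zero => simp
  | succ k =>
    rw [PowerSeries.coeff_succ_X_mul, PowerSeries.coeff_C_mul, PowerSeries.coeff_mk,
      PowerSeries.coeff_one]
    simp [pow_succ, mul_comm]

theorem main_of_lower (a : Matrix (Fin r) (Fin r) K) (h : ∀ i j, i < j → a i j = 0) :
    (a.charpolyRev : PowerSeries K) * PowerSeries.mk (fun n => Tn n a) = 1 := by
  classical
  have h1 : PowerSeries.mk (fun n => Tn n a) =
      ∏ i : Fin r, PowerSeries.mk (fun k => (a i i) ^ k) := by
    ext n
    rw [PowerSeries.coeff_mk, PowerSeries.coeff_prod, Tn_of_lower a h]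
    refine Finset.sum_congr rfl (fun m _ => ?_)
    refine Finset.prod_congr rfl (fun i _ => ?_)
    rw [PowerSeries.coeff_mk]
  rw [h1, charpolyRev_of_lower a h]
  have h2 : ((∏ i : Fin r, (1 - X * C (a i i)) : K[X]) : PowerSeries K) =
      ∏ i : Fin r, ((1 - X * C (a i i) : K[X]) : PowerSeries K) := by
    rw [← Polynomial.coeToPowerSeries.ringHom_apply, map_prod]
    rfl
  rw [h2, ← Finset.prod_mul_distrib]
  exact Finset.prod_eq_one (fun i _ => geom_mul (a i i))

end Tri

end Groth.Agent.Lib.Helper92.SymTr
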