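import Groth.Agent.Lib.Helper92.SymTr3

set_option linter.unusedSectionVars false
set_option linter.unusedSimpArgs false
set_option linter.unusedVariables false

/-!
# Symmetric tensors and traces, part 4: triangular bases over an algebraically closed field
-/

namespace Groth.Agent.Lib.Helper92.SymTr

open Finset Module

universe v

theorem exists_lower_basis {K : Type*} [Field K] [IsAlgClosed K] :
    ∀ (r : ℕ) {V : Type v} [AddCommGroup V] [Module K V] [FiniteDimensional K V]
      (hr : Module.finrank K V = r) (u : V →ₗ[K] V),
      ∃ b : Basis (Fin r) K V, ∀ i j, i < j → LinearMap.toMatrix b b u i j = 0 := by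
  intro r
  induction r with
  | zero =>
    intro V _ _ _ hr u
    exact ⟨Module.finBasisOfFinrankEq K V hr, fun i => i.elim0⟩
  | succ r ih =>
    intro V _ _ _ hr u
    haveI : Nontrivial V := Module.nontrivial_of_finrank_pos (R := K) (by omega)
    -- eigenvector of the dual map
    obtain ⟨μ, hμ⟩ := Module.End.exists_eigenvalue (Module.Dual.transpose (R := K) u)
    obtain ⟨φ, hφ⟩ := hμ.exists_hasEigenvector
    have hφ0 : φ ≠ 0 := hφ.2
    have hφu : ∀ v, φ (u v) = μ * φ v := by
      intro v
      have := LinearMap.congr_fun hφ.apply_eq_smul v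
      simpa [Module.Dual.transpose_apply] using this
    obtain ⟨y, hy⟩ : ∃ y, φ y ≠ 0 := by
      by_contra hcon
      push Not at hcon
      exact hφ0 (LinearMap.ext hcon)
    have hsurj : Function.Surjective φ := by
      intro c
      refine ⟨(c / φ y) • y, ?_⟩
      rw [map_smul, smul_eq_mul, div_mul_cancel₀ _ hy]
    let W : Submodule K V := LinearMap.ker φ
    have hW : ∀ w ∈ W, u w ∈ W := by
      intro w hw
      rw [LinearMap.mem_ker] at hw ⊢
      rw [hφu, hw, mul_zero]
    have hWr : Module.finrank K W = r := by
      have h1 := LinearMap.finrank_range_add_finrank_ker φ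
      have h2 : Module.finrank K (LinearMap.range φ) = 1 := by
        rw [LinearMap.range_eq_top.mpr hsurj, finrank_top, Module.finrank_self]
      have h3 : Module.finrank K W = Module.finrank K (LinearMap.ker φ) := rfl
      omega
    obtain ⟨b', hb'⟩ := ih hWr (u.restrict hW)
    have hli : ∀ (c : K), ∀ x ∈ W, c • y + x = 0 → c = 0 := by
      intro c x hx hc
      have := congrArg φ hc
      rw [map_add, map_smul, LinearMap.mem_ker.mp hx, add_zero, map_zero, smul_eq_mul] at this
      exact (mul_eq_zero.mp this).resolve_right hy
    have hsp : ∀ z : V, ∃ c : K, z + c • y ∈ W := by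
      intro z
      refine ⟨-(φ z / φ y), ?_⟩
      rw [LinearMap.mem_ker, map_add, map_smul, smul_eq_mul, neg_mul, div_mul_cancel₀ _ hy,
        add_neg_cancel]
    let b : Basis (Fin (r + 1)) K V := Basis.mkFinCons y b' hli hsp
    have hb0 : b 0 = y := by
      simp [b, Basis.coe_mkFinCons]
    have hbs : ∀ k : Fin r, b k.succ = (b' k : V) := by
      intro k
      simp [b, Basis.coe_mkFinCons]
    -- coordinates of elements of W
    have hrepr : ∀ w : W, (b.repr (w : V) 0 = 0) ∧ ∀ k : Fin r, b.repr (w : V) k.succ = b'.repr w k := by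
      intro w
      have hw : (w : V) = ∑ k : Fin r, (b'.repr w k) • b k.succ := by
        conv_lhs => rw [← b'.sum_repr w]
        simp only [Submodule.coe_sum, Submodule.coe_smul, hbs]
      have hw' : b.repr (w : V) = ∑ k : Fin r, (b'.repr w k) • Finsupp.single k.succ (1 : K) := by
        conv_lhs => rw [hw]
        simp only [map_sum, map_smul, Basis.repr_self]
      constructor
      · rw [hw']
        simp only [Finsupp.coe_finsetSum, Finsupp.coe_smul, Finset.sum_apply, Pi.smul_apply,
          smul_eq_mul]
        apply Finset.sum_eq_zero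
        intro k _
        rw [Finsupp.single_apply, if_neg (Fin.succ_ne_zero k), mul_zero]
      · intro k
        rw [hw']
        simp only [Finsupp.coe_finsetSum, Finsupp.coe_smul, Finset.sum_apply, Pi.smul_apply,
          smul_eq_mul]
        rw [Finset.sum_eq_single k]
        · simp
        · intro k' _ hk'
          rw [Finsupp.single_apply, if_neg (fun h => hk' (Fin.succ_injective _ h)), mul_zero]
        · intro h; exact absurd (Finset.mem_univ _) h
    refine ⟨b, ?_⟩
    intro i j hij
    rw [LinearMap.toMatrix_apply]
    obtain ⟨j', rfl⟩ : ∃ j', j = Fin.succ j' := by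
      rcases Fin.eq_zero_or_eq_succ j with h | ⟨j', h⟩
      · rw [h] at hij
        exact absurd hij (Fin.not_lt_zero i)
      · exact ⟨j', h⟩
    rw [hbs]
    have huW : u (b' j' : V) = ((u.restrict hW) (b' j') : V) := rfl
    rw [huW]
    rcases Fin.eq_zero_or_eq_succ i with rfl | ⟨i', rfl⟩
    · exact (hrepr _).1
    · rw [(hrepr _).2 i']
      have := hb' i' j' (Fin.succ_lt_succ_iff.mp hij)
      rwa [LinearMap.toMatrix_apply] at this

end Groth.Agent.Lib.Helper92.SymTr
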