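import Groth.Agent.Lib.Helper92.SymTr4

set_option linter.unusedSectionVars false
set_option linter.unusedSimpArgs false
set_option linter.unusedVariables false

/-!
# Symmetric tensors and traces, part 5: assembly
-/

namespace Groth.Agent.Lib.Helper92.SymTr

open Finset Module TensorProduct PiTensorProduct

section Gamma
variable {A : Type*} [CommRing A] {M : Type*} [AddCommGroup M] [Module A M] {n : ℕ}

theorem map_mem_Gam (u : M →ₗ[A] M) (x : ⨂[A] _i : Fin n, M) (hx : x ∈ Gam A M n) :
    PiTensorProduct.map (fun _ : Fin n => u) x ∈ Gam A M n := by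
  rw [mem_Gam] at hx ⊢
  intro σ
  have := PiTensorProduct.map_reindex (R := A) (s := fun _ : Fin n => M) (t := fun _ : Fin n => M)
    (fun _ : Fin n => u) σ x
  rw [← this, hx σ]

/-- The canonical induced endomorphism of the symmetric tensors. -/
noncomputable def gamCan (u : M →ₗ[A] M) (n : ℕ) : Gam A M n →ₗ[A] Gam A M n :=
  (PiTensorProduct.map (fun _ : Fin n => u)).restrict (map_mem_Gam u)

theorem gamCan_coe (u : M →ₗ[A] M) (n : ℕ) (x : Gam A M n) :
    ((gamCan u n x : Gam A M n) : ⨂[A] _i : Fin n, M) =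
      PiTensorProduct.map (fun _ : Fin n => u) (x : ⨂[A] _i : Fin n, M) := rfl

end Gamma

section Field
universe u
variable {K : Type u} [Field K] [IsAlgClosed K] {r : ℕ}

theorem main_field (a : Matrix (Fin r) (Fin r) K) :
    (a.charpolyRev : PowerSeries K) * PowerSeries.mk (fun n => Tn n a) = 1 := by
  let V := Fin r → K
  let b₀ : Basis (Fin r) K V := Pi.basisFun K (Fin r)
  let u : V →ₗ[K] V := Matrix.toLin' a
  have ha : LinearMap.toMatrix b₀ b₀ u = a := by
    show LinearMap.toMatrix (Pi.basisFun K (Fin r)) (Pi.basisFun K (Fin r)) (Matrix.toLin' a) = a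
    rw [LinearMap.toMatrix_eq_toMatrix', LinearMap.toMatrix'_toLin']
  obtain ⟨b₁, hb₁⟩ := exists_lower_basis (K := K) r (V := V) (by simp [V]) u
  have hT : ∀ n, Tn n a = Tn n (LinearMap.toMatrix b₁ b₁ u) := by
    intro n
    rw [← ha, ← trace_eq_Tn b₀ u (gamCan u n) (gamCan_coe u n),
      ← trace_eq_Tn b₁ u (gamCan u n) (gamCan_coe u n)]
  have hD : a.charpolyRev = (LinearMap.toMatrix b₁ b₁ u).charpolyRev := by
    rw [← ha, ← detOneSub_eq b₀ u, ← detOneSub_eq b₁ u]
  rw [hD]
  simp only [hT]
  exact main_of_lower _ hb₁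

end Field

section Generic

theorem charpolyRev_map {A B : Type*} [CommRing A] [CommRing B] (φ : A →+* B) {r : ℕ}
    (a : Matrix (Fin r) (Fin r) A) : (a.map φ).charpolyRev = a.charpolyRev.map φ := by
  unfold Matrix.charpolyRev
  rw [← Polynomial.coe_mapRingHom, RingHom.map_det]
  congr 1
  ext i j
  simp only [Matrix.sub_apply, Matrix.smul_apply, Matrix.map_apply, RingHom.mapMatrix_apply,
    Polynomial.coe_mapRingHom, Polynomial.map_sub, smul_eq_mul, Polynomial.map_mul,
    Polynomial.map_X, Polynomial.map_C]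
  congr 1
  by_cases h : i = j
  · subst h; simp
  · simp [Matrix.one_apply_ne h]

theorem main_transfer {A B : Type*} [CommRing A] [CommRing B] (φ : A →+* B) {r : ℕ}
    (a : Matrix (Fin r) (Fin r) A)
    (h : (a.charpolyRev : PowerSeries A) * PowerSeries.mk (fun n => Tn n a) = 1) :
    ((a.map φ).charpolyRev : PowerSeries B) * PowerSeries.mk (fun n => Tn n (a.map φ)) = 1 := by
  have h1 := congrArg (PowerSeries.map φ) h
  rw [map_mul, map_one] at h1
  rw [charpolyRev_map, Polynomial.polynomial_map_coe]
  convert h1 using 2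
  ext n
  rw [PowerSeries.coeff_map, PowerSeries.coeff_mk, PowerSeries.coeff_mk, map_Tn]

/-- The generic matrix. -/
noncomputable def genMat (r : ℕ) : Matrix (Fin r) (Fin r) (MvPolynomial (Fin r × Fin r) ℤ) :=
  fun i j => MvPolynomial.X (i, j)

theorem main_generic (r : ℕ) :
    ((genMat r).charpolyRev : PowerSeries (MvPolynomial (Fin r × Fin r) ℤ)) *
      PowerSeries.mk (fun n => Tn n (genMat r)) = 1 := by
  let A₀ := MvPolynomial (Fin r × Fin r) ℤ
  let F := FractionRing A₀
  let K := AlgebraicClosure F
  let j : A₀ →+* K := (algebraMap F K).comp (algebraMap A₀ F)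
  have hj : Function.Injective j := by
    simp only [j, RingHom.coe_comp]
    exact (algebraMap F K).injective.comp (IsFractionRing.injective A₀ F)
  apply PowerSeries.map_injective j hj
  rw [map_mul, map_one]
  have h := main_field ((genMat r).map j)
  rw [charpolyRev_map, Polynomial.polynomial_map_coe] at h
  convert h using 2
  ext n
  rw [PowerSeries.coeff_map, PowerSeries.coeff_mk, PowerSeries.coeff_mk, map_Tn]

theorem main_general {A : Type*} [CommRing A] {r : ℕ} (a : Matrix (Fin r) (Fin r) A) :
    (a.charpolyRev : PowerSeries A) * PowerSeries.mk (fun n => Tn n a) = 1 := by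
  let φ : MvPolynomial (Fin r × Fin r) ℤ →+* A :=
    MvPolynomial.eval₂Hom (Int.castRingHom A) (fun ij => a ij.1 ij.2)
  have h := main_transfer φ (genMat r) (main_generic r)
  have ha : (genMat r).map φ = a := by
    ext i j
    simp [genMat, φ]
  rwa [ha] at h

end Generic

section Final
universe u

open Polynomial in
theorem final {A : Type u} [CommRing A] (M : Type u) [AddCommGroup M]
    [Module A M] [Module.Free A M] [Module.Finite A M] (u : M →ₗ[A] M)
    (γ : ∀ n : ℕ, Gam A M n →ₗ[A] Gam A M n)
    (hγ : ∀ (n : ℕ) (x : Gam A M n),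
      ((γ n x : Gam A M n) : ⨂[A] _i : Fin n, M) =
        PiTensorProduct.map (fun _ : Fin n => u) (x : ⨂[A] _i : Fin n, M)) :
    ((SGA4h.detOneSub (ModuleCat.of A M) (ModuleCat.ofHom u) : A[X]) : PowerSeries A) *
      PowerSeries.mk (fun n => LinearMap.trace A _ (γ n)) = 1 := by
  rcases subsingleton_or_nontrivial A with hA | hA
  · exact Subsingleton.elim _ _
  · let b : Basis (Fin (Module.finrank A M)) A M := Module.finBasis A M
    rw [detOneSub_eq b u]
    have : (fun n => LinearMap.trace A _ (γ n)) = fun n => Tn n (LinearMap.toMatrix b b u) := by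
      funext n
      exact trace_eq_Tn b u (γ n) (hγ n)
    rw [this]
    exact main_general _

end Final

end Groth.Agent.Lib.Helper92.SymTr
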