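import Mathlib
import Groth.Prelude.Def_W4c3tautjacobianRel

/-!
# sl₂-relations in the formal relation ring (helper92)

Euler derivation `eu` for the first degree, `[F, E] = g - eu`, `[eu, F] = -2 F`.
-/

open MvPolynomial W4c3tautjacobian

namespace Groth.Agent.Lib.Helper92.TautSl2

variable (g : ℕ)

/-- First weight of a variable. -/
def w1 (v : Var g) : ℕ := (wt g v).1

/-- Euler derivation for the first degree. -/
noncomputable def eu : Derivation ℚ (RelRing g) (RelRing g) :=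
  mkDerivation ℚ (fun v => (w1 g v : ℚ) • (X v : RelRing g))

/-- `dv` as a derivation. -/
noncomputable def dvD (p : ℕ × ℕ) : Derivation ℚ (RelRing g) (RelRing g) :=
  if h : Valid g p then pderiv (some ⟨p, h⟩) else 0

lemma dv_eq (p : ℕ × ℕ) (P : RelRing g) : dv g p P = dvD g p P := by
  unfold dv dvD
  split_ifs <;> rfl

lemma eu_X (v : Var g) : eu g (X v) = (w1 g v : ℚ) • (X v : RelRing g) := by
  simp [eu]

lemma eu_pderiv (v : Var g) (P : RelRing g) :
    eu g (pderiv v P) = pderiv v (eu g P) - (w1 g v : ℚ) • pderiv v P := by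
  have h : ⁅eu g, (pderiv v : Derivation ℚ (RelRing g) (RelRing g))⁆
      = (-(w1 g v : ℚ)) • (pderiv v : Derivation ℚ (RelRing g) (RelRing g)) := by
    apply derivation_ext
    intro u
    rw [Derivation.commutator_apply, Derivation.smul_apply, pderiv_X, eu_X, Derivation.map_smul, pderiv_X]
    by_cases huv : v = u
    · subst huv
      simp
    · simp [Pi.single_eq_of_ne' huv]
  have h2 := congrArg (fun D : Derivation ℚ (RelRing g) (RelRing g) => D P) h
  simp only [Derivation.commutator_apply, Derivation.smul_apply] at h2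
  rw [eq_sub_iff_add_eq]
  have h3 : eu g (pderiv v P) = pderiv v (eu g P) + (-(w1 g v : ℚ)) • pderiv v P := by
    rw [← h2]; ring
  rw [h3]; module

lemma eu_dvD (p : ℕ × ℕ) (P : RelRing g) :
    eu g (dvD g p P) = dvD g p (eu g P) - (p.1 : ℚ) • dvD g p P := by
  unfold dvD
  split_ifs with h
  · rw [eu_pderiv]
    rfl
  · simp

lemma eu_natCast (n : ℕ) : eu g ((n : RelRing g)) = 0 := by
  have : ((n : RelRing g)) = C (n : ℚ) := by simp
  rw [this, derivation_C]

lemma eu_xv (i j : ℤ) : eu g (xv g i j) = (i : ℚ) • xv g i j := by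
  unfold xv
  split_ifs with h1 h2
  · rw [eu_natCast, h1.1]; simp
  · rw [eu_X]
    congr 1
    simp only [w1, wt]
    exact_mod_cast Int.toNat_of_nonneg h2.1
  · simp

/-- Second-order coefficient of `F`. -/
noncomputable def A (p q : ℕ × ℕ) : RelRing g :=
  X none * xv g ((p.1 : ℤ) - 1) ((p.2 : ℤ) - 1) * xv g ((q.1 : ℤ) - 1) ((q.2 : ℤ) - 1)
    - (mergeCoeff p.1 q.1 : RelRing g) * xv g ((p.1 : ℤ) + q.1 - 2) ((p.2 : ℤ) + q.2)

/-- First-order coefficient of `F`. -/
noncomputable def B (p : ℕ × ℕ) : RelRing g := xv g ((p.1 : ℤ) - 2) (p.2 : ℤ)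

lemma F_eq (P : RelRing g) : F g P
    = (1 / 2 : ℚ) • (∑ p ∈ idx g, ∑ q ∈ idx g, A g p q * dvD g p (dvD g q P))
      + ∑ p ∈ idx g, B g p * dvD g p P := by
  unfold F A B
  simp only [dv_eq]

lemma eu_A (p q : ℕ × ℕ) : eu g (A g p q) = ((p.1 : ℚ) + q.1 - 2) • A g p q := by
  unfold A
  have hy : eu g (X none : RelRing g) = 0 := by
    rw [eu_X]; simp [w1, wt]
  have hm : eu g ((mergeCoeff p.1 q.1 : RelRing g)) = 0 := eu_natCast g _
  rw [map_sub, Derivation.leibniz, Derivation.leibniz, Derivation.leibniz, hy, hm, eu_xv, eu_xv,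
    eu_xv]
  simp only [smul_eq_mul, MvPolynomial.smul_eq_C_mul, mul_zero, add_zero]
  push_cast
  simp only [map_sub, map_add, map_one, map_natCast, map_ofNat]
  ring

lemma eu_B (p : ℕ × ℕ) : eu g (B g p) = ((p.1 : ℚ) - 2) • B g p := by
  unfold B
  rw [eu_xv]
  push_cast
  rfl

lemma eu_F (P : RelRing g) : eu g (F g P) = F g (eu g P) - (2 : ℚ) • F g P := by
  rw [F_eq, F_eq]
  have hT : ∀ p q, eu g (A g p q * dvD g p (dvD g q P))
      = A g p q * dvD g p (dvD g q (eu g P))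
        - (2 : ℚ) • (A g p q * dvD g p (dvD g q P)) := by
    intro p q
    rw [Derivation.leibniz, eu_A, eu_dvD, eu_dvD, map_sub, Derivation.map_smul]
    simp only [smul_eq_mul, MvPolynomial.smul_eq_C_mul, map_sub, map_add, map_natCast, map_ofNat]
    ring
  have hS : ∀ p, eu g (B g p * dvD g p P)
      = B g p * dvD g p (eu g P) - (2 : ℚ) • (B g p * dvD g p P) := by
    intro p
    rw [Derivation.leibniz, eu_B, eu_dvD]
    simp only [smul_eq_mul, MvPolynomial.smul_eq_C_mul, map_sub, map_natCast, map_ofNat]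
    ring
  rw [map_add, Derivation.map_smul, map_sum, map_sum]
  simp only [map_sum, hT, hS, Finset.sum_sub_distrib, ← Finset.smul_sum]
  module

variable {g}

lemma valid20 (hg : 1 ≤ g) : Valid g (2, 0) :=
  ⟨by simp, by simp; omega, ⟨1, rfl⟩, by simp⟩

/-- The variable `x 2 0`. -/
def u (hg : 1 ≤ g) : Var g := some ⟨(2, 0), valid20 hg⟩

lemma xv_valid (p : ℕ × ℕ) (h : Valid g p) : xv g (p.1 : ℤ) (p.2 : ℤ) = X (some ⟨p, h⟩) := by
  unfold xv
  have h0 : ¬ ((p.1 : ℤ) = 0 ∧ (p.2 : ℤ) = 0) := by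
    rintro ⟨h1, h2⟩
    apply h.2.2.2
    ext
    · exact_mod_cast h1
    · exact_mod_cast h2
  rw [if_neg h0]
  have h1 : (0 : ℤ) ≤ (p.1 : ℤ) ∧ (0 : ℤ) ≤ (p.2 : ℤ) ∧
      Valid g (((p.1 : ℤ)).toNat, ((p.2 : ℤ)).toNat) := by
    refine ⟨by positivity, by positivity, ?_⟩
    simpa using h
  rw [dif_pos h1]
  congr 2

lemma xv20 (hg : 1 ≤ g) : xv g 2 0 = X (u hg) := by
  have := xv_valid (g := g) (2, 0) (valid20 hg)
  unfold u
  simpa using this

lemma xv_neg_right (i j : ℤ) (hj : j < 0) : xv g i j = 0 := by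
  unfold xv
  rw [if_neg (by rintro ⟨_, h⟩; omega), dif_neg (by rintro ⟨_, h, _⟩; omega)]

lemma xv_neg_left (i j : ℤ) (hi : i < 0) : xv g i j = 0 := by
  unfold xv
  rw [if_neg (by rintro ⟨h, _⟩; omega), dif_neg (by rintro ⟨h, _, _⟩; omega)]

lemma mergeCoeff_two_right (i : ℕ) : mergeCoeff i 2 = i := by
  unfold mergeCoeff
  rcases i with _ | i
  · simp
  · rw [if_neg (by simp)]
    simp [Nat.choose_succ_self_right]

lemma mergeCoeff_two_left (i : ℕ) : mergeCoeff 2 i = i := by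
  unfold mergeCoeff
  rcases i with _ | i
  · simp
  · rw [if_neg (by simp)]
    simp

lemma A_right (p : ℕ × ℕ) : A g p (2, 0) = -((p.1 : RelRing g) * xv g (p.1 : ℤ) (p.2 : ℤ)) := by
  unfold A
  rw [xv_neg_right (g := g) (((2, 0) : ℕ × ℕ).1 - 1 : ℤ) ((((2, 0) : ℕ × ℕ).2 : ℤ) - 1) (by simp),
    mergeCoeff_two_right]
  simp

lemma A_left (q : ℕ × ℕ) : A g (2, 0) q = -((q.1 : RelRing g) * xv g (q.1 : ℤ) (q.2 : ℤ)) := by
  unfold A
  rw [xv_neg_right (g := g) (((2, 0) : ℕ × ℕ).1 - 1 : ℤ) ((((2, 0) : ℕ × ℕ).2 : ℤ) - 1) (by simp),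
    mergeCoeff_two_left]
  simp

lemma B_20 : B g (2, 0) = (g : RelRing g) := by
  unfold B xv
  simp

lemma dvD_X_some (p₀ : ℕ × ℕ) (h₀ : Valid g p₀) (p : ℕ × ℕ) :
    dvD g p (X (some ⟨p₀, h₀⟩) : RelRing g) = if p = p₀ then 1 else 0 := by
  unfold dvD
  by_cases hp : p = p₀
  · subst hp
    rw [dif_pos h₀, if_pos rfl]
    exact pderiv_X_self _
  · rw [if_neg hp]
    split_ifs with h
    · show pderiv (some ⟨p, h⟩) (X (some ⟨p₀, h₀⟩) : RelRing g) = 0
      rw [pderiv_X, Pi.single_eq_of_ne']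
      intro heq
      apply hp
      have := Option.some.inj heq
      exact congrArg Subtype.val this
    · rfl

lemma dvD_X_none (p : ℕ × ℕ) : dvD g p (X none : RelRing g) = 0 := by
  unfold dvD
  split_ifs with h
  · show pderiv (some ⟨p, h⟩) (X none : RelRing g) = 0
    rw [pderiv_X, Pi.single_eq_of_ne']
    simp
  · rfl

lemma mem_idx_of_valid (p : ℕ × ℕ) (h : Valid g p) : p ∈ idx g := by
  unfold idx
  obtain ⟨h1, h2, _, _⟩ := h
  simp only [Finset.mem_product, Finset.mem_range]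
  omega

lemma sum_eq_eu (P : RelRing g) :
    ∑ p ∈ idx g, ((p.1 : RelRing g) * xv g (p.1 : ℤ) (p.2 : ℤ)) * dvD g p P = eu g P := by
  set SD : Derivation ℚ (RelRing g) (RelRing g) :=
    ∑ p ∈ idx g, ((p.1 : RelRing g) * xv g (p.1 : ℤ) (p.2 : ℤ)) • dvD g p with hSDdef
  have hSD : ∀ Q, SD Q = ∑ p ∈ idx g, ((p.1 : RelRing g) * xv g (p.1 : ℤ) (p.2 : ℤ)) * dvD g p Q := by
    intro Q
    have h1 : (⇑SD : RelRing g → RelRing g)
        = ∑ p ∈ idx g, ⇑(((p.1 : RelRing g) * xv g (p.1 : ℤ) (p.2 : ℤ)) • dvD g p) :=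
      map_sum (Derivation.coeFnAddMonoidHom (R := ℚ) (A := RelRing g)
        (M := RelRing g)) (fun p => ((p.1 : RelRing g) * xv g (p.1 : ℤ) (p.2 : ℤ)) • dvD g p)
        (idx g)
    rw [h1, Finset.sum_apply]
    exact Finset.sum_congr rfl (fun p _ => rfl)
  have heq : SD = eu g := by
    apply derivation_ext
    intro v
    rw [hSD, eu_X]
    rcases v with _ | ⟨p₀, h₀⟩
    · simp [dvD_X_none, w1, wt]
    · simp only [dvD_X_some, mul_ite, mul_one, mul_zero]
      rw [Finset.sum_ite_eq' (idx g) p₀, if_pos (mem_idx_of_valid p₀ h₀), xv_valid p₀ h₀]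
      simp only [w1, wt]
      rw [Nat.cast_smul_eq_nsmul, nsmul_eq_mul]
  rw [← hSD, heq]

lemma dvD_mul_Xu (hg : 1 ≤ g) (p : ℕ × ℕ) (Q : RelRing g) :
    dvD g p (X (u hg) * Q) = X (u hg) * dvD g p Q + (if p = (2, 0) then Q else 0) := by
  rw [Derivation.leibniz]
  unfold u
  rw [dvD_X_some]
  split_ifs <;> simp [smul_eq_mul]

lemma dvD_ite (p q : ℕ × ℕ) (Q : RelRing g) :
    dvD g p (if q = (2, 0) then Q else 0) = if q = (2, 0) then dvD g p Q else 0 := by
  split_ifs <;> simp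

lemma mem20 (hg : 1 ≤ g) : ((2, 0) : ℕ × ℕ) ∈ idx g := mem_idx_of_valid _ (valid20 hg)

lemma E_eq (hg : 1 ≤ g) (P : RelRing g) : E g P = X (u hg) * P := by
  unfold E
  rw [xv20 hg]

/-- `[F, E] = g - eu`. -/
lemma F_E (hg : 1 ≤ g) (P : RelRing g) :
    F g (E g P) = E g (F g P) + ((g : ℚ) • P - eu g P) := by
  rw [E_eq hg, E_eq hg, F_eq, F_eq]
  have h2 : ∀ p q, dvD g p (dvD g q (X (u hg) * P))
      = X (u hg) * dvD g p (dvD g q P) + (if p = (2, 0) then dvD g q P else 0)
        + (if q = (2, 0) then dvD g p P else 0) := by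
    intro p q
    rw [dvD_mul_Xu, map_add, dvD_mul_Xu, dvD_ite]
  have hA1 : ∑ p ∈ idx g, ∑ q ∈ idx g, A g p q * (if p = (2, 0) then dvD g q P else 0)
      = - eu g P := by
    rw [Finset.sum_comm]
    have : ∀ q ∈ idx g, ∑ p ∈ idx g, A g p q * (if p = (2, 0) then dvD g q P else 0)
        = -(((q.1 : RelRing g) * xv g (q.1 : ℤ) (q.2 : ℤ)) * dvD g q P) := by
      intro q _
      simp only [mul_ite, mul_zero]
      rw [Finset.sum_ite_eq' (idx g) ((2, 0) : ℕ × ℕ), if_pos (mem20 hg), A_left]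
      ring
    rw [Finset.sum_congr rfl this, Finset.sum_neg_distrib, sum_eq_eu]
  have hA2 : ∑ p ∈ idx g, ∑ q ∈ idx g, A g p q * (if q = (2, 0) then dvD g p P else 0)
      = - eu g P := by
    have : ∀ p ∈ idx g, ∑ q ∈ idx g, A g p q * (if q = (2, 0) then dvD g p P else 0)
        = -(((p.1 : RelRing g) * xv g (p.1 : ℤ) (p.2 : ℤ)) * dvD g p P) := by
      intro p _
      simp only [mul_ite, mul_zero]
      rw [Finset.sum_ite_eq' (idx g) ((2, 0) : ℕ × ℕ), if_pos (mem20 hg), A_right]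
      ring
    rw [Finset.sum_congr rfl this, Finset.sum_neg_distrib, sum_eq_eu]
  have hB : ∑ p ∈ idx g, B g p * (if p = (2, 0) then P else 0) = (g : ℚ) • P := by
    simp only [mul_ite, mul_zero]
    rw [Finset.sum_ite_eq' (idx g) ((2, 0) : ℕ × ℕ), if_pos (mem20 hg), B_20,
      Nat.cast_smul_eq_nsmul, nsmul_eq_mul]
  have hdouble : ∑ p ∈ idx g, ∑ q ∈ idx g, A g p q * dvD g p (dvD g q (X (u hg) * P))
      = X (u hg) * ∑ p ∈ idx g, ∑ q ∈ idx g, A g p q * dvD g p (dvD g q P)
        + (- eu g P) + (- eu g P) := by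
    have h3 : ∀ p q, A g p q * (X (u hg) * dvD g p (dvD g q P))
        = X (u hg) * (A g p q * dvD g p (dvD g q P)) := by intros; ring
    simp_rw [h2, mul_add, Finset.sum_add_distrib, hA1, hA2, h3, ← Finset.mul_sum]
  have hsingle : ∑ p ∈ idx g, B g p * dvD g p (X (u hg) * P)
      = X (u hg) * ∑ p ∈ idx g, B g p * dvD g p P + (g : ℚ) • P := by
    have h3 : ∀ p, B g p * (X (u hg) * dvD g p P) = X (u hg) * (B g p * dvD g p P) := by
      intros; ring
    simp_rw [dvD_mul_Xu, mul_add, Finset.sum_add_distrib, hB, h3, ← Finset.mul_sum]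
  rw [hdouble, hsingle]
  rw [MvPolynomial.smul_eq_C_mul, MvPolynomial.smul_eq_C_mul, MvPolynomial.smul_eq_C_mul]
  have h12 : (C (1 / 2 : ℚ) : RelRing g) * 2 = 1 := by
    rw [← map_ofNat (C : ℚ →+* RelRing g) 2, ← C_mul]
    norm_num
  linear_combination (-(eu g P)) * h12

variable (g)

lemma eu_monomial_one (s : Var g →₀ ℕ) :
    eu g (monomial s (1 : ℚ)) = ((Finsupp.weight (w1 g) s : ℕ) : ℚ) • monomial s (1 : ℚ) := by
  induction s using Finsupp.induction_linear with
  | zero =>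
    simp only [map_zero, Nat.cast_zero, zero_smul]
    exact Derivation.map_one_eq_zero _
  | add a b ha hb =>
    have hm : (monomial (a + b) (1 : ℚ) : RelRing g) = monomial a 1 * monomial b 1 := by
      rw [monomial_mul, one_mul]
    rw [hm, Derivation.leibniz, ha, hb, map_add]
    simp only [smul_eq_mul, MvPolynomial.smul_eq_C_mul, Nat.cast_add, map_add]
    ring
  | single i n =>
    have hm : (monomial (Finsupp.single i n) (1 : ℚ) : RelRing g) = X i ^ n := by
      rw [X_pow_eq_monomial]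
    rw [hm, Derivation.leibniz_pow, eu_X, Finsupp.weight_single]
    rcases n with _ | n
    · simp
    · simp only [Nat.add_sub_cancel, smul_eq_mul, MvPolynomial.smul_eq_C_mul, nsmul_eq_mul,
        Nat.cast_mul, Nat.cast_add, Nat.cast_one, map_mul, map_add, map_natCast, map_one, pow_succ]
      ring

lemma coeff_eu (P : RelRing g) (d : Var g →₀ ℕ) :
    coeff d (eu g P) = ((Finsupp.weight (w1 g) d : ℕ) : ℚ) * coeff d P := by
  induction P using MvPolynomial.induction_on' with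
  | monomial s r =>
    have : (monomial s r : RelRing g) = r • monomial s 1 := by
      rw [smul_monomial, smul_eq_mul, mul_one]
    rw [this, Derivation.map_smul, eu_monomial_one, coeff_smul, coeff_smul, coeff_smul,
      coeff_monomial]
    split_ifs with h
    · subst h; simp only [smul_eq_mul]; ring
    · simp
  | add p q hp hq =>
    rw [map_add, coeff_add, coeff_add, hp, hq]; ring

lemma weight_w1 (d : Var g →₀ ℕ) : Finsupp.weight (w1 g) d = (Finsupp.weight (wt g) d).1 := by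
  rw [Finsupp.weight_apply, Finsupp.weight_apply, Finsupp.sum, Finsupp.sum, Prod.fst_sum]
  rfl

lemma eu_of_isWeightedHomogeneous (β : RelRing g) (m n : ℕ)
    (hβ : IsWeightedHomogeneous (wt g) β ((m, n) : ℕ × ℕ)) : eu g β = (m : ℚ) • β := by
  ext d
  rw [coeff_eu, coeff_smul, smul_eq_mul]
  by_cases hc : coeff d β = 0
  · rw [hc]; simp
  · have := hβ hc
    rw [weight_w1, this]

lemma eq_zero_of_eu_eq_neg (Q : RelRing g) (h : eu g Q = -(2 : ℚ) • Q) : Q = 0 := by
  ext d
  have h1 := congrArg (coeff d) h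
  rw [coeff_eu, coeff_smul, smul_eq_mul] at h1
  have h2 : (((Finsupp.weight (w1 g) d : ℕ) : ℚ) + 2) * coeff d Q = 0 := by linarith
  rcases mul_eq_zero.mp h2 with h3 | h3
  · exfalso
    have : (0 : ℚ) ≤ ((Finsupp.weight (w1 g) d : ℕ) : ℚ) := Nat.cast_nonneg _
    linarith
  · simpa using h3

lemma F_add (P Q : RelRing g) : F g (P + Q) = F g P + F g Q := by
  rw [F_eq, F_eq, F_eq]
  simp only [map_add, mul_add, Finset.sum_add_distrib, smul_add]
  abel

lemma F_smul (c : ℚ) (P : RelRing g) : F g (c • P) = c • F g P := by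
  rw [F_eq, F_eq]
  simp only [Derivation.map_smul, mul_smul_comm, ← Finset.smul_sum, smul_add]
  rw [smul_comm c (1 / 2 : ℚ)]

lemma E_zero : E g 0 = 0 := by
  unfold E; rw [mul_zero]

lemma sum_two_mul_sub (m : ℕ) :
    ∑ j ∈ Finset.range m, ((2 : ℚ) * j - g) = (m : ℚ) * (m - 1) - g * m := by
  induction m with
  | zero => simp
  | succ m ih =>
    rw [Finset.sum_range_succ, ih]; push_cast; ring

/-- The main sl₂ computation: `F^{g+1} (E β) = 0` for `β` of first degree `2g`. -/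
theorem iterate_F_E (hg : 1 ≤ g) (n : ℕ) (β : RelRing g)
    (hβ : IsWeightedHomogeneous (wt g) β ((2 * g, n) : ℕ × ℕ)) :
    (F g)^[g + 1] (E g β) = 0 := by
  have h0 : eu g β = ((2 * g : ℕ) : ℚ) • β := eu_of_isWeightedHomogeneous g β (2 * g) n hβ
  -- (a) eigenvalues of `eu` on iterates
  have ha : ∀ j : ℕ, eu g ((F g)^[j] β) = ((2 : ℚ) * g - 2 * j) • (F g)^[j] β := by
    intro j
    induction j with
    | zero =>
      rw [Function.iterate_zero, id, h0]; push_cast; ring_nf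
    | succ j ih =>
      rw [Function.iterate_succ_apply', eu_F, ih, F_smul]
      push_cast
      module
  -- (d) `F^{g+1} β = 0`
  have hd : (F g)^[g + 1] β = 0 := by
    apply eq_zero_of_eu_eq_neg
    rw [ha]
    push_cast
    congr 1
    ring
  -- (b) telescoping
  have hb : ∀ m : ℕ, (F g)^[m + 1] (E g β)
      = E g ((F g)^[m + 1] β)
        + (∑ j ∈ Finset.range (m + 1), ((2 : ℚ) * j - g)) • (F g)^[m] β := by
    intro m
    induction m with
    | zero =>
      simp only [Function.iterate_succ_apply', Function.iterate_zero, id, zero_add,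
        Finset.range_one, Finset.sum_singleton, Nat.cast_zero, mul_zero, zero_sub]
      rw [F_E hg, h0]
      push_cast
      module
    | succ m ih =>
      rw [Function.iterate_succ_apply', ih, F_add, F_smul, F_E hg, ha (m + 1),
        Finset.sum_range_succ _ (m + 1), ← Function.iterate_succ_apply' (F g) (m + 1) β,
        ← Function.iterate_succ_apply' (F g) m β]
      push_cast
      module
  rw [hb g, hd, E_zero, sum_two_mul_sub]
  have : ((g + 1 : ℕ) : ℚ) * (((g + 1 : ℕ) : ℚ) - 1) - g * ((g + 1 : ℕ) : ℚ) = 0 := by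
    push_cast; ring
  rw [this, zero_smul, add_zero]

end Groth.Agent.Lib.Helper92.TautSl2
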