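import Mathlib

/-!
# Exact differentials on the three-pointed line (helper92)

`D r s a b h = (X-r)(X-s) h' - (a (X-s) + b (X-r)) h` is the numerator of
`d (h / ((X-r)^a (X-s)^b))` over `(X-r)^(a+1) (X-s)^(b+1)`.
-/

open Polynomial

namespace Groth.Agent.Lib.Helper92.ThreePtLine

variable {k : Type*} [Field k]

/-- The numerator operator of `d (h / ((X-r)^a (X-s)^b))`. -/
noncomputable def D (r s : k) (a b : ℕ) : k[X] →ₗ[k] k[X] :=
  LinearMap.mulLeft k ((X - C r) * (X - C s)) ∘ₗ derivative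
    - LinearMap.mulLeft k (C (a : k) * (X - C s) + C (b : k) * (X - C r))

lemma D_apply (r s : k) (a b : ℕ) (h : k[X]) :
    D r s a b h = (X - C r) * (X - C s) * derivative h
      - (C (a : k) * (X - C s) + C (b : k) * (X - C r)) * h := by
  simp [D, mul_assoc]

lemma D_symm (r s : k) (a b : ℕ) : D r s a b = D s r b a := by
  refine LinearMap.ext fun h => ?_
  rw [D_apply, D_apply]; ring

lemma X_sub_C_mul_derivative_pow (r : k) (a : ℕ) :
    (X - C r) * derivative ((X - C r) ^ a) = C (a : k) * (X - C r) ^ a := by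
  rcases a with _ | a
  · simp
  · rw [derivative_X_sub_C_pow]
    simp only [Nat.add_sub_cancel, pow_succ]
    ring

lemma D_pow_mul (r s : k) (a b : ℕ) (g : k[X]) :
    D r s a b ((X - C r) ^ a * g)
      = (X - C r) ^ (a + 1) * ((X - C s) * derivative g - C (b : k) * g) := by
  have h1 := X_sub_C_mul_derivative_pow r a
  simp only [D_apply, derivative_mul]
  linear_combination ((X - C s) * g) * h1

/-- `κ = (X-r)^a (X-s)^b` is killed by `D`. -/
lemma D_kappa (r s : k) (a b : ℕ) :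
    D r s a b ((X - C r) ^ a * (X - C s) ^ b) = 0 := by
  rw [D_pow_mul, X_sub_C_mul_derivative_pow, sub_self, mul_zero]

lemma D_kappa_mul_X (r s : k) (a b : ℕ) :
    D r s a b ((X - C r) ^ a * ((X - C s) ^ b * X))
      = (X - C r) ^ (a + 1) * (X - C s) ^ (b + 1) := by
  have h1 := X_sub_C_mul_derivative_pow s b
  rw [D_pow_mul]
  simp only [derivative_mul, derivative_X]
  linear_combination ((X - C r) ^ (a + 1) * X) * h1

/-- Wronskian identity. -/
lemma wronskian_eq (r s : k) (a b : ℕ) (ha : 0 < a) (hb : 0 < b) (h : k[X]) :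
    ((X - C r) ^ a * (X - C s) ^ b) * derivative h
        - derivative ((X - C r) ^ a * (X - C s) ^ b) * h
      = (X - C r) ^ (a - 1) * (X - C s) ^ (b - 1) * D r s a b h := by
  obtain ⟨a, rfl⟩ : ∃ a', a = a' + 1 := ⟨a - 1, by omega⟩
  obtain ⟨b, rfl⟩ : ∃ b', b = b' + 1 := ⟨b - 1, by omega⟩
  rw [D_apply, derivative_mul, derivative_X_sub_C_pow, derivative_X_sub_C_pow]
  simp only [Nat.add_sub_cancel, pow_succ, Nat.cast_add, Nat.cast_one, C_add, C_1]
  ring

section CharZero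

variable [CharZero k]

lemma coeff_X_mul_derivative (g : k[X]) (m : ℕ) :
    coeff (X * derivative g) m = (m : k) * coeff g m := by
  rcases m with _ | m
  · simp
  · rw [coeff_X_mul, coeff_derivative]; push_cast; ring

lemma E0_surj (b : ℕ) (g : k[X]) (hg : g.degree < b) :
    ∃ g' : k[X], g'.degree < b ∧ X * derivative g' - C (b : k) * g' = g := by
  refine ⟨∑ m ∈ Finset.range b, monomial m (coeff g m / ((m : k) - b)), ?_, ?_⟩
  · rw [degree_lt_iff_coeff_zero]
    intro m hm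
    rw [finsetSum_coeff]
    apply Finset.sum_eq_zero
    intro x hx
    rw [coeff_monomial, if_neg]
    have := Finset.mem_range.mp hx; omega
  · ext m
    rw [coeff_sub, coeff_X_mul_derivative, coeff_C_mul, finsetSum_coeff]
    simp only [coeff_monomial, Finset.sum_ite_eq', Finset.mem_range]
    split_ifs with hm
    · have hne : (m : k) - b ≠ 0 := sub_ne_zero.mpr (by exact_mod_cast hm.ne)
      field_simp
    · rw [degree_lt_iff_coeff_zero] at hg
      rw [hg m (by omega)]; simp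

lemma derivative_taylor (r : k) (f : k[X]) : derivative (taylor r f) = taylor r (derivative f) := by
  simp [taylor_apply, derivative_comp]

lemma E_surj (s : k) (b : ℕ) (g : k[X]) (hg : g.degree < b) :
    ∃ g' : k[X], g'.degree < b ∧ (X - C s) * derivative g' - C (b : k) * g' = g := by
  obtain ⟨g₀, hd, he⟩ := E0_surj b (taylor s g) (by rwa [degree_taylor])
  refine ⟨taylor (-s) g₀, by rwa [degree_taylor], ?_⟩
  apply taylor_injective s
  have h1 : taylor s (taylor (-s) g₀) = g₀ := by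
    rw [taylor_taylor, add_neg_cancel, taylor_zero]
  rw [map_sub, taylor_mul, taylor_mul, ← derivative_taylor, h1, map_sub, taylor_X, taylor_C,
    add_sub_cancel_right, taylor_C]
  exact he

lemma part_mem (r s : k) (a b : ℕ) (x : k[X]) (hx1 : (X - C r) ^ (a + 1) ∣ x)
    (hx2 : x.degree ≤ ((a + b : ℕ) : WithBot ℕ)) :
    ∃ h : k[X], h.degree ≤ ((a + b + 1 : ℕ) : WithBot ℕ) ∧ D r s a b h = x := by
  obtain ⟨g, rfl⟩ := hx1
  have hg : g.degree < b := by
    by_cases hg0 : g = 0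
    · subst hg0; simp
    · rw [degree_mul, degree_pow, degree_X_sub_C, degree_eq_natDegree hg0, nsmul_one] at hx2
      rw [degree_eq_natDegree hg0]
      have h3 : (a + 1) + g.natDegree ≤ a + b := by exact_mod_cast hx2
      exact_mod_cast (by omega : g.natDegree < b)
  obtain ⟨g', hd', he'⟩ := E_surj s b g hg
  refine ⟨(X - C r) ^ a * g', ?_, ?_⟩
  · apply degree_le_of_natDegree_le
    have h1 : g'.natDegree ≤ b := natDegree_le_of_degree_le hd'.le
    calc ((X - C r) ^ a * g').natDegree ≤ ((X - C r) ^ a).natDegree + g'.natDegree :=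
          natDegree_mul_le
      _ ≤ a + b + 1 := by
          rw [natDegree_pow, natDegree_X_sub_C]; omega
  · rw [D_pow_mul, he']

/-- If `(X-p)^s` divides the Wronskian of `κ` and `h` and `κ(p) ≠ 0` then `h - c κ` vanishes to
order `s + 1` at `p` for a suitable constant `c`. -/
lemma exists_dvd_sub_of_dvd_wronskian (κ h : k[X]) (p : k) (hκ : κ.eval p ≠ 0) (s : ℕ)
    (hdvd : (X - C p) ^ s ∣ κ * derivative h - derivative κ * h) :
    ∃ c : k, (X - C p) ^ (s + 1) ∣ h - C c * κ := by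
  refine ⟨h.eval p / κ.eval p, ?_⟩
  set c := h.eval p / κ.eval p with hc
  set g := h - C c * κ with hg
  have hg0 : g.eval p = 0 := by
    simp only [hg, eval_sub, eval_mul, eval_C, hc]
    field_simp
    ring
  have hW : κ * derivative g - derivative κ * g = κ * derivative h - derivative κ * h := by
    simp only [hg, derivative_sub, derivative_mul, derivative_C, zero_mul, zero_add]
    ring
  rw [← hW] at hdvd
  have key : ∀ t : ℕ, t ≤ s → (X - C p) ^ (t + 1) ∣ g := by
    intro t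
    induction t with
    | zero =>
      intro _
      rw [zero_add, pow_one, dvd_iff_isRoot]
      exact hg0
    | succ t ih =>
      intro ht
      obtain ⟨g', hg'⟩ := ih (by omega)
      have h1 : κ * derivative g - derivative κ * g
          = (X - C p) ^ t * (C ((t + 1 : ℕ) : k) * κ * g'
              + (X - C p) * (κ * derivative g' - derivative κ * g')) := by
        rw [hg', derivative_mul, derivative_X_sub_C_pow]
        simp only [Nat.add_sub_cancel, pow_succ]
        ring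
      have h2 : (X - C p) ^ t * (X - C p) ∣ (X - C p) ^ t * (C ((t + 1 : ℕ) : k) * κ * g'
              + (X - C p) * (κ * derivative g' - derivative κ * g')) := by
        rw [← h1, ← pow_succ]
        exact (pow_dvd_pow _ ht).trans hdvd
      have h3 := (mul_dvd_mul_iff_left (pow_ne_zero t (X_sub_C_ne_zero p))).mp h2
      have h4 : (X - C p) ∣ C ((t + 1 : ℕ) : k) * κ * g' := by
        have := (dvd_add_left (dvd_mul_right (X - C p)
          (κ * derivative g' - derivative κ * g'))).mp h3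
        exact this
      rw [dvd_iff_isRoot, IsRoot, eval_mul, eval_mul, eval_C] at h4
      have h5 : g'.eval p = 0 := by
        rcases mul_eq_zero.mp h4 with h6 | h6
        · rcases mul_eq_zero.mp h6 with h7 | h7
          · exact absurd h7 (by exact_mod_cast (Nat.succ_ne_zero t))
          · exact absurd h7 hκ
        · exact h6
      obtain ⟨g'', hg''⟩ := dvd_iff_isRoot.mpr h5
      refine ⟨g'', ?_⟩
      rw [hg', hg'']; ring
  exact key s le_rfl

/-- Core impossibility: `(X-p)^(i-1) (X-q)^(j-1) ω₀` and `(X-p)^i (X-q)^j ω₀` cannot both be exact. -/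
theorem no_pair_core (r s : k) (a b i j : ℕ) (ha : 0 < a) (hb : 0 < b) (hi : 0 < i)
    (hj : i + j = a + b + 2) (hj0 : 0 < j)
    (p q : k) (hpr : p ≠ r) (hps : p ≠ s) (hqr : q ≠ r) (hqs : q ≠ s)
    (h₁ h₂ : k[X]) (hd₁ : h₁.degree ≤ ((a + b + 1 : ℕ) : WithBot ℕ))
    (hd₂ : h₂.degree ≤ ((a + b + 1 : ℕ) : WithBot ℕ))
    (e₂ : D r s a b h₂ = (X - C p) ^ (i - 1) * (X - C q) ^ (j - 1))
    (e₁ : D r s a b h₁ = (X - C p) ^ i * (X - C q) ^ j) : False := by
  set κ : k[X] := (X - C r) ^ a * (X - C s) ^ b with hκdef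
  have hκp : κ.eval p ≠ 0 := by
    simp [hκdef, sub_ne_zero, hpr, hps]
  have hκq : κ.eval q ≠ 0 := by
    simp [hκdef, sub_ne_zero, hqr, hqs]
  have hDκ : D r s a b κ = 0 := D_kappa r s a b
  have hκmem : κ ∈ degreeLE k ((a + b + 1 : ℕ) : WithBot ℕ) := by
    rw [mem_degreeLE]
    apply degree_le_of_natDegree_le
    calc κ.natDegree ≤ ((X - C r) ^ a).natDegree + ((X - C s) ^ b).natDegree := natDegree_mul_le
      _ ≤ a + b + 1 := by
        rw [natDegree_pow, natDegree_X_sub_C, natDegree_pow, natDegree_X_sub_C]; omega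
  have h₁mem : h₁ ∈ degreeLE k ((a + b + 1 : ℕ) : WithBot ℕ) := mem_degreeLE.mpr hd₁
  have h₂mem : h₂ ∈ degreeLE k ((a + b + 1 : ℕ) : WithBot ℕ) := mem_degreeLE.mpr hd₂
  have W₂ := wronskian_eq r s a b ha hb h₂
  have W₁ := wronskian_eq r s a b ha hb h₁
  rw [e₂] at W₂
  rw [e₁] at W₁
  have hf₂ne : ((X - C p) ^ (i - 1) * (X - C q) ^ (j - 1) : k[X]) ≠ 0 :=
    mul_ne_zero (pow_ne_zero _ (X_sub_C_ne_zero p)) (pow_ne_zero _ (X_sub_C_ne_zero q))
  have hf₁ne : ((X - C p) ^ i * (X - C q) ^ j : k[X]) ≠ 0 :=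
    mul_ne_zero (pow_ne_zero _ (X_sub_C_ne_zero p)) (pow_ne_zero _ (X_sub_C_ne_zero q))
  by_cases hpq : p = q
  · subst hpq
    have hd : (X - C p) ^ (i + j) ∣ κ * derivative h₁ - derivative κ * h₁ := by
      rw [W₁, pow_add]
      exact Dvd.intro_left _ rfl
    obtain ⟨c, hc⟩ := exists_dvd_sub_of_dvd_wronskian κ h₁ p hκp (i + j) hd
    have hmem : h₁ - c • κ ∈ degreeLE k ((a + b + 1 : ℕ) : WithBot ℕ) :=
      Submodule.sub_mem _ h₁mem (Submodule.smul_mem _ _ hκmem)
    rw [smul_eq_C_mul] at hmem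
    have hz : h₁ - C c * κ = 0 := by
      apply eq_zero_of_dvd_of_degree_lt hc
      rw [degree_pow, degree_X_sub_C, nsmul_one]
      refine lt_of_le_of_lt (mem_degreeLE.mp hmem) ?_
      exact_mod_cast (by omega : a + b + 1 < i + j + 1)
    have : D r s a b h₁ = 0 := by
      rw [sub_eq_zero.mp hz, ← smul_eq_C_mul, map_smul, hDκ, smul_zero]
    rw [e₁] at this
    exact hf₁ne this
  · have hcop : IsCoprime ((X - C p) ^ i) ((X - C q) ^ j) :=
      (isCoprime_X_sub_C_of_isUnit_sub (sub_ne_zero.mpr hpq).isUnit).pow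
    have small : ∀ Z : k[X], Z ∈ degreeLE k ((a + b + 1 : ℕ) : WithBot ℕ) →
        (X - C p) ^ i ∣ Z → (X - C q) ^ j ∣ Z → Z = 0 := by
      intro Z hZ h1 h2
      apply eq_zero_of_dvd_of_degree_lt (hcop.mul_dvd h1 h2)
      rw [degree_mul, degree_pow, degree_X_sub_C, nsmul_one, degree_pow, degree_X_sub_C, nsmul_one]
      refine lt_of_le_of_lt (mem_degreeLE.mp hZ) ?_
      exact_mod_cast (by omega : a + b + 1 < i + j)
    obtain ⟨c₂, hc₂⟩ := exists_dvd_sub_of_dvd_wronskian κ h₂ p hκp (i - 1) (by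
      rw [W₂]; exact (dvd_mul_right _ _).mul_left _)
    obtain ⟨c₂', hc₂'⟩ := exists_dvd_sub_of_dvd_wronskian κ h₂ q hκq (j - 1) (by
      rw [W₂]; exact (dvd_mul_left _ _).mul_left _)
    obtain ⟨c₁, hc₁⟩ := exists_dvd_sub_of_dvd_wronskian κ h₁ p hκp i (by
      rw [W₁]; exact (dvd_mul_right _ _).mul_left _)
    obtain ⟨c₁', hc₁'⟩ := exists_dvd_sub_of_dvd_wronskian κ h₁ q hκq j (by
      rw [W₁]; exact (dvd_mul_left _ _).mul_left _)
    have dsm : ∀ (c : k) (P Y : k[X]), P ∣ Y → P ∣ c • Y := fun c P Y h => by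
      rw [smul_eq_C_mul]; exact h.mul_left _
    rw [Nat.sub_add_cancel hi] at hc₂
    rw [Nat.sub_add_cancel hj0] at hc₂'
    replace hc₁ := (pow_dvd_pow (X - C p) (Nat.le_succ i)).trans hc₁
    replace hc₁' := (pow_dvd_pow (X - C q) (Nat.le_succ j)).trans hc₁'
    rw [← smul_eq_C_mul] at hc₂ hc₂' hc₁ hc₁'
    have hγ₂ : c₂' - c₂ ≠ 0 := by
      intro h0
      have h0' : c₂' = c₂ := sub_eq_zero.mp h0
      rw [h0'] at hc₂'
      have hz := small (h₂ - c₂ • κ)
        (Submodule.sub_mem _ h₂mem (Submodule.smul_mem _ _ hκmem)) hc₂ hc₂'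
      have : D r s a b h₂ = 0 := by
        rw [sub_eq_zero.mp hz, map_smul, hDκ, smul_zero]
      rw [e₂] at this
      exact hf₂ne this
    set γ₂ := c₂' - c₂ with hγ₂def
    set γ₁ := c₁' - c₁ with hγ₁def
    have hZ := small (γ₂ • (h₁ - c₁ • κ) - γ₁ • (h₂ - c₂ • κ))
      (Submodule.sub_mem _
        (Submodule.smul_mem _ _ (Submodule.sub_mem _ h₁mem (Submodule.smul_mem _ _ hκmem)))
        (Submodule.smul_mem _ _ (Submodule.sub_mem _ h₂mem (Submodule.smul_mem _ _ hκmem))))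
      (dvd_sub (dsm _ _ _ hc₁) (dsm _ _ _ hc₂))
      (by
        have : γ₂ • (h₁ - c₁ • κ) - γ₁ • (h₂ - c₂ • κ)
            = γ₂ • (h₁ - c₁' • κ) - γ₁ • (h₂ - c₂' • κ) := by
          simp only [hγ₂def, hγ₁def, smul_eq_C_mul, C_sub]
          ring
        rw [this]
        exact dvd_sub (dsm _ _ _ hc₁') (dsm _ _ _ hc₂'))
    have hDZ := congrArg (D r s a b) hZ
    simp only [map_sub, map_smul, hDκ, smul_zero, sub_zero, map_zero, e₁, e₂] at hDZ
    -- γ₂ • f₁ = γ₁ • f₂
    have hi' : (X - C p) ^ i = (X - C p) ^ (i - 1) * (X - C p) := by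
      rw [← pow_succ, Nat.sub_add_cancel hi]
    have hj' : (X - C q) ^ j = (X - C q) ^ (j - 1) * (X - C q) := by
      rw [← pow_succ, Nat.sub_add_cancel hj0]
    have h8 : (C γ₂ * ((X - C p) * (X - C q)) - C γ₁)
        * ((X - C p) ^ (i - 1) * (X - C q) ^ (j - 1)) = 0 := by
      rw [hi', hj', smul_eq_C_mul, smul_eq_C_mul] at hDZ
      linear_combination hDZ
    have h9 : C γ₂ * ((X - C p) * (X - C q)) = C γ₁ :=
      sub_eq_zero.mp ((mul_eq_zero.mp h8).resolve_right hf₂ne)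
    have h10 := congrArg degree h9
    rw [degree_C_mul hγ₂, degree_mul, degree_X_sub_C, degree_X_sub_C] at h10
    have h11 : (C γ₁ : k[X]).degree ≤ 0 := degree_C_le
    rw [← h10] at h11
    exact absurd h11 (by decide)

/-- The linear system `V` of the statement. -/
noncomputable def V (k : Type*) [Field k] (a b : ℕ) : Submodule k k[X] :=
  ((Ideal.span {(X : k[X]) ^ (a + 1)}).restrictScalars k ⊓ degreeLE k ↑(a + b)) ⊔
  ((Ideal.span {((X : k[X]) - 1) ^ (b + 1)}).restrictScalars k ⊓ degreeLE k ↑(a + b)) ⊔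
  Submodule.span k {(X : k[X]) ^ (a + 1) * (X - 1) ^ (b + 1)}

lemma exists_primitive (a b : ℕ) (f : k[X]) (hf : f ∈ V k a b) :
    ∃ h : k[X], h.degree ≤ ((a + b + 1 : ℕ) : WithBot ℕ) ∧ D 0 1 a b h = f := by
  suffices hle : V k a b ≤ Submodule.map (D (0 : k) 1 a b)
      (degreeLE k ((a + b + 1 : ℕ) : WithBot ℕ)) by
    obtain ⟨h, hh, he⟩ := Submodule.mem_map.mp (hle hf)
    exact ⟨h, mem_degreeLE.mp hh, he⟩
  refine sup_le (sup_le ?_ ?_) ?_
  · rintro x ⟨hx1, hx2⟩
    have hx1' : (X : k[X]) ^ (a + 1) ∣ x := Ideal.mem_span_singleton.mp hx1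
    obtain ⟨h, hd, he⟩ := part_mem (0 : k) 1 a b x (by simpa using hx1') (mem_degreeLE.mp hx2)
    exact Submodule.mem_map.mpr ⟨h, mem_degreeLE.mpr hd, he⟩
  · rintro x ⟨hx1, hx2⟩
    have hx1' : ((X : k[X]) - 1) ^ (b + 1) ∣ x := Ideal.mem_span_singleton.mp hx1
    obtain ⟨h, hd, he⟩ := part_mem (1 : k) 0 b a x (by simpa using hx1')
      (by rw [add_comm b a]; exact mem_degreeLE.mp hx2)
    rw [D_symm] at he
    refine Submodule.mem_map.mpr ⟨h, mem_degreeLE.mpr ?_, he⟩
    rwa [add_comm b a] at hd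
  · rw [Submodule.span_le, Set.singleton_subset_iff]
    refine Submodule.mem_map.mpr ⟨X ^ a * ((X - 1) ^ b * X), mem_degreeLE.mpr ?_, ?_⟩
    · apply degree_le_of_natDegree_le
      calc (X ^ a * ((X - 1 : k[X]) ^ b * X)).natDegree
          ≤ (X ^ a : k[X]).natDegree + ((X - 1 : k[X]) ^ b * X).natDegree := natDegree_mul_le
        _ ≤ (X ^ a : k[X]).natDegree + (((X - 1 : k[X]) ^ b).natDegree + (X : k[X]).natDegree) :=
          Nat.add_le_add_left natDegree_mul_le _
        _ ≤ a + b + 1 := by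
          have h1 : ((X : k[X]) - 1).natDegree = 1 := by
            have := natDegree_X_sub_C (1 : k)
            rwa [C_1] at this
          rw [natDegree_X_pow, natDegree_pow, h1, natDegree_X]; omega
    · have := D_kappa_mul_X (0 : k) 1 a b
      simpa using this

lemma V_le_degreeLE (a b : ℕ) : V k a b ≤ degreeLE k ((a + b + 2 : ℕ) : WithBot ℕ) := by
  have hmono : degreeLE k ((a + b : ℕ) : WithBot ℕ) ≤ degreeLE k ((a + b + 2 : ℕ) : WithBot ℕ) :=
    degreeLE_mono (by exact_mod_cast (by omega : a + b ≤ a + b + 2))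
  refine sup_le (sup_le (inf_le_right.trans hmono) (inf_le_right.trans hmono)) ?_
  rw [Submodule.span_le, Set.singleton_subset_iff]
  refine mem_degreeLE.mpr (degree_le_of_natDegree_le ?_)
  have h1 : ((X : k[X]) - 1).natDegree = 1 := by
    have := natDegree_X_sub_C (1 : k)
    rwa [C_1] at this
  calc ((X : k[X]) ^ (a + 1) * (X - 1) ^ (b + 1)).natDegree
      ≤ ((X : k[X]) ^ (a + 1)).natDegree + (((X : k[X]) - 1) ^ (b + 1)).natDegree :=
        natDegree_mul_le
    _ ≤ a + b + 2 := by rw [natDegree_X_pow, natDegree_pow, h1]; omega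

lemma degree_le_of_mem_V_of_coeff_eq_zero (a b : ℕ) (f : k[X]) (hf : f ∈ V k a b)
    (hc : f.coeff (a + b + 2) = 0) : f.degree ≤ ((a + b : ℕ) : WithBot ℕ) := by
  obtain ⟨y, hy, z, hz, rfl⟩ := Submodule.mem_sup.mp hf
  have hy' : y ∈ degreeLE k ((a + b : ℕ) : WithBot ℕ) := by
    have : ((Ideal.span {(X : k[X]) ^ (a + 1)}).restrictScalars k ⊓ degreeLE k ↑(a + b)) ⊔
      ((Ideal.span {((X : k[X]) - 1) ^ (b + 1)}).restrictScalars k ⊓ degreeLE k ↑(a + b))
        ≤ degreeLE k ((a + b : ℕ) : WithBot ℕ) := sup_le inf_le_right inf_le_right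
    exact this hy
  obtain ⟨c, rfl⟩ := Submodule.mem_span_singleton.mp hz
  have hmon : ((X : k[X]) ^ (a + 1) * (X - 1) ^ (b + 1)).Monic := by
    have := monic_X_sub_C (1 : k)
    rw [C_1] at this
    exact (monic_X_pow _).mul (this.pow _)
  have hnd : ((X : k[X]) ^ (a + 1) * (X - 1) ^ (b + 1)).natDegree = a + b + 2 := by
    have h1 := monic_X_sub_C (1 : k)
    rw [C_1] at h1
    have h2 : ((X : k[X]) - 1).natDegree = 1 := by
      have := natDegree_X_sub_C (1 : k)
      rwa [C_1] at this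
    rw [(monic_X_pow _).natDegree_mul (h1.pow _), natDegree_X_pow, h1.natDegree_pow, h2]; omega
  have hcy : y.coeff (a + b + 2) = 0 := by
    apply coeff_eq_zero_of_degree_lt
    refine lt_of_le_of_lt (mem_degreeLE.mp hy') ?_
    exact_mod_cast (by omega : a + b < a + b + 2)
  have hcw : ((X : k[X]) ^ (a + 1) * (X - 1) ^ (b + 1)).coeff (a + b + 2) = 1 := by
    rw [← hnd]; exact hmon.coeff_natDegree
  rw [coeff_add, coeff_smul, hcy, hcw, zero_add, smul_eq_mul, mul_one] at hc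
  rw [hc, zero_smul, add_zero]
  exact mem_degreeLE.mp hy'

lemma mem_of_mul_mem (N : Submodule k k[X]) (f g : k[X]) (n : ℕ) (hf : f.natDegree = n)
    (hfg0 : f * g ≠ 0) (hdeg : (f * g).degree ≤ (n : WithBot ℕ)) (h : f * g ∈ N) : f ∈ N := by
  have hf0 : f ≠ 0 := left_ne_zero_of_mul hfg0
  have hg0 : g ≠ 0 := right_ne_zero_of_mul hfg0
  have h1 : (f * g).natDegree = f.natDegree + g.natDegree := natDegree_mul hf0 hg0
  have h2 : (f * g).natDegree ≤ n := natDegree_le_of_degree_le hdeg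
  have h3 : g.natDegree = 0 := by omega
  obtain ⟨c, rfl⟩ : ∃ c, g = C c := ⟨_, eq_C_of_natDegree_eq_zero h3⟩
  have hc0 : c ≠ 0 := by
    rintro rfl; simp at hg0
  have h5 : c⁻¹ • (f * C c) = f := by
    rw [smul_eq_C_mul, mul_comm f, ← mul_assoc, ← C_mul, inv_mul_cancel₀ hc0, C_1, one_mul]
  rw [← h5]
  exact N.smul_mem _ h

/-- Main theorem: no pair of points with the prescribed vanishing. -/
theorem no_pair (a b i j : ℕ) (ha : 0 < a) (hb : 0 < b) (hi : 0 < i) (hiab : i ≤ a + b)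
    (hj : i + j = a + b + 2) (p q : k) (hp0 : p ≠ 0) (hp1 : p ≠ 1) (hq0 : q ≠ 0) (hq1 : q ≠ 1) :
    ¬ (1 ≤ Module.finrank k
          ↥(V k a b ⊓ (Ideal.span {(X - C p) ^ i * (X - C q) ^ j}).restrictScalars k) ∧
       2 ≤ Module.finrank k
          ↥(V k a b ⊓ (Ideal.span {(X - C p) ^ (i - 1) * (X - C q) ^ (j - 1)}).restrictScalars k)) := by
  rintro ⟨h1, h2⟩
  have hj0 : 0 < j := by omega
  have hnd₁ : ((X - C p) ^ i * (X - C q) ^ j : k[X]).natDegree = a + b + 2 := by
    rw [((monic_X_sub_C p).pow i).natDegree_mul ((monic_X_sub_C q).pow j),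
      (monic_X_sub_C p).natDegree_pow, (monic_X_sub_C q).natDegree_pow,
      natDegree_X_sub_C, natDegree_X_sub_C]
    omega
  have hnd₂ : ((X - C p) ^ (i - 1) * (X - C q) ^ (j - 1) : k[X]).natDegree = a + b := by
    rw [((monic_X_sub_C p).pow _).natDegree_mul ((monic_X_sub_C q).pow _),
      (monic_X_sub_C p).natDegree_pow, (monic_X_sub_C q).natDegree_pow,
      natDegree_X_sub_C, natDegree_X_sub_C]
    omega
  -- f₁ ∈ V
  have hf₁ : (X - C p) ^ i * (X - C q) ^ j ∈ V k a b := by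
    have hex : ∃ x ∈ V k a b ⊓ (Ideal.span {(X - C p) ^ i * (X - C q) ^ j}).restrictScalars k,
        x ≠ 0 := by
      by_contra hcon
      push Not at hcon
      have hbot : V k a b ⊓ (Ideal.span {(X - C p) ^ i * (X - C q) ^ j}).restrictScalars k = ⊥ :=
        (Submodule.eq_bot_iff _).mpr hcon
      rw [hbot, finrank_bot] at h1
      omega
    obtain ⟨x, ⟨hxV, hxI⟩, hx0⟩ := hex
    obtain ⟨g, rfl⟩ : (X - C p) ^ i * (X - C q) ^ j ∣ x := Ideal.mem_span_singleton.mp hxI
    exact mem_of_mul_mem _ _ g _ hnd₁ hx0 (mem_degreeLE.mp (V_le_degreeLE a b hxV)) hxV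
  -- f₂ ∈ V
  have hf₂ : (X - C p) ^ (i - 1) * (X - C q) ^ (j - 1) ∈ V k a b := by
    set N₂ := V k a b ⊓
      (Ideal.span {(X - C p) ^ (i - 1) * (X - C q) ^ (j - 1)}).restrictScalars k with hN₂
    let φ : ↥N₂ →ₗ[k] k := (lcoeff k (a + b + 2)) ∘ₗ N₂.subtype
    have hninj : ¬ Function.Injective φ := by
      intro hinj
      have := LinearMap.finrank_le_finrank_of_injective hinj
      rw [Module.finrank_self] at this
      omega
    rw [← LinearMap.ker_eq_bot, Submodule.eq_bot_iff] at hninj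
    push Not at hninj
    obtain ⟨x, hxk, hx0⟩ := hninj
    have hxc : (x : k[X]).coeff (a + b + 2) = 0 := by
      have := LinearMap.mem_ker.mp hxk
      simpa [φ] using this
    have hx0' : (x : k[X]) ≠ 0 := fun h => hx0 (Subtype.ext h)
    obtain ⟨hxV, hxI⟩ := x.2
    obtain ⟨g, hg⟩ : (X - C p) ^ (i - 1) * (X - C q) ^ (j - 1) ∣ (x : k[X]) :=
      Ideal.mem_span_singleton.mp hxI
    have hdeg := degree_le_of_mem_V_of_coeff_eq_zero a b _ hxV hxc
    rw [hg] at hx0' hdeg hxV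
    exact mem_of_mul_mem _ _ g _ hnd₂ hx0' hdeg hxV
  obtain ⟨h₁, hd₁, e₁⟩ := exists_primitive a b _ hf₁
  obtain ⟨h₂, hd₂, e₂⟩ := exists_primitive a b _ hf₂
  exact no_pair_core (0 : k) 1 a b i j ha hb hi hj hj0 p q hp0 hp1 hq0 hq1 h₁ h₂ hd₁ hd₂ e₂ e₁

end CharZero

end Groth.Agent.Lib.Helper92.ThreePtLine
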