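import Groth.Agent.Lib.Helper92.ThreePtLine

/-!
# Exact differentials on the three-pointed line, part B (helper92)

One marked point among the two vanishing points (`P = A`).
-/

open Polynomial

namespace Groth.Agent.Lib.Helper92.ThreePtLine

variable {k : Type*} [Field k]

lemma D_pow_mul' (r s : k) (a b t : ℕ) (ht : t ≤ a) (g : k[X]) :
    D r s a b ((X - C r) ^ t * g) = (X - C r) ^ t * D r s (a - t) b g := by
  have h1 := X_sub_C_mul_derivative_pow r t
  simp only [D_apply, derivative_mul]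
  rw [Nat.cast_sub ht, C_sub]
  linear_combination ((X - C s) * g) * h1

lemma wronskian_eq' (r s : k) (a b : ℕ) (h : k[X]) :
    (X - C r) * (X - C s) * (((X - C r) ^ a * (X - C s) ^ b) * derivative h
        - derivative ((X - C r) ^ a * (X - C s) ^ b) * h)
      = ((X - C r) ^ a * (X - C s) ^ b) * D r s a b h := by
  have h1 := X_sub_C_mul_derivative_pow r a
  have h2 := X_sub_C_mul_derivative_pow s b
  rw [D_apply, derivative_mul]
  linear_combination (-(X - C s) * (X - C s) ^ b * h) * h1 + (-(X - C r) * (X - C r) ^ a * h) * h2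

variable [CharZero k]

/-- Order of vanishing at the marked point `r`. -/
lemma pow_dvd_of_pow_dvd_D (r s : k) (hrs : r ≠ s) (a b i : ℕ) (hi : i ≤ a) (h : k[X])
    (hd : (X - C r) ^ i ∣ D r s a b h) : (X - C r) ^ i ∣ h := by
  have key : ∀ t : ℕ, t ≤ i → (X - C r) ^ t ∣ h := by
    intro t
    induction t with
    | zero => intro _; simp
    | succ t ih =>
      intro ht
      obtain ⟨g, hg⟩ := ih (by omega)
      have h1 : (X - C r) ^ t * (X - C r) ∣ (X - C r) ^ t * D r s (a - t) b g := by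
        rw [← D_pow_mul' r s a b t (by omega), ← hg, ← pow_succ]
        exact (pow_dvd_pow _ ht).trans hd
      have h2 := (mul_dvd_mul_iff_left (pow_ne_zero t (X_sub_C_ne_zero r))).mp h1
      rw [dvd_iff_isRoot, IsRoot, D_apply] at h2
      simp only [eval_sub, eval_mul, eval_add, eval_X, eval_C, sub_self, zero_mul, mul_zero,
        add_zero, zero_sub, neg_eq_zero] at h2
      have h3 : g.eval r = 0 := by
        rcases mul_eq_zero.mp h2 with h4 | h4
        · rcases mul_eq_zero.mp h4 with h5 | h5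
          · exfalso
            have : a - t ≠ 0 := by omega
            exact this (by exact_mod_cast h5)
          · exact absurd h5 (sub_ne_zero.mpr hrs)
        · exact h4
      obtain ⟨g', hg'⟩ := dvd_iff_isRoot.mpr h3
      exact ⟨g', by rw [hg, hg']; ring⟩
  exact key i le_rfl

lemma no_primitive_pure (r s : k) (hrs : r ≠ s) (a b : ℕ) (h : k[X])
    (e : D r s a b h = (X - C r) ^ (a + b + 2)) : False := by
  have hd : (X - C r) ^ a ∣ D r s a b h := by
    rw [e]; exact pow_dvd_pow _ (by omega)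
  obtain ⟨g, rfl⟩ := pow_dvd_of_pow_dvd_D r s hrs a b a le_rfl h hd
  have hsplit : (X - C r : k[X]) ^ (a + b + 2) = (X - C r) ^ (a + 1) * (X - C r) ^ (b + 1) := by
    rw [← pow_add]; congr 1; omega
  rw [D_pow_mul, hsplit] at e
  have e' := mul_left_cancel₀ (pow_ne_zero (a + 1) (X_sub_C_ne_zero r)) e
  have t1 : taylor s ((X - C s) * derivative g) = X * derivative (taylor s g) := by
    rw [taylor_mul, ← derivative_taylor, map_sub, taylor_X, taylor_C, add_sub_cancel_right]
  have t2 : taylor s (C (b : k) * g) = C (b : k) * taylor s g := by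
    rw [taylor_mul, taylor_C]
  have t3 : taylor s ((X - C r) ^ (b + 1)) = (X + C (s - r)) ^ (b + 1) := by
    rw [taylor_pow, map_sub, taylor_X, taylor_C, add_sub_assoc, ← C_sub]
  have e'' : X * derivative (taylor s g) - C (b : k) * taylor s g = (X + C (s - r)) ^ (b + 1) := by
    rw [← t1, ← t2, ← t3, ← map_sub, e']
  have e3 : (X * derivative (taylor s g) - C (b : k) * taylor s g).coeff b
      = ((X + C (s - r)) ^ (b + 1)).coeff b := by rw [e'']
  rw [coeff_sub, coeff_X_mul_derivative, coeff_C_mul, sub_self, coeff_X_add_C_pow] at e3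
  have h1 : b + 1 - b = 1 := by omega
  rw [h1, pow_one, Nat.choose_succ_self_right] at e3
  rcases mul_eq_zero.mp e3.symm with h2 | h2
  · exact hrs (sub_eq_zero.mp h2).symm
  · exact absurd h2 (by exact_mod_cast Nat.succ_ne_zero b)

lemma no_primitive_generic (r s : k) (a b : ℕ) (q : k) (hqr : q ≠ r) (hqs : q ≠ s) (h : k[X])
    (hd : h.degree ≤ ((a + b + 1 : ℕ) : WithBot ℕ))
    (e : D r s a b h = (X - C q) ^ (a + b + 2)) : False := by
  set κ : k[X] := (X - C r) ^ a * (X - C s) ^ b with hκdef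
  have hκq : κ.eval q ≠ 0 := by
    simp [hκdef, sub_ne_zero, hqr, hqs]
  have hDκ : D r s a b κ = 0 := D_kappa r s a b
  have hκmem : κ ∈ degreeLE k ((a + b + 1 : ℕ) : WithBot ℕ) := by
    rw [mem_degreeLE]
    apply degree_le_of_natDegree_le
    calc κ.natDegree ≤ ((X - C r) ^ a).natDegree + ((X - C s) ^ b).natDegree := natDegree_mul_le
      _ ≤ a + b + 1 := by
        rw [natDegree_pow, natDegree_X_sub_C, natDegree_pow, natDegree_X_sub_C]; omega
  have W := wronskian_eq' r s a b h
  rw [e] at W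
  have hcop : IsCoprime ((X - C q) ^ (a + b + 2)) ((X - C r) * (X - C s)) := by
    apply IsCoprime.pow_left
    exact (isCoprime_X_sub_C_of_isUnit_sub (sub_ne_zero.mpr hqr).isUnit).mul_right
      (isCoprime_X_sub_C_of_isUnit_sub (sub_ne_zero.mpr hqs).isUnit)
  have hdvd : (X - C q) ^ (a + b + 2) ∣ κ * derivative h - derivative κ * h := by
    apply hcop.dvd_of_dvd_mul_left
    rw [W]
    exact dvd_mul_left _ _
  obtain ⟨c, hc⟩ := exists_dvd_sub_of_dvd_wronskian κ h q hκq _ hdvd
  have hmem : h - c • κ ∈ degreeLE k ((a + b + 1 : ℕ) : WithBot ℕ) :=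
    Submodule.sub_mem _ (mem_degreeLE.mpr hd) (Submodule.smul_mem _ _ hκmem)
  rw [smul_eq_C_mul] at hmem
  have hz : h - C c * κ = 0 := by
    apply eq_zero_of_dvd_of_degree_lt hc
    rw [degree_pow, degree_X_sub_C, nsmul_one]
    refine lt_of_le_of_lt (mem_degreeLE.mp hmem) ?_
    exact_mod_cast (by omega : a + b + 1 < a + b + 2 + 1)
  have : D r s a b h = 0 := by
    rw [sub_eq_zero.mp hz, ← smul_eq_C_mul, map_smul, hDκ, smul_zero]
  rw [e] at this
  exact pow_ne_zero _ (X_sub_C_ne_zero q) this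

/-- Main theorem for the marked-point case: `X^i (X-q)^j ∈ V` forces `a + 1 ≤ i`. -/
theorem le_of_pair (a b i j : ℕ) (hi : 0 < i)
    (hj : i + j = a + b + 2) (q : k)
    (h1 : 1 ≤ Module.finrank k
      ↥(V k a b ⊓ (Ideal.span {(X : k[X]) ^ i * (X - C q) ^ j}).restrictScalars k)) :
    a + 1 ≤ i := by
  by_contra hcon
  have hia : i ≤ a := by omega
  have hnd₁ : ((X : k[X]) ^ i * (X - C q) ^ j : k[X]).natDegree = a + b + 2 := by
    rw [(monic_X_pow i).natDegree_mul ((monic_X_sub_C q).pow j),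
      (monic_X_sub_C q).natDegree_pow, natDegree_X_pow, natDegree_X_sub_C]
    omega
  have hf₁ : (X : k[X]) ^ i * (X - C q) ^ j ∈ V k a b := by
    have hex : ∃ x ∈ V k a b ⊓ (Ideal.span {(X : k[X]) ^ i * (X - C q) ^ j}).restrictScalars k,
        x ≠ 0 := by
      by_contra hcon
      push Not at hcon
      have hbot : V k a b ⊓ (Ideal.span {(X : k[X]) ^ i * (X - C q) ^ j}).restrictScalars k = ⊥ :=
        (Submodule.eq_bot_iff _).mpr hcon
      rw [hbot, finrank_bot] at h1
      omega
    obtain ⟨x, ⟨hxV, hxI⟩, hx0⟩ := hex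
    obtain ⟨g, rfl⟩ : (X : k[X]) ^ i * (X - C q) ^ j ∣ x := Ideal.mem_span_singleton.mp hxI
    exact mem_of_mul_mem _ _ g _ hnd₁ hx0 (mem_degreeLE.mp (V_le_degreeLE a b hxV)) hxV
  obtain ⟨h₁, hd₁, e₁⟩ := exists_primitive a b _ hf₁
  have hdv : (X - C (0 : k)) ^ i ∣ D (0 : k) 1 a b h₁ := by
    rw [e₁, C_0, sub_zero]; exact dvd_mul_right _ _
  obtain ⟨h₀, rfl⟩ := pow_dvd_of_pow_dvd_D (0 : k) 1 zero_ne_one a b i hia h₁ hdv
  rw [D_pow_mul' (0 : k) 1 a b i hia, C_0, sub_zero] at e₁
  have e₀ := mul_left_cancel₀ (pow_ne_zero i (X_ne_zero : (X : k[X]) ≠ 0)) e₁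
  have hjeq : j = (a - i) + b + 2 := by omega
  rw [hjeq] at e₀
  have hd₀ : h₀.degree ≤ (((a - i) + b + 1 : ℕ) : WithBot ℕ) := by
    by_cases h0 : h₀ = 0
    · subst h0; simp
    · rw [C_0, sub_zero] at hd₁
      have := natDegree_le_of_degree_le hd₁
      rw [natDegree_X_pow_mul i h0] at this
      apply degree_le_of_natDegree_le
      omega
  by_cases hq0 : q = 0
  · subst hq0
    exact no_primitive_pure (0 : k) 1 zero_ne_one (a - i) b h₀ e₀
  · by_cases hq1 : q = 1
    · subst hq1
      rw [D_symm] at e₀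
      refine no_primitive_pure (1 : k) 0 one_ne_zero b (a - i) h₀ ?_
      rw [e₀]; congr 1; omega
    · exact no_primitive_generic (0 : k) 1 (a - i) b q hq0 hq1 h₀ hd₀ e₀

end Groth.Agent.Lib.Helper92.ThreePtLine
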