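import Mathlib

/-!
# `O⟦X⟧` is finite free over `O⟦F⟧` iff `F ≢ 0 mod m` (helper92)

`O` a complete local ring, `F ∈ O⟦X⟧` with zero constant term.
-/

set_option autoImplicit false
universe u

namespace Groth.Agent.Lib.Helper92.WeierFree

open PowerSeries

variable {O : Type u} [CommRing O]

section general

variable (F : PowerSeries O) (hF0 : constantCoeff F = 0) (h : ℕ)

/-- `Σ_i c_i(F) X^i` -/
noncomputable def Psi (c : Fin h → PowerSeries O) : PowerSeries O :=
  ∑ i : Fin h, PowerSeries.subst F (c i) * (X : PowerSeries O) ^ (i : ℕ)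

/-- the polynomial `Σ a_i X^i` -/
noncomputable def P (a : Fin h → O) : Polynomial O :=
  ∑ i : Fin h, Polynomial.monomial (i : ℕ) (a i)

theorem P_coeff (a : Fin h → O) (n : ℕ) :
    (P h a).coeff n = if hn : n < h then a ⟨n, hn⟩ else 0 := by
  unfold P
  rw [Polynomial.finsetSum_coeff]
  simp only [Polynomial.coeff_monomial]
  split_ifs with hn
  · rw [Finset.sum_eq_single (⟨n, hn⟩ : Fin h)]
    · simp
    · intro b _ hb
      rw [if_neg]
      intro hbn
      exact hb (Fin.ext hbn)
    · intro hh; exact absurd (Finset.mem_univ _) hh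
  · apply Finset.sum_eq_zero
    intro b _
    rw [if_neg]
    intro hbn
    exact hn (hbn ▸ b.2)

theorem P_degree_lt (a : Fin h → O) (hh : 0 < h) : (P h a).degree < h := by
  rw [Polynomial.degree_lt_iff_coeff_zero]
  intro n hn
  rw [P_coeff, dif_neg (by omega)]

theorem P_coe (a : Fin h → O) :
    ((P h a : Polynomial O) : PowerSeries O) = ∑ i : Fin h, C (a i) * (X : PowerSeries O) ^ (i : ℕ) := by
  unfold P
  rw [← Polynomial.coeToPowerSeries.ringHom_apply, map_sum]
  refine Finset.sum_congr rfl fun i _ => ?_
  rw [Polynomial.coeToPowerSeries.ringHom_apply, Polynomial.coe_monomial, ← monomial_zero_eq_C_apply,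
    X_pow_eq, monomial_mul_monomial, zero_add, mul_one]

/-- head and tail of a family of power series -/
noncomputable def hd (c : Fin h → PowerSeries O) : Fin h → O := fun i => constantCoeff (c i)

noncomputable def tl (c : Fin h → PowerSeries O) : Fin h → PowerSeries O :=
  fun i => mk fun j => coeff (j + 1) (c i)

include hF0 in
theorem Psi_eq (c : Fin h → PowerSeries O) :
    Psi F h c = F * Psi F h (tl h c) + ((P h (hd h c) : Polynomial O) : PowerSeries O) := by
  have hS : PowerSeries.HasSubst F := PowerSeries.HasSubst.of_constantCoeff_zero' hF0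
  rw [P_coe]
  unfold Psi
  rw [Finset.mul_sum, ← Finset.sum_add_distrib]
  refine Finset.sum_congr rfl fun i _ => ?_
  conv_lhs => rw [eq_X_mul_shift_add_const (c i)]
  rw [PowerSeries.subst_add hS, PowerSeries.subst_mul hS, PowerSeries.subst_X hS]
  have : PowerSeries.subst F (C (constantCoeff (c i)) : PowerSeries O) =
      (C (constantCoeff (c i)) : PowerSeries O) := by
    rw [PowerSeries.subst_C]; rfl
  rw [this]
  unfold tl hd
  ring

end general

section weier

variable [IsLocalRing O] [IsAdicComplete (IsLocalRing.maximalIdeal O) O]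
  (F : PowerSeries O) (hF0 : constantCoeff F = 0) (hres : F.map (IsLocalRing.residue O) ≠ 0)

/-- order of the reduction of `F` -/
noncomputable def ord : ℕ := (F.map (IsLocalRing.residue O)).order.toNat

include hF0 hres in
theorem ord_pos : 0 < ord F := by
  by_contra h0
  have h1 := PowerSeries.coeff_order hres
  have h2 : (F.map (IsLocalRing.residue O)).order.toNat = 0 := by unfold ord at h0; omega
  rw [h2, coeff_map, coeff_zero_eq_constantCoeff_apply, hF0, map_zero] at h1
  exact h1 rfl

/-- iterated Weierstrass quotients -/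
noncomputable def gseq : ℕ → PowerSeries O → PowerSeries O
  | 0, g => g
  | j + 1, g => gseq j (g /ʷ F)

/-- the coefficient family -/
noncomputable def cfam (g : PowerSeries O) : Fin (ord F) → PowerSeries O :=
  fun i => mk fun j => ((gseq F j g) %ʷ F).coeff (i : ℕ)

theorem tl_cfam (g : PowerSeries O) : tl (ord F) (cfam F g) = cfam F (g /ʷ F) := by
  funext i
  unfold tl cfam
  ext j
  simp [gseq]

theorem hd_cfam (g : PowerSeries O) : P (ord F) (hd (ord F) (cfam F g)) = g %ʷ F := by
  ext n
  rw [P_coeff]
  split_ifs with hn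
  · simp [hd, cfam, gseq]
  · symm
    apply Polynomial.coeff_eq_zero_of_degree_lt
    refine lt_of_lt_of_le (degree_weierstrassMod_lt g F) ?_
    unfold ord at hn
    exact_mod_cast (not_lt.mp hn)

include hF0 hres in
theorem defect_eq (g : PowerSeries O) :
    g - Psi F (ord F) (cfam F g) =
      F * ((g /ʷ F) - Psi F (ord F) (cfam F (g /ʷ F))) := by
  rw [Psi_eq F hF0 (ord F) (cfam F g), tl_cfam, hd_cfam]
  have := eq_mul_weierstrassDiv_add_weierstrassMod g hres
  linear_combination this

include hF0 hres in
theorem defect_pow (J : ℕ) (g : PowerSeries O) :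
    g - Psi F (ord F) (cfam F g) =
      F ^ J * (gseq F J g - Psi F (ord F) (cfam F (gseq F J g))) := by
  induction J generalizing g with
  | zero => simp [gseq]
  | succ J ih =>
    rw [defect_eq F hF0 hres, ih (g /ʷ F), pow_succ']
    simp only [gseq]
    ring

include hF0 hres in
theorem Psi_cfam (g : PowerSeries O) : g = Psi F (ord F) (cfam F g) := by
  rw [← sub_eq_zero]
  ext n
  rw [map_zero]
  have hX : (X : PowerSeries O) ∣ F := X_dvd_iff.mpr hF0
  have h1 : (X : PowerSeries O) ^ (n + 1) ∣ g - Psi F (ord F) (cfam F g) := by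
    rw [defect_pow F hF0 hres (n + 1) g]
    exact Dvd.dvd.mul_right (pow_dvd_pow_of_dvd hX _) _
  exact X_pow_dvd_iff.mp h1 n (Nat.lt_succ_self n)

include hF0 hres in
theorem Psi_injective_aux (j : ℕ) : ∀ c c' : Fin (ord F) → PowerSeries O,
    Psi F (ord F) c = Psi F (ord F) c' → ∀ i, coeff j (c i) = coeff j (c' i) := by
  have hpos := ord_pos F hF0 hres
  have key : ∀ c c' : Fin (ord F) → PowerSeries O, Psi F (ord F) c = Psi F (ord F) c' →
      Psi F (ord F) (tl (ord F) c) = Psi F (ord F) (tl (ord F) c') ∧
        P (ord F) (hd (ord F) c) = P (ord F) (hd (ord F) c') := by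
    intro c c' hcc
    have h1 : IsWeierstrassDivision (Psi F (ord F) c) F (Psi F (ord F) (tl (ord F) c))
        (P (ord F) (hd (ord F) c)) :=
      ⟨P_degree_lt (ord F) _ hpos, Psi_eq F hF0 (ord F) c⟩
    have h2 : IsWeierstrassDivision (Psi F (ord F) c) F (Psi F (ord F) (tl (ord F) c'))
        (P (ord F) (hd (ord F) c')) :=
      ⟨P_degree_lt (ord F) _ hpos, hcc ▸ Psi_eq F hF0 (ord F) c'⟩
    exact h1.elim hres h2
  induction j with
  | zero =>
    intro c c' hcc i
    have hr := (key c c' hcc).2
    have := congrArg (fun r : Polynomial O => r.coeff (i : ℕ)) hr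
    simp only [P_coeff, dif_pos i.2, hd] at this
    simpa using this
  | succ j ih =>
    intro c c' hcc i
    have hq := (key c c' hcc).1
    have := ih (tl (ord F) c) (tl (ord F) c') hq i
    simpa [tl] using this

include hF0 hres in
theorem forward : ∃ (n : ℕ) (b : Fin n → PowerSeries O), ∀ g : PowerSeries O,
    ∃! c : Fin n → PowerSeries O, g = ∑ i, PowerSeries.subst F (c i) * b i := by
  refine ⟨ord F, fun i => (X : PowerSeries O) ^ (i : ℕ), fun g => ⟨cfam F g, Psi_cfam F hF0 hres g, ?_⟩⟩
  intro c' hc'
  funext i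
  ext j
  have h1 : Psi F (ord F) c' = Psi F (ord F) (cfam F g) :=
    (hc'.symm : _ = g).trans (Psi_cfam F hF0 hres g)
  exact Psi_injective_aux F hF0 hres j c' (cfam F g) h1 i

end weier

section backward

variable [IsLocalRing O] (F : PowerSeries O) (hF0 : constantCoeff F = 0)

theorem not_finite_powerSeries (k : Type u) [Field k] : ¬ Module.Finite k (PowerSeries k) := by
  intro hfin
  haveI : IsNoetherian k (PowerSeries k) := isNoetherian_of_isNoetherianRing_of_finite k _
  have hinj : Function.Injective (Polynomial.coeToPowerSeries.algHom k (R := k)).toLinearMap := by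
    intro a b hab
    exact Polynomial.coe_injective k hab
  haveI : Module.Finite k (Polynomial k) := Module.Finite.of_injective _ hinj
  have := Module.Finite.finite_basis (Polynomial.basisMonomials k)
  exact not_finite ℕ

include hF0 in
theorem backward (hzero : F.map (IsLocalRing.residue O) = 0) :
    ¬ ∃ (n : ℕ) (b : Fin n → PowerSeries O), ∀ g : PowerSeries O,
      ∃ c : Fin n → PowerSeries O, g = ∑ i, PowerSeries.subst F (c i) * b i := by
  classical
  rintro ⟨n, b, hb⟩
  have hzero' : MvPowerSeries.map (IsLocalRing.residue O) F = 0 := hzero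
  have hS : PowerSeries.HasSubst F := PowerSeries.HasSubst.of_constantCoeff_zero' hF0
  apply not_finite_powerSeries (IsLocalRing.ResidueField O)
  let π : PowerSeries O →+* PowerSeries (IsLocalRing.ResidueField O) :=
    PowerSeries.map (IsLocalRing.residue O)
  have hπ : Function.Surjective π :=
    PowerSeries.map_surjective _ Ideal.Quotient.mk_surjective
  rw [Module.finite_def]
  refine ⟨Finset.univ.image (fun i => π (b i)), ?_⟩
  rw [eq_top_iff]
  intro g' _
  obtain ⟨g, rfl⟩ := hπ g'
  obtain ⟨c, hc⟩ := hb g
  rw [hc, map_sum]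
  refine Submodule.sum_mem _ fun i _ => ?_
  rw [map_mul]
  have h1 : π (PowerSeries.subst F (c i)) = C (constantCoeff (π (c i))) := by
    show (PowerSeries.subst F (c i)).map _ = _
    rw [PowerSeries.map_subst hS, hzero', PowerSeries.subst_zero_eq_C_constantCoeff]
    simp
    rfl
  rw [h1, ← smul_eq_C_mul]
  exact Submodule.smul_mem _ _ (Submodule.subset_span (by simp))

end backward

theorem main (O : Type u) [CommRing O] [IsDomain O] [IsLocalRing O]
    [IsAdicComplete (IsLocalRing.maximalIdeal O) O] (F : PowerSeries O)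
    (hS : PowerSeries.HasSubst F) :
    (∃ n : ℕ, PowerSeries.coeff n F ∉ IsLocalRing.maximalIdeal O) ↔
      ∃ (n : ℕ) (b : Fin n → PowerSeries O), ∀ g : PowerSeries O, ∃! c : Fin n → PowerSeries O,
        g = ∑ i, PowerSeries.subst F (c i) * b i := by
  have hF0 : constantCoeff F = 0 := IsNilpotent.eq_zero hS
  constructor
  · rintro ⟨n, hn⟩
    apply forward F hF0
    intro h0
    apply hn
    have := congrArg (coeff n) h0
    rw [coeff_map, map_zero, IsLocalRing.residue_eq_zero_iff] at this
    exact this
  · rintro ⟨n, b, hb⟩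
    by_contra hne
    push Not at hne
    apply backward F hF0 ?_ ⟨n, b, fun g => (hb g).exists⟩
    ext m
    rw [coeff_map, map_zero, IsLocalRing.residue_eq_zero_iff]
    exact hne m

end Groth.Agent.Lib.Helper92.WeierFree
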