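import Mathlib

/-!
# Successive approximation in Witt vectors (helper92)

`approx`: if `ρ K = ∑ z, W(f)(x K z) * F^[n+K] (g z) + V (ρ (K+1))` for all `K`, then
`V^[n] (ρ 0) = ∑ z, W(f)(V^[n] (lim …)) * g z` (the coefficients converge `V`-adically in `W(A)`).
`main87` is statement S18587 (weakly `ℓ`-cyclic extensions, `p ∤ ℓ`).
-/

set_option autoImplicit false
universe u

namespace Groth.Agent.Lib.Helper92.Witt

open WittVector

variable {p : ℕ} [hp : Fact p.Prime]

local notation "𝕎" => WittVector p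

section basic
variable {R : Type u} [CommRing R]

theorem exists_verschiebung_of_coeff_zero (x : 𝕎 R) (h : x.coeff 0 = 0) :
    ∃ y : 𝕎 R, verschiebung y = x := by
  refine ⟨x.shift 1, ?_⟩
  have := eq_iterate_verschiebung (p := p) (x := x) (n := 1) (by
    intro i hi
    have : i = 0 := by omega
    rw [this, h])
  simpa using this.symm

theorem iterate_frobenius_teichmuller [CharP R p] (x : R) (N : ℕ) :
    (⇑(frobenius : 𝕎 R →+* 𝕎 R))^[N] (teichmuller p x) = teichmuller p (x ^ p ^ N) := by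
  ext k
  rw [iterate_frobenius_coeff]
  rcases Nat.eq_zero_or_pos k with rfl | hk
  · rw [teichmuller_coeff_zero, teichmuller_coeff_zero]
  · rw [teichmuller_coeff_pos p x k hk, teichmuller_coeff_pos p _ k hk, zero_pow]
    exact pow_ne_zero _ hp.out.ne_zero

/-- elements whose first `N` coefficients vanish form an ideal -/
theorem mem_ker_truncate_iff (N : ℕ) (x : 𝕎 R) :
    x ∈ RingHom.ker (WittVector.truncate (p := p) (R := R) N) ↔ ∀ i < N, x.coeff i = 0 :=
  mem_ker_truncate N x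

theorem iterate_verschiebung_mem_ker (N M : ℕ) (h : N ≤ M) (x : 𝕎 R) :
    (⇑(verschiebung : 𝕎 R →+ 𝕎 R))^[M] x ∈ RingHom.ker (WittVector.truncate (p := p) (R := R) N) := by
  rw [mem_ker_truncate]
  intro i hi
  exact iterate_verschiebung_coeff_eq_zero x (lt_of_lt_of_le hi h)

theorem eq_zero_of_forall_mem_ker (x : 𝕎 R)
    (h : ∀ N, x ∈ RingHom.ker (WittVector.truncate (p := p) (R := R) N)) : x = 0 := by
  ext i
  have := (mem_ker_truncate (i + 1) x).mp (h (i + 1)) i (Nat.lt_succ_self i)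
  rw [this, zero_coeff]


/-- partial sums of `∑ V^k s_k` -/
noncomputable def psum (s : ℕ → 𝕎 R) (K : ℕ) : 𝕎 R :=
  ∑ k ∈ Finset.range K, (⇑(verschiebung : 𝕎 R →+ 𝕎 R))^[k] (s k)

/-- the limit of the partial sums -/
noncomputable def lim (s : ℕ → 𝕎 R) : 𝕎 R := WittVector.mk p (fun i => (psum s (i + 1)).coeff i)

theorem psum_succ (s : ℕ → 𝕎 R) (K : ℕ) :
    psum s (K + 1) = psum s K + (⇑(verschiebung : 𝕎 R →+ 𝕎 R))^[K] (s K) := by
  unfold psum
  rw [Finset.sum_range_succ]

theorem psum_sub_psum_mem (s : ℕ → 𝕎 R) {M K : ℕ} (h : M ≤ K) :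
    psum s K - psum s M ∈ RingHom.ker (WittVector.truncate (p := p) (R := R) M) := by
  unfold psum
  rw [← Finset.sum_range_add_sum_Ico _ h, add_sub_cancel_left]
  apply Ideal.sum_mem
  intro k hk
  exact iterate_verschiebung_mem_ker M k (Finset.mem_Ico.mp hk).1 (s k)

theorem lim_sub_psum_mem (s : ℕ → 𝕎 R) (K : ℕ) :
    lim s - psum s K ∈ RingHom.ker (WittVector.truncate (p := p) (R := R) K) := by
  rw [mem_ker_truncate, ← le_coeff_eq_iff_le_sub_coeff_eq_zero]
  intro i hi
  have h1 : (lim s).coeff i = (psum s (i + 1)).coeff i := rfl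
  rw [h1]
  have h2 := psum_sub_psum_mem s (M := i + 1) (K := K) hi
  rw [mem_ker_truncate, ← le_coeff_eq_iff_le_sub_coeff_eq_zero] at h2
  exact (h2 i (Nat.lt_succ_self i)).symm


/-- iterated Verschiebung as an additive map -/
noncomputable def Vit : ℕ → (𝕎 R →+ 𝕎 R)
  | 0 => AddMonoidHom.id _
  | n + 1 => (Vit n).comp verschiebung

theorem Vit_apply (n : ℕ) (x : 𝕎 R) :
    Vit n x = (⇑(verschiebung : 𝕎 R →+ 𝕎 R))^[n] x := by
  induction n generalizing x with
  | zero => rfl
  | succ n ih =>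
    rw [Function.iterate_succ_apply, ← ih]
    rfl

theorem Vit_add (m n : ℕ) (x : 𝕎 R) : Vit (p := p) (m + n) x = Vit m (Vit n x) := by
  rw [Vit_apply, Vit_apply, Vit_apply, Function.iterate_add_apply]

theorem Vit_succ (n : ℕ) (x : 𝕎 R) : Vit (p := p) (n + 1) x = Vit n (verschiebung x) := by
  rw [Vit_apply, Vit_apply, Function.iterate_succ_apply]

theorem Vit_mem_ker (N M : ℕ) (h : N ≤ M) (x : 𝕎 R) :
    Vit M x ∈ RingHom.ker (WittVector.truncate (p := p) (R := R) N) := by
  rw [Vit_apply]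
  exact iterate_verschiebung_mem_ker N M h x

theorem Vit_mem_ker_of_mem (n K : ℕ) (y : 𝕎 R)
    (hy : y ∈ RingHom.ker (WittVector.truncate (p := p) (R := R) K)) :
    Vit n y ∈ RingHom.ker (WittVector.truncate (p := p) (R := R) K) := by
  rw [mem_ker_truncate] at hy ⊢
  intro i hi
  rw [Vit_apply]
  by_cases hin : i < n
  · exact iterate_verschiebung_coeff_eq_zero y hin
  · push Not at hin
    obtain ⟨j, rfl⟩ := Nat.exists_eq_add_of_le hin
    rw [add_comm, iterate_verschiebung_coeff]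
    exact hy j (by omega)

theorem Vit_mul_left (x y : 𝕎 R) (i : ℕ) :
    Vit i x * y = Vit i (x * (⇑(frobenius : 𝕎 R →+* 𝕎 R))^[i] y) := by
  rw [Vit_apply, Vit_apply]
  exact iterate_verschiebung_mul_left x y i

end basic

section maps
variable {A B : Type u} [CommRing A] [CommRing B] (f : A →+* B)

theorem map_Vit (n : ℕ) (x : 𝕎 A) : WittVector.map f (Vit n x) = Vit n (WittVector.map f x) := by
  induction n generalizing x with
  | zero => rw [Vit_apply, Vit_apply]; rfl
  | succ n ih => rw [Vit_succ, Vit_succ, ih, map_verschiebung]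

theorem map_mem_ker (K : ℕ) (y : 𝕎 A)
    (hy : y ∈ RingHom.ker (WittVector.truncate (p := p) (R := A) K)) :
    WittVector.map f y ∈ RingHom.ker (WittVector.truncate (p := p) (R := B) K) := by
  rw [mem_ker_truncate] at hy ⊢
  intro i hi
  rw [map_coeff, hy i hi, map_zero]


theorem psum_succ' {R : Type u} [CommRing R] (s : ℕ → 𝕎 R) (K : ℕ) :
    psum s (K + 1) = psum s K + Vit K (s K) := by
  rw [psum_succ, Vit_apply]

/-- successive approximation -/
theorem approx {ι : Type*} (Zs : Finset ι) (g : ι → 𝕎 B) (n : ℕ)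
    (ρ : ℕ → 𝕎 B) (x : ℕ → ι → 𝕎 A)
    (hstep : ∀ K, ρ K = ∑ z ∈ Zs, WittVector.map f (x K z) *
        (⇑(frobenius : 𝕎 B →+* 𝕎 B))^[n + K] (g z) + verschiebung (ρ (K + 1))) :
    Vit n (ρ 0) = ∑ z ∈ Zs, WittVector.map f (Vit n (lim (fun K => x K z))) * g z := by
  have key : ∀ K, Vit n (ρ 0) - ∑ z ∈ Zs, WittVector.map f (Vit n (psum (fun K => x K z) K)) * g z
      = Vit (n + K) (ρ K) := by
    intro K
    induction K with
    | zero =>
      simp [psum]
    | succ K ih =>
      have h1 : ∑ z ∈ Zs, WittVector.map f (Vit n (psum (fun K => x K z) (K + 1))) * g z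
          = ∑ z ∈ Zs, WittVector.map f (Vit n (psum (fun K => x K z) K)) * g z
            + ∑ z ∈ Zs, WittVector.map f (Vit (n + K) (x K z)) * g z := by
        rw [← Finset.sum_add_distrib]
        apply Finset.sum_congr rfl
        intro z _
        rw [psum_succ', map_add, map_add, add_mul, Vit_add]
      have h2 : Vit (n + K) (ρ K) = ∑ z ∈ Zs, WittVector.map f (Vit (n + K) (x K z)) * g z
          + Vit (n + (K + 1)) (ρ (K + 1)) := by
        conv_lhs => rw [hstep K]
        rw [map_add, map_sum, ← add_assoc n K 1, Vit_succ]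
        congr 1
        apply Finset.sum_congr rfl
        intro z _
        rw [map_Vit, Vit_mul_left]
      rw [h1, ← sub_sub, ih, h2, add_sub_cancel_left]
  rw [← sub_eq_zero]
  apply eq_zero_of_forall_mem_ker
  intro K
  have hK := key K
  have hdecomp : Vit n (ρ 0) - ∑ z ∈ Zs, WittVector.map f (Vit n (lim (fun K => x K z))) * g z
      = Vit (n + K) (ρ K) - ∑ z ∈ Zs,
          WittVector.map f (Vit n (lim (fun K => x K z) - psum (fun K => x K z) K)) * g z := by
    rw [← hK]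
    simp only [map_sub, sub_mul, Finset.sum_sub_distrib]
    abel
  rw [hdecomp]
  apply Ideal.sub_mem
  · exact Vit_mem_ker K (n + K) (Nat.le_add_left K n) _
  · apply Ideal.sum_mem
    intro z _
    apply Ideal.mul_mem_right
    apply map_mem_ker
    apply Vit_mem_ker_of_mem
    exact lim_sub_psum_mem _ K

end maps


section numtheory

/-- inverse of `q` modulo `ℓ` with the size control we need -/
theorem exists_inv_mod (q ℓ : ℕ) (hq : 0 < q) (hℓ : 0 < ℓ) (hcop : Nat.Coprime q ℓ) :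
    ∃ e k : ℕ, e ≤ ℓ ∧ k ≤ q ∧ q * e = 1 + k * ℓ := by
  rcases Nat.lt_or_ge 1 ℓ with h1 | h1
  · obtain ⟨m, hmlt, hm⟩ := Nat.exists_mul_mod_eq_one_of_coprime hcop h1
    refine ⟨m, q * m / ℓ, hmlt.le, ?_, ?_⟩
    · apply Nat.div_le_of_le_mul
      calc q * m ≤ q * ℓ := Nat.mul_le_mul_left _ hmlt.le
        _ = ℓ * q := Nat.mul_comm _ _
    · have h3 := Nat.div_add_mod (q * m) ℓ
      rw [hm] at h3
      calc q * m = ℓ * (q * m / ℓ) + 1 := h3.symm
        _ = 1 + q * m / ℓ * ℓ := by ring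
  · have : ℓ = 1 := le_antisymm h1 hℓ
    subst this
    refine ⟨1, q - 1, le_refl _, Nat.sub_le _ _, ?_⟩
    omega

end numtheory


section step

variable {A B : Type u} [CommRing A] [CommRing B] [IsDomain A] [IsDomain B] [Algebra A B]
  [CharP A p] [CharP B p]

/-- the algebraic heart: `a^q • b` is an `A`-multiple of a `q`-th power -/
theorem bstep (ℓ : ℕ) (hℓ : 0 < ℓ) (hpℓ : ¬ p ∣ ℓ) (a : A) (b : B)
    (hb : b = 0 ∨ ∃ c : A, c ∣ a ∧ algebraMap A B c = b ^ ℓ) (N : ℕ) :
    ∃ e : ℕ, ∃ α' : A, e ≤ ℓ ∧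
      algebraMap A B a ^ p ^ N * b = algebraMap A B α' * (b ^ e) ^ p ^ N := by
  rcases hb with rfl | ⟨c, ⟨a', rfl⟩, hc⟩
  · exact ⟨0, 0, Nat.zero_le _, by simp⟩
  · have hcop : Nat.Coprime (p ^ N) ℓ :=
      Nat.Coprime.pow_left N ((Nat.Prime.coprime_iff_not_dvd hp.out).mpr hpℓ)
    obtain ⟨e, k, he, hk, hek⟩ := exists_inv_mod (p ^ N) ℓ (pow_pos hp.out.pos N) hℓ hcop
    refine ⟨e, c ^ (p ^ N - k) * a' ^ p ^ N, he, ?_⟩
    have h1 : algebraMap A B c ^ k * b = (b ^ e) ^ p ^ N := by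
      rw [hc, ← pow_mul, ← pow_succ, ← pow_mul, mul_comm e, hek, add_comm, mul_comm ℓ k]
    calc algebraMap A B (c * a') ^ p ^ N * b
        = algebraMap A B c ^ (p ^ N - k + k) * algebraMap A B a' ^ p ^ N * b := by
          rw [Nat.sub_add_cancel hk, map_mul, mul_pow]
      _ = algebraMap A B c ^ (p ^ N - k) * algebraMap A B a' ^ p ^ N *
            (algebraMap A B c ^ k * b) := by
          rw [pow_add]
          ring
      _ = algebraMap A B (c ^ (p ^ N - k) * a' ^ p ^ N) * (b ^ e) ^ p ^ N := by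
          rw [h1, map_mul, map_pow, map_pow]


theorem frobenius_teichmuller' {R : Type u} [CommRing R] [CharP R p] (x : R) :
    frobenius (teichmuller p x) = teichmuller p (x ^ p) := by
  have := iterate_frobenius_teichmuller (p := p) x 1
  simpa using this

/-- one step of the successive approximation -/
theorem sstep (ℓ : ℕ) (hℓ : 0 < ℓ) (hpℓ : ¬ p ∣ ℓ) (Y : Finset B)
    (hspan : Submodule.span A (Y : Set B) = ⊤) (a : A)
    (ha : ∀ b ∈ Y, b = 0 ∨ ∃ c : A, c ∣ a ∧ algebraMap A B c = b ^ ℓ)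
    (N : ℕ) (η' : 𝕎 B) :
    ∃ (x : B × ℕ → 𝕎 A) (η'' : 𝕎 B),
      teichmuller p (algebraMap A B a ^ p ^ N) * η' =
        ∑ z ∈ Y ×ˢ Finset.range (ℓ + 1), WittVector.map (algebraMap A B) (x z) *
          (⇑(frobenius : 𝕎 B →+* 𝕎 B))^[N] (teichmuller p (z.1 ^ z.2))
        + verschiebung (teichmuller p (algebraMap A B a ^ p ^ (N + 1)) * η'') := by
  classical
  -- coefficients of the 0-th component
  have hmem : η'.coeff 0 ∈ Submodule.span A (Y : Set B) := by rw [hspan]; trivial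
  obtain ⟨α, -, hα⟩ := Submodule.mem_span_finset.mp hmem
  -- the exponents
  have hex : ∀ b : B, ∃ e : ℕ, ∃ α' : A, b ∈ Y → (e ≤ ℓ ∧
      algebraMap A B a ^ p ^ N * b = algebraMap A B α' * (b ^ e) ^ p ^ N) := by
    intro b
    by_cases hb : b ∈ Y
    · obtain ⟨e, α', h1, h2⟩ := bstep ℓ hℓ hpℓ a b (ha b hb) N
      exact ⟨e, α', fun _ => ⟨h1, h2⟩⟩
    · exact ⟨0, 0, fun h => absurd h hb⟩
  choose e α' he using hex
  -- the Teichmüller approximation of η'
  set θ : 𝕎 B := ∑ b ∈ Y, teichmuller p (algebraMap A B (α b) * b) with hθ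
  have hc0 : (η' - θ).coeff 0 = 0 := by
    have h1 : (η' - θ).coeff 0 = constantCoeff (η' - θ) := rfl
    rw [h1, map_sub, hθ, map_sum]
    have h2 : ∀ b ∈ Y, constantCoeff (teichmuller p (algebraMap A B (α b) * b))
        = α b • b := by
      intro b _
      rw [Algebra.smul_def]
      exact teichmuller_coeff_zero p _
    rw [Finset.sum_congr rfl h2, hα]
    exact sub_self _
  obtain ⟨η'', hη''⟩ := exists_verschiebung_of_coeff_zero _ hc0
  refine ⟨fun z => if z.2 = e z.1 then teichmuller p (α z.1 * α' z.1) else 0, η'', ?_⟩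
  have hη' : η' = θ + verschiebung η'' := by rw [hη'']; ring
  -- the sum over the product
  have hsum : ∑ z ∈ Y ×ˢ Finset.range (ℓ + 1), WittVector.map (algebraMap A B)
        (if z.2 = e z.1 then teichmuller p (α z.1 * α' z.1) else 0) *
          (⇑(frobenius : 𝕎 B →+* 𝕎 B))^[N] (teichmuller p (z.1 ^ z.2))
      = ∑ b ∈ Y, teichmuller p (algebraMap A B a ^ p ^ N) *
          teichmuller p (algebraMap A B (α b) * b) := by
    rw [Finset.sum_product]
    apply Finset.sum_congr rfl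
    intro b hb
    obtain ⟨he1, he2⟩ := he b hb
    rw [Finset.sum_eq_single (e b)]
    · simp only [if_true]
      rw [map_teichmuller, iterate_frobenius_teichmuller, ← map_mul, ← map_mul]
      congr 1
      rw [map_mul]
      calc algebraMap A B (α b) * algebraMap A B (α' b) * (b ^ e b) ^ p ^ N
          = algebraMap A B (α b) * (algebraMap A B (α' b) * (b ^ e b) ^ p ^ N) := by ring
        _ = algebraMap A B (α b) * (algebraMap A B a ^ p ^ N * b) := by rw [he2]
        _ = algebraMap A B a ^ p ^ N * (algebraMap A B (α b) * b) := by ring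
    · intro e' _ hne
      simp only [if_neg hne, map_zero, zero_mul]
    · intro hnot
      exact absurd (Finset.mem_range.mpr (Nat.lt_succ_of_le he1)) hnot
  rw [hsum, ← Finset.mul_sum, ← hθ]
  conv_lhs => rw [hη', mul_add]
  congr 1
  rw [mul_comm, ← verschiebung_mul_frobenius, frobenius_teichmuller', ← pow_mul, ← pow_succ,
    mul_comm]


theorem main87 (ℓ n : ℕ) (hℓ : 0 < ℓ) (hpℓ : ¬ p ∣ ℓ)
    (y : Finset B) (hspan : Submodule.span A (y : Set B) = ⊤)
    (hpow : ∀ b ∈ y, b ^ ℓ ∈ Set.range (algebraMap A B))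
    (η : 𝕎 B) :
    ∃ a : A, a ≠ 0 ∧ WittVector.teichmuller p (algebraMap A B a) *
        (⇑(verschiebung : 𝕎 B →+ 𝕎 B))^[n] η ∈
      Ideal.span (Set.range (fun x : 𝕎 A =>
        WittVector.map (algebraMap A B) ((⇑(verschiebung : 𝕎 A →+ 𝕎 A))^[n] x))) := by
  classical
  -- the elements c_b
  have hc : ∀ b : B, ∃ c : A, b ∈ y → algebraMap A B c = b ^ ℓ := by
    intro b
    by_cases hb : b ∈ y
    · obtain ⟨c, hc⟩ := hpow b hb
      exact ⟨c, fun _ => hc⟩
    · exact ⟨0, fun h => absurd h hb⟩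
  choose c hc using hc
  set a : A := ∏ b ∈ y.filter (fun b => b ≠ 0), c b with ha
  have ha0 : a ≠ 0 := by
    rw [ha, Finset.prod_ne_zero_iff]
    intro b hb
    rw [Finset.mem_filter] at hb
    intro h0
    have := hc b hb.1
    rw [h0, map_zero] at this
    exact hb.2 (pow_eq_zero_iff (Nat.pos_iff_ne_zero.mp hℓ) |>.mp this.symm)
  have hadiv : ∀ b ∈ y, b = 0 ∨ ∃ c' : A, c' ∣ a ∧ algebraMap A B c' = b ^ ℓ := by
    intro b hb
    by_cases hb0 : b = 0
    · exact Or.inl hb0
    · exact Or.inr ⟨c b, Finset.dvd_prod_of_mem _ (Finset.mem_filter.mpr ⟨hb, hb0⟩), hc b hb⟩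
  refine ⟨a, ha0, ?_⟩
  -- sequences
  have hS := sstep (p := p) ℓ hℓ hpℓ y hspan a hadiv
  choose stepx stepη hstep using hS
  let ηseq : ℕ → 𝕎 B := fun K => Nat.rec η (fun K ηK => stepη (n + K) ηK) K
  have hηsucc : ∀ K, ηseq (K + 1) = stepη (n + K) (ηseq K) := fun K => rfl
  let ρ : ℕ → 𝕎 B := fun K => teichmuller p (algebraMap A B a ^ p ^ (n + K)) * ηseq K
  let x : ℕ → B × ℕ → 𝕎 A := fun K => stepx (n + K) (ηseq K)
  have happ := approx (p := p) (algebraMap A B) (y ×ˢ Finset.range (ℓ + 1))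
    (fun z => teichmuller p (z.1 ^ z.2)) n ρ x (by
      intro K
      have := hstep (n + K) (ηseq K)
      simp only [ρ, x]
      rw [this, hηsucc, add_assoc])
  have h0 : teichmuller p (algebraMap A B a) * (⇑(verschiebung : 𝕎 B →+ 𝕎 B))^[n] η
      = Vit n (ρ 0) := by
    rw [mul_comm, iterate_verschiebung_mul_left, iterate_frobenius_teichmuller, Vit_apply]
    simp only [ρ, ηseq, add_zero]
    rw [mul_comm]
    rfl
  rw [h0, happ]
  apply Ideal.sum_mem
  intro z _
  apply Ideal.mul_mem_right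
  apply Ideal.subset_span
  refine ⟨lim (fun K => x K z), ?_⟩
  simp only
  rw [Vit_apply]

end step

end Groth.Agent.Lib.Helper92.Witt
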